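import Mathlib.RingTheory.Flat.Basic
import Mathlib.RingTheory.Flat.Tensor
import Mathlib.RingTheory.Flat.Stability
import Mathlib.LinearAlgebra.TensorProduct.Tower
import Mathlib.RingTheory.TensorProduct.Maps
import Mathlib.RingTheory.RingHom.Flat
import Mathlib.Algebra.Algebra.Epi

set_option autoImplicit false

open TensorProduct

namespace Groth.Agent.H36

section generic

variable (B C P : Type*) [CommRing B] [CommRing C] [Algebra B C] [Algebra C B]
  [IsScalarTower B C B] [AddCommGroup P] [Module C P] [Module B P] [IsScalarTower B C P]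

/-- Let `B → C → B` be ring maps composing to the identity with `C → B` flat, and `P` a `C`-module
which is flat over `B`. Then `B ⊗[C] P` is flat over `B`. -/
theorem flat_tensor_of_retraction [Module.Flat C B] [Module.Flat B P] :
    Module.Flat B (B ⊗[C] P) := by
  rw [Module.Flat.iff_lTensor_injective]
  intro I _
  -- the `C`-linear version of `P ⊗ I → P ⊗ B`
  let g : P ⊗[B] I →ₗ[C] P ⊗[B] B := TensorProduct.AlgebraTensorModule.lTensor C P I.subtype
  have hg : Function.Injective g := by
    have : Function.Injective (LinearMap.lTensor P I.subtype) :=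
      Module.Flat.lTensor_preserves_injective_linearMap _ I.injective_subtype
    exact this
  have hg' : Function.Injective (LinearMap.lTensor B g) :=
    Module.Flat.lTensor_preserves_injective_linearMap _ hg
  let e₁ := TensorProduct.AlgebraTensorModule.assoc B C B B P I
  let e₂ := TensorProduct.AlgebraTensorModule.assoc B C B B P B
  have hcomm : ∀ x, e₂ (LinearMap.lTensor (B ⊗[C] P) I.subtype x) = LinearMap.lTensor B g (e₁ x) := by
    intro x
    induction x using TensorProduct.induction_on with
    | zero => simp
    | add x y hx hy => simp only [map_add, hx, hy]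
    | tmul y i =>
      induction y using TensorProduct.induction_on with
      | zero => simp
      | add y z hy hz => simp only [add_tmul, map_add, hy, hz]
      | tmul b p => rfl
  intro x y hxy
  apply e₁.injective
  apply hg'
  rw [← hcomm, ← hcomm, hxy]

end generic

section specific

variable (A B N : Type*) [CommRing A] [CommRing B] [Algebra A B] [AddCommGroup N] [Module A N]
  [Module B N] [IsScalarTower A B N]

/-- the action of `B ⊗[A] B` on `B ⊗[A] N` as an algebra homomorphism into endomorphisms -/
noncomputable def actHom : (B ⊗[A] B) →ₐ[A] Module.End A (B ⊗[A] N) :=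
  Algebra.TensorProduct.lift
    ((Module.End.rTensorAlgHom A B N).comp (Algebra.lmul A B))
    ((Module.End.lTensorAlgHom A N B).comp (Algebra.lsmul A A N))
    (fun x y => by
      change _ * _ = _ * _
      apply LinearMap.ext
      intro p
      induction p using TensorProduct.induction_on with
      | zero => simp
      | add p q hp hq => simp only [map_add, hp, hq]
      | tmul b n => rfl)

theorem actHom_tmul_tmul (b₁ b₂ b : B) (n : N) :
    actHom A B N (b₁ ⊗ₜ b₂) (b ⊗ₜ n) = (b₁ * b) ⊗ₜ (b₂ • n) := rfl

/-- a copy of `B ⊗[A] N`, to be viewed as a module over `B ⊗[A] B` -/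
def TwP : Type _ := B ⊗[A] N

noncomputable instance : AddCommGroup (TwP A B N) := inferInstanceAs (AddCommGroup (B ⊗[A] N))

noncomputable instance : Module A (TwP A B N) := inferInstanceAs (Module A (B ⊗[A] N))

noncomputable instance : Module B (TwP A B N) := inferInstanceAs (Module B (B ⊗[A] N))

noncomputable instance : Module (B ⊗[A] B) (TwP A B N) :=
  Module.compHom (B ⊗[A] N) (actHom A B N).toRingHom

instance [Module.Flat A N] : Module.Flat B (TwP A B N) :=
  inferInstanceAs (Module.Flat B (B ⊗[A] N))

variable {A B N} in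
/-- pure tensors in `TwP` -/
def TwP.tmul (b : B) (n : N) : TwP A B N := b ⊗ₜ[A] n

theorem TwP.smul_tmul (b₁ b₂ b : B) (n : N) :
    (b₁ ⊗ₜ[A] b₂ : B ⊗[A] B) • (TwP.tmul b n : TwP A B N) = TwP.tmul (b₁ * b) (b₂ • n) := rfl

theorem TwP.smul_tmul' (b₁ b : B) (n : N) :
    b₁ • (TwP.tmul b n : TwP A B N) = TwP.tmul (b₁ * b) n := rfl

theorem TwP.induction_on {motive : TwP A B N → Prop} (p : TwP A B N) (zero : motive 0)
    (tmul : ∀ b n, motive (TwP.tmul b n)) (add : ∀ x y, motive x → motive y → motive (x + y)) :
    motive p :=
  TensorProduct.induction_on (motive := motive) p zero tmul add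

theorem TwP.tmul_add (b : B) (n m : N) :
    (TwP.tmul b (n + m) : TwP A B N) = TwP.tmul b n + TwP.tmul b m :=
  TensorProduct.tmul_add b n m

/-- If the multiplication map `B ⊗[A] B → B` is flat, then a `B`-module flat over `A` is flat
over `B`. -/
theorem flat_of_flat_lmul' (h : (Algebra.TensorProduct.lmul' A (S := B)).toRingHom.Flat)
    [Module.Flat A N] : Module.Flat B N := by
  letI algCB : Algebra (B ⊗[A] B) B := (Algebra.TensorProduct.lmul' A (S := B)).toRingHom.toAlgebra
  have hflat : Module.Flat (B ⊗[A] B) B := h
  have halg : ∀ c : B ⊗[A] B, algebraMap (B ⊗[A] B) B c = Algebra.TensorProduct.lmul' A c :=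
    fun _ => rfl
  haveI tow1 : IsScalarTower B (B ⊗[A] B) B := by
    refine IsScalarTower.of_algebraMap_eq (fun b => ?_)
    rw [halg, Algebra.TensorProduct.algebraMap_apply, Algebra.TensorProduct.lmul'_apply_tmul]
    simp
  haveI tow2 : IsScalarTower B (B ⊗[A] B) (TwP A B N) := by
    refine ⟨fun b c p => ?_⟩
    rw [Algebra.smul_def, mul_smul]
    generalize c • p = q
    rw [Algebra.TensorProduct.algebraMap_apply]
    induction q using TwP.induction_on with
    | zero => simp
    | add x y hx hy => rw [smul_add, smul_add, hx, hy]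
    | tmul b' n =>
      rw [TwP.smul_tmul, one_smul, TwP.smul_tmul']
      simp
  have key : Module.Flat B (B ⊗[B ⊗[A] B] (TwP A B N)) :=
    flat_tensor_of_retraction B (B ⊗[A] B) (TwP A B N)
  -- now identify `B ⊗[C] (B ⊗[A] N)` with `N`
  letI modCN : Module (B ⊗[A] B) N := Module.compHom N (algebraMap (B ⊗[A] B) B)
  haveI tow3 : IsScalarTower (B ⊗[A] B) B N := ⟨fun c b n => by
    change (algebraMap (B ⊗[A] B) B c * b) • n = algebraMap (B ⊗[A] B) B c • (b • n)
    rw [mul_smul]⟩
  let g₀ : TwP A B N →ₗ[A] N := TensorProduct.lift (Algebra.lsmul A A N).toLinearMap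
  have hg₀ : ∀ (b : B) (n : N), g₀ (TwP.tmul b n) = b • n := fun _ _ => rfl
  let g : TwP A B N →ₗ[B ⊗[A] B] N :=
    { toFun := g₀
      map_add' := g₀.map_add
      map_smul' := by
        intro c p
        simp only [RingHom.id_apply]
        induction c using TensorProduct.induction_on with
        | zero => simp
        | add c d hc hd => rw [add_smul, add_smul, map_add, hc, hd]
        | tmul b₁ b₂ =>
          induction p using TwP.induction_on with
          | zero => simp
          | add p q hp hq => rw [smul_add, map_add, map_add, smul_add, hp, hq]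
          | tmul b n =>
            rw [TwP.smul_tmul, hg₀, hg₀]
            change _ = (Algebra.TensorProduct.lmul' A (b₁ ⊗ₜ[A] b₂)) • (b • n)
            rw [Algebra.TensorProduct.lmul'_apply_tmul, ← mul_smul, ← mul_smul]
            congr 1
            ring }
  let fwd : B ⊗[B ⊗[A] B] (TwP A B N) →ₗ[B] N := LinearMap.liftBaseChange B g
  have hfwd : ∀ (b' : B) (p : TwP A B N), fwd (b' ⊗ₜ p) = b' • g₀ p := fun b' p => by
    simp [fwd, g]
  let bwd : N →ₗ[B] B ⊗[B ⊗[A] B] (TwP A B N) :=
    { toFun := fun n => (1 : B) ⊗ₜ (TwP.tmul (1 : B) n)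
      map_add' := fun n m => by rw [TwP.tmul_add, TensorProduct.tmul_add]
      map_smul' := fun b n => by
        simp only [RingHom.id_apply]
        have h1 : (TwP.tmul (1 : B) (b • n) : TwP A B N) =
            ((1 : B) ⊗ₜ[A] b : B ⊗[A] B) • (TwP.tmul (1 : B) n : TwP A B N) := by
          rw [TwP.smul_tmul, mul_one]
        rw [h1, ← TensorProduct.smul_tmul, TensorProduct.smul_tmul']
        congr 1
        change Algebra.TensorProduct.lmul' A ((1 : B) ⊗ₜ[A] b) * 1 = b • 1
        simp }
  have h12 : ∀ x, bwd (fwd x) = x := by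
    intro x
    induction x using TensorProduct.induction_on with
    | zero => simp
    | add x y hx hy => rw [map_add, map_add, hx, hy]
    | tmul b' p =>
      induction p using TwP.induction_on with
      | zero => simp
      | add p q hp hq => rw [TensorProduct.tmul_add, map_add, map_add, hp, hq]
      | tmul b n =>
        rw [hfwd, hg₀]
        change (1 : B) ⊗ₜ (TwP.tmul (1 : B) (b' • b • n)) = _
        have h1 : (TwP.tmul (1 : B) (b' • b • n) : TwP A B N) =
            ((1 : B) ⊗ₜ[A] (b' * b) : B ⊗[A] B) • (TwP.tmul (1 : B) n : TwP A B N) := by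
          rw [TwP.smul_tmul, mul_one, mul_smul]
        have h2 : (TwP.tmul b n : TwP A B N) =
            (b ⊗ₜ[A] (1 : B) : B ⊗[A] B) • (TwP.tmul (1 : B) n : TwP A B N) := by
          rw [TwP.smul_tmul, mul_one, one_smul]
        rw [h1, h2, ← TensorProduct.smul_tmul, ← TensorProduct.smul_tmul]
        congr 1
        change Algebra.TensorProduct.lmul' A ((1 : B) ⊗ₜ[A] (b' * b)) * 1 =
          Algebra.TensorProduct.lmul' A (b ⊗ₜ[A] (1 : B)) * b'
        simp [mul_comm]
  have h21 : ∀ n, fwd (bwd n) = n := by
    intro n
    change fwd ((1 : B) ⊗ₜ (TwP.tmul (1 : B) n)) = n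
    rw [hfwd, hg₀, one_smul, one_smul]
  let e : (B ⊗[B ⊗[A] B] (TwP A B N)) ≃ₗ[B] N :=
    { fwd with
      invFun := bwd
      left_inv := h12
      right_inv := h21 }
  exact Module.Flat.of_linearEquiv e.symm

end specific

section surj

/-- Flatness descends along a surjective ring map: if `E → D` is surjective and the `D`-module `M`
is flat over `E`, then it is flat over `D`. -/
theorem flat_of_surjective_of_flat (E D M : Type*) [CommRing E] [CommRing D] [Algebra E D]
    (hs : Function.Surjective (algebraMap E D)) [AddCommGroup M] [Module E M] [Module D M]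
    [IsScalarTower E D M] [Module.Flat E M] : Module.Flat D M := by
  apply flat_of_flat_lmul' E D M
  apply RingHom.Flat.of_bijective
  constructor
  · have := Algebra.isEpi_of_surjective_algebraMap E D hs
    exact this.injective_lift_mul
  · intro d
    exact ⟨d ⊗ₜ 1, by simp⟩

theorem ringHom_flat_of_comp_of_surjective {R₁ R₂ R₃ : Type*} [CommRing R₁] [CommRing R₂]
    [CommRing R₃] {f : R₁ →+* R₂} {g : R₂ →+* R₃} (hf : Function.Surjective f)
    (h : (g.comp f).Flat) : g.Flat := by
  algebraize [f, g, g.comp f]
  exact flat_of_surjective_of_flat R₁ R₂ R₃ hf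

end surj

end Groth.Agent.H36
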