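import Mathlib.RingTheory.Ideal.Pure
import Mathlib.RingTheory.Flat.Localization
import Mathlib.RingTheory.KrullDimension.Zero
import Mathlib.RingTheory.LocalProperties.Reduced
import Mathlib.RingTheory.LocalProperties.Basic

set_option autoImplicit false

namespace Groth.Agent.H36

universe u

/-- a commutative ring is von Neumann regular if every `a` is of the form `a * a * b` -/
def IsVNR (A : Type*) [CommRing A] : Prop := ∀ a : A, ∃ b : A, a = a * a * b

section

variable {A : Type*} [CommRing A]

theorem IsVNR.fg_ideal_eq_span_idempotent (h : IsVNR A) (I : Ideal A) (hI : I.FG) :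
    ∃ e : A, IsIdempotentElem e ∧ I = Ideal.span {e} := by
  induction I, hI using Submodule.fg_induction with
  | singleton a =>
    obtain ⟨b, hb⟩ := h a
    refine ⟨a * b, ?_, ?_⟩
    · unfold IsIdempotentElem
      calc a * b * (a * b) = (a * a * b) * b := by ring
        _ = a * b := by rw [← hb]
    · apply le_antisymm
      · rw [Submodule.span_singleton_le_iff_mem]
        refine Ideal.mem_span_singleton'.mpr ⟨a, ?_⟩
        calc a * (a * b) = a * a * b := by ring
          _ = a := hb.symm
      · rw [Ideal.span_le, Set.singleton_subset_iff]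
        exact Ideal.mem_span_singleton'.mpr ⟨b, by ring⟩
  | sup I J _ _ hI hJ =>
    obtain ⟨e, he, rfl⟩ := hI
    obtain ⟨f, hf, rfl⟩ := hJ
    have he' : e * e = e := he
    have hf' : f * f = f := hf
    refine ⟨e + f - e * f, ?_, ?_⟩
    · unfold IsIdempotentElem
      calc (e + f - e * f) * (e + f - e * f)
          = e * e + f * f + 2 * (e * f) - 2 * (e * e) * f - 2 * e * (f * f)
              + (e * e) * (f * f) := by ring
        _ = e + f - e * f := by rw [he', hf']; ring
    · apply le_antisymm
      · rw [sup_le_iff]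
        constructor
        · rw [Ideal.span_le, Set.singleton_subset_iff]
          refine Ideal.mem_span_singleton'.mpr ⟨e, ?_⟩
          calc e * (e + f - e * f) = e * e + e * f - (e * e) * f := by ring
            _ = e := by rw [he']; ring
        · rw [Ideal.span_le, Set.singleton_subset_iff]
          refine Ideal.mem_span_singleton'.mpr ⟨f, ?_⟩
          calc f * (e + f - e * f) = f * f + e * f - e * (f * f) := by ring
            _ = f := by rw [hf']; ring
      · rw [Ideal.span_le, Set.singleton_subset_iff]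
        have h1 : e ∈ Ideal.span {e} ⊔ Ideal.span {f} :=
          Ideal.mem_sup_left (Ideal.subset_span rfl)
        have h2 : f ∈ Ideal.span {e} ⊔ Ideal.span {f} :=
          Ideal.mem_sup_right (Ideal.subset_span rfl)
        exact Ideal.sub_mem _ (Ideal.add_mem _ h1 h2) (Ideal.mul_mem_left _ e h2)

theorem IsVNR.flat (h : IsVNR A) (M : Type*) [AddCommGroup M] [Module A M] : Module.Flat A M := by
  rw [Module.Flat.iff_rTensor_injective]
  intro I hI
  obtain ⟨e, he, rfl⟩ := h.fg_ideal_eq_span_idempotent I hI
  have he' : e * e = e := he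
  -- a retraction of the inclusion
  let r : A →ₗ[A] (Ideal.span {e} : Ideal A) :=
    LinearMap.toSpanSingleton A _ ⟨e, Ideal.subset_span rfl⟩
  have hr : r ∘ₗ (Ideal.span {e} : Ideal A).subtype = LinearMap.id := by
    ext ⟨x, hx⟩
    obtain ⟨c, rfl⟩ := Ideal.mem_span_singleton'.mp hx
    simp only [LinearMap.coe_comp, Submodule.coe_subtype, Function.comp_apply,
      LinearMap.toSpanSingleton_apply, LinearMap.id_coe, id_eq, r]
    simp only [SetLike.mk_smul_mk, smul_eq_mul]
    rw [mul_assoc, he']
  have : (r.rTensor M) ∘ₗ ((Ideal.span {e} : Ideal A).subtype.rTensor M) = LinearMap.id := by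
    rw [← LinearMap.rTensor_comp, hr, LinearMap.rTensor_id]
  exact Function.LeftInverse.injective (g := r.rTensor M) (fun x => by
    have := congrArg (fun f => f x) this
    simpa using this)

theorem IsVNR.of_forall_flat_quotient (h : ∀ a : A, Module.Flat A (A ⧸ Ideal.span {a})) :
    IsVNR A := by
  intro a
  have : (Ideal.span {a}).Pure := h a
  obtain ⟨y, hy, hay⟩ := Ideal.exists_eq_mul_of_pure (I := Ideal.span {a})
    (Ideal.subset_span rfl : a ∈ Ideal.span {a})
  obtain ⟨b, rfl⟩ := Ideal.mem_span_singleton'.mp hy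
  exact ⟨b, hay.trans (by ring)⟩

theorem IsVNR.isReduced (h : IsVNR A) : IsReduced A := by
  rw [isReduced_iff_pow_one_lt 2 (by norm_num)]
  intro a ha
  obtain ⟨b, hb⟩ := h a
  rw [hb, ← pow_two, ha, zero_mul]

theorem IsVNR.isMaximal_of_isPrime (h : IsVNR A) (p : Ideal A) (hp : p.IsPrime) : p.IsMaximal := by
  rw [Ideal.isMaximal_iff]
  refine ⟨fun h1 => hp.ne_top ((Ideal.eq_top_iff_one _).mpr h1), ?_⟩
  intro J x hpJ hxp hxJ
  obtain ⟨b, hb⟩ := h x
  -- x * (1 - x * b) = 0 ∈ p, so 1 - x * b ∈ p ≤ J
  have h0 : x * (1 - x * b) ∈ p := by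
    have : x * (1 - x * b) = x - x * x * b := by ring
    rw [this, ← hb, sub_self]
    exact p.zero_mem
  have h1 : 1 - x * b ∈ p := (hp.mem_or_mem h0).resolve_left hxp
  have h2 : 1 - x * b ∈ J := hpJ h1
  have h3 : x * b ∈ J := J.mul_mem_right b hxJ
  have : (1 : A) = (1 - x * b) + x * b := by ring
  rw [this]
  exact J.add_mem h2 h3

theorem isVNR_pi_field {ι : Type*} (K : ι → Type*) [∀ i, Field (K i)] : IsVNR (∀ i, K i) := by
  intro a
  refine ⟨fun i => (a i)⁻¹, ?_⟩
  funext i
  simp only [Pi.mul_apply]
  by_cases hi : a i = 0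
  · simp [hi]
  · field_simp

theorem IsVNR.of_isField_localization
    (h : ∀ (p : Ideal A) [p.IsMaximal], IsField (Localization.AtPrime p)) : IsVNR A := by
  intro a
  suffices hmem : a ∈ Ideal.span {a * a} by
    obtain ⟨b, hb⟩ := Ideal.mem_span_singleton'.mp hmem
    exact ⟨b, hb.symm.trans (by ring)⟩
  apply Ideal.mem_of_localization_maximal
  intro P hP
  let _ := (h P).toField
  by_cases ha : algebraMap A (Localization.AtPrime P) a = 0
  · rw [ha]; exact Ideal.zero_mem _
  · have hu : IsUnit (algebraMap A (Localization.AtPrime P) (a * a)) := by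
      rw [map_mul]
      exact (IsUnit.mk0 _ ha).mul (IsUnit.mk0 _ ha)
    have : Ideal.map (algebraMap A (Localization.AtPrime P)) (Ideal.span {a * a}) = ⊤ := by
      rw [Ideal.map_span, Set.image_singleton]
      exact Ideal.span_singleton_eq_top.mpr hu
    rw [this]
    exact Submodule.mem_top

theorem isField_localization_of_isReduced_of_isMaximal [IsReduced A]
    (h : ∀ p : Ideal A, p.IsPrime → p.IsMaximal) (p : Ideal A) [p.IsPrime] :
    IsField (Localization.AtPrime p) := by
  have : Ring.KrullDimLE 0 A := Ring.KrullDimLE.mk₀ h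
  have hp : p ∈ minimalPrimes A := Ideal.mem_minimalPrimes_of_krullDimLE_zero p
  have : Ring.KrullDimLE 0 (Localization.AtPrime p) :=
    Ring.KrullDimLE.of_isLocalization p hp (Localization.AtPrime p)
  exact Ring.KrullDimLE.isField_of_isReduced

end

end Groth.Agent.H36
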