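import Mathlib.Algebra.Homology.DerivedCategory.Linear
import Mathlib.Algebra.Homology.DerivedCategory.HomologySequence
import Mathlib.Algebra.Homology.ShortComplex.Linear

set_option autoImplicit false

open CategoryTheory

namespace Groth.Agent.H36

universe t w v u

variable (R : Type t) [Ring R] (C : Type u) [Category.{v} C] [Abelian C] [Linear R C]

theorem homologicalComplex_homologyMap_smul {ι : Type*} (c : ComplexShape ι)
    {K L : HomologicalComplex C c} (r : R) (f : K ⟶ L) (i : ι) :
    HomologicalComplex.homologyMap (r • f) i = r • HomologicalComplex.homologyMap f i := by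
  have h : (HomologicalComplex.shortComplexFunctor C c i).map (r • f) =
      r • (HomologicalComplex.shortComplexFunctor C c i).map f := by
    ext <;> rfl
  change ShortComplex.homologyMap ((HomologicalComplex.shortComplexFunctor C c i).map (r • f)) = _
  rw [h, ShortComplex.homologyMap_smul]
  rfl

instance homologicalComplex_homologyFunctor_linear {ι : Type*} (c : ComplexShape ι) (i : ι) :
    Functor.Linear R (HomologicalComplex.homologyFunctor C c i) where
  map_smul f r := homologicalComplex_homologyMap_smul R C c r f i

variable [HasDerivedCategory.{w} C]

instance derivedCategory_homologyFunctor_linear (n : ℤ) :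
    Functor.Linear R (DerivedCategory.homologyFunctor C n) := by
  let _ : Localization.Lifting DerivedCategory.Q
      (HomologicalComplex.quasiIso C (ComplexShape.up ℤ))
      (HomologicalComplex.homologyFunctor C (ComplexShape.up ℤ) n)
      (DerivedCategory.homologyFunctor C n) := ⟨DerivedCategory.homologyFunctorFactors C n⟩
  rw [← Localization.functor_linear_iff DerivedCategory.Q
    (HomologicalComplex.quasiIso C (ComplexShape.up ℤ)) R
    (HomologicalComplex.homologyFunctor C (ComplexShape.up ℤ) n)
    (DerivedCategory.homologyFunctor C n)]
  infer_instance

theorem derivedCategory_homologyFunctor_map_smul_id (n : ℤ) (r : R) (M : DerivedCategory C) :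
    (DerivedCategory.homologyFunctor C n).map (r • 𝟙 M) =
      r • 𝟙 ((DerivedCategory.homologyFunctor C n).obj M) := by
  rw [Functor.map_smul, CategoryTheory.Functor.map_id]

end Groth.Agent.H36
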