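import Mathlib
import Groth.Agent.H10.WeaklyEtaleNormal

set_option autoImplicit false
set_option linter.style.haveILetI false
set_option linter.unusedSectionVars false
universe u
open TensorProduct

namespace Groth.Agent.H36.EtCompositum

theorem exists_idempotent_of_isMaximal {T : Type*} [CommRing T] [IsArtinianRing T] [IsReduced T]
    (Q : Ideal T) [hQ : Q.IsMaximal] :
    ∃ e : T, IsIdempotentElem e ∧ 1 - e ∈ Q ∧ ∀ q ∈ Q, e * q = 0 := by
  classical
  let m₀ : MaximalSpectrum T := ⟨Q, hQ⟩
  let E := IsArtinianRing.equivPi T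
  refine ⟨E.symm (Pi.single m₀ 1), ?_, ?_, ?_⟩
  · apply E.injective
    rw [map_mul, AlgEquiv.apply_symm_apply, ← Pi.single_mul, mul_one]
  · have h1 : E (1 - E.symm (Pi.single m₀ 1)) m₀ = 0 := by
      rw [map_sub, AlgEquiv.apply_symm_apply, map_one]
      simp
    rw [IsArtinianRing.equivPi_apply] at h1
    exact Ideal.Quotient.eq_zero_iff_mem.mp h1
  · intro q hq
    apply E.injective
    rw [map_mul, AlgEquiv.apply_symm_apply, map_zero]
    funext m
    by_cases hm : m = m₀
    · subst hm
      rw [Pi.mul_apply, IsArtinianRing.equivPi_apply]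
      have : (Ideal.Quotient.mk m₀.asIdeal q) = 0 := Ideal.Quotient.eq_zero_iff_mem.mpr hq
      rw [this, mul_zero]; rfl
    · rw [Pi.mul_apply, Pi.single_eq_of_ne hm, zero_mul]; rfl

section Abstract

variable (A' : Type u) [CommRing A'] [IsDomain A'] [IsIntegrallyClosed A']
  (C' : Type u) [CommRing C'] [Algebra A' C'] [Algebra.Etale A' C'] [Module.Finite A' C']
  (L₁ : Type u) [Field L₁] [Algebra A' L₁]

/-- the generic fibre of a finite etale algebra is Artinian and reduced -/
theorem artinian_reduced_genericFibre :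
    IsArtinianRing (C' ⊗[A'] FractionRing A') ∧ IsReduced (C' ⊗[A'] FractionRing A') := by
  let K' := FractionRing A'
  haveI : IsArtinianRing (K' ⊗[A'] C') := IsArtinianRing.of_finite K' _
  haveI : IsReduced (K' ⊗[A'] C') := Algebra.FormallyUnramified.isReduced_of_field K' _
  let E : (K' ⊗[A'] C') ≃ₐ[A'] (C' ⊗[A'] K') := Algebra.TensorProduct.comm A' K' C'
  refine ⟨E.surjective.isArtinianRing, ?_⟩
  exact isReduced_of_injective E.symm E.symm.injective

theorem main_abstract (hinj : Function.Injective (algebraMap A' L₁)) (φ : C' →ₐ[A'] L₁)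
    (hgen : ∀ F : Subfield L₁, Set.range φ ⊆ F → F = ⊤) :
    integralClosure A' L₁ = φ.range ∧ Algebra.Etale A' φ.range := by
  classical
  let K' := FractionRing A'
  let T := C' ⊗[A'] K'
  obtain ⟨hart, hred⟩ := artinian_reduced_genericFibre A' C'
  have hIC : IsIntegrallyClosedIn C' T := Groth.Agent.H10.WEN.main A' K' C'
  have hι : Function.Injective (algebraMap C' T) :=
    IsIntegralClosure.algebraMap_injective C' C' T
  let M := Algebra.algebraMapSubmonoid C' (nonZeroDivisors A')
  haveI hloc : IsLocalization M T := IsLocalization.tensor K' (nonZeroDivisors A')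
  have hunit : ∀ y : M, IsUnit (φ.toRingHom y) := by
    rintro ⟨y, a, ha, rfl⟩
    change IsUnit (φ (algebraMap A' C' a))
    rw [AlgHom.commutes]
    apply IsUnit.mk0
    rw [Ne, map_eq_zero_iff _ hinj]
    exact nonZeroDivisors.ne_zero ha
  let ψ : T →+* L₁ := IsLocalization.lift hunit
  have hψι : ∀ c : C', ψ (algebraMap C' T c) = φ c := fun c => IsLocalization.lift_eq hunit c
  have hψA : ∀ a : A', ψ (algebraMap A' T a) = algebraMap A' L₁ a := by
    intro a
    rw [IsScalarTower.algebraMap_apply A' C' T, hψι, AlgHom.commutes]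
  -- the kernel of ψ is a maximal ideal
  haveI hQp : (RingHom.ker ψ).IsPrime := RingHom.ker_isPrime ψ
  haveI hQm : (RingHom.ker ψ).IsMaximal := IsArtinianRing.isMaximal_of_isPrime _
  obtain ⟨e, he, he1, heQ⟩ := exists_idempotent_of_isMaximal (RingHom.ker ψ)
  have hψe : ψ e = 1 := by
    have := (RingHom.mem_ker).mp he1
    rw [map_sub, map_one, sub_eq_zero] at this
    exact this.symm
  -- ψ is surjective
  have hsurj : Function.Surjective ψ := by
    let F : Subfield L₁ :=
      { ψ.range with
        inv_mem' := by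
          rintro x ⟨t, rfl⟩
          by_cases ht : ψ t = 0
          · rw [ht, inv_zero]; exact ⟨0, map_zero _⟩
          · have htQ : t ∉ RingHom.ker ψ := fun h => ht ((RingHom.mem_ker).mp h)
            obtain ⟨t', i, hi, ht'⟩ := Ideal.IsMaximal.exists_inv hQm htQ
            refine ⟨t', ?_⟩
            have h1 := congrArg ψ ht'
            rw [map_add, map_mul, (RingHom.mem_ker).mp hi, add_zero, map_one] at h1
            exact eq_inv_of_mul_eq_one_left h1 }
    have hF : F = ⊤ := by
      apply hgen
      rintro _ ⟨c, rfl⟩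
      exact ⟨algebraMap C' T c, hψι c⟩
    intro x
    have hx : x ∈ F := by rw [hF]; trivial
    exact hx
  -- integrality of C' over A'
  haveI : Algebra.IsIntegral A' C' := Algebra.IsIntegral.of_finite A' C'
  -- part 1
  have h1 : integralClosure A' L₁ = φ.range := by
    apply le_antisymm
    · intro x hx
      obtain ⟨p, hpm, hpx⟩ := hx
      obtain ⟨t, rfl⟩ := hsurj x
      -- t' = e * t is integral over C'
      have hint : IsIntegral C' (e * t) := by
        refine ⟨Polynomial.X * p.map (algebraMap A' C'), ?_, ?_⟩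
        · exact Polynomial.monic_X.mul (hpm.map _)
        · rw [Polynomial.eval₂_mul, Polynomial.eval₂_X, Polynomial.eval₂_map,
            ← IsScalarTower.algebraMap_eq A' C' T]
          have hker : Polynomial.eval₂ (algebraMap A' T) (e * t) p ∈ RingHom.ker ψ := by
            rw [RingHom.mem_ker, Polynomial.hom_eval₂, map_mul, hψe, one_mul]
            have : ψ.comp (algebraMap A' T) = algebraMap A' L₁ := RingHom.ext hψA
            rw [this]
            exact hpx
          have := heQ _ hker
          rw [mul_right_comm, this, zero_mul]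
      obtain ⟨c, hc⟩ := (IsIntegralClosure.isIntegral_iff (A := C') (R := C') (B := T)).mp hint
      refine ⟨c, ?_⟩
      change φ c = ψ t
      rw [← hψι, hc, map_mul, hψe, one_mul]
    · rintro _ ⟨c, rfl⟩
      exact (Algebra.IsIntegral.isIntegral (R := A') c).map φ
  refine ⟨h1, ?_⟩
  -- the idempotent descends to C'
  haveI : Nontrivial C' := φ.toRingHom.domain_nontrivial
  have heint : IsIntegral C' e := by
    refine ⟨Polynomial.X ^ 2 - Polynomial.X, Polynomial.monic_X_pow_sub (by rw [Polynomial.degree_X]; norm_num), ?_⟩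
    rw [Polynomial.eval₂_sub, Polynomial.eval₂_pow, Polynomial.eval₂_X, sq, he.eq, sub_self]
  obtain ⟨e₀, he₀⟩ := (IsIntegralClosure.isIntegral_iff (A := C') (R := C') (B := T)).mp heint
  have he₀i : IsIdempotentElem e₀ := by
    apply hι
    rw [map_mul, he₀, he.eq]
  have hφe₀ : φ e₀ = 1 := by rw [← hψι, he₀, hψe]
  let _ : Algebra C' φ.range := φ.rangeRestrict.toRingHom.toAlgebra
  have halg : ∀ c : C', ((algebraMap C' φ.range c : φ.range) : L₁) = φ c := fun c => rfl
  haveI : IsScalarTower A' C' φ.range := by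
    refine IsScalarTower.of_algebraMap_eq fun a => ?_
    apply Subtype.ext
    rw [halg, AlgHom.commutes]
    rfl
  have hker : RingHom.ker (algebraMap C' φ.range) = Ideal.span {1 - e₀} := by
    ext c
    rw [RingHom.mem_ker, Ideal.mem_span_singleton']
    constructor
    · intro hc
      have hc' : φ c = 0 := by rw [← halg, hc]; rfl
      have h2 : algebraMap C' T c ∈ RingHom.ker ψ := by rw [RingHom.mem_ker, hψι, hc']
      have h3 := heQ _ h2
      rw [← he₀, ← map_mul, map_eq_zero_iff _ hι] at h3
      exact ⟨c, by rw [mul_sub, mul_one, mul_comm c e₀, h3, sub_zero]⟩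
    · rintro ⟨d, rfl⟩
      apply Subtype.ext
      rw [halg, map_mul, map_sub, map_one, hφe₀, sub_self, mul_zero]
      rfl
  have hsurj' : Function.Surjective (algebraMap C' φ.range) := φ.rangeRestrict_surjective
  haveI : IsLocalization.Away e₀ φ.range :=
    IsLocalization.away_of_isIdempotentElem he₀i hker hsurj'
  haveI : Algebra.Etale C' φ.range := Algebra.Etale.of_isLocalizationAway e₀
  exact Algebra.Etale.comp A' C' φ.range

end Abstract

section Compositum

variable (A A' L L₁ : Type u) [CommRing A] [IsDomain A]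
    [IsIntegrallyClosed A] [CommRing A'] [IsDomain A'] [IsIntegrallyClosed A'] [Algebra A A']
    [Field L] [Algebra A L] [Algebra.IsAlgebraic A L]
    [Algebra.Etale A ↥(integralClosure A L)]
    [Field L₁] [Algebra A' L₁] [Algebra L L₁] [Algebra A L₁] [IsScalarTower A A' L₁]
    [IsScalarTower A L L₁]

theorem compositum (hinj : Function.Injective (algebraMap A L))
    (hinj' : Function.Injective (algebraMap A' L₁))
    (hgen : Subfield.closure (Set.range (algebraMap A' L₁) ∪ Set.range (algebraMap L L₁)) = ⊤) :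
    Algebra.Etale A' ↥(integralClosure A' L₁) ∧
      integralClosure A' L₁ =
        Algebra.adjoin A' ((algebraMap L L₁) '' {x : L | IsIntegral A x}) := by
  classical
  let C := integralClosure A L
  haveI : Algebra.FiniteType A C := inferInstance
  haveI : Module.Finite A C := Algebra.IsIntegral.finite
  let g : C →ₐ[A] L₁ := (IsScalarTower.toAlgHom A L L₁).comp C.val
  let φ : (A' ⊗[A] C) →ₐ[A'] L₁ :=
    Algebra.TensorProduct.productLeftAlgHom (Algebra.ofId A' L₁) g
  have hφ : ∀ (a : A') (c : C), φ (a ⊗ₜ c) = algebraMap A' L₁ a * algebraMap L L₁ (c : L) := by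
    intro a c
    rfl
  have hgenφ : ∀ F : Subfield L₁, Set.range φ ⊆ F → F = ⊤ := by
    intro F hF
    rw [eq_top_iff, ← hgen, Subfield.closure_le]
    have hA' : ∀ a : A', algebraMap A' L₁ a ∈ F := by
      intro a
      have : φ (a ⊗ₜ (1 : C)) = algebraMap A' L₁ a := by
        rw [hφ]; simp
      rw [← this]
      exact hF ⟨_, rfl⟩
    rintro y (⟨a, rfl⟩ | ⟨x, rfl⟩)
    · exact hA' a
    · obtain ⟨a, ha0, hax⟩ := (Algebra.IsAlgebraic.isAlgebraic (R := A) x).exists_integral_multiple
      have h1 : φ ((1 : A') ⊗ₜ (⟨a • x, hax⟩ : C)) ∈ F := hF ⟨_, rfl⟩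
      rw [hφ, map_one, one_mul] at h1
      change algebraMap L L₁ (a • x) ∈ F at h1
      rw [Algebra.smul_def, map_mul, ← IsScalarTower.algebraMap_apply A L L₁] at h1
      have h2 : algebraMap A L₁ a ∈ F := by
        rw [IsScalarTower.algebraMap_apply A A' L₁]; exact hA' _
      have h3 : algebraMap A L₁ a ≠ 0 := by
        rw [IsScalarTower.algebraMap_apply A L L₁, Ne, map_eq_zero, map_eq_zero_iff _ hinj]
        exact ha0
      have h4 := F.mul_mem (F.inv_mem h2) h1
      rwa [inv_mul_cancel_left₀ h3] at h4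
  obtain ⟨h1, h2⟩ := main_abstract A' (A' ⊗[A] C) L₁ hinj' φ hgenφ
  have h3 : φ.range = Algebra.adjoin A' ((algebraMap L L₁) '' {x : L | IsIntegral A x}) := by
    apply le_antisymm
    · rintro _ ⟨t, rfl⟩
      change φ t ∈ _
      induction t using TensorProduct.induction_on with
      | zero => rw [map_zero]; exact Subalgebra.zero_mem _
      | tmul a c =>
        rw [hφ]
        exact Subalgebra.mul_mem _ (Subalgebra.algebraMap_mem _ a)
          (Algebra.subset_adjoin ⟨c.1, c.2, rfl⟩)
      | add x y hx hy => rw [map_add]; exact Subalgebra.add_mem _ hx hy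
    · rw [Algebra.adjoin_le_iff]
      rintro _ ⟨x, hx, rfl⟩
      refine ⟨(1 : A') ⊗ₜ (⟨x, hx⟩ : C), ?_⟩
      change φ _ = _
      rw [hφ, map_one, one_mul]
  rw [h1]
  exact ⟨h2, h3⟩

end Compositum

end Groth.Agent.H36.EtCompositum
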