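import Mathlib

set_option autoImplicit false
universe u v w

namespace Groth.Agent.H36

open TopologicalSpace

section NoethMax

variable {R : Type u} [CommRing R]

theorem jacobson_bot_le_of_isMaximal (x : Ideal R) [hx : x.IsMaximal] :
    (⊥ : Ideal R).jacobson ≤ x :=
  sInf_le ⟨bot_le, hx⟩

theorem noetherianSpace_maximalSpectrum [IsNoetherianRing (R ⧸ (⊥ : Ideal R).jacobson)] :
    NoetherianSpace (MaximalSpectrum R) := by
  have h1 : NoetherianSpace
      (Set.range (PrimeSpectrum.comap (Ideal.Quotient.mk (⊥ : Ideal R).jacobson))) :=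
    NoetherianSpace.range _ (PrimeSpectrum.continuous_comap _)
  have hsub : Set.range (MaximalSpectrum.toPrimeSpectrum (R := R)) ⊆
      Set.range (PrimeSpectrum.comap (Ideal.Quotient.mk (⊥ : Ideal R).jacobson)) := by
    rw [range_comap_of_surjective _ _ Ideal.Quotient.mk_surjective, Ideal.mk_ker]
    rintro _ ⟨x, rfl⟩
    exact jacobson_bot_le_of_isMaximal x.asIdeal
  have h2 : NoetherianSpace (Set.range (MaximalSpectrum.toPrimeSpectrum (R := R))) :=
    NoetherianSpace.of_subset hsub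
  have hind : Topology.IsInducing (MaximalSpectrum.toPrimeSpectrum (R := R)) := ⟨rfl⟩
  exact (hind.codRestrict (fun x => Set.mem_range_self x)).noetherianSpace

end NoethMax

section Pairing

variable {R : Type u} [CommRing R] {A : Type v} [AddCommGroup A] [Module R A]
  {B : Type w} [AddCommGroup B] [Module R B]

/-- the elements of `A` all of whose pairings lie in the ideal `I` -/
def pairOrth (β : A →ₗ[R] B →ₗ[R] R) (I : Ideal R) : Submodule R A where
  carrier := {a | ∀ b, β a b ∈ I}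
  add_mem' := by
    intro a a' ha ha' b
    rw [map_add, LinearMap.add_apply]
    exact I.add_mem (ha b) (ha' b)
  zero_mem' := by
    intro b
    rw [map_zero, LinearMap.zero_apply]
    exact I.zero_mem
  smul_mem' := by
    intro c a ha b
    rw [map_smul, LinearMap.smul_apply]
    exact I.mul_mem_left c (ha b)

theorem mem_pairOrth (β : A →ₗ[R] B →ₗ[R] R) (I : Ideal R) (a : A) :
    a ∈ pairOrth β I ↔ ∀ b, β a b ∈ I := Iff.rfl

/-- `A'` is not contained in a finitely generated submodule modulo the orthogonal at `I` -/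
def PairBig (β : A →ₗ[R] B →ₗ[R] R) (A' : Submodule R A) (I : Ideal R) : Prop :=
  ∀ N : Submodule R A, N.FG → ¬ A' ≤ N ⊔ pairOrth β I

theorem exists_fg_sup_of_noetherian_quotient (J : Ideal R) [IsNoetherianRing (R ⧸ J)]
    (A' : Submodule R A) (ψ : A →ₗ[R] R) :
    ∃ N₀ : Submodule R A, N₀.FG ∧ N₀ ≤ A' ∧ A' ≤ (A' ⊓ Submodule.comap ψ J) ⊔ N₀ := by
  classical
  let g : A' → R ⧸ J := fun a => Ideal.Quotient.mk J (ψ a)
  have hfg : (Ideal.span (Set.range g)).FG := IsNoetherian.noetherian _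
  obtain ⟨T', hT'sub, hT'⟩ := (Submodule.fg_span_iff_fg_span_finset_subset _).1 hfg
  have hpre : ∀ t : R ⧸ J, t ∈ T' → ∃ a : A', g a = t := fun t ht => hT'sub ht
  choose! pre hpre using hpre
  refine ⟨Submodule.span R ((T'.image fun t => ((pre t : A') : A)) : Set A),
    Submodule.fg_span (Finset.finite_toSet _), ?_, ?_⟩
  · rw [Submodule.span_le]
    intro a ha
    rw [Finset.coe_image] at ha
    obtain ⟨t, -, rfl⟩ := ha
    exact (pre t).2
  · intro a ha
    have h1 : g ⟨a, ha⟩ ∈ Ideal.span (Set.range g) := Ideal.subset_span ⟨⟨a, ha⟩, rfl⟩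
    change g ⟨a, ha⟩ ∈ Submodule.span (R ⧸ J) (Set.range g) at h1
    rw [hT', Submodule.mem_span_finset] at h1
    obtain ⟨f, -, hf⟩ := h1
    have hlift : ∀ t : R ⧸ J, ∃ c : R, Ideal.Quotient.mk J c = f t :=
      fun t => Ideal.Quotient.mk_surjective (f t)
    choose c hc using hlift
    have hz : (∑ t ∈ T', c t • ((pre t : A') : A)) ∈
        Submodule.span R ((T'.image fun t => ((pre t : A') : A)) : Set A) := by
      refine Submodule.sum_mem _ fun t ht => Submodule.smul_mem _ _ (Submodule.subset_span ?_)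
      rw [Finset.coe_image]
      exact ⟨t, ht, rfl⟩
    have hzA' : (∑ t ∈ T', c t • ((pre t : A') : A)) ∈ A' :=
      Submodule.sum_mem _ fun t _ => Submodule.smul_mem _ _ (pre t).2
    have hdiff : a - ∑ t ∈ T', c t • ((pre t : A') : A) ∈ A' ⊓ Submodule.comap ψ J := by
      refine ⟨A'.sub_mem ha hzA', ?_⟩
      change ψ (a - ∑ t ∈ T', c t • ((pre t : A') : A)) ∈ J
      rw [map_sub, map_sum]
      rw [← Ideal.Quotient.eq_zero_iff_mem, map_sub, map_sum, sub_eq_zero]
      change g ⟨a, ha⟩ = _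
      rw [← hf]
      refine Finset.sum_congr rfl fun t ht => ?_
      rw [map_smul, smul_eq_mul, smul_eq_mul, map_mul, hc t]
      congr 1
      exact (hpre t ht).symm
    have : a = (a - ∑ t ∈ T', c t • ((pre t : A') : A)) + ∑ t ∈ T', c t • ((pre t : A') : A) := by
      abel
    rw [this]
    exact Submodule.add_mem_sup hdiff hz

theorem PairBig.inf_comap (J : Ideal R) [IsNoetherianRing (R ⧸ J)]
    (β : A →ₗ[R] B →ₗ[R] R) (A' : Submodule R A) (I : Ideal R) (h : PairBig β A' I) (b : B) :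
    PairBig β (A' ⊓ Submodule.comap (β.flip b) J) I := by
  intro N hN hle
  obtain ⟨N₀, hN₀, -, hA'⟩ := exists_fg_sup_of_noetherian_quotient J A' (β.flip b)
  apply h (N ⊔ N₀) (hN.sup hN₀)
  refine hA'.trans ?_
  refine sup_le (hle.trans ?_) ?_
  · exact sup_le (le_sup_of_le_left le_sup_left) le_sup_right
  · exact le_sup_of_le_left le_sup_right

end Pairing

section LemmaU

variable {R : Type u} [CommRing R] {A : Type v} [AddCommGroup A] [Module R A]
  {B : Type w} [AddCommGroup B] [Module R B]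

theorem isClosed_setOf_mem_asIdeal (c : R) :
    IsClosed {x : MaximalSpectrum R | c ∈ x.asIdeal} := by
  have : {x : MaximalSpectrum R | c ∈ x.asIdeal} =
      MaximalSpectrum.toPrimeSpectrum ⁻¹' (PrimeSpectrum.zeroLocus {c}) := by
    ext x
    simp [PrimeSpectrum.mem_zeroLocus, MaximalSpectrum.toPrimeSpectrum]
  rw [this]
  exact (PrimeSpectrum.isClosed_zeroLocus _).preimage MaximalSpectrum.toPrimeSpectrum_continuous

theorem exists_add_not_mem_pairOrth [IsNoetherianRing (R ⧸ (⊥ : Ideal R).jacobson)]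
    (β : A →ₗ[R] B →ₗ[R] R) (X : Closeds (MaximalSpectrum R)) :
    ∀ (A' : Submodule R A) (a₀ : A), (∀ x ∈ X, PairBig β A' x.asIdeal) →
      ∃ a' ∈ A', ∀ x ∈ X, a₀ + a' ∉ pairOrth β x.asIdeal := by
  have : NoetherianSpace (MaximalSpectrum R) := noetherianSpace_maximalSpectrum (R := R)
  refine (wellFounded_lt (α := Closeds (MaximalSpectrum R))).induction
    (C := fun X => ∀ (A' : Submodule R A) (a₀ : A), (∀ x ∈ X, PairBig β A' x.asIdeal) →
      ∃ a' ∈ A', ∀ x ∈ X, a₀ + a' ∉ pairOrth β x.asIdeal) X ?_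
  intro X ih A' a₀ hbig
  by_cases hne : ∃ y, y ∈ X
  · obtain ⟨y, hy⟩ := hne
    have h2 : ∃ a'₀ ∈ A', a₀ + a'₀ ∉ pairOrth β y.asIdeal := by
      by_cases h0 : a₀ ∈ pairOrth β y.asIdeal
      · have hb := hbig y hy ⊥ Submodule.fg_bot
        rw [bot_sup_eq] at hb
        obtain ⟨a'', ha''A, ha''⟩ := SetLike.not_le_iff_exists.1 hb
        refine ⟨a'', ha''A, fun hc => ha'' ?_⟩
        have := Submodule.sub_mem _ hc h0
        rwa [add_sub_cancel_left] at this
      · exact ⟨0, A'.zero_mem, by rwa [add_zero]⟩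
    obtain ⟨a'₀, ha'₀, hnot⟩ := h2
    obtain ⟨b, hb⟩ : ∃ b, β (a₀ + a'₀) b ∉ y.asIdeal := by
      by_contra hcon
      push Not at hcon
      exact hnot hcon
    set c := β (a₀ + a'₀) b with hc
    let X₁ : Closeds (MaximalSpectrum R) := X ⊓ ⟨_, isClosed_setOf_mem_asIdeal c⟩
    have hlt : X₁ < X := by
      refine lt_of_le_of_ne inf_le_left ?_
      intro heq
      have : y ∈ X₁ := by rw [heq]; exact hy
      exact hb this.2
    obtain ⟨a'₁, ha'₁, h1⟩ := ih X₁ hlt
      (A' ⊓ Submodule.comap (β.flip b) (⊥ : Ideal R).jacobson) (a₀ + a'₀)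
      (fun x hx => (hbig x hx.1).inf_comap _ β A' _ b)
    refine ⟨a'₀ + a'₁, A'.add_mem ha'₀ ha'₁.1, fun x hx => ?_⟩
    rw [← add_assoc]
    by_cases hcx : c ∈ x.asIdeal
    · exact h1 x ⟨hx, hcx⟩
    · intro hmem
      have h3 := hmem b
      rw [map_add, LinearMap.add_apply] at h3
      have h4 : β a'₁ b ∈ x.asIdeal :=
        jacobson_bot_le_of_isMaximal x.asIdeal ha'₁.2
      apply hcx
      have := x.asIdeal.sub_mem h3 h4
      rwa [add_sub_cancel_right] at this
  · refine ⟨0, A'.zero_mem, fun x hx => ?_⟩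
    exact absurd ⟨x, hx⟩ hne

end LemmaU

end Groth.Agent.H36
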