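import Mathlib
import Groth.Agent.H36.BassU

set_option autoImplicit false
universe u v w

namespace Groth.Agent.H36

section ProjNak

variable {R : Type u} [CommRing R] {P : Type v} [AddCommGroup P] [Module R P]

theorem map_mem_of_mem_smul_top (I : Ideal R) (φ : P →ₗ[R] R) (p : P)
    (hp : p ∈ (I • ⊤ : Submodule R P)) : φ p ∈ I := by
  refine Submodule.smul_induction_on hp ?_ ?_
  · intro r hr n _
    rw [map_smul, smul_eq_mul]
    exact I.mul_mem_right _ hr
  · intro x y hx hy
    rw [map_add]
    exact I.add_mem hx hy

/-- for a projective module, an element all of whose coordinates lie in `I` lies in `I P` -/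
theorem mem_smul_top_of_forall_dual_mem [Module.Projective R P] (I : Ideal R) (p : P)
    (hp : ∀ φ : P →ₗ[R] R, φ p ∈ I) : p ∈ (I • ⊤ : Submodule R P) := by
  obtain ⟨s, hs⟩ := (Module.projective_def' (R := R) (P := P)).1 inferInstance
  have h1 : p = Finsupp.linearCombination R id (s p) := by
    have := LinearMap.congr_fun hs p
    simpa using this.symm
  rw [h1, Finsupp.linearCombination_apply, Finsupp.sum]
  refine Submodule.sum_mem _ fun t _ => Submodule.smul_mem_smul ?_ trivial
  exact hp ((Finsupp.lapply t) ∘ₗ s)

/-- Nakayama for projective modules that need not be finitely generated -/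
theorem eq_zero_of_projective_of_top_le_smul_top [Module.Projective R P] (I : Ideal R)
    (hI : I ≤ (⊥ : Ideal R).jacobson) (hP : (⊤ : Submodule R P) ≤ I • ⊤) (q : P) : q = 0 := by
  classical
  obtain ⟨s, hs⟩ := (Module.projective_def' (R := R) (P := P)).1 inferInstance
  have h1 : q = Finsupp.linearCombination R id (s q) := by
    have := LinearMap.congr_fun hs q
    simpa using this.symm
  set c := s q with hc
  let 𝔠 : Ideal R := Ideal.span ((fun t => c t) '' (c.support : Set P))
  have hfg : (𝔠 : Submodule R R).FG := Submodule.fg_span ((Finset.finite_toSet _).image _)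
  have hle : (𝔠 : Submodule R R) ≤ I • 𝔠 := by
    change Ideal.span _ ≤ _
    rw [Ideal.span_le]
    rintro _ ⟨t₀, -, rfl⟩
    change c t₀ ∈ _
    have h2 : c t₀ = ∑ t ∈ c.support, (s t) t₀ * c t := by
      conv_lhs => rw [hc, h1]
      rw [Finsupp.linearCombination_apply, Finsupp.sum, map_sum, Finsupp.finsetSum_apply]
      refine Finset.sum_congr rfl fun t _ => ?_
      rw [map_smul, Finsupp.smul_apply, smul_eq_mul, mul_comm]
      rfl
    rw [h2]
    refine Submodule.sum_mem _ fun t ht => ?_
    rw [← smul_eq_mul]
    refine Submodule.smul_mem_smul ?_ (Ideal.subset_span ⟨t, ht, rfl⟩)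
    exact map_mem_of_mem_smul_top I ((Finsupp.lapply t₀) ∘ₗ s) t (hP trivial)
  have hbot := Submodule.eq_bot_of_le_smul_of_le_jacobson_bot I (𝔠 : Submodule R R) hfg hle hI
  have hc0 : c = 0 := by
    ext t
    by_cases ht : t ∈ c.support
    · have : c t ∈ (𝔠 : Submodule R R) := Ideal.subset_span ⟨t, ht, rfl⟩
      rw [hbot] at this
      simpa using this
    · simpa using ht
  rw [h1, hc0, map_zero]

end ProjNak

section LocalFinite

variable {A : Type u} [CommRing A] [IsLocalRing A] {Q : Type v} [AddCommGroup Q] [Module A Q]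

open IsLocalRing in
theorem finite_of_projective_of_fg_sup_smul_top [Module.Projective A Q] (N : Submodule A Q)
    (hN : N.FG) (hNQ : N ⊔ (maximalIdeal A • ⊤ : Submodule A Q) = ⊤) : Module.Finite A Q := by
  classical
  let _ : Field (A ⧸ maximalIdeal A) := Ideal.Quotient.field (maximalIdeal A)
  set pr : Q →ₗ[A] (Q ⧸ (maximalIdeal A • ⊤ : Submodule A Q)) :=
    (maximalIdeal A • ⊤ : Submodule A Q).mkQ with hpr
  -- the fibre is finite over `A`
  have hfinA : Module.Finite A (Q ⧸ (maximalIdeal A • ⊤ : Submodule A Q)) := by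
    have : Module.Finite A N := Module.Finite.iff_fg.2 hN
    refine Module.Finite.of_surjective (pr ∘ₗ N.subtype) ?_
    intro v
    obtain ⟨q, rfl⟩ := Submodule.mkQ_surjective _ v
    have hq : q ∈ N ⊔ (maximalIdeal A • ⊤ : Submodule A Q) := by rw [hNQ]; trivial
    obtain ⟨n, hn, y, hy, rfl⟩ := Submodule.mem_sup.1 hq
    refine ⟨⟨n, hn⟩, ?_⟩
    simp only [LinearMap.comp_apply, Submodule.subtype_apply, hpr, map_add]
    rw [Submodule.mkQ_apply _ y, (Submodule.Quotient.mk_eq_zero _).2 hy, add_zero]
  have hfin : Module.Finite (A ⧸ maximalIdeal A) (Q ⧸ (maximalIdeal A • ⊤ : Submodule A Q)) :=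
    Module.Finite.of_restrictScalars_finite A _ _
  let b := Module.finBasis (A ⧸ maximalIdeal A) (Q ⧸ (maximalIdeal A • ⊤ : Submodule A Q))
  set n := Module.finrank (A ⧸ maximalIdeal A) (Q ⧸ (maximalIdeal A • ⊤ : Submodule A Q)) with hn
  have hlift : ∀ i : Fin n, ∃ q : Q, pr q = b i := fun i => Submodule.mkQ_surjective _ (b i)
  choose q hq using hlift
  let g : (Fin n → A) →ₗ[A] Q := Fintype.linearCombination A q
  have hsmul : ∀ (a : A) (v : Q ⧸ (maximalIdeal A • ⊤ : Submodule A Q)),
      a • v = (Ideal.Quotient.mk (maximalIdeal A) a) • v := by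
    intro a v
    exact (algebraMap_smul (A ⧸ maximalIdeal A) a v).symm
  have hπ_apply : ∀ a : Fin n → A, pr (g a) = ∑ i, (Ideal.Quotient.mk (maximalIdeal A) (a i)) • b i := by
    intro a
    simp only [g, Fintype.linearCombination_apply, map_sum, map_smul, hq, hsmul]
  -- surjectivity of the composite onto the fibre
  have hπ : Function.Surjective (pr ∘ₗ g) := by
    intro v
    have hc : ∀ i, ∃ c : A, Ideal.Quotient.mk (maximalIdeal A) c = b.repr v i :=
      fun i => Ideal.Quotient.mk_surjective _
    choose c hc using hc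
    refine ⟨c, ?_⟩
    rw [LinearMap.comp_apply, hπ_apply]
    simp only [hc]
    exact b.sum_repr v
  -- the kernel of the composite has coordinates in the maximal ideal
  have hker : ∀ a : Fin n → A, pr (g a) = 0 → ∀ i, a i ∈ maximalIdeal A := by
    intro a ha i
    rw [hπ_apply] at ha
    have := (Fintype.linearIndependent_iff.1 b.linearIndependent) _ ha i
    exact Ideal.Quotient.eq_zero_iff_mem.1 this
  obtain ⟨h, hh⟩ := Module.projective_lifting_property (pr ∘ₗ g) pr hπ
  have hh' : ∀ p : Q, pr (g (h p)) = pr p := fun p => LinearMap.congr_fun hh p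
  let f : (Fin n → A) →ₗ[A] (Fin n → A) := h ∘ₗ g
  have hf_surj : Function.Surjective f := by
    rw [← LinearMap.range_eq_top, eq_top_iff]
    refine Submodule.le_of_le_smul_of_le_jacobson_bot (I := maximalIdeal A)
      (Module.Finite.fg_top) (by rw [IsLocalRing.jacobson_eq_maximalIdeal ⊥ bot_ne_top]) ?_
    intro a _
    have h1 : ∀ i, (a - f a) i ∈ maximalIdeal A := by
      apply hker
      rw [map_sub, map_sub]
      change pr (g a) - pr (g (h (g a))) = 0
      rw [hh', sub_self]
    have h2 : a - f a ∈ (maximalIdeal A • ⊤ : Submodule A (Fin n → A)) := by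
      have : a - f a = ∑ i, (a - f a) i • (Pi.single i 1 : Fin n → A) := by
        ext j
        simp [Finset.sum_apply, Pi.single_apply]
      rw [this]
      exact Submodule.sum_mem _ fun i _ => Submodule.smul_mem_smul (h1 i) trivial
    have : a = f a + (a - f a) := by abel
    rw [this]
    exact Submodule.add_mem_sup (LinearMap.mem_range_self f a) h2
  have hf_inj : Function.Injective f := OrzechProperty.injective_of_surjective_endomorphism f hf_surj
  let fe : (Fin n → A) ≃ₗ[A] (Fin n → A) := LinearEquiv.ofBijective f ⟨hf_inj, hf_surj⟩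
  let r : Q →ₗ[A] Q := LinearMap.id - g ∘ₗ fe.symm.toLinearMap ∘ₗ h
  have hr_ker : ∀ p, h (r p) = 0 := by
    intro p
    simp only [r, LinearMap.sub_apply, LinearMap.id_apply, LinearMap.comp_apply, map_sub,
      LinearEquiv.coe_coe]
    change h p - f (fe.symm (h p)) = 0
    have : f (fe.symm (h p)) = h p := fe.apply_symm_apply (h p)
    rw [this, sub_self]
  let rK : Q →ₗ[A] LinearMap.ker h := r.codRestrict (LinearMap.ker h) hr_ker
  have hrK : ∀ y : LinearMap.ker h, rK (y : Q) = y := by
    intro y
    apply Subtype.ext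
    change r (y : Q) = y
    simp only [r, LinearMap.sub_apply, LinearMap.id_apply, LinearMap.comp_apply,
      LinearEquiv.coe_coe]
    rw [y.2, map_zero, map_zero, sub_zero]
  have hprojK : Module.Projective A (LinearMap.ker h) :=
    Module.Projective.of_split (LinearMap.ker h).subtype rK (by
      ext y
      exact congrArg Subtype.val (hrK y))
  have htopK : (⊤ : Submodule A (LinearMap.ker h)) ≤ maximalIdeal A • ⊤ := by
    intro y _
    have h1 : pr (y : Q) = 0 := by
      rw [← hh', y.2, map_zero, map_zero]
    have h2 : (y : Q) ∈ (maximalIdeal A • ⊤ : Submodule A Q) :=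
      (Submodule.Quotient.mk_eq_zero _).1 h1
    have h3 : rK (y : Q) ∈ Submodule.map rK (maximalIdeal A • ⊤ : Submodule A Q) :=
      Submodule.mem_map_of_mem h2
    rw [Submodule.map_smul'', hrK] at h3
    exact Submodule.smul_mono le_rfl le_top h3
  have hKzero : ∀ y : LinearMap.ker h, y = 0 :=
    eq_zero_of_projective_of_top_le_smul_top (maximalIdeal A)
      (by rw [IsLocalRing.jacobson_eq_maximalIdeal ⊥ bot_ne_top]) htopK
  refine Module.Finite.of_surjective g ?_
  intro p
  refine ⟨fe.symm (h p), ?_⟩
  have h1 := hKzero (rK p)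
  have h2 : r p = 0 := congrArg Subtype.val h1
  simp only [r, LinearMap.sub_apply, LinearMap.id_apply, LinearMap.comp_apply,
    LinearEquiv.coe_coe, sub_eq_zero] at h2
  exact h2.symm

end LocalFinite

section Localize

variable {R : Type u} [CommRing R] {P : Type v} [AddCommGroup P] [Module R P]

theorem sup_smul_top_ne_top_of_not_finite_localized [Module.Projective R P] (x : Ideal R)
    [x.IsMaximal]
    (hx : ¬ Module.Finite (Localization.AtPrime x) (LocalizedModule x.primeCompl P))
    (N : Submodule R P) (hN : N.FG) : N ⊔ (x • ⊤ : Submodule R P) ≠ ⊤ := by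
  intro heq
  apply hx
  obtain ⟨T, rfl⟩ := hN
  let f := LocalizedModule.mkLinearMap x.primeCompl P
  let Nl : Submodule (Localization.AtPrime x) (LocalizedModule x.primeCompl P) :=
    Submodule.span (Localization.AtPrime x) (f '' (T : Set P))
  refine finite_of_projective_of_fg_sup_smul_top Nl
    (Submodule.fg_span ((Finset.finite_toSet T).image _)) ?_
  rw [eq_top_iff]
  intro q _
  induction q using LocalizedModule.induction_on with
  | _ p s =>
    have h1 : LocalizedModule.mk p s = (Localization.mk 1 s : Localization.AtPrime x) • f p := by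
      change _ = Localization.mk 1 s • LocalizedModule.mk p 1
      rw [LocalizedModule.mk_smul_mk, one_smul, mul_one]
    rw [h1]
    refine Submodule.smul_mem _ _ ?_
    have hp : p ∈ Submodule.span R (T : Set P) ⊔ (x • ⊤ : Submodule R P) := by
      rw [heq]; trivial
    obtain ⟨n, hn, y, hy, rfl⟩ := Submodule.mem_sup.1 hp
    rw [map_add]
    refine Submodule.add_mem_sup ?_ ?_
    · have h2 : Submodule.map f (Submodule.span R (T : Set P)) ≤
          Nl.restrictScalars R := by
        rw [Submodule.map_span]
        exact Submodule.span_le_restrictScalars R (Localization.AtPrime x) _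
      exact h2 (Submodule.mem_map_of_mem hn)
    · refine Submodule.smul_induction_on hy ?_ ?_
      · intro r hr p' _
        rw [map_smul, ← algebraMap_smul (Localization.AtPrime x) r (f p')]
        refine Submodule.smul_mem_smul ?_ trivial
        exact (IsLocalization.AtPrime.to_map_mem_maximal_iff (Localization.AtPrime x) x r).2 hr
      · intro a b ha hb
        rw [map_add]
        exact Submodule.add_mem _ ha hb

end Localize

end Groth.Agent.H36
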