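import Mathlib
import Groth.Agent.H36.BassProj

set_option autoImplicit false
universe u v w

namespace Groth.Agent.H36

section BigMod

variable {R : Type u} [CommRing R] {A : Type v} [AddCommGroup A] [Module R A]

/-- `A'` is not contained in a finitely generated submodule modulo `C` -/
def BigMod (A' C : Submodule R A) : Prop :=
  ∀ N : Submodule R A, N.FG → ¬ A' ≤ N ⊔ C

theorem BigMod.inf_comap (J : Ideal R) [IsNoetherianRing (R ⧸ J)] {A' C : Submodule R A}
    (h : BigMod A' C) (ψ : A →ₗ[R] R) : BigMod (A' ⊓ Submodule.comap ψ J) C := by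
  intro N hN hle
  obtain ⟨N₀, hN₀, -, hA'⟩ := exists_fg_sup_of_noetherian_quotient J A' ψ
  apply h (N ⊔ N₀) (hN.sup hN₀)
  refine hA'.trans ?_
  refine sup_le (hle.trans ?_) ?_
  · exact sup_le (le_sup_of_le_left le_sup_left) le_sup_right
  · exact le_sup_of_le_left le_sup_right

theorem BigMod.inf_iInf_comap (J : Ideal R) [IsNoetherianRing (R ⧸ J)] {A' C : Submodule R A}
    (h : BigMod A' C) (T : Finset (A →ₗ[R] R)) :
    BigMod (A' ⊓ ⨅ ν ∈ T, Submodule.comap ν J) C := by
  classical
  induction T using Finset.induction_on with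
  | empty => simpa using h
  | insert ν₀ T _ ih =>
    have : A' ⊓ ⨅ ν ∈ insert ν₀ T, Submodule.comap ν (J : Submodule R R) =
        (A' ⊓ ⨅ ν ∈ T, Submodule.comap ν (J : Submodule R R)) ⊓ Submodule.comap ν₀ J := by
      rw [Finset.iInf_insert, inf_assoc, inf_comm (Submodule.comap ν₀ (J : Submodule R R))]
    rw [this]
    exact ih.inf_comap J ν₀

end BigMod

section StepA

variable {R : Type u} [CommRing R] {P : Type v} [AddCommGroup P] [Module R P]

/-- the intrinsic form of "infinite rank at every maximal ideal" -/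
def BigProj (R : Type u) [CommRing R] (P : Type v) [AddCommGroup P] [Module R P] : Prop :=
  ∀ (x : MaximalSpectrum R), BigMod (⊤ : Submodule R P) (x.asIdeal • ⊤)

theorem isNoetherianRing_quotient_of_isMaximal (x : Ideal R) [x.IsMaximal] :
    IsNoetherianRing (R ⧸ x) := by
  let _ : Field (R ⧸ x) := Ideal.Quotient.field x
  infer_instance

theorem exists_dual_vanishing_unimodular [IsNoetherianRing (R ⧸ (⊥ : Ideal R).jacobson)]
    [Module.Projective R P] (hbigP : BigProj R P)
    (N₀ : Submodule R P) (hN₀ : N₀.FG) (W L : Submodule R P) (hL : L.FG) (hWL : W ⊔ L = ⊤) :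
    ∃ (φ : P →ₗ[R] R) (y : P), y ∈ W ∧ (∀ p ∈ N₀, φ p = 0) ∧ φ y = 1 := by
  classical
  let β : (P →ₗ[R] R) →ₗ[R] W →ₗ[R] R := LinearMap.lcomp R R W.subtype
  have hβ : ∀ (φ : P →ₗ[R] R) (w : W), β φ w = φ w := fun φ w => rfl
  have hbig : ∀ x ∈ (⊤ : TopologicalSpace.Closeds (MaximalSpectrum R)),
      PairBig β N₀.dualAnnihilator x.asIdeal := by
    intro x _ 𝒩 h𝒩 hle
    obtain ⟨T, rfl⟩ := h𝒩
    obtain ⟨s, hs⟩ := (Module.projective_def' (R := R) (P := P)).1 inferInstance
    obtain ⟨T₀, rfl⟩ := hN₀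
    let I₀ : Finset P := T₀.biUnion fun p => (s p).support
    have hWbig : BigMod W (x.asIdeal • ⊤ : Submodule R P) := by
      intro N hN hWN
      apply hbigP x (N ⊔ L) (hN.sup hL)
      refine le_trans (le_of_eq hWL.symm) ?_
      refine sup_le (hWN.trans ?_) ?_
      · exact sup_le (le_sup_of_le_left le_sup_left) le_sup_right
      · exact le_sup_of_le_left le_sup_right
    have := isNoetherianRing_quotient_of_isMaximal x.asIdeal
    have hW'big := hWbig.inf_iInf_comap x.asIdeal T
    apply hW'big (Submodule.span R (I₀ : Set P)) (Submodule.fg_span (Finset.finite_toSet _))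
    intro w hw
    have hwW : w ∈ W := hw.1
    have hν : ∀ ν ∈ T, ν w ∈ x.asIdeal := by
      intro ν hνT
      have h2 : w ∈ ⨅ ν ∈ T, Submodule.comap ν (x.asIdeal : Submodule R R) := hw.2
      rw [Submodule.mem_iInf] at h2
      have h3 := h2 ν
      rw [Submodule.mem_iInf] at h3
      exact h3 hνT
    have claim1 : ∀ φ ∈ (Submodule.span R (T₀ : Set P)).dualAnnihilator, φ w ∈ x.asIdeal := by
      intro φ hφ
      obtain ⟨ν', hν', ψ, hψ, rfl⟩ := Submodule.mem_sup.1 (hle hφ)
      rw [LinearMap.add_apply]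
      refine x.asIdeal.add_mem ?_ ?_
      · refine Submodule.span_induction ?_ ?_ ?_ ?_ hν'
        · intro ν hνT
          exact hν ν hνT
        · simp
        · intro a b _ _ ha hb
          rw [LinearMap.add_apply]
          exact x.asIdeal.add_mem ha hb
        · intro c a _ ha
          rw [LinearMap.smul_apply]
          exact x.asIdeal.mul_mem_left c ha
      · exact hψ ⟨w, hwW⟩
    have h1 : w = Finsupp.linearCombination R id (s w) := by
      have := LinearMap.congr_fun hs w
      simpa using this.symm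
    rw [h1, Finsupp.linearCombination_apply, Finsupp.sum]
    refine Submodule.sum_mem _ fun t _ => ?_
    by_cases ht : t ∈ I₀
    · exact Submodule.mem_sup_left (Submodule.smul_mem _ _ (Submodule.subset_span ht))
    · refine Submodule.mem_sup_right (Submodule.smul_mem_smul ?_ trivial)
      refine claim1 ((Finsupp.lapply t) ∘ₗ s) ?_
      rw [Submodule.mem_dualAnnihilator]
      intro p hp
      refine Submodule.span_induction ?_ ?_ ?_ ?_ hp
      · intro p hpT
        change (s p) t = 0
        by_contra hne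
        exact ht (Finset.mem_biUnion.2 ⟨p, hpT, Finsupp.mem_support_iff.2 hne⟩)
      · simp
      · intro a b _ _ ha hb
        rw [map_add, ha, hb, add_zero]
      · intro c a _ ha
        rw [map_smul, ha, smul_zero]
  obtain ⟨φ, hφ, hgood⟩ := exists_add_not_mem_pairOrth β ⊤ N₀.dualAnnihilator 0 hbig
  let I : Ideal R := Submodule.map φ W
  have hI : I = ⊤ := by
    by_contra hne
    obtain ⟨x, hx, hIx⟩ := Ideal.exists_le_maximal I hne
    apply hgood ⟨x, hx⟩ trivial
    intro w
    rw [zero_add, hβ]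
    exact hIx (Submodule.mem_map_of_mem w.2)
  have h1 : (1 : R) ∈ I := by rw [hI]; trivial
  obtain ⟨y, hy, hy1⟩ := h1
  exact ⟨φ, y, hy, (Submodule.mem_dualAnnihilator φ).1 hφ, hy1⟩

end StepA

section StepB

variable {R : Type u} [CommRing R] {P : Type v} [AddCommGroup P] [Module R P]

theorem exists_dual_pair_family [IsNoetherianRing (R ⧸ (⊥ : Ideal R).jacobson)]
    [Module.Projective R P] (hbigP : BigProj R P) (s₀ : P) (n : ℕ) :
    ∃ (y : Fin n → P) (φ : Fin n → (P →ₗ[R] R)),
      (∀ i j, φ i (y j) = if i = j then 1 else 0) ∧ ∀ i, φ i s₀ = 0 := by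
  classical
  induction n with
  | zero => exact ⟨fun i => i.elim0, fun i => i.elim0, fun i => i.elim0, fun i => i.elim0⟩
  | succ n ih =>
    obtain ⟨y, φ, hδ, hs₀⟩ := ih
    let N₀ : Submodule R P := Submodule.span R {s₀} ⊔ Submodule.span R (Set.range y)
    have hN₀ : N₀.FG := (Submodule.fg_span_singleton s₀).sup (Submodule.fg_span (Set.finite_range y))
    let W : Submodule R P := ⨅ i, LinearMap.ker (φ i)
    let L : Submodule R P := Submodule.span R (Set.range y)
    have hL : L.FG := Submodule.fg_span (Set.finite_range y)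
    have hWL : W ⊔ L = ⊤ := by
      rw [eq_top_iff]
      intro p _
      have hp : p = (p - ∑ j, φ j p • y j) + ∑ j, φ j p • y j := by abel
      rw [hp]
      refine Submodule.add_mem_sup ?_ ?_
      · rw [Submodule.mem_iInf]
        intro i
        rw [LinearMap.mem_ker, map_sub, map_sum]
        simp only [map_smul, smul_eq_mul, hδ, mul_ite, mul_one, mul_zero]
        rw [Finset.sum_ite_eq Finset.univ i]
        simp
      · exact Submodule.sum_mem _ fun j _ =>
          Submodule.smul_mem _ _ (Submodule.subset_span ⟨j, rfl⟩)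
    obtain ⟨φ', y', hy'W, hφ'N₀, hφ'y'⟩ :=
      exists_dual_vanishing_unimodular hbigP N₀ hN₀ W L hL hWL
    have hy'ker : ∀ i, φ i y' = 0 := by
      intro i
      have := (Submodule.mem_iInf _).1 hy'W i
      exact this
    have hφ'y : ∀ j, φ' (y j) = 0 := fun j =>
      hφ'N₀ _ (Submodule.mem_sup_right (Submodule.subset_span ⟨j, rfl⟩))
    have hφ's₀ : φ' s₀ = 0 :=
      hφ'N₀ _ (Submodule.mem_sup_left (Submodule.subset_span rfl))
    refine ⟨(Fin.snoc y y' : Fin (n + 1) → P),
      (Fin.snoc φ φ' : Fin (n + 1) → (P →ₗ[R] R)), ?_, ?_⟩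
    · intro i j
      refine Fin.lastCases ?_ (fun i => ?_) i <;> refine Fin.lastCases ?_ (fun j => ?_) j
      · simp [hφ'y']
      · simp only [Fin.snoc_last, Fin.snoc_castSucc]
        rw [hφ'y j, if_neg]
        exact (Fin.castSucc_lt_last j).ne'
      · simp only [Fin.snoc_last, Fin.snoc_castSucc]
        rw [hy'ker i, if_neg]
        exact (Fin.castSucc_lt_last i).ne
      · simp only [Fin.snoc_castSucc, Fin.castSucc_inj]
        exact hδ i j
    · intro i
      refine Fin.lastCases ?_ (fun i => ?_) i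
      · simpa using hφ's₀
      · simpa using hs₀ i

end StepB

section StepC

variable {R : Type u} [CommRing R] {P : Type v} [AddCommGroup P] [Module R P]

theorem exists_split_free_mem [IsNoetherianRing (R ⧸ (⊥ : Ideal R).jacobson)]
    [Module.Projective R P] (hbigP : BigProj R P) (s₀ : P) :
    ∃ (n : ℕ) (κ : (Fin n → R) →ₗ[R] P) (lam : P →ₗ[R] (Fin n → R)),
      lam ∘ₗ κ = LinearMap.id ∧ s₀ ∈ LinearMap.range κ := by
  classical
  obtain ⟨s, hs⟩ := (Module.projective_def' (R := R) (P := P)).1 inferInstance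
  let I₀ : Finset P := (s s₀).support
  let n := I₀.card
  let t : Fin n → P := fun j => ((I₀.equivFin.symm j : I₀) : P)
  obtain ⟨y, φ, hδ, hφs₀⟩ := exists_dual_pair_family hbigP s₀ n
  let Y : (Fin n → R) →ₗ[R] P := Fintype.linearCombination R y
  let Φ : P →ₗ[R] (Fin n → R) := LinearMap.pi φ
  let Tm : (Fin n → R) →ₗ[R] P := Fintype.linearCombination R t
  let E : P →ₗ[R] (Fin n → R) := LinearMap.pi (fun i => Finsupp.lapply (t i) ∘ₗ s)
  have hΦY : ∀ a, Φ (Y a) = a := by
    intro a
    funext i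
    simp only [Φ, Y, LinearMap.pi_apply, Fintype.linearCombination_apply, map_sum, map_smul,
      smul_eq_mul, hδ, mul_ite, mul_one, mul_zero]
    rw [Finset.sum_ite_eq Finset.univ i]
    simp
  have hΦs₀ : Φ s₀ = 0 := by
    funext i
    exact hφs₀ i
  have hTE : Tm (E s₀) = s₀ := by
    have h1 : s₀ = Finsupp.linearCombination R id (s s₀) := by
      have := LinearMap.congr_fun hs s₀
      simpa using this.symm
    conv_rhs => rw [h1, Finsupp.linearCombination_apply, Finsupp.sum]
    simp only [Tm, E, Fintype.linearCombination_apply, LinearMap.pi_apply, LinearMap.comp_apply,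
      Finsupp.lapply_apply, id]
    rw [← Finset.sum_coe_sort I₀ (fun t => (s s₀) t • t)]
    exact (Equiv.sum_comp I₀.equivFin.symm (fun t : I₀ => (s s₀) (t : P) • (t : P)))
  let ρ : P →ₗ[R] P := LinearMap.id - Y ∘ₗ Φ
  have hρ : ∀ p, ρ p = p - Y (Φ p) := fun p => rfl
  have hΦρ : ∀ p, Φ (ρ p) = 0 := by
    intro p
    rw [hρ, map_sub, hΦY, sub_self]
  have hρY : ∀ a, ρ (Y a) = 0 := by
    intro a
    rw [hρ, hΦY, sub_self]
  let κ : (Fin n → R) →ₗ[R] P := Y + (LinearMap.id - Y ∘ₗ E) ∘ₗ ρ ∘ₗ Tm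
  let lam : P →ₗ[R] (Fin n → R) := Φ + E ∘ₗ ρ
  have hκ : ∀ a, κ a = Y a + (ρ (Tm a) - Y (E (ρ (Tm a)))) := fun a => rfl
  have hlam : ∀ p, lam p = Φ p + E (ρ p) := fun p => rfl
  refine ⟨n, κ, lam, ?_, ?_⟩
  · refine LinearMap.ext fun a => ?_
    rw [LinearMap.comp_apply, LinearMap.id_apply, hlam, hκ]
    set z := ρ (Tm a) with hz
    have hΦz : Φ z = 0 := hΦρ _
    have hρz : ρ z = z := by rw [hρ, hΦz, map_zero, sub_zero]
    rw [map_add, map_sub, map_add, map_sub, hΦY, hΦY, hΦz, hρY, hρY, hρz]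
    rw [zero_add, sub_zero, zero_sub, add_assoc, neg_add_cancel, add_zero]
  · refine ⟨E s₀, ?_⟩
    rw [hκ, hTE]
    have : ρ s₀ = s₀ := by rw [hρ, hΦs₀, map_zero, sub_zero]
    rw [this]
    abel

end StepC

section Summand

variable {R : Type u} [CommRing R] {P : Type v} [AddCommGroup P] [Module R P]

theorem bigProj_of_not_finite_localized [Module.Projective R P]
    (hP : ∀ (m : Ideal R) [m.IsMaximal],
      ¬ Module.Finite (Localization.AtPrime m) (LocalizedModule m.primeCompl P)) :
    BigProj R P := by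
  intro x N hN hle
  exact sup_smul_top_ne_top_of_not_finite_localized x.asIdeal (hP x.asIdeal) N hN
    (eq_top_iff.2 hle)

theorem isCompl_range_ker_of_comp_eq_id {n : ℕ} (κ : (Fin n → R) →ₗ[R] P)
    (lam : P →ₗ[R] (Fin n → R)) (h : lam ∘ₗ κ = LinearMap.id) :
    IsCompl (LinearMap.range κ) (LinearMap.ker lam) := by
  have h' : ∀ a, lam (κ a) = a := fun a => LinearMap.congr_fun h a
  refine ⟨?_, ?_⟩
  · rw [Submodule.disjoint_def]
    rintro _ ⟨a, rfl⟩ ha
    rw [LinearMap.mem_ker, h'] at ha
    rw [ha, map_zero]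
  · rw [codisjoint_iff, eq_top_iff]
    intro p _
    have : p = κ (lam p) + (p - κ (lam p)) := by abel
    rw [this]
    refine Submodule.add_mem_sup ⟨_, rfl⟩ ?_
    rw [LinearMap.mem_ker, map_sub, h', sub_self]

theorem free_range_of_comp_eq_id {n : ℕ} (κ : (Fin n → R) →ₗ[R] P)
    (lam : P →ₗ[R] (Fin n → R)) (h : lam ∘ₗ κ = LinearMap.id) :
    Module.Free R (LinearMap.range κ) := by
  have hinj : Function.Injective κ := by
    intro a b hab
    have := congrArg lam hab
    rwa [← LinearMap.comp_apply, ← LinearMap.comp_apply, h] at this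
  exact Module.Free.of_equiv (LinearEquiv.ofInjective κ hinj)

end Summand

end Groth.Agent.H36
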