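import Mathlib
import Groth.Agent.H36.BassDual

set_option autoImplicit false
universe u v w

namespace Groth.Agent.H36

section Kaplansky

variable {R : Type u} [CommRing R] {P : Type v} [AddCommGroup P] [Module R P]

theorem BigProj.of_isCompl (hP : BigProj R P) (S C : Submodule R P) (hS : S.FG)
    (hSC : IsCompl S C) : BigProj R C := by
  intro x N hN hle
  apply hP x (Submodule.map C.subtype N ⊔ S) ((hN.map _).sup hS)
  refine le_trans (le_of_eq hSC.sup_eq_top.symm) ?_
  refine sup_le (le_sup_of_le_left le_sup_right) ?_
  intro c hc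
  have h1 : (⟨c, hc⟩ : C) ∈ N ⊔ (x.asIdeal • ⊤ : Submodule R C) := hle trivial
  obtain ⟨n, hn, z, hz, hnz⟩ := Submodule.mem_sup.1 h1
  have h2 : c = (n : P) + (z : P) := by
    have := congrArg Subtype.val hnz
    simpa using this.symm
  rw [h2]
  refine Submodule.add_mem_sup (Submodule.mem_sup_left (Submodule.mem_map_of_mem hn)) ?_
  have h3 : (z : P) ∈ Submodule.map C.subtype (x.asIdeal • ⊤ : Submodule R C) :=
    Submodule.mem_map_of_mem hz
  rw [Submodule.map_smul''] at h3
  exact Submodule.smul_mono le_rfl le_top h3

theorem projective_of_isCompl [Module.Projective R P] (S C : Submodule R P)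
    (hSC : IsCompl S C) : Module.Projective R C :=
  Module.Projective.of_split C.subtype (Submodule.projectionOnto (p := C) (q := S) hSC.symm) (by
    ext c
    rw [LinearMap.comp_apply, Submodule.subtype_apply, Submodule.projectionOnto_apply_left,
      LinearMap.id_apply])

/-- a stage of the Kaplansky construction -/
structure KapStage (R : Type u) [CommRing R] (P : Type v) [AddCommGroup P] [Module R P] where
  T : Set P
  C : Submodule R P
  fin : T.Finite
  li : LinearIndepOn R id T
  compl : IsCompl (Submodule.span R T) C

theorem KapStage.exists_next [IsNoetherianRing (R ⧸ (⊥ : Ideal R).jacobson)]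
    [Module.Projective R P] (hP : BigProj R P) (σ : KapStage R P) (x : P) :
    ∃ σ' : KapStage R P, σ.T ⊆ σ'.T ∧ x ∈ Submodule.span R σ'.T := by
  classical
  have hCbig : BigProj R σ.C := hP.of_isCompl _ _ (Submodule.fg_span σ.fin) σ.compl
  have hCproj : Module.Projective R σ.C := projective_of_isCompl _ _ σ.compl
  have hx : x ∈ Submodule.span R σ.T ⊔ σ.C := by
    rw [σ.compl.sup_eq_top]; trivial
  obtain ⟨u, hu, v, hv, rfl⟩ := Submodule.mem_sup.1 hx
  obtain ⟨n, κ, lam, hκ, hvκ⟩ := exists_split_free_mem hCbig (⟨v, hv⟩ : σ.C)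
  have hκ' : ∀ a, lam (κ a) = a := fun a => LinearMap.congr_fun hκ a
  have hκinj : Function.Injective κ := by
    intro a b hab
    have := congrArg lam hab
    rwa [hκ', hκ'] at this
  let κ' : (Fin n → R) →ₗ[R] P := σ.C.subtype ∘ₗ κ
  have hκ'inj : Function.Injective κ' := σ.C.injective_subtype.comp hκinj
  let bfam : Fin n → P := fun i => κ' (Pi.single i 1)
  let B : Set P := Set.range bfam
  have hBspan : Submodule.span R B = LinearMap.range κ' := by
    have h1 : (⊤ : Submodule R (Fin n → R)) =
        Submodule.span R (Set.range fun i : Fin n => (Pi.single i 1 : Fin n → R)) := by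
      have := (Pi.basisFun R (Fin n)).span_eq
      rw [← this]
      congr 1
      ext a
      simp [Pi.basisFun_apply]
    rw [← Submodule.map_top κ', h1, Submodule.map_span, ← Set.range_comp]
    rfl
  have hBli : LinearIndepOn R id B := by
    have h1 : LinearIndependent R bfam := by
      have h0 : LinearIndependent R (fun i : Fin n => (Pi.single i 1 : Fin n → R)) := by
        have := (Pi.basisFun R (Fin n)).linearIndependent
        convert this using 1
        ext i
        simp [Pi.basisFun_apply]
      exact h0.map' κ' (LinearMap.ker_eq_bot.2 hκ'inj)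
    exact h1.linearIndepOn_id
  have hrange_le : LinearMap.range κ' ≤ σ.C := by
    rintro _ ⟨a, rfl⟩
    exact (κ a).2
  -- the two pieces of C
  have hK : LinearMap.range κ' = Submodule.map σ.C.subtype (LinearMap.range κ) := by
    rw [LinearMap.range_comp]
  have hcompl2 : IsCompl (LinearMap.range κ) (LinearMap.ker lam) :=
    isCompl_range_ker_of_comp_eq_id κ lam hκ
  let C' : Submodule R P := Submodule.map σ.C.subtype (LinearMap.ker lam)
  have hsup : LinearMap.range κ' ⊔ C' = σ.C := by
    rw [hK, ← Submodule.map_sup, hcompl2.sup_eq_top, Submodule.map_subtype_top]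
  have hdisj : Disjoint (LinearMap.range κ') C' := by
    rw [hK, disjoint_iff, ← Submodule.map_inf _ σ.C.injective_subtype, hcompl2.inf_eq_bot,
      Submodule.map_bot]
  have hspan_union : Submodule.span R (σ.T ∪ B) = Submodule.span R σ.T ⊔ LinearMap.range κ' := by
    rw [Submodule.span_union, hBspan]
  refine ⟨⟨σ.T ∪ B, C', σ.fin.union (Set.finite_range _), ?_, ?_⟩, Set.subset_union_left, ?_⟩
  · refine σ.li.id_union hBli ?_
    rw [hBspan]
    exact σ.compl.disjoint.mono_right hrange_le
  · rw [hspan_union]
    refine Disjoint.isCompl_sup_left_of_isCompl_sup_right hdisj ?_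
    rw [hsup]
    exact σ.compl
  · rw [hspan_union]
    refine Submodule.add_mem_sup hu ?_
    obtain ⟨a, ha⟩ := hvκ
    exact ⟨a, by rw [LinearMap.comp_apply, ha]; rfl⟩

theorem free_of_countably_generated_bigProj [IsNoetherianRing (R ⧸ (⊥ : Ideal R).jacobson)]
    [Module.Projective R P] (hP : BigProj R P) (x : ℕ → P)
    (hx : Submodule.span R (Set.range x) = ⊤) : Module.Free R P := by
  classical
  choose next hnextT hnextx using
    fun (σ : KapStage R P) (y : P) => KapStage.exists_next hP σ y
  let σ₀ : KapStage R P :=
    ⟨∅, ⊤, Set.finite_empty, linearIndepOn_empty R id, by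
      rw [Submodule.span_empty]
      exact isCompl_bot_top⟩
  let seq : ℕ → KapStage R P := fun k => Nat.rec σ₀ (fun k σ => next σ (x k)) k
  have hseq_succ : ∀ k, seq (k + 1) = next (seq k) (x k) := fun k => rfl
  have hmono : Monotone (fun k => (seq k).T) :=
    monotone_nat_of_le_succ (fun k => by
      change (seq k).T ⊆ (seq (k + 1)).T
      rw [hseq_succ]
      exact hnextT _ _)
  let T : Set P := ⋃ k, (seq k).T
  have hli : LinearIndepOn R id T :=
    linearIndepOn_iUnion_of_directed hmono.directed_le (fun k => (seq k).li)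
  have hspan : ⊤ ≤ Submodule.span R T := by
    rw [← hx, Submodule.span_le]
    rintro _ ⟨k, rfl⟩
    have h1 := hnextx (seq k) (x k)
    exact Submodule.span_mono (Set.subset_iUnion (fun k => (seq k).T) (k + 1)) h1
  exact Module.Free.of_basis (Module.Basis.mk hli (by
    have : Set.range (fun x : T => id (x : P)) = T := by
      simp
    rw [this]
    exact hspan))

end Kaplansky

end Groth.Agent.H36
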