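import Mathlib

set_option autoImplicit false
universe u v w

namespace Groth.Agent.H36

section LemmaI

theorem iSupIndep_of_disjoint_biSup_lt {α : Type*} [CompleteLattice α] [IsModularLattice α]
    [IsCompactlyGenerated α] {ι : Type*} [LinearOrder ι] (f : ι → α)
    (h : ∀ i, Disjoint (f i) (⨆ j, ⨆ (_ : j < i), f j)) : iSupIndep f := by
  classical
  rw [iSupIndep_iff_supIndep]
  intro s
  induction s using Finset.induction_on_max with
  | empty => exact Finset.supIndep_empty f
  | insert a s hlt ih =>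
    refine ih.insert ((h a).mono_right ?_)
    refine Finset.sup_le fun j hj => ?_
    exact le_iSup₂_of_le j (hlt j hj) le_rfl

end LemmaI

section KapSet

variable {R : Type u} [CommRing R] {M : Type v} [AddCommGroup M] [Module R M] {ι : Type w}

/-- the sum of the members of a family over a set of indices -/
def setSup (N : ι → Submodule R M) (J : Set ι) : Submodule R M := ⨆ i ∈ J, N i

theorem le_setSup (N : ι → Submodule R M) {J : Set ι} {i : ι} (hi : i ∈ J) : N i ≤ setSup N J :=
  le_iSup₂_of_le i hi le_rfl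

theorem setSup_mono (N : ι → Submodule R M) {J J' : Set ι} (h : J ⊆ J') :
    setSup N J ≤ setSup N J' :=
  biSup_mono h

theorem setSup_iUnion (N : ι → Submodule R M) {κ : Sort*} (J : κ → Set ι) :
    setSup N (⋃ k, J k) = ⨆ k, setSup N (J k) := by
  unfold setSup
  exact iSup_iUnion J N

theorem setSup_union (N : ι → Submodule R M) (J J' : Set ι) :
    setSup N (J ∪ J') = setSup N J ⊔ setSup N J' := by
  unfold setSup
  exact iSup_union

theorem setSup_univ (N : ι → Submodule R M) : setSup N Set.univ = ⨆ i, N i := by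
  unfold setSup
  simp

theorem isCompl_setSup_compl (N : ι → Submodule R M) (hN : iSupIndep N) (hN' : ⨆ i, N i = ⊤)
    (J : Set ι) : IsCompl (setSup N Jᶜ) (setSup N J) := by
  refine ⟨hN.disjoint_biSup_biSup disjoint_compl_left, ?_⟩
  rw [codisjoint_iff, ← setSup_union, Set.compl_union_self, setSup_univ, hN']

/-- a set of indices is stable under the endomorphism `π` -/
def IsStableSet (N : ι → Submodule R M) (π : M →ₗ[R] M) (J : Set ι) : Prop :=
  Submodule.map π (setSup N J) ≤ setSup N J

theorem IsStableSet.iUnion (N : ι → Submodule R M) (π : M →ₗ[R] M) {κ : Sort*} (J : κ → Set ι)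
    (h : ∀ k, IsStableSet N π (J k)) : IsStableSet N π (⋃ k, J k) := by
  unfold IsStableSet
  rw [setSup_iUnion, Submodule.map_iSup]
  exact iSup_mono h

theorem isStableSet_of_forall (N : ι → Submodule R M) (π : M →ₗ[R] M) (J : Set ι)
    (h : ∀ j ∈ J, Submodule.map π (N j) ≤ setSup N J) : IsStableSet N π J := by
  unfold IsStableSet setSup
  rw [Submodule.map_iSup]
  refine iSup_le fun j => ?_
  rw [Submodule.map_iSup]
  exact iSup_le fun hj => h j hj

end KapSet

section Closure

variable {R : Type u} [CommRing R] {M : Type v} [AddCommGroup M] [Module R M] {ι : Type w}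

theorem exists_countable_stable_closure (N : ι → Submodule R M) (hN' : ⨆ i, N i = ⊤)
    (π : M →ₗ[R] M) (hc : ∀ i, ∃ g : ℕ → M, Submodule.span R (Set.range g) = N i) :
    ∃ cl : ι → Set ι, (∀ i, i ∈ cl i) ∧ (∀ i, (cl i).Countable) ∧
      ∀ i, IsStableSet N π (cl i) := by
  classical
  choose gen hgen using hc
  have hsupp : ∀ x : M, ∃ s : Finset ι, x ∈ setSup N (s : Set ι) := by
    intro x
    have hx : x ∈ ⨆ i, N i := by rw [hN']; trivial
    obtain ⟨s, hs⟩ := Submodule.exists_finset_of_mem_iSup N hx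
    exact ⟨s, hs⟩
  choose supp hsupp using hsupp
  let succs : ι → Set ι := fun j => ⋃ n : ℕ, (supp (π (gen j n)) : Set ι)
  have hsuccs_count : ∀ j, (succs j).Countable := fun j =>
    Set.countable_iUnion fun n => (Finset.countable_toSet _)
  have hsuccs : ∀ j, Submodule.map π (N j) ≤ setSup N (succs j) := by
    intro j
    rw [← hgen j, Submodule.map_span, Submodule.span_le]
    rintro _ ⟨_, ⟨n, rfl⟩, rfl⟩
    exact setSup_mono N (Set.subset_iUnion (fun n => (supp (π (gen j n)) : Set ι)) n)
      (hsupp (π (gen j n)))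
  let reach : ι → ℕ → Set ι := fun i n =>
    Nat.rec {i} (fun _ D => D ∪ ⋃ j ∈ D, succs j) n
  have hreach_succ : ∀ i n, reach i (n + 1) = reach i n ∪ ⋃ j ∈ reach i n, succs j :=
    fun i n => rfl
  refine ⟨fun i => ⋃ n, reach i n, ?_, ?_, ?_⟩
  · intro i
    exact Set.mem_iUnion.2 ⟨0, rfl⟩
  · intro i
    refine Set.countable_iUnion fun n => ?_
    induction n with
    | zero => exact Set.countable_singleton i
    | succ n ih =>
      rw [hreach_succ]
      exact ih.union (ih.biUnion fun j _ => hsuccs_count j)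
  · intro i
    refine isStableSet_of_forall N π _ fun j hj => ?_
    obtain ⟨n, hn⟩ := Set.mem_iUnion.1 hj
    refine (hsuccs j).trans (setSup_mono N ?_)
    intro k hk
    refine Set.mem_iUnion.2 ⟨n + 1, ?_⟩
    rw [hreach_succ]
    exact Or.inr (Set.mem_biUnion hn hk)

end Closure

section KapMain

variable {R : Type u} [CommRing R] {M : Type v} [AddCommGroup M] [Module R M] {ι : Type w}
  {P' : Type*} [AddCommGroup P'] [Module R P']

theorem exists_countable_decomposition (N : ι → Submodule R M) (hN : iSupIndep N)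
    (hN' : ⨆ i, N i = ⊤) (hc : ∀ i, ∃ g : ℕ → M, Submodule.span R (Set.range g) = N i)
    (f : M →ₗ[R] P') (g : P' →ₗ[R] M) (hfg : ∀ p, f (g p) = p) :
    ∃ L : ι → Submodule R P', iSupIndep L ∧ ⨆ i, L i = ⊤ ∧
      ∀ i, ∃ h : ℕ → P', Submodule.span R (Set.range h) = L i := by
  classical
  let π : M →ₗ[R] M := g ∘ₗ f
  obtain ⟨cl, hcl_self, hcl_count, hcl_stable⟩ := exists_countable_stable_closure N hN' π hc
  obtain ⟨_, _⟩ := exists_wellFoundedLT (α := ι)
  let J : ι → Set ι := fun i => ⋃ j, ⋃ (_ : j < i), cl j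
  have hJ_stable : ∀ i, IsStableSet N π (J i) := fun i =>
    IsStableSet.iUnion N π _ fun j => IsStableSet.iUnion N π _ fun _ => hcl_stable j
  -- the projections killing `setSup N (J i)`
  have hτ : ∀ i, ∃ τ : M →ₗ[R] M, (∀ x ∈ setSup N (J i), τ x = 0) ∧
      ∀ x, x - τ x ∈ setSup N (J i) := by
    intro i
    have hcompl := isCompl_setSup_compl N hN hN' (J i)
    refine ⟨(setSup N (J i)ᶜ).projection (setSup N (J i)) hcompl, ?_, ?_⟩
    · intro x hx
      exact Submodule.projection_apply_of_mem_right hcompl hx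
    · intro x
      rw [← Submodule.projection_apply_eq_zero_iff hcompl, map_sub,
        Submodule.projection_apply_of_mem_left hcompl (Submodule.projection_apply_mem hcompl x),
        sub_self]
  choose τ hτ0 hτ1 using hτ
  let E : ι → (P' →ₗ[R] P') := fun i => f ∘ₗ τ i ∘ₗ g
  let PJ : ι → Submodule R P' := fun i => Submodule.map f (setSup N (J i))
  let Pc : ι → Submodule R P' := fun i => Submodule.map f (setSup N (cl i))
  let L : ι → Submodule R P' := fun i => Submodule.map (E i) (Pc i)
  have hE_apply : ∀ i p, E i p = f (τ i (g p)) := fun i p => rfl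
  have hE1 : ∀ i p, p - E i p ∈ PJ i := by
    intro i p
    refine ⟨g p - τ i (g p), hτ1 i (g p), ?_⟩
    rw [map_sub, hfg, hE_apply]
  have hE2 : ∀ i, ∀ p ∈ PJ i, E i p = 0 := by
    rintro i _ ⟨a, ha, rfl⟩
    rw [hE_apply]
    have h1 : g (f a) ∈ setSup N (J i) := hJ_stable i ⟨a, ha, rfl⟩
    rw [hτ0 i _ h1, map_zero]
  have hE3 : ∀ i p, E i (E i p) = E i p := by
    intro i p
    have h1 := hE2 i _ (hE1 i p)
    rw [map_sub, sub_eq_zero] at h1
    exact h1.symm
  have ha : ∀ i, Disjoint (PJ i) (L i) := by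
    intro i
    rw [Submodule.disjoint_def]
    rintro y hy ⟨p, -, rfl⟩
    have h1 := hE2 i _ hy
    rw [hE3] at h1
    exact h1
  have hb1 : ∀ i, L i ≤ PJ i ⊔ Pc i := by
    rintro i _ ⟨p, hp, rfl⟩
    have h1 : E i p = p - (p - E i p) := by abel
    rw [h1]
    exact Submodule.sub_mem _ (Submodule.mem_sup_right hp) (Submodule.mem_sup_left (hE1 i p))
  have hb2 : ∀ i, Pc i ≤ PJ i ⊔ L i := by
    intro i p hp
    have h1 : p = (p - E i p) + E i p := by abel
    rw [h1]
    exact Submodule.add_mem_sup (hE1 i p) ⟨p, hp, rfl⟩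
  have hPJ_eq : ∀ i, PJ i = ⨆ j, ⨆ (_ : j < i), Pc j := by
    intro i
    change Submodule.map f (setSup N (⋃ j, ⋃ (_ : j < i), cl j)) = _
    rw [setSup_iUnion, Submodule.map_iSup]
    refine iSup_congr fun j => ?_
    rw [setSup_iUnion, Submodule.map_iSup]
  have hPJ_mono : ∀ i j, j < i → PJ j ≤ PJ i := by
    intro i j hji
    refine Submodule.map_mono (setSup_mono N ?_)
    intro k hk
    obtain ⟨l, hl⟩ := Set.mem_iUnion.1 hk
    obtain ⟨hlj, hkl⟩ := Set.mem_iUnion.1 hl
    exact Set.mem_iUnion.2 ⟨l, Set.mem_iUnion.2 ⟨hlj.trans hji, hkl⟩⟩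
  have hPc_le : ∀ i j, j < i → Pc j ≤ PJ i := by
    intro i j hji
    rw [hPJ_eq]
    exact le_iSup₂_of_le j hji le_rfl
  have hcPJ : ∀ i, PJ i = ⨆ j, ⨆ (_ : j < i), L j := by
    intro i
    induction i using WellFoundedLT.induction with
    | _ i ih =>
    apply le_antisymm
    · rw [hPJ_eq]
      refine iSup₂_le fun j hji => ?_
      refine (hb2 j).trans (sup_le ?_ (le_iSup₂_of_le j hji le_rfl))
      rw [ih j hji]
      exact iSup₂_le fun k hkj => le_iSup₂_of_le k (hkj.trans hji) le_rfl
    · refine iSup₂_le fun j hji => ?_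
      exact (hb1 j).trans (sup_le (hPJ_mono i j hji) (hPc_le i j hji))
  refine ⟨L, ?_, ?_, ?_⟩
  · refine iSupIndep_of_disjoint_biSup_lt L fun i => ?_
    rw [← hcPJ]
    exact (ha i).symm
  · rw [eq_top_iff]
    have hsurj : Function.Surjective f := fun p => ⟨g p, hfg p⟩
    have h1 : (⊤ : Submodule R P') = Submodule.map f (⨆ i, N i) := by
      rw [hN', Submodule.map_top, LinearMap.range_eq_top.2 hsurj]
    rw [h1, Submodule.map_iSup]
    refine iSup_le fun i => ?_
    have h2 : Submodule.map f (N i) ≤ Pc i := Submodule.map_mono (le_setSup N (hcl_self i))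
    refine h2.trans ((hb2 i).trans (sup_le ?_ (le_iSup L i)))
    rw [hcPJ]
    exact iSup₂_le fun j _ => le_iSup L j
  · intro i
    choose gen hgen using hc
    -- a countable generating set of `setSup N (cl i)`
    let S : Set M := ⋃ j ∈ cl i, Set.range (gen j)
    have hS : S.Countable := (hcl_count i).biUnion fun j _ => Set.countable_range _
    have hSspan : Submodule.span R S = setSup N (cl i) := by
      unfold setSup
      rw [Submodule.span_iUnion₂]
      exact iSup_congr fun j => iSup_congr fun _ => hgen j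
    have hLspan : L i = Submodule.span R ((E i ∘ₗ f) '' S) := by
      change Submodule.map (E i) (Submodule.map f (setSup N (cl i))) = _
      rw [← hSspan, ← Submodule.map_comp, Submodule.map_span]
    have hcount : ((E i ∘ₗ f) '' S).Countable := hS.image _
    obtain ⟨h, hh⟩ := (hcount.insert 0).exists_eq_range (Set.insert_nonempty 0 _)
    refine ⟨h, ?_⟩
    rw [← hh, hLspan]
    apply le_antisymm
    · rw [Submodule.span_le]
      rintro x (rfl | hx)
      · exact Submodule.zero_mem _
      · exact Submodule.subset_span hx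
    · exact Submodule.span_mono (Set.subset_insert 0 _)

end KapMain

end Groth.Agent.H36
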