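import Mathlib
import Groth.Agent.H36.KapDecomp
import Groth.Agent.H36.BassKap

set_option autoImplicit false
universe u v w

namespace Groth.Agent.H36

section KapLocal

variable {R : Type u} [CommRing R]

/-- a countably generated projective module over a local ring is free -/
theorem free_of_projective_of_nat_span_of_isLocalRing [IsLocalRing R] {Q : Type v} [AddCommGroup Q]
    [Module R Q] [Module.Projective R Q] (h : ℕ → Q) (hh : Submodule.span R (Set.range h) = ⊤) :
    Module.Free R Q := by
  by_cases hfin : Module.Finite R Q
  · exact Module.free_of_flat_of_isLocalRing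
  · have hnoeth : IsNoetherianRing (R ⧸ (⊥ : Ideal R).jacobson) := by
      rw [IsLocalRing.jacobson_eq_maximalIdeal ⊥ bot_ne_top]
      exact isNoetherianRing_quotient_of_isMaximal _
    have hbig : BigProj R Q := by
      intro x N hN hle
      apply hfin
      have hx : x.asIdeal = IsLocalRing.maximalIdeal R := IsLocalRing.eq_maximalIdeal x.isMaximal
      rw [hx] at hle
      exact finite_of_projective_of_fg_sup_smul_top N hN (eq_top_iff.2 hle)
    exact free_of_countably_generated_bigProj hbig h hh

theorem free_of_projective_of_isLocalRing [IsLocalRing R] (P : Type u) [AddCommGroup P]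
    [Module R P] [Module.Projective R P] : Module.Free R P := by
  classical
  obtain ⟨s, hs⟩ := (Module.projective_def' (R := R) (P := P)).1 inferInstance
  have hs' : ∀ p, Finsupp.linearCombination R id (s p) = p := fun p => LinearMap.congr_fun hs p
  let b := Finsupp.basisSingleOne (R := R) (ι := P)
  let N : P → Submodule R (P →₀ R) := fun p => Submodule.span R {b p}
  have hN : iSupIndep N := b.linearIndependent.iSupIndep_span_singleton
  have hN' : ⨆ p, N p = ⊤ := by
    rw [← Submodule.span_range_eq_iSup]
    exact b.span_eq
  obtain ⟨L, hL1, hL2, hL3⟩ := exists_countable_decomposition N hN hN'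
    (fun p => ⟨fun _ => b p, by rw [Set.range_const]⟩)
    (Finsupp.linearCombination R id) s hs'
  have hint : DirectSum.IsInternal L :=
    (DirectSum.isInternal_submodule_iff_iSupIndep_and_iSup_eq_top L).2 ⟨hL1, hL2⟩
  have hfree : ∀ i, Module.Free R (L i) := by
    intro i
    have hcompl : IsCompl (⨆ (j) (_ : j ≠ i), L j) (L i) := by
      refine ⟨(hL1 i).symm, ?_⟩
      rw [codisjoint_iff, sup_comm, ← iSup_split_single L i, hL2]
    have hproj : Module.Projective R (L i) := projective_of_isCompl _ _ hcompl
    obtain ⟨h, hh⟩ := hL3 i
    have hmem : ∀ n, h n ∈ L i := fun n => hh ▸ Submodule.subset_span ⟨n, rfl⟩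
    refine free_of_projective_of_nat_span_of_isLocalRing (fun n => (⟨h n, hmem n⟩ : L i)) ?_
    apply Submodule.map_injective_of_injective (L i).injective_subtype
    rw [Submodule.map_span, Submodule.map_top, Submodule.range_subtype, ← Set.range_comp]
    exact hh
  exact Module.Free.of_basis
    (hint.collectedBasis fun i => Module.Free.chooseBasis R (L i))

end KapLocal

end Groth.Agent.H36
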