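import Mathlib
import Groth.Prelude.Def_Found
import Groth.Agent.H36.KapDecomp

set_option autoImplicit false
universe u v w

namespace Groth.Agent.H36

section CountGen

variable {R : Type u} [CommRing R] {M : Type u} [AddCommGroup M] [Module R M]

theorem exists_nat_span_of_isCountablyGenerated (N : Submodule R M)
    (h : CAlg.IsCountablyGenerated R N) :
    ∃ g : ℕ → M, Submodule.span R (Set.range g) = N := by
  obtain ⟨s, hs, hspan⟩ := h
  obtain ⟨f, hf⟩ := (hs.insert 0).exists_eq_range (Set.insert_nonempty 0 s)
  refine ⟨fun n => (f n : M), ?_⟩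
  have h1 : Set.range (fun n => (f n : M)) = N.subtype '' (Set.range f) := by
    rw [← Set.range_comp]
    rfl
  rw [h1, ← Submodule.map_span, ← hf]
  have h2 : Submodule.span R (insert 0 s) = ⊤ := by
    rw [eq_top_iff, ← hspan]
    exact Submodule.span_mono (Set.subset_insert 0 s)
  rw [h2, Submodule.map_top, Submodule.range_subtype]

theorem isCountablyGenerated_of_nat_span (N : Submodule R M) (g : ℕ → M)
    (hg : Submodule.span R (Set.range g) = N) : CAlg.IsCountablyGenerated R N := by
  subst hg
  refine ⟨((↑) : Submodule.span R (Set.range g) → M) ⁻¹' (Set.range g), ?_,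
    Submodule.span_span_coe_preimage⟩
  exact (Set.countable_range g).preimage Subtype.val_injective

end CountGen

end Groth.Agent.H36
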