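import Mathlib.LinearAlgebra.Finsupp.SumProd
import Mathlib.LinearAlgebra.Finsupp.LSum
import Mathlib.LinearAlgebra.Finsupp.Defs
import Mathlib.LinearAlgebra.Finsupp.Pi
import Mathlib.LinearAlgebra.Finsupp.LinearCombination
import Mathlib.LinearAlgebra.Prod
import Mathlib.SetTheory.Cardinal.Arithmetic
import Mathlib.Algebra.Module.Projective
import Mathlib.LinearAlgebra.FreeModule.Basic

set_option autoImplicit false

namespace Groth.Agent.H36

universe u

section

variable (R : Type*) [CommRing R] (P Q : Type*) [AddCommGroup P] [Module R P]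
  [AddCommGroup Q] [Module R Q]

/-- finitely supported functions into a product -/
noncomputable def finsuppProdCodomain (α : Type*) :
    (α →₀ P × Q) ≃ₗ[R] (α →₀ P) × (α →₀ Q) :=
  LinearEquiv.ofLinear
    (LinearMap.prod (Finsupp.mapRange.linearMap (LinearMap.fst R P Q))
      (Finsupp.mapRange.linearMap (LinearMap.snd R P Q)))
    (LinearMap.coprod (Finsupp.mapRange.linearMap (LinearMap.inl R P Q))
      (Finsupp.mapRange.linearMap (LinearMap.inr R P Q)))
    (by
      apply LinearMap.ext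
      rintro ⟨f, g⟩
      apply Prod.ext
      · ext n; simp
      · ext n; simp)
    (by
      apply LinearMap.ext
      intro f
      ext n <;> simp)

/-- splitting off the first summand of a countable direct sum -/
noncomputable def finsuppNatSucc : (ℕ →₀ P) ≃ₗ[R] P × (ℕ →₀ P) :=
  (Finsupp.domLCongr ((Equiv.sumComm _ _).trans (Equiv.natSumPUnitEquivNat.{0})).symm) ≪≫ₗ
    (Finsupp.sumFinsuppLEquivProdFinsupp R) ≪≫ₗ
      LinearEquiv.prodCongr (Finsupp.uniqueLinearEquiv R P PUnit.unit) (LinearEquiv.refl R _)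

theorem exists_equiv_nat_prod (ι : Type u) [Infinite ι] : Nonempty (ι ≃ ℕ × ι) := by
  apply Cardinal.eq.mp
  rw [Cardinal.mk_prod]
  simp

/-- Eilenberg swindle -/
theorem eilenberg_swindle (ι : Type u) [Infinite ι] (e : (P × Q) ≃ₗ[R] (ι →₀ R)) :
    Nonempty ((P × (ι →₀ R)) ≃ₗ[R] (ι →₀ R)) := by
  obtain ⟨σ⟩ := exists_equiv_nat_prod ι
  -- F ≃ (ℕ →₀ P) × (ℕ →₀ Q)
  let e₁ : (ι →₀ R) ≃ₗ[R] (ℕ →₀ (ι →₀ R)) :=
    (Finsupp.domLCongr σ).trans (Finsupp.curryLinearEquiv R)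
  let e₂ : (ℕ →₀ (ι →₀ R)) ≃ₗ[R] (ℕ →₀ P × Q) :=
    Finsupp.mapRange.linearEquiv (σ₁₂ := RingHom.id R) (σ₂₁ := RingHom.id R) e.symm
  let e₃ : (ι →₀ R) ≃ₗ[R] (ℕ →₀ P) × (ℕ →₀ Q) :=
    e₁ ≪≫ₗ e₂ ≪≫ₗ finsuppProdCodomain R P Q ℕ
  exact ⟨(LinearEquiv.prodCongr (LinearEquiv.refl R P) e₃) ≪≫ₗ
    (LinearEquiv.prodAssoc R P (ℕ →₀ P) (ℕ →₀ Q)).symm ≪≫ₗ
    (LinearEquiv.prodCongr (finsuppNatSucc R P).symm (LinearEquiv.refl R (ℕ →₀ Q))) ≪≫ₗ
    e₃.symm⟩

/-- a retraction splits the source as a product -/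
noncomputable def equivProdKerOfSection {M N : Type*} [AddCommGroup M] [Module R M]
    [AddCommGroup N] [Module R N] (f : M →ₗ[R] N) (s : N →ₗ[R] M) (h : f ∘ₗ s = LinearMap.id) :
    M ≃ₗ[R] N × LinearMap.ker f :=
  LinearEquiv.ofLinear
    (LinearMap.prod f
      (LinearMap.codRestrict (LinearMap.ker f) (LinearMap.id - s ∘ₗ f) (fun x => by
        have := LinearMap.congr_fun h (f x)
        simp only [LinearMap.coe_comp, Function.comp_apply, LinearMap.id_coe, id_eq] at this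
        simp [LinearMap.mem_ker, this])))
    (LinearMap.coprod s (LinearMap.ker f).subtype)
    (by
      apply LinearMap.ext
      rintro ⟨n, ⟨k, hk⟩⟩
      have h1 := LinearMap.congr_fun h n
      simp only [LinearMap.coe_comp, Function.comp_apply, LinearMap.id_coe, id_eq] at h1
      have hk' : f k = 0 := hk
      apply Prod.ext
      · simp [h1, hk']
      · apply Subtype.ext
        simp [h1, hk'])
    (by
      apply LinearMap.ext
      intro x
      simp)

end

section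

variable (R : Type u) [CommRing R] (P : Type u) [AddCommGroup P] [Module R P]

theorem exists_prod_free_equiv_free [Module.Projective R P] :
    ∃ ι : Type u, Infinite ι ∧ Nonempty ((P × (ι →₀ R)) ≃ₗ[R] (ι →₀ R)) := by
  obtain ⟨s, hs⟩ := (Module.projective_def' (R := R) (P := P)).mp inferInstance
  let e₀ : (P →₀ R) ≃ₗ[R] P × LinearMap.ker (Finsupp.linearCombination R (id : P → P)) :=
    equivProdKerOfSection R (Finsupp.linearCombination R id) s hs
  refine ⟨ℕ × P, inferInstance, ?_⟩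
  let e₁ : (ℕ × P →₀ R) ≃ₗ[R] (P →₀ R) × (ℕ →₀ (P →₀ R)) :=
    (Finsupp.curryLinearEquiv R) ≪≫ₗ finsuppNatSucc R (P →₀ R)
  let e₂ : (ℕ × P →₀ R) ≃ₗ[R]
      P × (LinearMap.ker (Finsupp.linearCombination R (id : P → P)) × (ℕ →₀ (P →₀ R))) :=
    e₁ ≪≫ₗ LinearEquiv.prodCongr e₀ (LinearEquiv.refl R _) ≪≫ₗ LinearEquiv.prodAssoc R _ _ _
  exact eilenberg_swindle R P
    (LinearMap.ker (Finsupp.linearCombination R (id : P → P)) × (ℕ →₀ (P →₀ R))) (ℕ × P) e₂.symm

end

end Groth.Agent.H36
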