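import Mathlib
import Groth.Agent.H36.Swindle

/-!
Finitely generated torsion-free-like modules over Bezout domains: a finite module which embeds
in a finite free module is free.
-/

set_option autoImplicit false
universe u

namespace Groth.Agent.H36

section

variable (R : Type u) [CommRing R] [IsDomain R] [IsBezout R]

/-- a finitely generated ideal in a Bezout domain is free as a module -/
theorem free_of_fg_ideal (I : Ideal R) (hI : I.FG) : Module.Free R I := by
  obtain ⟨a, rfl⟩ := (IsBezout.isPrincipal_of_FG I hI).principal
  by_cases ha : a = 0
  · subst ha
    have : Subsingleton (Submodule.span R ({0} : Set R)) := by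
      rw [Submodule.span_zero_singleton]
      infer_instance
    exact Module.Free.of_subsingleton R _
  · exact Module.Free.of_equiv (LinearEquiv.toSpanNonzeroSingleton R R a ha)

/-- a finite module over a Bezout domain embedding in `Fin n → R` is free -/
theorem free_of_injective_fin : ∀ (n : ℕ) (M : Type u) [AddCommGroup M] [Module R M]
    [Module.Finite R M] (f : M →ₗ[R] (Fin n → R)), Function.Injective f → Module.Free R M := by
  intro n
  induction n with
  | zero =>
    intro M _ _ _ f hf
    have : Subsingleton M := hf.subsingleton
    exact Module.Free.of_subsingleton R M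
  | succ n ih =>
    intro M _ _ _ f hf
    let φ : M →ₗ[R] R := (LinearMap.proj 0) ∘ₗ f
    let I : Ideal R := LinearMap.range φ
    have hI : I.FG := by
      have : Module.Finite R (LinearMap.range φ) := inferInstance
      exact Module.Finite.iff_fg.mp this
    have : Module.Free R I := free_of_fg_ideal R I hI
    let φ' : M →ₗ[R] I := φ.rangeRestrict
    have hφ' : Function.Surjective φ' := φ.surjective_rangeRestrict
    obtain ⟨s, hs⟩ := Module.projective_lifting_property φ' LinearMap.id hφ'
    let e : M ≃ₗ[R] I × LinearMap.ker φ' := equivProdKerOfSection R φ' s hs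
    let pr : M →ₗ[R] LinearMap.ker φ' :=
      (LinearMap.snd R I (LinearMap.ker φ')).comp (e : M →ₗ[R] I × LinearMap.ker φ')
    have hpr : Function.Surjective pr := fun y => ⟨e.symm (0, y), by simp [pr]⟩
    have : Module.Finite R (LinearMap.ker φ') := Module.Finite.of_surjective pr hpr
    let g : LinearMap.ker φ' →ₗ[R] (Fin n → R) :=
      (LinearMap.funLeft R R Fin.succ) ∘ₗ f ∘ₗ (LinearMap.ker φ').subtype
    have hg : Function.Injective g := by
      rw [← LinearMap.ker_eq_bot, LinearMap.ker_eq_bot']
      rintro ⟨x, hx⟩ hgx
      apply Subtype.ext
      apply hf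
      have hx0 : f x 0 = 0 := by
        have : φ' x = 0 := hx
        have h2 := congrArg Subtype.val this
        simpa [φ', φ] using h2
      funext i
      refine Fin.cases ?_ (fun j => ?_) i
      · simpa using hx0
      · have := congrFun hgx j
        simpa [g, LinearMap.funLeft_apply] using this
    have : Module.Free R (LinearMap.ker φ') := ih (LinearMap.ker φ') g hg
    exact Module.Free.of_equiv e.symm

/-- a finitely generated submodule of a free module over a Bezout domain is free -/
theorem free_of_fg_submodule_of_free (F : Type u) [AddCommGroup F] [Module R F] [Module.Free R F]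
    (N : Submodule R F) (hN : N.FG) : Module.Free R N := by
  classical
  have : Module.Finite R N := Module.Finite.iff_fg.mpr hN
  obtain ⟨S, hS⟩ := hN
  let b := Module.Free.chooseBasis R F
  let J : Finset (Module.Free.ChooseBasisIndex R F) := S.biUnion (fun s => (b.repr s).support)
  have hsupp : ∀ x ∈ N, (b.repr x).support ⊆ J := by
    intro x hx
    rw [← hS] at hx
    induction hx using Submodule.span_induction with
    | mem x hx =>
      intro i hi
      exact Finset.mem_biUnion.mpr ⟨x, hx, hi⟩
    | zero => simp
    | add x y _ _ hx hy =>
      intro i hi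
      rw [map_add] at hi
      rcases Finset.mem_union.mp (Finsupp.support_add hi) with h | h
      · exact hx h
      · exact hy h
    | smul a x _ hx =>
      intro i hi
      rw [map_smul] at hi
      exact hx (Finsupp.support_smul hi)
  let e := (Fintype.equivFin J)
  let g : N →ₗ[R] (Fin (Fintype.card J) → R) :=
    (LinearMap.funLeft R R (fun i => ((e.symm i : J) : Module.Free.ChooseBasisIndex R F))) ∘ₗ
      (Finsupp.lcoeFun (R := R) (M := R)) ∘ₗ b.repr.toLinearMap ∘ₗ N.subtype
  have hg : Function.Injective g := by
    rw [← LinearMap.ker_eq_bot, LinearMap.ker_eq_bot']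
    rintro ⟨x, hx⟩ hgx
    apply Subtype.ext
    apply b.repr.injective
    show b.repr x = b.repr 0
    rw [map_zero]
    ext i
    by_cases hi : i ∈ J
    · have := congrFun hgx (e ⟨i, hi⟩)
      simpa [g, LinearMap.funLeft_apply] using this
    · have : i ∉ (b.repr x).support := fun h => hi (hsupp x hx h)
      simpa using this
  exact free_of_injective_fin R _ N g hg

end

end Groth.Agent.H36
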