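import Mathlib

/-!
Cyclically presented modules `R ⧸ (f)` and lifting along surjections with relatively divisible
kernel.
-/

set_option autoImplicit false
universe u

namespace Groth.Agent.H36

open DirectSum

section

variable {R : Type u} [CommRing R]

/-- the map `R ⧸ (f) → B` sending `1` to a given `f`-torsion element -/
noncomputable def cyclicLift {B : Type*} [AddCommGroup B] [Module R B] (f : R) (b : B)
    (hb : f • b = 0) : (R ⧸ Ideal.span {f}) →ₗ[R] B :=
  Submodule.liftQ (Ideal.span {f}) (LinearMap.toSpanSingleton R B b) (by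
    rw [Ideal.span, Submodule.span_le]
    intro x hx
    rw [Set.mem_singleton_iff] at hx
    subst hx
    simpa [LinearMap.mem_ker] using hb)

@[simp] theorem cyclicLift_mk {B : Type*} [AddCommGroup B] [Module R B] (f : R) (b : B)
    (hb : f • b = 0) (r : R) :
    cyclicLift f b hb (Ideal.Quotient.mk _ r) = r • b := by
  simp [cyclicLift]
  rfl

/-- the relative divisibility condition on a linear map: `f • ker = ker ∩ f • B` -/
def IsRD {B C : Type*} [AddCommGroup B] [Module R B] [AddCommGroup C] [Module R C]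
    (π : B →ₗ[R] C) : Prop :=
  ∀ (f : R) (b : B), π (f • b) = 0 → ∃ a : B, π a = 0 ∧ f • a = f • b

/-- torsion elements lift to torsion elements along a surjection satisfying `IsRD` -/
theorem IsRD.exists_lift {B C : Type*} [AddCommGroup B] [Module R B] [AddCommGroup C]
    [Module R C] {π : B →ₗ[R] C} (hπ : Function.Surjective π) (h : IsRD π) (f : R) (c : C)
    (hc : f • c = 0) : ∃ b : B, π b = c ∧ f • b = 0 := by
  obtain ⟨b, rfl⟩ := hπ c
  obtain ⟨a, ha, hab⟩ := h f b (by rw [map_smul, hc])
  exact ⟨b - a, by rw [map_sub, ha, sub_zero], by rw [smul_sub, hab, sub_self]⟩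

/-- a direct sum of cyclically presented modules lifts along surjections satisfying `IsRD` -/
theorem directSum_cyclic_lift {ι : Type*} (f : ι → R) {B C : Type*} [AddCommGroup B] [Module R B]
    [AddCommGroup C] [Module R C] {π : B →ₗ[R] C} (hπ : Function.Surjective π) (h : IsRD π)
    (ψ : (⨁ j, R ⧸ Ideal.span {f j}) →ₗ[R] C) :
    ∃ φ : (⨁ j, R ⧸ Ideal.span {f j}) →ₗ[R] B, π ∘ₗ φ = ψ := by
  classical
  have key : ∀ j, ∃ b : B, π b = ψ (DirectSum.lof R ι (fun j => R ⧸ Ideal.span {f j}) j 1) ∧
      f j • b = 0 := by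
    intro j
    apply h.exists_lift hπ
    rw [← map_smul, ← map_smul]
    have : f j • (1 : R ⧸ Ideal.span {f j}) = 0 := by
      rw [Algebra.smul_def, mul_one]
      exact Ideal.Quotient.eq_zero_iff_mem.mpr (Ideal.mem_span_singleton_self _)
    rw [this, map_zero, map_zero]
  choose b hb hb0 using key
  refine ⟨DirectSum.toModule R ι B (fun j => cyclicLift (f j) (b j) (hb0 j)), ?_⟩
  apply DirectSum.linearMap_ext
  intro j
  apply Submodule.linearMap_qext
  apply LinearMap.ext_ring
  simp only [LinearMap.coe_comp, Function.comp_apply, Submodule.mkQ_apply, DirectSum.toModule_lof]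
  show π (cyclicLift (f j) (b j) (hb0 j) (Ideal.Quotient.mk _ 1)) = _
  rw [cyclicLift_mk, one_smul, hb]
  rfl

/-- index type: pairs `(x, f)` with `f • x = 0` and `q f` -/
def CycIdx (P : Type*) [AddCommGroup P] [Module R P] (q : R → Prop) :=
  {xf : P × R // xf.2 • xf.1 = 0 ∧ q xf.2}

/-- the canonical map from a direct sum of cyclically presented modules onto `P` -/
noncomputable def cycCover (P : Type*) [AddCommGroup P] [Module R P] (q : R → Prop)
    [DecidableEq (CycIdx (R := R) P q)] :
    (⨁ j : CycIdx (R := R) P q, R ⧸ Ideal.span {j.1.2}) →ₗ[R] P :=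
  DirectSum.toModule R _ P (fun j => cyclicLift j.1.2 j.1.1 j.2.1)

theorem cycCover_lof_one (P : Type*) [AddCommGroup P] [Module R P] (q : R → Prop)
    [DecidableEq (CycIdx (R := R) P q)] (j : CycIdx (R := R) P q) :
    cycCover P q (DirectSum.lof R _ (fun j : CycIdx (R := R) P q => R ⧸ Ideal.span {j.1.2}) j 1)
      = j.1.1 := by
  rw [cycCover, DirectSum.toModule_lof]
  show cyclicLift j.1.2 j.1.1 j.2.1 (Ideal.Quotient.mk _ 1) = _
  rw [cyclicLift_mk, one_smul]

theorem cycCover_surjective (P : Type*) [AddCommGroup P] [Module R P] (q : R → Prop)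
    [DecidableEq (CycIdx (R := R) P q)] (hq : ∀ x : P, ∃ f, q f ∧ f • x = 0) :
    Function.Surjective (cycCover (R := R) P q) := by
  intro x
  obtain ⟨f, hf, hfx⟩ := hq x
  exact ⟨_, cycCover_lof_one P q ⟨(x, f), hfx, hf⟩⟩

theorem cycCover_isRD (P : Type*) [AddCommGroup P] [Module R P] (q : R → Prop)
    [DecidableEq (CycIdx (R := R) P q)] (hq : ∀ f, q f ∨ f = 0) :
    IsRD (cycCover (R := R) P q) := by
  intro f b hb
  rcases hq f with hf | hf
  · rw [map_smul] at hb
    let j : CycIdx (R := R) P q := ⟨(cycCover P q b, f), hb, hf⟩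
    refine ⟨b - DirectSum.lof R _ (fun j : CycIdx (R := R) P q => R ⧸ Ideal.span {j.1.2}) j 1,
      ?_, ?_⟩
    · rw [map_sub, cycCover_lof_one, sub_self]
    · rw [smul_sub, sub_eq_self, ← map_smul]
      have : f • (1 : R ⧸ Ideal.span {j.1.2}) = 0 := by
        rw [Algebra.smul_def, mul_one]
        exact Ideal.Quotient.eq_zero_iff_mem.mpr (Ideal.mem_span_singleton_self _)
      rw [this, map_zero]
  · subst hf
    exact ⟨0, map_zero _, by simp⟩

end

end Groth.Agent.H36
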