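import Mathlib
import Groth.Agent.H36.Bezout
import Groth.Agent.H36.RDProj

/-!
Finitely presented modules over Bezout domains: torsion-free finite modules are free, and
finitely presented modules over valuation rings lift along surjections with relatively
divisible kernel.
-/

set_option autoImplicit false
universe u

namespace Groth.Agent.H36


open Module Submodule Set

section

variable (R : Type u) [CommRing R] [IsDomain R] [IsBezout R]

/-- a finite torsion-free module over a Bezout domain is free -/
theorem free_of_finite_of_isTorsionFree (M : Type u) [AddCommGroup M] [Module R M]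
    [Module.Finite R M] [Module.IsTorsionFree R M] : Module.Free R M := by
  classical
  obtain ⟨n, s, hs⟩ := Module.Finite.exists_fin (R := R) (M := M)
  have := exists_maximal_linearIndepOn R s
  obtain ⟨I, indepI, hI⟩ := this
  have indepI' : LinearIndependent R (s ∘ (fun x => x) : I → M) := indepI
  let N := span R (range <| (s ∘ (fun x => x) : I → M))
  let sI_basis : Basis I R N := Basis.span indepI'
  have exists_a : ∀ i : Fin n, ∃ a : R, a ≠ 0 ∧ a • s i ∈ N := by
    intro i
    by_cases hi : i ∈ I
    · use 1, zero_ne_one.symm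
      rw [one_smul]
      exact subset_span (mem_range_self (⟨i, hi⟩ : I))
    · simpa [N, image_eq_range s I] using! hI i hi
  choose a ha ha' using exists_a
  let A := ∏ i, a i
  have hA : A ≠ 0 := by
    rw [Finset.prod_ne_zero_iff]
    simpa using! ha
  let φ : M →ₗ[R] M := LinearMap.lsmul R M A
  have hker : LinearMap.ker φ = ⊥ := LinearMap.ker_lsmul hA
  have hrange : LinearMap.range φ ≤ N := by
    suffices ∀ i, φ (s i) ∈ N by
      rw [LinearMap.range_eq_map, ← hs, map_span_le]
      rintro _ ⟨i, rfl⟩
      apply this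
    intro i
    calc
      (∏ j ∈ {i}ᶜ, a j) • a i • s i ∈ N := N.smul_mem _ (ha' i)
      _ = (∏ j, a j) • s i := by rw [Fintype.prod_eq_prod_compl_mul i, mul_smul]
  -- embed `M` in the free module `N`
  let ψ : M →ₗ[R] N := LinearMap.codRestrict N φ (fun x => hrange (LinearMap.mem_range_self φ x))
  have hψ : Function.Injective ψ := by
    rw [← LinearMap.ker_eq_bot, LinearMap.ker_codRestrict]
    exact hker
  have hNfree : Module.Free R N := Module.Free.of_basis sI_basis
  let e : M ≃ₗ[R] LinearMap.range ψ := LinearEquiv.ofInjective ψ hψ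
  have hfg : (LinearMap.range ψ).FG := by
    rw [LinearMap.range_eq_map]
    exact Submodule.FG.map _ (Module.Finite.fg_top)
  have := free_of_fg_submodule_of_free R N (LinearMap.range ψ) hfg
  exact Module.Free.of_equiv e.symm

end



open Module Submodule Set

section

variable {R : Type u} [CommRing R]

/-- localizations of Bezout rings are Bezout -/
theorem isBezout_of_isLocalization [IsBezout R] (S : Submonoid R) (A : Type*) [CommRing A]
    [Algebra R A] [IsLocalization S A] : IsBezout A := by
  rw [IsBezout.iff_span_pair_isPrincipal]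
  intro x y
  obtain ⟨⟨a, s⟩, hx⟩ := IsLocalization.surj S x
  obtain ⟨⟨b, t⟩, hy⟩ := IsLocalization.surj S y
  simp only at hx hy
  have hs : IsUnit (algebraMap R A s) := IsLocalization.map_units A s
  have ht : IsUnit (algebraMap R A t) := IsLocalization.map_units A t
  obtain ⟨s', hs'⟩ := hs.exists_right_inv
  obtain ⟨t', ht'⟩ := ht.exists_right_inv
  have h1 : Ideal.span {x, y} = Ideal.span {algebraMap R A a, algebraMap R A b} := by
    apply le_antisymm
    · rw [Ideal.span_le]
      rintro z (rfl | rfl)
      · rw [SetLike.mem_coe, Ideal.mem_span_pair]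
        refine ⟨s', 0, ?_⟩
        rw [← hx]; linear_combination z * hs'
      · rw [SetLike.mem_coe, Ideal.mem_span_pair]
        refine ⟨0, t', ?_⟩
        rw [← hy]; linear_combination z * ht'
    · rw [Ideal.span_le]
      rintro z (rfl | rfl)
      · rw [SetLike.mem_coe, Ideal.mem_span_pair]
        exact ⟨algebraMap R A s, 0, by rw [← hx]; ring⟩
      · rw [SetLike.mem_coe, Ideal.mem_span_pair]
        exact ⟨0, algebraMap R A t, by rw [← hy]; ring⟩
  obtain ⟨g, hg⟩ := (IsBezout.span_pair_isPrincipal a b).principal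
  refine ⟨algebraMap R A g, ?_⟩
  rw [h1]
  have := congrArg (Ideal.map (algebraMap R A)) hg
  rw [Ideal.map_span, Ideal.map_span, Set.image_pair, Set.image_singleton] at this
  exact this

end



open Module Submodule Set

section

variable (V : Type u) [CommRing V]

/-- the lifting property along surjections with relatively divisible kernel -/
def HasRDLift (N : Type u) [AddCommGroup N] [Module V N] : Prop :=
  ∀ (B C : Type u) [AddCommGroup B] [Module V B] [AddCommGroup C] [Module V C] (π : B →ₗ[V] C),
    Function.Surjective π → IsRD π → ∀ ψ : N →ₗ[V] C, ∃ φ : N →ₗ[V] B, π ∘ₗ φ = ψ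

variable {V}

theorem HasRDLift.of_subsingleton (N : Type u) [AddCommGroup N] [Module V N] [Subsingleton N] :
    HasRDLift V N := by
  intro B C _ _ _ _ π _ _ ψ
  refine ⟨0, ?_⟩
  apply LinearMap.ext
  intro x
  rw [Subsingleton.elim x 0]
  simp

theorem HasRDLift.cyclic (d : V) : HasRDLift V (V ⧸ Ideal.span {d}) := by
  intro B C _ _ _ _ π hπ hRD ψ
  have h0 : d • ψ (Ideal.Quotient.mk _ 1) = 0 := by
    rw [← map_smul]
    have : d • (Ideal.Quotient.mk (Ideal.span {d}) 1) = 0 := by
      rw [Algebra.smul_def, map_one, mul_one]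
      exact Ideal.Quotient.eq_zero_iff_mem.mpr (Ideal.mem_span_singleton_self _)
    rw [this, map_zero]
  obtain ⟨b, hb, hdb⟩ := hRD.exists_lift hπ d _ h0
  refine ⟨cyclicLift d b hdb, ?_⟩
  apply Submodule.linearMap_qext
  apply LinearMap.ext_ring
  simp only [LinearMap.coe_comp, Function.comp_apply, Submodule.mkQ_apply]
  show π (cyclicLift d b hdb (Ideal.Quotient.mk _ 1)) = ψ (Ideal.Quotient.mk _ 1)
  rw [cyclicLift_mk, one_smul, hb]

theorem HasRDLift.prod {N₁ N₂ : Type u} [AddCommGroup N₁] [Module V N₁] [AddCommGroup N₂]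
    [Module V N₂] (h₁ : HasRDLift V N₁) (h₂ : HasRDLift V N₂) : HasRDLift V (N₁ × N₂) := by
  intro B C _ _ _ _ π hπ hRD ψ
  obtain ⟨φ₁, hφ₁⟩ := h₁ B C π hπ hRD (ψ ∘ₗ LinearMap.inl V N₁ N₂)
  obtain ⟨φ₂, hφ₂⟩ := h₂ B C π hπ hRD (ψ ∘ₗ LinearMap.inr V N₁ N₂)
  refine ⟨φ₁.coprod φ₂, ?_⟩
  apply LinearMap.prod_ext
  · rw [LinearMap.comp_assoc, LinearMap.coprod_inl, hφ₁]
  · rw [LinearMap.comp_assoc, LinearMap.coprod_inr, hφ₂]

theorem HasRDLift.of_equiv {N₁ N₂ : Type u} [AddCommGroup N₁] [Module V N₁] [AddCommGroup N₂]
    [Module V N₂] (e : N₁ ≃ₗ[V] N₂) (h₁ : HasRDLift V N₁) : HasRDLift V N₂ := by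
  intro B C _ _ _ _ π hπ hRD ψ
  obtain ⟨φ₁, hφ₁⟩ := h₁ B C π hπ hRD (ψ ∘ₗ (e : N₁ →ₗ[V] N₂))
  refine ⟨φ₁ ∘ₗ (e.symm : N₂ →ₗ[V] N₁), ?_⟩
  rw [← LinearMap.comp_assoc, hφ₁]
  apply LinearMap.ext
  intro x
  simp

/-- in a valuation ring, a nonempty finite set has an element dividing all the others -/
theorem exists_dvd_all_of_valuationRing [IsDomain V] [ValuationRing V] (Q : Finset V)
    (hQ : Q.Nonempty) : ∃ d ∈ Q, ∀ q ∈ Q, d ∣ q := by
  induction hQ using Finset.Nonempty.cons_induction with
  | singleton a => exact ⟨a, by simp, by simp⟩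
  | cons a s ha hs ih =>
    obtain ⟨d, hd, hdq⟩ := ih
    rcases ValuationRing.dvd_total d a with h | h
    · refine ⟨d, by simp [hd], ?_⟩
      intro q hq
      rcases Finset.mem_cons.mp hq with rfl | hq
      · exact h
      · exact hdq q hq
    · refine ⟨a, by simp, ?_⟩
      intro q hq
      rcases Finset.mem_cons.mp hq with rfl | hq
      · exact dvd_rfl
      · exact h.trans (hdq q hq)

end



open Module Submodule Set

section

variable {V : Type u} [CommRing V]

theorem hasRDLift_of_finitePresentation_valuationRing [IsDomain V] [ValuationRing V] :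
    ∀ (n : ℕ) (N : Type u) [AddCommGroup N] [Module V N] [Module.FinitePresentation V N]
      (g : Fin n → N), Submodule.span V (Set.range g) = ⊤ → HasRDLift V N := by
  intro n
  induction n with
  | zero =>
    intro N _ _ _ g hg
    have : Subsingleton N := by
      have h : (⊤ : Submodule V N) = ⊥ := by
        rw [← hg]
        simp
      exact (Submodule.subsingleton_iff V).mp (subsingleton_of_bot_eq_top h.symm)
    exact HasRDLift.of_subsingleton N
  | succ n ih =>
    intro N _ _ _ g hg
    classical
    let p : (Fin (n+1) → V) →ₗ[V] N := Fintype.linearCombination V g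
    have hp : Function.Surjective p := by
      rw [← LinearMap.range_eq_top, Fintype.range_linearCombination, hg]
    have hK : (LinearMap.ker p).FG := Module.FinitePresentation.fg_ker p hp
    obtain ⟨S, hS⟩ := hK
    -- find d, k₀, i₀
    obtain ⟨d, k₀, i₀, hk₀, hk₀d, hdiv⟩ : ∃ (d : V) (k₀ : Fin (n+1) → V) (i₀ : Fin (n+1)),
        k₀ ∈ LinearMap.ker p ∧ k₀ i₀ = d ∧ ∀ k ∈ LinearMap.ker p, ∀ i, d ∣ k i := by
      by_cases hSe : S.Nonempty
      · let Q : Finset V := (S ×ˢ (Finset.univ : Finset (Fin (n+1)))).image (fun ki => ki.1 ki.2)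
        have hQ : Q.Nonempty := (hSe.product Finset.univ_nonempty).image _
        obtain ⟨d, hdQ, hd⟩ := exists_dvd_all_of_valuationRing Q hQ
        obtain ⟨⟨k₀, i₀⟩, hmem, rfl⟩ := Finset.mem_image.mp hdQ
        refine ⟨_, k₀, i₀, ?_, rfl, ?_⟩
        · rw [← hS]; exact subset_span (Finset.mem_product.mp hmem).1
        · intro k hk
          rw [← hS] at hk
          induction hk using span_induction with
          | mem k hk =>
            intro i
            exact hd _ (Finset.mem_image.mpr ⟨(k, i), Finset.mem_product.mpr ⟨hk, Finset.mem_univ _⟩, rfl⟩)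
          | zero => intro i; exact dvd_zero _
          | add k k' _ _ h h' => intro i; exact dvd_add (h i) (h' i)
          | smul a k _ h => intro i; exact Dvd.dvd.mul_left (h i) a
      · rw [Finset.not_nonempty_iff_eq_empty] at hSe
        subst hSe
        have hbot : LinearMap.ker p = ⊥ := by rw [← hS]; simp
        refine ⟨0, 0, 0, Submodule.zero_mem _, rfl, ?_⟩
        intro k hk i
        rw [hbot, Submodule.mem_bot] at hk
        subst hk
        exact dvd_zero _
    have hdiv₀ : ∀ i, ∃ r, k₀ i = d * r := fun i => hdiv k₀ hk₀ i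
    choose c₀ hc₀ using hdiv₀
    let c : Fin (n+1) → V := fun i => if i = i₀ then 1 else c₀ i
    have hci₀ : c i₀ = 1 := by simp [c]
    have hk₀c : k₀ = d • c := by
      funext i
      by_cases hi : i = i₀
      · subst hi
        simp [c, hk₀d]
      · simp [c, hi, hc₀ i]
    let x : N := p c
    have hdx : d • x = 0 := by
      show d • p c = 0
      rw [← map_smul, ← hk₀c]
      exact hk₀
    -- the retraction onto V/(d)
    let ρ₀ : (Fin (n+1) → V) →ₗ[V] V ⧸ Ideal.span {d} :=
      (Submodule.mkQ (Ideal.span {d})) ∘ₗ (LinearMap.proj i₀)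
    have hρ₀ : LinearMap.ker p ≤ LinearMap.ker ρ₀ := by
      intro k hk
      rw [LinearMap.mem_ker]
      show Submodule.Quotient.mk (k i₀) = 0
      rw [Submodule.Quotient.mk_eq_zero]
      exact Ideal.mem_span_singleton.mpr (hdiv k hk i₀)
    let ρ : N →ₗ[V] V ⧸ Ideal.span {d} :=
      ((LinearMap.ker p).liftQ ρ₀ hρ₀) ∘ₗ ((p.quotKerEquivOfSurjective hp).symm : N →ₗ[V] _)
    have hρp : ∀ y, ρ (p y) = Submodule.Quotient.mk (y i₀) := by
      intro y
      have : (p.quotKerEquivOfSurjective hp).symm (p y) = Submodule.Quotient.mk y := by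
        rw [LinearEquiv.symm_apply_eq]
        rfl
      show ((LinearMap.ker p).liftQ ρ₀ hρ₀) ((p.quotKerEquivOfSurjective hp).symm (p y)) = _
      rw [this, Submodule.liftQ_apply]
      rfl
    let σ : V ⧸ Ideal.span {d} →ₗ[V] N := cyclicLift d x hdx
    have hρσ : ρ ∘ₗ σ = LinearMap.id := by
      apply Submodule.linearMap_qext
      apply LinearMap.ext_ring
      simp only [LinearMap.coe_comp, Function.comp_apply, Submodule.mkQ_apply, LinearMap.id_coe,
        id_eq]
      show ρ (cyclicLift d x hdx (Ideal.Quotient.mk _ 1)) = _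
      rw [cyclicLift_mk, one_smul]
      show ρ (p c) = _
      rw [hρp, hci₀]
    let e : N ≃ₗ[V] (V ⧸ Ideal.span {d}) × LinearMap.ker ρ := equivProdKerOfSection V ρ σ hρσ
    -- projection to the kernel
    let l : N →ₗ[V] LinearMap.ker ρ :=
      (LinearMap.snd V (V ⧸ Ideal.span {d}) (LinearMap.ker ρ)).comp (e : N →ₗ[V] _)
    have hl : Function.Surjective l := fun y => ⟨e.symm (0, y), by simp [l]⟩
    have hlval : ∀ y : N, ((l y : LinearMap.ker ρ) : N) = y - σ (ρ y) := fun y => rfl
    have hlker : LinearMap.ker l = LinearMap.range σ := by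
      ext y
      rw [LinearMap.mem_ker, LinearMap.mem_range]
      constructor
      · intro hy
        have := congrArg Subtype.val hy
        rw [hlval] at this
        exact ⟨ρ y, (sub_eq_zero.mp this).symm⟩
      · rintro ⟨a, rfl⟩
        apply Subtype.ext
        rw [hlval]
        have := LinearMap.congr_fun hρσ a
        simp only [LinearMap.coe_comp, Function.comp_apply, LinearMap.id_coe, id_eq] at this
        rw [this, sub_self]
        rfl
    have hfp : Module.FinitePresentation V (LinearMap.ker ρ) := by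
      apply Module.finitePresentation_of_surjective l hl
      rw [hlker, LinearMap.range_eq_map]
      exact Submodule.FG.map _ Module.Finite.fg_top
    -- generators of the kernel
    let g' : Fin n → LinearMap.ker ρ := fun j => l (g (i₀.succAbove j))
    have hlx : l x = 0 := by
      rw [← LinearMap.mem_ker, hlker]
      exact ⟨Ideal.Quotient.mk _ 1, by show cyclicLift d x hdx (Ideal.Quotient.mk _ 1) = x; rw [cyclicLift_mk, one_smul]⟩
    have hg' : Submodule.span V (Set.range g') = ⊤ := by
      rw [eq_top_iff]
      rintro y -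
      obtain ⟨y', rfl⟩ := hl y
      obtain ⟨z, rfl⟩ := hp y'
      have hpz : ∀ z : Fin (n+1) → V, p z = ∑ i, z i • g i := fun z =>
        Fintype.linearCombination_apply V g z
      have hgi₀ : l (g i₀) ∈ Submodule.span V (Set.range g') := by
        have h1 : l (p c) = 0 := hlx
        rw [hpz, map_sum, Fin.sum_univ_succAbove _ i₀, hci₀, one_smul] at h1
        rw [eq_neg_of_add_eq_zero_left h1]
        apply Submodule.neg_mem
        apply Submodule.sum_mem
        intro j _
        rw [map_smul]
        exact Submodule.smul_mem _ _ (Submodule.subset_span ⟨j, rfl⟩)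
      rw [hpz, map_sum]
      apply Submodule.sum_mem
      intro i _
      rw [map_smul]
      apply Submodule.smul_mem
      rcases Fin.eq_self_or_eq_succAbove i₀ i with rfl | ⟨j, rfl⟩
      · exact hgi₀
      · exact Submodule.subset_span ⟨j, rfl⟩
    have h1 : HasRDLift V (LinearMap.ker ρ) := ih (LinearMap.ker ρ) g' hg'
    exact HasRDLift.of_equiv e.symm (HasRDLift.prod (HasRDLift.cyclic d) h1)

end



open Module Submodule Set

section

variable {R : Type u} [CommRing R]

/-- the relative divisibility condition passes to localizations -/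
theorem IsRD.localizedModule_map {B C : Type*} [AddCommGroup B] [Module R B] [AddCommGroup C]
    [Module R C] (S : Submonoid R) {π : B →ₗ[R] C} (h : IsRD π) :
    IsRD (LocalizedModule.map S π) := by
  intro f' b' hb'
  induction b' using LocalizedModule.induction_on with | _ b t
  obtain ⟨f, s, rfl⟩ := IsLocalization.exists_mk'_eq S f'
  rw [← Localization.mk_eq_mk', LocalizedModule.mk_smul_mk, LocalizedModule.map_mk,
    ← LocalizedModule.zero_mk (s * t), LocalizedModule.mk_eq] at hb'
  obtain ⟨u, hu⟩ := hb'
  let w : S := u * (s * t)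
  have h1 : π (f • (w • b)) = 0 := by
    rw [smul_zero, smul_zero, ← mul_smul] at hu
    have : f • w • b = w • f • b := smul_comm _ _ _
    rw [this, LinearMap.map_smul_of_tower]
    exact hu
  obtain ⟨a₀, ha₀, hfa₀⟩ := h f (w • b) h1
  refine ⟨LocalizedModule.mk a₀ (w * t), ?_, ?_⟩
  · rw [LocalizedModule.map_mk, ha₀, LocalizedModule.zero_mk]
  · rw [← Localization.mk_eq_mk', LocalizedModule.mk_smul_mk, LocalizedModule.mk_smul_mk, hfa₀,
      smul_comm f w b, mul_left_comm s w t, LocalizedModule.mk_cancel_common_left]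

end



open Module Submodule Set

section

variable {R : Type u} [CommRing R]

/-- a linear map onto a finitely presented module which splits after localizing at each maximal
ideal splits -/
theorem exists_section_of_forall_maximal {T E : Type u} [AddCommGroup T] [Module R T]
    [Module.FinitePresentation R T] [AddCommGroup E] [Module R E] (π : E →ₗ[R] T)
    (h : ∀ (m : Ideal R) [m.IsMaximal],
      ∃ φ' : LocalizedModule m.primeCompl T →ₗ[Localization m.primeCompl]
        LocalizedModule m.primeCompl E,
        (LocalizedModule.map m.primeCompl π) ∘ₗ φ' = LinearMap.id) :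
    ∃ φ : T →ₗ[R] E, π ∘ₗ φ = LinearMap.id := by
  let J : Ideal R :=
    { carrier := {u | ∃ φ : T →ₗ[R] E, π ∘ₗ φ = u • LinearMap.id}
      add_mem' := by
        rintro a b ⟨φ₁, h₁⟩ ⟨φ₂, h₂⟩
        exact ⟨φ₁ + φ₂, by rw [LinearMap.comp_add, h₁, h₂, add_smul]⟩
      zero_mem' := ⟨0, by simp⟩
      smul_mem' := by
        rintro c a ⟨φ, h₁⟩
        exact ⟨c • φ, by rw [LinearMap.comp_smul, h₁, smul_eq_mul, mul_smul]⟩ }
  by_cases hJ : J = ⊤
  · have h1 : (1 : R) ∈ J := by rw [hJ]; trivial
    obtain ⟨φ, hφ⟩ := h1
    exact ⟨φ, by rw [hφ, one_smul]⟩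
  · exfalso
    obtain ⟨m, hm, hJm⟩ := Ideal.exists_le_maximal J hJ
    obtain ⟨φ', hφ'⟩ := h m
    let S := m.primeCompl
    let g : T →ₗ[R] LocalizedModule S E :=
      (φ'.restrictScalars R) ∘ₗ (LocalizedModule.mkLinearMap S T)
    obtain ⟨h', s, hs⟩ := Module.FinitePresentation.exists_lift_of_isLocalizedModule S
      (LocalizedModule.mkLinearMap S E) g
    have heq : (LocalizedModule.mkLinearMap S T) ∘ₗ (π ∘ₗ h') =
        (LocalizedModule.mkLinearMap S T) ∘ₗ (s • (LinearMap.id : T →ₗ[R] T)) := by
      apply LinearMap.ext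
      intro t
      have h1 := LinearMap.congr_fun hs t
      have h2 := LinearMap.congr_fun hφ' (LocalizedModule.mk t 1)
      simp only [LinearMap.coe_comp, Function.comp_apply, LinearMap.id_coe, id_eq,
        LocalizedModule.mkLinearMap_apply, LinearMap.smul_apply] at h1 h2 ⊢
      rw [← LocalizedModule.map_mk, h1]
      simp only [g, LinearMap.coe_comp, Function.comp_apply, LinearMap.coe_restrictScalars,
        LocalizedModule.mkLinearMap_apply]
      rw [Submonoid.smul_def, Submonoid.smul_def, LinearMap.map_smul_of_tower, h2,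
        LocalizedModule.smul'_mk]
    obtain ⟨s', hs'⟩ := Module.Finite.exists_smul_of_comp_eq_of_isLocalizedModule S
      (LocalizedModule.mkLinearMap S T) _ _ heq
    have hmem : ((s' * s : S) : R) ∈ J := by
      refine ⟨(s' : R) • h', ?_⟩
      rw [LinearMap.comp_smul]
      simp only [Submonoid.smul_def] at hs'
      rw [hs', Submonoid.coe_mul, mul_smul]
    exact (s' * s).2 (hJm hmem)

end



open Module Submodule Set DirectSum

section

variable {R : Type u} [CommRing R]

/-- a finite module which is a retract of a direct sum of cyclic modules is a retract of a finite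
subsum -/
theorem exists_finite_retract_of_directSum {ι : Type*} [DecidableEq ι] (f : ι → R) {T : Type*}
    [AddCommGroup T] [Module R T] [Module.Finite R T]
    (π : (⨁ j, R ⧸ Ideal.span {f j}) →ₗ[R] T) (φ : T →ₗ[R] (⨁ j, R ⧸ Ideal.span {f j}))
    (h : π ∘ₗ φ = LinearMap.id) :
    ∃ (n : ℕ) (a : Fin n → ι) (i : T →ₗ[R] ((k : Fin n) → R ⧸ Ideal.span {f (a k)}))
      (p : ((k : Fin n) → R ⧸ Ideal.span {f (a k)}) →ₗ[R] T), p ∘ₗ i = LinearMap.id := by
  classical
  obtain ⟨G, hG⟩ := (Module.Finite.fg_top : (⊤ : Submodule R T).FG)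
  let J : Finset ι := G.biUnion (fun t => DFinsupp.support (φ t))
  have hsupp : ∀ t : T, DFinsupp.support (φ t) ⊆ J := by
    intro t
    have ht : t ∈ Submodule.span R (G : Set T) := by rw [hG]; trivial
    induction ht using Submodule.span_induction with
    | mem t ht =>
      intro j hj
      exact Finset.mem_biUnion.mpr ⟨t, ht, hj⟩
    | zero => simp
    | add x y _ _ hx hy =>
      intro j hj
      rw [map_add] at hj
      rcases Finset.mem_union.mp (DFinsupp.support_add hj) with h' | h'
      · exact hx h'
      · exact hy h'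
    | smul c x _ hx =>
      intro j hj
      rw [map_smul] at hj
      exact hx (DFinsupp.support_smul c _ hj)
  let e : J ≃ Fin J.card := J.equivFin
  let a : Fin J.card → ι := fun k => ((e.symm k : J) : ι)
  let i : T →ₗ[R] ((k : Fin J.card) → R ⧸ Ideal.span {f (a k)}) :=
    LinearMap.pi (fun k => (DirectSum.component R ι (fun j => R ⧸ Ideal.span {f j}) (a k)) ∘ₗ φ)
  let p : ((k : Fin J.card) → R ⧸ Ideal.span {f (a k)}) →ₗ[R] T :=
    ∑ k, (π ∘ₗ DirectSum.lof R ι (fun j => R ⧸ Ideal.span {f j}) (a k)) ∘ₗ LinearMap.proj k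
  refine ⟨J.card, a, i, p, ?_⟩
  apply LinearMap.ext
  intro t
  have h1 : (p ∘ₗ i) t = π (∑ k, DirectSum.lof R ι (fun j => R ⧸ Ideal.span {f j}) (a k)
      ((φ t) (a k))) := by
    simp only [p, i, LinearMap.coe_comp, Function.comp_apply, LinearMap.sum_apply,
      LinearMap.proj_apply, LinearMap.pi_apply, map_sum]
    rfl
  have h2 : (∑ k, DirectSum.lof R ι (fun j => R ⧸ Ideal.span {f j}) (a k) ((φ t) (a k))) =
      φ t := by
    have h3 : (∑ k, DirectSum.lof R ι (fun j => R ⧸ Ideal.span {f j}) (a k) ((φ t) (a k))) =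
        ∑ j ∈ J, DirectSum.lof R ι (fun j => R ⧸ Ideal.span {f j}) j ((φ t) j) := by
      rw [← Finset.sum_coe_sort J]
      exact (Fintype.sum_equiv e _ _ (fun j => by
        show _ = DirectSum.lof R ι (fun j => R ⧸ Ideal.span {f j}) ((e.symm (e j) : J) : ι)
          ((φ t) ((e.symm (e j) : J) : ι))
        rw [Equiv.symm_apply_apply])).symm
    rw [h3]
    conv_rhs => rw [← DirectSum.sum_support_of (φ t)]
    symm
    apply Finset.sum_subset (hsupp t)
    intro j _ hj
    rw [DFinsupp.notMem_support_iff] at hj
    rw [hj, map_zero]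
  rw [h1, h2]
  exact LinearMap.congr_fun h t

end


section

variable (R : Type u) [CommRing R] [IsDomain R] [IsBezout R]

/-- a finitely presented torsion module over a Bezout domain is a retract of a finite direct sum
of cyclically presented torsion modules -/
theorem exists_retract_cyclic_of_torsion_bezout (T : Type u) [AddCommGroup T] [Module R T]
    [Module.FinitePresentation R T] (hT : ∀ x : T, ∃ f : R, f ≠ 0 ∧ f • x = 0) :
    ∃ (n : ℕ) (f : Fin n → R), (∀ j, f j ≠ 0) ∧
      ∃ (i : T →ₗ[R] ((j : Fin n) → R ⧸ Ideal.span {f j}))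
        (p : ((j : Fin n) → R ⧸ Ideal.span {f j}) →ₗ[R] T), p ∘ₗ i = LinearMap.id := by
  classical
  let q : R → Prop := fun f => f ≠ 0
  let π := cycCover (R := R) T q
  have hπ : Function.Surjective π := cycCover_surjective T q hT
  have hRD : IsRD π := cycCover_isRD T q (fun f => by
    by_cases hf : f = 0
    · exact Or.inr hf
    · exact Or.inl hf)
  have hloc : ∀ (m : Ideal R) [m.IsMaximal],
      ∃ φ' : LocalizedModule m.primeCompl T →ₗ[Localization m.primeCompl]
        LocalizedModule m.primeCompl (⨁ j : CycIdx (R := R) T q, R ⧸ Ideal.span {j.1.2}),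
        (LocalizedModule.map m.primeCompl π) ∘ₗ φ' = LinearMap.id := by
    intro m hm
    have hdom : IsDomain (Localization m.primeCompl) :=
      IsLocalization.isDomain_localization (Ideal.primeCompl_le_nonZeroDivisors m)
    have hloc' : IsLocalRing (Localization m.primeCompl) :=
      inferInstanceAs (IsLocalRing (Localization.AtPrime m))
    have hbez : IsBezout (Localization m.primeCompl) :=
      isBezout_of_isLocalization m.primeCompl _
    have hval : ValuationRing (Localization m.primeCompl) := inferInstance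
    obtain ⟨n, g, hg⟩ := Module.Finite.exists_fin (R := Localization m.primeCompl)
      (M := LocalizedModule m.primeCompl T)
    have hlift := hasRDLift_of_finitePresentation_valuationRing n
      (LocalizedModule m.primeCompl T) g hg
    exact hlift (LocalizedModule m.primeCompl (⨁ j : CycIdx (R := R) T q, R ⧸ Ideal.span {j.1.2}))
      (LocalizedModule m.primeCompl T) (LocalizedModule.map m.primeCompl π)
      (LocalizedModule.map_surjective m.primeCompl π hπ) (hRD.localizedModule_map m.primeCompl)
      LinearMap.id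
  obtain ⟨φ, hφ⟩ := exists_section_of_forall_maximal π hloc
  obtain ⟨n, a, i, p, hpi⟩ := exists_finite_retract_of_directSum
    (fun j : CycIdx (R := R) T q => j.1.2) π φ hφ
  exact ⟨n, fun k => (a k).1.2, fun k => (a k).2.2, i, p, hpi⟩

end

end Groth.Agent.H36
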