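import Mathlib

/-!
Isomorphisms of adic completions from compatible families of isomorphisms of the quotients, and
a Nakayama-type surjectivity criterion.
-/

set_option autoImplicit false
universe u

namespace Groth.Agent.H36


section

variable {A : Type u} [CommRing A] (I : Ideal A) {M N : Type u} [AddCommGroup M] [Module A M]
  [AddCommGroup N] [Module A N]

theorem quot_smul_map (n : ℕ)
    (φ : (M ⧸ (I ^ n • ⊤ : Submodule A M)) →ₗ[A] (N ⧸ (I ^ n • ⊤ : Submodule A N)))
    (r : A ⧸ (I ^ n • ⊤ : Ideal A)) (y : M ⧸ (I ^ n • ⊤ : Submodule A M)) :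
    φ (r • y) = r • φ y := by
  obtain ⟨r, rfl⟩ := Ideal.Quotient.mk_surjective r
  have h1 : ∀ (P : Type u) [AddCommGroup P] [Module A P] (z : P ⧸ (I ^ n • ⊤ : Submodule A P)),
      (Ideal.Quotient.mk (I ^ n • ⊤ : Ideal A) r) • z = r • z := by
    intro P _ _ z
    obtain ⟨z, rfl⟩ := Submodule.Quotient.mk_surjective _ z
    rfl
  rw [h1, h1, map_smul]

/-- the underlying function of the map of completions induced by a compatible family -/
def adicFunOfCompat
    (φ : ∀ n, (M ⧸ (I ^ n • ⊤ : Submodule A M)) →ₗ[A] (N ⧸ (I ^ n • ⊤ : Submodule A N)))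
    (hφ : ∀ {m n : ℕ} (hmn : m ≤ n) (x : M ⧸ (I ^ n • ⊤ : Submodule A M)),
      AdicCompletion.transitionMap I N hmn (φ n x) =
        φ m (AdicCompletion.transitionMap I M hmn x)) (x : AdicCompletion I M) :
    AdicCompletion I N :=
  ⟨fun n => φ n (x.val n), fun hmn => by rw [hφ, x.property]⟩

theorem adicFunOfCompat_val
    (φ : ∀ n, (M ⧸ (I ^ n • ⊤ : Submodule A M)) →ₗ[A] (N ⧸ (I ^ n • ⊤ : Submodule A N)))
    (hφ : ∀ {m n : ℕ} (hmn : m ≤ n) (x : M ⧸ (I ^ n • ⊤ : Submodule A M)),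
      AdicCompletion.transitionMap I N hmn (φ n x) =
        φ m (AdicCompletion.transitionMap I M hmn x)) (x : AdicCompletion I M) (n : ℕ) :
    (adicFunOfCompat I φ hφ x).val n = φ n (x.val n) := rfl

/-- the map of completions induced by a compatible family of maps between the quotients -/
def adicMapOfCompat
    (φ : ∀ n, (M ⧸ (I ^ n • ⊤ : Submodule A M)) →ₗ[A] (N ⧸ (I ^ n • ⊤ : Submodule A N)))
    (hφ : ∀ {m n : ℕ} (hmn : m ≤ n) (x : M ⧸ (I ^ n • ⊤ : Submodule A M)),
      AdicCompletion.transitionMap I N hmn (φ n x) =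
        φ m (AdicCompletion.transitionMap I M hmn x)) :
    AdicCompletion I M →ₗ[AdicCompletion I A] AdicCompletion I N where
  toFun := adicFunOfCompat I φ hφ
  map_add' x y := by
    apply AdicCompletion.ext
    intro n
    rw [AdicCompletion.val_add_apply, adicFunOfCompat_val, adicFunOfCompat_val,
      adicFunOfCompat_val, AdicCompletion.val_add_apply, map_add]
  map_smul' r x := by
    apply AdicCompletion.ext
    intro n
    rw [RingHom.id_apply, AdicCompletion.smul_eval, adicFunOfCompat_val, adicFunOfCompat_val,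
      AdicCompletion.smul_eval]
    exact quot_smul_map I n (φ n) _ _

@[simp] theorem adicMapOfCompat_val
    (φ : ∀ n, (M ⧸ (I ^ n • ⊤ : Submodule A M)) →ₗ[A] (N ⧸ (I ^ n • ⊤ : Submodule A N)))
    (hφ : ∀ {m n : ℕ} (hmn : m ≤ n) (x : M ⧸ (I ^ n • ⊤ : Submodule A M)),
      AdicCompletion.transitionMap I N hmn (φ n x) =
        φ m (AdicCompletion.transitionMap I M hmn x)) (x : AdicCompletion I M) (n : ℕ) :
    (adicMapOfCompat I φ hφ x).val n = φ n (x.val n) := rfl


/-- a compatible family of isomorphisms between the quotients induces an isomorphism of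
completions -/
theorem nonempty_adicCompletion_equiv
    (φ : ∀ n, (M ⧸ (I ^ n • ⊤ : Submodule A M)) ≃ₗ[A] (N ⧸ (I ^ n • ⊤ : Submodule A N)))
    (hφ : ∀ {m n : ℕ} (hmn : m ≤ n) (x : M ⧸ (I ^ n • ⊤ : Submodule A M)),
      AdicCompletion.transitionMap I N hmn (φ n x) =
        φ m (AdicCompletion.transitionMap I M hmn x)) :
    Nonempty (AdicCompletion I M ≃ₗ[AdicCompletion I A] AdicCompletion I N) := by
  have hφ' : ∀ {m n : ℕ} (hmn : m ≤ n) (y : N ⧸ (I ^ n • ⊤ : Submodule A N)),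
      AdicCompletion.transitionMap I M hmn ((φ n).symm y) =
        (φ m).symm (AdicCompletion.transitionMap I N hmn y) := by
    intro m n hmn y
    apply (φ m).injective
    rw [← hφ hmn, LinearEquiv.apply_symm_apply, LinearEquiv.apply_symm_apply]
  refine ⟨LinearEquiv.ofLinearMap
    (adicMapOfCompat I (fun n => (φ n : _ →ₗ[A] _)) (fun hmn x => hφ hmn x))
    (adicMapOfCompat I (fun n => ((φ n).symm : _ →ₗ[A] _)) (fun hmn y => hφ' hmn y)) ?_ ?_⟩
  · apply LinearMap.ext
    intro x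
    apply AdicCompletion.ext
    intro n
    simp
  · apply LinearMap.ext
    intro x
    apply AdicCompletion.ext
    intro n
    simp

end



section

variable {A : Type u} [CommRing A] (I : Ideal A) {M N : Type u} [AddCommGroup M] [Module A M]
  [AddCommGroup N] [Module A N]

/-- `I ^ n` kills `N ⧸ I ^ n • ⊤` -/
theorem pow_smul_quot_eq_zero (n : ℕ) (a : A) (ha : a ∈ I ^ n)
    (y : N ⧸ (I ^ n • ⊤ : Submodule A N)) : a • y = 0 := by
  obtain ⟨y, rfl⟩ := Submodule.Quotient.mk_surjective _ y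
  rw [← Submodule.Quotient.mk_smul, Submodule.Quotient.mk_eq_zero]
  exact Submodule.smul_mem_smul ha Submodule.mem_top

/-- a map to `N ⧸ I ^ (n+1) N` which is surjective modulo `I ^ n`, `n ≥ 1`, is surjective -/
theorem surjective_of_surjective_factorPow (n : ℕ) (hn : 1 ≤ n)
    (ψ : M →ₗ[A] N ⧸ (I ^ (n + 1) • ⊤ : Submodule A N))
    (h : Function.Surjective ((Submodule.factorPow I N (Nat.le_succ n)) ∘ₗ ψ)) :
    Function.Surjective ψ := by
  rw [← LinearMap.range_eq_top, eq_top_iff]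
  set P := LinearMap.range ψ with hP
  -- every element is in `P + I^n • ⊤`
  have h1 : (⊤ : Submodule A (N ⧸ (I ^ (n + 1) • ⊤ : Submodule A N))) ≤ P ⊔ I ^ n • ⊤ := by
    rintro y -
    obtain ⟨x, hx⟩ := h (Submodule.factorPow I N (Nat.le_succ n) y)
    have h2 : Submodule.factorPow I N (Nat.le_succ n) (y - ψ x) = 0 := by
      rw [map_sub, ← hx]
      simp
    obtain ⟨z, hz⟩ := Submodule.Quotient.mk_surjective _ (y - ψ x)
    rw [← hz] at h2
    have h3 : z ∈ (I ^ n • ⊤ : Submodule A N) := by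
      rw [← Submodule.Quotient.mk_eq_zero]
      exact h2
    have h4 : (Submodule.Quotient.mk z : N ⧸ (I ^ (n + 1) • ⊤ : Submodule A N)) ∈
        (I ^ n • ⊤ : Submodule A (N ⧸ (I ^ (n + 1) • ⊤ : Submodule A N))) := by
      have : (I ^ n • ⊤ : Submodule A N).map (Submodule.mkQ (I ^ (n + 1) • ⊤ : Submodule A N)) ≤
          I ^ n • ⊤ := by
        rw [Submodule.map_smul'']
        exact Submodule.smul_mono le_rfl le_top
      exact this ⟨z, h3, rfl⟩
    have : y = ψ x + (y - ψ x) := by abel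
    rw [this]
    exact Submodule.add_mem_sup ⟨x, rfl⟩ (hz ▸ h4)
  have h5 : (I ^ n • (I ^ n • ⊤ : Submodule A (N ⧸ (I ^ (n + 1) • ⊤ : Submodule A N)))) = ⊥ := by
    rw [eq_bot_iff, ← mul_smul, ← pow_add, Submodule.smul_le]
    intro a ha y _
    rw [Submodule.mem_bot]
    exact pow_smul_quot_eq_zero I (n + 1) a (Ideal.pow_le_pow_right (by omega) ha) y
  calc (⊤ : Submodule A (N ⧸ (I ^ (n + 1) • ⊤ : Submodule A N))) ≤ P ⊔ I ^ n • ⊤ := h1
    _ ≤ P ⊔ I ^ n • (P ⊔ I ^ n • ⊤) := sup_le_sup_left (Submodule.smul_mono le_rfl h1) P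
    _ = P ⊔ (I ^ n • P ⊔ I ^ n • (I ^ n • ⊤)) := by rw [Submodule.smul_sup]
    _ ≤ P := by
      rw [h5, sup_bot_eq]
      exact sup_le le_rfl Submodule.smul_le_right

end


section

variable {A : Type u} [CommRing A] [IsNoetherianRing A] (I : Ideal A) {M N : Type u}
  [AddCommGroup M] [Module A M] [Module.Finite A M] [AddCommGroup N] [Module A N]

/-- a surjection `M → N ⧸ I ^ n N` induces an isomorphism `M ⧸ I ^ n M ≃ N ⧸ I ^ n N` as soon as
the two quotients are abstractly isomorphic -/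
theorem exists_equiv_of_surjective (n : ℕ) (ψ : M →ₗ[A] N ⧸ (I ^ n • ⊤ : Submodule A N))
    (hψ : Function.Surjective ψ)
    (e : (M ⧸ (I ^ n • ⊤ : Submodule A M)) ≃ₗ[A] (N ⧸ (I ^ n • ⊤ : Submodule A N))) :
    ∃ φ : (M ⧸ (I ^ n • ⊤ : Submodule A M)) ≃ₗ[A] (N ⧸ (I ^ n • ⊤ : Submodule A N)),
      ∀ x : M, φ (Submodule.Quotient.mk x) = ψ x := by
  have hker : (I ^ n • ⊤ : Submodule A M) ≤ LinearMap.ker ψ := by
    rw [Submodule.smul_le]
    intro a ha x _
    rw [LinearMap.mem_ker, map_smul]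
    exact pow_smul_quot_eq_zero I n a ha _
  let φ₀ := Submodule.liftQ _ ψ hker
  have hsurj : Function.Surjective φ₀ := by
    rw [← LinearMap.range_eq_top, Submodule.range_liftQ, LinearMap.range_eq_top]
    exact hψ
  have hinj : Function.Injective φ₀ := by
    let g : (M ⧸ (I ^ n • ⊤ : Submodule A M)) →ₗ[A] (M ⧸ (I ^ n • ⊤ : Submodule A M)) :=
      (e.symm : (N ⧸ (I ^ n • ⊤ : Submodule A N)) →ₗ[A] (M ⧸ (I ^ n • ⊤ : Submodule A M))) ∘ₗ φ₀
    have h1 : Function.Surjective g := e.symm.surjective.comp hsurj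
    have h2 : Function.Injective g := IsNoetherian.injective_of_surjective_endomorphism g h1
    exact Function.Injective.of_comp (f := e.symm) h2
  exact ⟨LinearEquiv.ofBijective φ₀ ⟨hinj, hsurj⟩, fun x => rfl⟩

end

end Groth.Agent.H36
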