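import Mathlib

/-!
Splitting off a free summand after localizing at an element outside a maximal ideal, in terms of
linear forms: determinants of values of linear forms and linear independence modulo the
orthogonal of the dual.
-/

set_option autoImplicit false
universe u

namespace Groth.Agent.H36


section

variable {R : Type u} [CommRing R] {M : Type u} [AddCommGroup M] [Module R M]

/-- elements of `M` all of whose values under linear forms lie in `x` -/
def dualOrth (x : Ideal R) : Submodule R M where
  carrier := {m : M | ∀ φ : M →ₗ[R] R, φ m ∈ x}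
  add_mem' := by
    intro a b ha hb φ
    rw [map_add]
    exact x.add_mem (ha φ) (hb φ)
  zero_mem' := by
    intro φ
    rw [map_zero]
    exact x.zero_mem
  smul_mem' := by
    intro c a ha φ
    rw [map_smul]
    exact x.mul_mem_left c (ha φ)

theorem smul_top_le_dualOrth (x : Ideal R) : (x • ⊤ : Submodule R M) ≤ dualOrth x := by
  rw [Submodule.smul_le]
  intro a ha m _ φ
  rw [map_smul]
  exact x.mul_mem_right _ ha

theorem mem_span_image_iff (x : Ideal R) (y : M ⧸ (x • ⊤ : Submodule R M)) :
    y ∈ Submodule.span (R ⧸ x) ((x • ⊤ : Submodule R M).mkQ '' {m : M | ∀ φ : M →ₗ[R] R, φ m ∈ x})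
      ↔ ∃ m ∈ dualOrth (M := M) x, (x • ⊤ : Submodule R M).mkQ m = y := by
  constructor
  · intro hy
    induction hy using Submodule.span_induction with
    | mem y hy =>
      obtain ⟨m, hm, rfl⟩ := hy
      exact ⟨m, hm, rfl⟩
    | zero => exact ⟨0, Submodule.zero_mem _, by simp⟩
    | add a b _ _ ha hb =>
      obtain ⟨m, hm, rfl⟩ := ha
      obtain ⟨m', hm', rfl⟩ := hb
      exact ⟨m + m', Submodule.add_mem _ hm hm', by simp⟩
    | smul c a _ ha =>
      obtain ⟨m, hm, rfl⟩ := ha
      obtain ⟨c, rfl⟩ := Ideal.Quotient.mk_surjective c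
      exact ⟨c • m, Submodule.smul_mem _ c hm, rfl⟩
  · rintro ⟨m, hm, rfl⟩
    exact Submodule.subset_span ⟨m, hm, rfl⟩

theorem linearIndependent_iff_dualOrth (x : Ideal R) (r : ℕ) (s : Fin r → M) :
    LinearIndependent (R ⧸ x) (fun i =>
      (Submodule.span (R ⧸ x)
        ((x • ⊤ : Submodule R M).mkQ '' {m : M | ∀ φ : M →ₗ[R] R, φ m ∈ x})).mkQ
        ((x • ⊤ : Submodule R M).mkQ (s i))) ↔
    ∀ c : Fin r → R, (∑ i, c i • s i) ∈ dualOrth (M := M) x → ∀ i, c i ∈ x := by
  rw [Fintype.linearIndependent_iff]
  have key : ∀ c : Fin r → R,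
      (∑ i, (Ideal.Quotient.mk x (c i)) • (Submodule.span (R ⧸ x)
        ((x • ⊤ : Submodule R M).mkQ '' {m : M | ∀ φ : M →ₗ[R] R, φ m ∈ x})).mkQ
        ((x • ⊤ : Submodule R M).mkQ (s i)) = 0) ↔ (∑ i, c i • s i) ∈ dualOrth (M := M) x := by
    intro c
    have h1 : (∑ i, (Ideal.Quotient.mk x (c i)) • (Submodule.span (R ⧸ x)
        ((x • ⊤ : Submodule R M).mkQ '' {m : M | ∀ φ : M →ₗ[R] R, φ m ∈ x})).mkQ
        ((x • ⊤ : Submodule R M).mkQ (s i))) = (Submodule.span (R ⧸ x)
        ((x • ⊤ : Submodule R M).mkQ '' {m : M | ∀ φ : M →ₗ[R] R, φ m ∈ x})).mkQ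
        ((x • ⊤ : Submodule R M).mkQ (∑ i, c i • s i)) := by
      rw [map_sum, map_sum]
      apply Finset.sum_congr rfl
      intro i _
      rw [← map_smul]
      rfl
    rw [h1, Submodule.mkQ_apply, Submodule.Quotient.mk_eq_zero, mem_span_image_iff]
    constructor
    · rintro ⟨m, hm, hmeq⟩
      have : (∑ i, c i • s i) - m ∈ (x • ⊤ : Submodule R M) := by
        rw [← Submodule.Quotient.mk_eq_zero, Submodule.Quotient.mk_sub, sub_eq_zero]
        exact hmeq.symm
      have h2 := Submodule.add_mem _ (smul_top_le_dualOrth x this) hm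
      simpa using h2
    · intro h
      exact ⟨_, h, rfl⟩
  constructor
  · intro h c hc i
    have := h (fun i => Ideal.Quotient.mk x (c i)) ((key c).mpr hc) i
    exact Ideal.Quotient.eq_zero_iff_mem.mp this
  · intro h c hc i
    choose c' hc' using fun i => Ideal.Quotient.mk_surjective (c i)
    have hc2 : (fun i => Ideal.Quotient.mk x (c' i)) = c := funext hc'
    rw [← hc2] at hc
    have := h c' ((key c').mp hc) i
    rw [← hc' i]
    exact Ideal.Quotient.eq_zero_iff_mem.mpr this

end



section

variable {R : Type u} [CommRing R] {M : Type u} [AddCommGroup M] [Module R M]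

theorem dualOrth_iff_exists_det (x : Ideal R) [x.IsMaximal] (r : ℕ) (s : Fin r → M) :
    (∀ c : Fin r → R, (∑ i, c i • s i) ∈ dualOrth (M := M) x → ∀ i, c i ∈ x) ↔
    ∃ φ : Fin r → (M →ₗ[R] R), (Matrix.of fun i j => φ i (s j)).det ∉ x := by
  let _ : Field (R ⧸ x) := Ideal.Quotient.field x
  constructor
  · intro h
    -- the evaluation vectors span
    let U : (M →ₗ[R] R) → (Fin r → R ⧸ x) := fun φ j => Ideal.Quotient.mk x (φ (s j))
    have hspan : Submodule.span (R ⧸ x) (Set.range U) = ⊤ := by
      by_contra hne
      obtain ⟨f, hf0, hf⟩ := Submodule.exists_le_ker_of_lt_top _ (lt_top_iff_ne_top.mpr hne)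
      choose c hc using fun j => Ideal.Quotient.mk_surjective (f (Pi.single j 1))
      have hfv : ∀ v : Fin r → R ⧸ x, f v = ∑ j, v j * Ideal.Quotient.mk x (c j) := by
        intro v
        conv_lhs => rw [← Finset.univ_sum_single v]
        rw [map_sum]
        apply Finset.sum_congr rfl
        intro j _
        have : (Pi.single j (v j) : Fin r → R ⧸ x) = v j • Pi.single j 1 := by
          rw [← Pi.single_smul, smul_eq_mul, mul_one]
        rw [this, map_smul, hc, smul_eq_mul]
      have hmem : (∑ j, c j • s j) ∈ dualOrth (M := M) x := by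
        intro φ
        have h0 : f (U φ) = 0 := hf (Submodule.subset_span ⟨φ, rfl⟩)
        rw [hfv] at h0
        rw [← Ideal.Quotient.eq_zero_iff_mem, map_sum, map_sum]
        rw [← h0]
        apply Finset.sum_congr rfl
        intro j _
        rw [map_smul, smul_eq_mul, map_mul, mul_comm]
      have hcx := h c hmem
      apply hf0
      apply LinearMap.ext
      intro v
      rw [hfv, LinearMap.zero_apply]
      apply Finset.sum_eq_zero
      intro j _
      rw [Ideal.Quotient.eq_zero_iff_mem.mpr (hcx j), mul_zero]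
    obtain ⟨b, hbU, hbspan, hbli⟩ := exists_linearIndependent (R ⧸ x) (Set.range U)
    rw [hspan] at hbspan
    let B : Module.Basis b (R ⧸ x) (Fin r → R ⧸ x) :=
      Module.Basis.mk hbli (by rw [Subtype.range_coe, hbspan])
    have hfin : Finite b := Module.Finite.finite_basis B
    have : Fintype b := Fintype.ofFinite b
    have hcard : Fintype.card b = r := by
      rw [← Module.finrank_eq_card_basis B, Module.finrank_fin_fun]
    let e : Fin r ≃ b := (Fintype.equivFinOfCardEq hcard).symm
    choose φ hφ using fun i : Fin r => hbU (e i).2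
    refine ⟨φ, ?_⟩
    have hli : LinearIndependent (R ⧸ x) (fun i : Fin r => U (φ i)) := by
      have h1 : (fun i : Fin r => U (φ i)) = (fun y : b => (y : Fin r → R ⧸ x)) ∘ e := by
        funext i
        exact hφ i
      rw [h1]
      exact hbli.comp e e.injective
    have hunit : IsUnit (Matrix.of (fun i j => U (φ i) j)) :=
      Matrix.linearIndependent_rows_iff_isUnit.mp hli
    have hdet := (Matrix.isUnit_iff_isUnit_det _).mp hunit
    intro hmem
    have h2 : (Matrix.of (fun i j => U (φ i) j)).det =
        Ideal.Quotient.mk x ((Matrix.of fun i j => φ i (s j)).det) := by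
      rw [RingHom.map_det]
      rfl
    rw [h2, Ideal.Quotient.eq_zero_iff_mem.mpr hmem] at hdet
    exact not_isUnit_zero hdet
  · rintro ⟨φ, hdet⟩ c hc
    let A : Matrix (Fin r) (Fin r) (R ⧸ x) :=
      (Matrix.of fun i j => φ i (s j)).map (Ideal.Quotient.mk x)
    have hA : A.det ≠ 0 := by
      have : A.det = Ideal.Quotient.mk x ((Matrix.of fun i j => φ i (s j)).det) := by
        rw [RingHom.map_det]
        rfl
      rw [this]
      intro h0
      exact hdet (Ideal.Quotient.eq_zero_iff_mem.mp h0)
    have hv : A.mulVec (fun j => Ideal.Quotient.mk x (c j)) = 0 := by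
      funext i
      have h1 := hc (φ i)
      rw [map_sum] at h1
      rw [Matrix.mulVec, Pi.zero_apply]
      rw [← Ideal.Quotient.eq_zero_iff_mem, map_sum] at h1
      rw [← h1]
      simp only [dotProduct]
      apply Finset.sum_congr rfl
      intro j _
      rw [map_smul, smul_eq_mul, map_mul, mul_comm]
      rfl
    have := Matrix.eq_zero_of_mulVec_eq_zero hA hv
    intro i
    exact Ideal.Quotient.eq_zero_iff_mem.mp (congrFun this i)

end



section

variable {R : Type u} [CommRing R] {M : Type u} [AddCommGroup M] [Module R M]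

theorem exists_det_of_split [Module.FinitePresentation R M] (x : Ideal R) [x.IsPrime] (r : ℕ)
    (s : Fin r → M) (f : R) (hf : f ∉ x)
    (g : LocalizedModule (Submonoid.powers f) M →ₗ[Localization.Away f]
      (Fin r → Localization.Away f))
    (hg : g ∘ₗ Fintype.linearCombination (Localization.Away f)
      (fun i => LocalizedModule.mkLinearMap (Submonoid.powers f) M (s i)) = LinearMap.id) :
    ∃ φ : Fin r → (M →ₗ[R] R), (Matrix.of fun i j => φ i (s j)).det ∉ x := by
  classical
  let S := Submonoid.powers f
  let A := Localization.Away f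
  have hgs : ∀ j, g (LocalizedModule.mkLinearMap S M (s j)) = Pi.single j 1 := by
    intro j
    have := LinearMap.congr_fun hg (Pi.single j 1)
    simpa [Fintype.linearCombination_apply_single] using this
  let γ : Fin r → (M →ₗ[R] A) := fun i =>
    (((LinearMap.proj i : (Fin r → A) →ₗ[A] A) ∘ₗ g).restrictScalars R) ∘ₗ
      LocalizedModule.mkLinearMap S M
  have key := fun i => Module.FinitePresentation.exists_lift_of_isLocalizedModule S
    (Algebra.linearMap R A) (γ i)
  choose φ t hφt using key
  refine ⟨φ, ?_⟩
  have hentry : ∀ i j, algebraMap R A (φ i (s j)) =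
      if i = j then algebraMap R A (t i : R) else 0 := by
    intro i j
    have h1 := LinearMap.congr_fun (hφt i) (s j)
    simp only [LinearMap.coe_comp, Function.comp_apply, Algebra.linearMap_apply,
      LinearMap.smul_apply] at h1
    rw [h1]
    simp only [γ, LinearMap.coe_comp, Function.comp_apply, LinearMap.coe_restrictScalars,
      LinearMap.proj_apply]
    rw [hgs j]
    by_cases hij : i = j
    · subst hij
      rw [Pi.single_eq_same, if_pos rfl, Submonoid.smul_def, Algebra.smul_def, mul_one]
    · rw [Pi.single_eq_of_ne hij, if_neg hij, smul_zero]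
  have hdet : algebraMap R A ((Matrix.of fun i j => φ i (s j)).det) =
      algebraMap R A (∏ i, (t i : R)) := by
    rw [RingHom.map_det, map_prod]
    have : (algebraMap R A).mapMatrix (Matrix.of fun i j => φ i (s j)) =
        Matrix.diagonal (fun i => algebraMap R A (t i : R)) := by
      ext i j
      simp only [RingHom.mapMatrix_apply, Matrix.map_apply, Matrix.of_apply, hentry,
        Matrix.diagonal_apply]
    rw [this, Matrix.det_diagonal]
  obtain ⟨u, hu⟩ := (IsLocalization.eq_iff_exists S A).mp hdet
  intro hmem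
  have h2 : (u : R) * ∏ i, (t i : R) ∈ x := by
    rw [← hu]
    exact x.mul_mem_left _ hmem
  have h3 : (u : R) * ∏ i, (t i : R) ∈ S := by
    apply Submonoid.mul_mem _ u.2
    apply Submonoid.prod_mem
    intro i _
    exact (t i).2
  obtain ⟨n, hn⟩ := h3
  rw [← hn] at h2
  exact hf (Ideal.IsPrime.mem_of_pow_mem inferInstance n h2)

theorem exists_split_of_det (x : Ideal R) (r : ℕ)
    (s : Fin r → M) (φ : Fin r → (M →ₗ[R] R))
    (hdet : (Matrix.of fun i j => φ i (s j)).det ∉ x) :
    ∃ f : R, f ∉ x ∧
      ∃ g : LocalizedModule (Submonoid.powers f) M →ₗ[Localization.Away f]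
          (Fin r → Localization.Away f),
        g ∘ₗ Fintype.linearCombination (Localization.Away f)
            (fun i => LocalizedModule.mkLinearMap (Submonoid.powers f) M (s i)) =
          LinearMap.id := by
  classical
  let A₀ : Matrix (Fin r) (Fin r) R := Matrix.of fun i j => φ i (s j)
  let D := A₀.det
  refine ⟨D, hdet, ?_⟩
  let S := Submonoid.powers D
  let A := Localization.Away D
  let ψ : Fin r → (M →ₗ[R] R) := fun i => ∑ k, A₀.adjugate i k • φ k
  have hψ : ∀ i j, ψ i (s j) = if i = j then D else 0 := by
    intro i j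
    have h1 : ψ i (s j) = (A₀.adjugate * A₀) i j := by
      simp only [ψ, LinearMap.sum_apply, LinearMap.smul_apply, smul_eq_mul, Matrix.mul_apply]
      rfl
    rw [h1, Matrix.adjugate_mul, Matrix.smul_apply, Matrix.one_apply, smul_eq_mul]
    split_ifs <;> simp [D]
  let invD : A := IsLocalization.Away.invSelf D
  have hinvD : algebraMap R A D * invD = 1 := IsLocalization.Away.mul_invSelf D
  let gi : Fin r → (LocalizedModule S M →ₗ[A] A) := fun i =>
    invD • (LinearMap.extendScalarsOfIsLocalization S A
      (IsLocalizedModule.lift S (LocalizedModule.mkLinearMap S M)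
        ((Algebra.linearMap R A) ∘ₗ ψ i)
        (IsLocalizedModule.map_units (Algebra.linearMap R A))))
  have hgi : ∀ i j, gi i (LocalizedModule.mkLinearMap S M (s j)) = if i = j then 1 else 0 := by
    intro i j
    simp only [gi, LinearMap.smul_apply, LinearMap.extendScalarsOfIsLocalization_apply']
    rw [IsLocalizedModule.lift_apply]
    simp only [LinearMap.coe_comp, Function.comp_apply, Algebra.linearMap_apply, hψ]
    split_ifs
    · rw [smul_eq_mul, mul_comm, hinvD]
    · rw [map_zero, smul_zero]
  refine ⟨LinearMap.pi gi, ?_⟩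
  apply LinearMap.pi_ext'
  intro j
  apply LinearMap.ext_ring
  funext i
  simp only [LinearMap.coe_comp, Function.comp_apply, LinearMap.coe_single,
    Fintype.linearCombination_apply_single, one_smul, LinearMap.pi_apply, LinearMap.id_coe, id_eq]
  rw [hgi i j, Pi.single_apply]

end

end Groth.Agent.H36
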