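import Mathlib
import Groth.Agent.H36.DualSplit

set_option autoImplicit false
set_option linter.unusedSectionVars false
set_option linter.style.haveILetI false
universe u

namespace Groth.Agent.H36

open TopologicalSpace


section Fiber

variable {R : Type u} [CommRing R] {M : Type u} [AddCommGroup M] [Module R M]

/-- the orthogonal of the image of the dual, in the fibre -/
abbrev fibB (M : Type u) [AddCommGroup M] [Module R M] (x : MaximalSpectrum R) :
    Submodule (R ⧸ x.asIdeal) (M ⧸ (x.asIdeal • ⊤ : Submodule R M)) :=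
  Submodule.span (R ⧸ x.asIdeal)
    ((x.asIdeal • ⊤ : Submodule R M).mkQ '' {m : M | ∀ φ : M →ₗ[R] R, φ m ∈ x.asIdeal})

/-- the class of an element in the quotient of the fibre by the orthogonal of the dual -/
abbrev fibImg (x : MaximalSpectrum R) (m : M) :
    (M ⧸ (x.asIdeal • ⊤ : Submodule R M)) ⧸ fibB M x :=
  (fibB M x).mkQ ((x.asIdeal • ⊤ : Submodule R M).mkQ m)

theorem fibImg_add (x : MaximalSpectrum R) (m m' : M) :
    fibImg x (m + m') = fibImg x m + fibImg x m' := by
  simp only [fibImg, map_add]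

theorem fibImg_sub (x : MaximalSpectrum R) (m m' : M) :
    fibImg x (m - m') = fibImg x m - fibImg x m' := by
  simp only [fibImg, map_sub]

theorem fibImg_zero (x : MaximalSpectrum R) :
    fibImg x (0 : M) = 0 := by
  simp only [fibImg, map_zero]

theorem fibImg_smul (x : MaximalSpectrum R) (a : R) (m : M) :
    fibImg x (a • m) = (Ideal.Quotient.mk x.asIdeal a) • fibImg x m := by
  simp only [fibImg]
  rw [map_smul, ← map_smul]
  rfl

theorem fibImg_surjective (x : MaximalSpectrum R)
    (w : (M ⧸ (x.asIdeal • ⊤ : Submodule R M)) ⧸ fibB M x) : ∃ m : M, fibImg x m = w := by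
  obtain ⟨y, rfl⟩ := Submodule.mkQ_surjective _ w
  obtain ⟨m, rfl⟩ := Submodule.mkQ_surjective _ y
  exact ⟨m, rfl⟩

theorem fibImg_eq_of_sub_mem (x : MaximalSpectrum R) (m m' : M)
    (hm : m - m' ∈ (x.asIdeal • ⊤ : Submodule R M)) : fibImg x m = fibImg x m' := by
  simp only [fibImg]
  congr 1
  exact (Submodule.Quotient.eq _).2 hm

/-- independence of the classes at `x` -/
def FibIndep (x : MaximalSpectrum R) {r : ℕ} (s : Fin r → M) : Prop :=
  LinearIndependent (R ⧸ x.asIdeal) (fun i => fibImg x (s i))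

theorem fibIndep_iff_det (x : MaximalSpectrum R) {r : ℕ} (s : Fin r → M) :
    FibIndep x s ↔ ∃ φ : Fin r → (M →ₗ[R] R), (Matrix.of fun i j => φ i (s j)).det ∉ x.asIdeal := by
  unfold FibIndep
  rw [linearIndependent_iff_dualOrth x.asIdeal r s, dualOrth_iff_exists_det x.asIdeal r s]

theorem isOpen_fibIndep {r : ℕ} (s : Fin r → M) :
    IsOpen {x : MaximalSpectrum R | FibIndep x s} := by
  have : {x : MaximalSpectrum R | FibIndep x s} =
      ⋃ φ : Fin r → (M →ₗ[R] R), MaximalSpectrum.toPrimeSpectrum ⁻¹'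
        (PrimeSpectrum.basicOpen ((Matrix.of fun i j => φ i (s j)).det) : Set (PrimeSpectrum R)) := by
    ext x
    simp only [Set.mem_ofPred_eq, fibIndep_iff_det, Set.mem_iUnion, Set.mem_preimage]
    rfl
  rw [this]
  exact isOpen_iUnion fun φ =>
    (PrimeSpectrum.basicOpen _).isOpen.preimage MaximalSpectrum.toPrimeSpectrum_continuous

theorem isClosed_not_fibIndep {r : ℕ} (s : Fin r → M) :
    IsClosed {x : MaximalSpectrum R | ¬ FibIndep x s} := by
  have : {x : MaximalSpectrum R | ¬ FibIndep x s} = {x : MaximalSpectrum R | FibIndep x s}ᶜ := rfl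
  rw [this]
  exact (isOpen_fibIndep s).isClosed_compl

theorem fibIndep_snoc_iff (x : MaximalSpectrum R) {r : ℕ} (s : Fin r → M) (t : M) :
    FibIndep x (Fin.snoc s t : Fin (r + 1) → M) ↔
      LinearIndependent (R ⧸ x.asIdeal)
        (Fin.snoc (fun i => fibImg x (s i)) (fibImg x t) : Fin (r + 1) → _) := by
  unfold FibIndep
  have : (fun i => fibImg x ((Fin.snoc s t : Fin (r + 1) → M) i)) =
      (Fin.snoc (fun i => fibImg x (s i)) (fibImg x t) : Fin (r + 1) → _) := by
    have := Fin.comp_snoc (fibImg x) s t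
    simpa [Function.comp_def] using this
  rw [this]

end Fiber

section LinAlg

variable {K : Type*} [Field K] {V : Type*} [AddCommGroup V] [Module K V]

theorem linearIndependent_snoc_add_smul {r : ℕ} (u : Fin r → V) (u' u'' : V) (c : K)
    (hu : LinearIndependent K
      (Fin.snoc (Fin.snoc u u' : Fin (r + 1) → V) u'' : Fin (r + 1 + 1) → V)) :
    LinearIndependent K (Fin.snoc u (u' + c • u'') : Fin (r + 1) → V) := by
  rw [linearIndependent_finSnoc] at hu
  obtain ⟨hu1, hu2⟩ := hu
  rw [linearIndependent_finSnoc] at hu1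
  obtain ⟨hu0, hu1⟩ := hu1
  rw [linearIndependent_finSnoc]
  refine ⟨hu0, fun hmem => ?_⟩
  have hsub : Submodule.span K (Set.range u) ≤
      Submodule.span K (Set.range (Fin.snoc u u' : Fin (r + 1) → V)) := by
    apply Submodule.span_mono
    rintro _ ⟨i, rfl⟩
    exact ⟨Fin.castSucc i, by simp⟩
  have hu'mem : u' ∈ Submodule.span K (Set.range (Fin.snoc u u' : Fin (r + 1) → V)) :=
    Submodule.subset_span ⟨Fin.last r, by simp⟩
  by_cases hc : c = 0
  · subst hc
    simp only [zero_smul, add_zero] at hmem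
    exact hu1 hmem
  · apply hu2
    have h1 : c • u'' ∈ Submodule.span K (Set.range (Fin.snoc u u' : Fin (r + 1) → V)) := by
      have : c • u'' = (u' + c • u'') - u' := by abel
      rw [this]
      exact Submodule.sub_mem _ (hsub hmem) hu'mem
    have h2 := Submodule.smul_mem _ c⁻¹ h1
    rwa [smul_smul, inv_mul_cancel₀ hc, one_smul] at h2

end LinAlg




section Topo

variable {X : Type*} [TopologicalSpace X] [NoetherianSpace X]

theorem exists_trim (Zb F : Set X) (hZb : IsClosed Zb) :
    ∃ F' : Set X, IsClosed F' ∧ Zb ⊆ F ∪ F' ∧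
      ∀ Z : IrreducibleCloseds X, (Z : Set X) ⊆ F' →
        ∃ C : IrreducibleCloseds X, Z ≤ C ∧ (C : Set X) ⊆ Zb ∧ ¬ (C : Set X) ⊆ F := by
  classical
  obtain ⟨S, hSf, hSc, hSi, hSU⟩ := NoetherianSpace.exists_finite_set_isClosed_irreducible hZb
  lift S to Finset (Set X) using hSf
  refine ⟨⋃₀ ↑(S.filter fun C => ¬ C ⊆ F), ?_, ?_, ?_⟩
  · rw [Set.sUnion_eq_biUnion]
    exact Set.Finite.isClosed_biUnion (Finset.finite_toSet _)
      (fun C hC => hSc C (Finset.mem_filter.1 hC).1)
  · intro x hx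
    rw [hSU] at hx
    obtain ⟨C, hC, hxC⟩ := hx
    by_cases hCF : C ⊆ F
    · left; exact hCF hxC
    · right
      exact ⟨C, by simpa using ⟨hC, hCF⟩, hxC⟩
  · intro Z hZ
    obtain ⟨C, hC, hZC⟩ := isIrreducible_iff_sUnion_isClosed.1 Z.isIrreducible
      (S.filter fun C => ¬ C ⊆ F) (fun C hC => hSc C (Finset.mem_filter.1 hC).1) hZ
    rw [Finset.mem_filter] at hC
    refine ⟨⟨C, hSi C hC.1, hSc C hC.1⟩, hZC, ?_, hC.2⟩
    rw [hSU]
    exact Set.subset_sUnion_of_mem hC.1

theorem exists_generic_points (F F₁ : Set X) (hF₁ : IsClosed F₁) :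
    ∃ Y : Finset X, (∀ y ∈ Y, y ∈ F₁ ∧ y ∉ F) ∧
      ∀ C : IrreducibleCloseds X, (C : Set X) ⊆ F₁ → ¬ (C : Set X) ⊆ F →
        (∀ y ∈ Y, y ∉ (C : Set X)) →
        ∃ G : IrreducibleCloseds X, (G : Set X) ⊆ F₁ ∧ C < G := by
  classical
  obtain ⟨S, hSf, hSc, hSi, hSU⟩ := NoetherianSpace.exists_finite_set_isClosed_irreducible hF₁
  lift S to Finset (Set X) using hSf
  have hch : ∀ G : {G // G ∈ S.filter fun C => ¬ C ⊆ F}, ∃ y : X, y ∈ G.1 ∧ y ∉ F := by
    intro G
    exact Set.not_subset.1 (Finset.mem_filter.1 G.2).2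
  choose f hf using hch
  refine ⟨(S.filter fun C => ¬ C ⊆ F).attach.image f, ?_, ?_⟩
  · intro y hy
    rw [Finset.mem_image] at hy
    obtain ⟨G, -, rfl⟩ := hy
    refine ⟨?_, (hf G).2⟩
    rw [hSU]
    exact ⟨G.1, (Finset.mem_filter.1 G.2).1, (hf G).1⟩
  · intro C hC1 hCF hCY
    rw [hSU] at hC1
    obtain ⟨G, hG, hCG⟩ := isIrreducible_iff_sUnion_isClosed.1 C.isIrreducible S hSc hC1
    have hGF : ¬ G ⊆ F := fun h => hCF (hCG.trans h)
    have hGmem : G ∈ S.filter fun C => ¬ C ⊆ F := Finset.mem_filter.2 ⟨hG, hGF⟩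
    refine ⟨⟨G, hSi G hG, hSc G hG⟩, ?_, ?_⟩
    · rw [hSU]
      exact Set.subset_sUnion_of_mem hG
    · refine lt_of_le_of_ne hCG ?_
      intro heq
      have h1 := (hf ⟨G, hGmem⟩).1
      have h2 := hCY (f ⟨G, hGmem⟩) (Finset.mem_image.2 ⟨⟨G, hGmem⟩, Finset.mem_attach _ _, rfl⟩)
      apply h2
      rw [heq]
      exact h1

theorem coheight_succ_le_of_lt {k : ℕ} (F₁ : Set X)
    (hF₁ : ∀ Z : IrreducibleCloseds X, (Z : Set X) ⊆ F₁ → (k : ℕ∞) ≤ Order.coheight Z)
    (C G : IrreducibleCloseds X) (hG : (G : Set X) ⊆ F₁) (hCG : C < G) :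
    ((k + 1 : ℕ) : ℕ∞) ≤ Order.coheight C := by
  have h1 := Order.coheight_add_one_le hCG
  have h2 := hF₁ G hG
  push_cast
  exact (add_le_add_left h2 1).trans h1

end Topo



section CRT

variable {R : Type u} [CommRing R] {M : Type u} [AddCommGroup M] [Module R M]

theorem exists_crt (P : Finset (MaximalSpectrum R)) (c : MaximalSpectrum R → R) :
    ∃ a : R, ∀ x ∈ P, a - c x ∈ x.asIdeal := by
  have hI : Pairwise (Function.onFun IsCoprime fun i : {x // x ∈ P} => i.1.asIdeal) := by
    intro i j hij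
    haveI := i.1.isMaximal
    haveI := j.1.isMaximal
    exact Ideal.isCoprime_of_isMaximal (fun h => hij (Subtype.ext (MaximalSpectrum.ext h)))
  obtain ⟨a, ha⟩ := Ideal.exists_forall_sub_mem_ideal hI (fun i => c i.1)
  exact ⟨a, fun x hx => ha ⟨x, hx⟩⟩

theorem exists_crt_module (P : Finset (MaximalSpectrum R)) (v : MaximalSpectrum R → M) :
    ∃ t : M, ∀ x ∈ P, t - v x ∈ (x.asIdeal • ⊤ : Submodule R M) := by
  classical
  choose e he using fun y : MaximalSpectrum R => exists_crt P (fun x => if x = y then 1 else 0)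
  refine ⟨∑ y ∈ P, e y • v y, fun x hx => ?_⟩
  rw [← Finset.add_sum_erase P _ hx]
  have : e x • v x + ∑ y ∈ P.erase x, e y • v y - v x =
      (e x - 1) • v x + ∑ y ∈ P.erase x, e y • v y := by
    rw [sub_smul, one_smul]; abel
  rw [this]
  refine Submodule.add_mem _ (Submodule.smul_mem_smul ?_ trivial)
    (Submodule.sum_mem _ fun y hy => Submodule.smul_mem_smul ?_ trivial)
  · simpa using he x x hx
  · have := he y x hx
    rw [if_neg (Finset.ne_of_mem_erase hy).symm, sub_zero] at this
    exact this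

end CRT


section Main

variable {R : Type u} [CommRing R] {M : Type u} [AddCommGroup M] [Module R M]

theorem fibIndep_snoc_congr (x : MaximalSpectrum R) {r : ℕ} (s : Fin r → M) (t t' : M)
    (htt : fibImg x t = fibImg x t') :
    FibIndep x (Fin.snoc s t : Fin (r + 1) → M) ↔ FibIndep x (Fin.snoc s t' : Fin (r + 1) → M) := by
  rw [fibIndep_snoc_iff, fibIndep_snoc_iff, htt]

theorem fibIndep_of_snoc (x : MaximalSpectrum R) {r : ℕ} (s : Fin r → M) (t : M)
    (h : FibIndep x (Fin.snoc s t : Fin (r + 1) → M)) : FibIndep x s := by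
  rw [fibIndep_snoc_iff] at h
  have h2 := h.comp Fin.castSucc (Fin.castSucc_injective _)
  rwa [Fin.snoc_comp_castSucc] at h2

theorem exists_fibIndep_snoc [Module.Finite R M] (x : MaximalSpectrum R) {r : ℕ} (s : Fin r → M)
    (hs : FibIndep x s)
    (hr : r < Module.finrank (R ⧸ x.asIdeal)
      ((M ⧸ (x.asIdeal • ⊤ : Submodule R M)) ⧸ fibB M x)) :
    ∃ w : M, FibIndep x (Fin.snoc s w : Fin (r + 1) → M) := by
  let _ : Field (R ⧸ x.asIdeal) := Ideal.Quotient.field x.asIdeal
  obtain ⟨w', hw'⟩ := exists_linearIndependent_snoc_of_lt_finrank hs hr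
  obtain ⟨w, rfl⟩ := fibImg_surjective x w'
  exact ⟨w, (fibIndep_snoc_iff x s w).2 hw'⟩

theorem fibIndep_snoc_add_smul (x : MaximalSpectrum R) {r : ℕ} (s : Fin r → M) (s' t : M) (a : R)
    (h : FibIndep x (Fin.snoc (Fin.snoc s s' : Fin (r + 1) → M) t : Fin (r + 1 + 1) → M)) :
    FibIndep x (Fin.snoc s (s' + a • t) : Fin (r + 1) → M) := by
  let _ : Field (R ⧸ x.asIdeal) := Ideal.Quotient.field x.asIdeal
  rw [fibIndep_snoc_iff] at h ⊢
  have h2 : (fun i => fibImg x ((Fin.snoc s s' : Fin (r + 1) → M) i)) =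
      (Fin.snoc (fun i => fibImg x (s i)) (fibImg x s') : Fin (r + 1) → _) := by
    have := Fin.comp_snoc (fibImg x) s s'
    simpa [Function.comp_def] using this
  rw [h2] at h
  rw [fibImg_add, fibImg_smul]
  exact linearIndependent_snoc_add_smul _ _ _ _ h

theorem serre_aux [NoetherianSpace (MaximalSpectrum R)] [Module.Finite R M] (k : ℕ) :
    ∀ (h : ℕ) (s : Fin h → M) (F : Set (MaximalSpectrum R)), IsClosed F →
    ∀ (P : Finset (MaximalSpectrum R)), (↑P : Set (MaximalSpectrum R)) ⊆ F →
    ∀ (v : MaximalSpectrum R → M),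
    (∀ x : MaximalSpectrum R, h + k ≤ Module.finrank (R ⧸ x.asIdeal)
      ((M ⧸ (x.asIdeal • ⊤ : Submodule R M)) ⧸ fibB M x)) →
    (∀ x, ¬ FibIndep x s → x ∈ F) →
    ∃ (t : M) (F' : Set (MaximalSpectrum R)), IsClosed F' ∧
      (∀ x ∈ P, fibImg x t = fibImg x (v x)) ∧
      (∀ x, ¬ FibIndep x (Fin.snoc s t : Fin (h + 1) → M) → x ∈ F ∪ F') ∧
      ∀ Z : IrreducibleCloseds (MaximalSpectrum R), (Z : Set _) ⊆ F' →
        (k : ℕ∞) ≤ Order.coheight Z := by
  induction k with
  | zero =>
    intro h s F hF P hP v hrank hZ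
    obtain ⟨t, ht⟩ := exists_crt_module P v
    exact ⟨t, Set.univ, isClosed_univ, fun x hx => fibImg_eq_of_sub_mem x _ _ (ht x hx),
      fun x _ => Or.inr trivial, fun Z _ => by simp⟩
  | succ k ih =>
    intro h s F hF P hP v hrank hZ
    classical
    obtain ⟨s', F₁, hF₁, hs'P, hs'Z, hF₁c⟩ :=
      ih h s F hF P hP v (fun x => by have := hrank x; omega) hZ
    obtain ⟨Y, hY, hYC⟩ := exists_generic_points F F₁ hF₁
    have hw : ∀ y : MaximalSpectrum R, ∃ w : M,
        y ∈ Y → FibIndep y (Fin.snoc s w : Fin (h + 1) → M) := by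
      intro y
      by_cases hy : y ∈ Y
      · have hyF : y ∉ F := (hY y hy).2
        have hind : FibIndep y s := by
          by_contra hc
          exact hyF (hZ y hc)
        obtain ⟨w, hw⟩ := exists_fibIndep_snoc y s hind (by have := hrank y; omega)
        exact ⟨w, fun _ => hw⟩
      · exact ⟨0, fun h => absurd h hy⟩
    choose w hw using hw
    obtain ⟨t, F₃, hF₃, htP, htZ, hF₃c⟩ := ih (h + 1) (Fin.snoc s s') (F ∪ F₁) (hF.union hF₁)
      (P ∪ Y) (by
        intro x hx
        rw [Finset.coe_union] at hx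
        rcases hx with hx | hx
        · exact Or.inl (hP hx)
        · exact Or.inr (hY x hx).1)
      (fun x => if x ∈ P then 0 else w x - s') (fun x => by have := hrank x; omega) hs'Z
    obtain ⟨Zp, hZp, hZpC⟩ := exists_generic_points (F ∪ F₁) F₃ hF₃
    obtain ⟨a, ha⟩ := exists_crt (Y ∪ Zp) (fun x => if x ∈ Y then 1 else 0)
    set snew := s' + a • t with hsnew
    obtain ⟨F', hF', hZbF', hF'c⟩ := exists_trim
      {x | ¬ FibIndep x (Fin.snoc s snew : Fin (h + 1) → M)} F (isClosed_not_fibIndep _)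
    have hbad_sub : ∀ x, ¬ FibIndep x (Fin.snoc s snew : Fin (h + 1) → M) →
        x ∈ (F ∪ F₁) ∪ F₃ := by
      intro x hx
      by_contra hc
      exact hx (fibIndep_snoc_add_smul x s s' t a (by
        by_contra h3
        exact hc (htZ x h3)))
    have hY_good : ∀ y ∈ Y, FibIndep y (Fin.snoc s snew : Fin (h + 1) → M) := by
      intro y hy
      have hyP : y ∉ P := fun hyP => (hY y hy).2 (hP hyP)
      have h1 : fibImg y snew = fibImg y (w y) := by
        have h2 := htP y (Finset.mem_union_right _ hy)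
        rw [if_neg hyP, fibImg_sub] at h2
        have h3 := ha y (Finset.mem_union_left _ hy)
        rw [if_pos hy] at h3
        have h4 : Ideal.Quotient.mk y.asIdeal a = 1 := by
          rw [← map_one (Ideal.Quotient.mk y.asIdeal)]
          exact Ideal.Quotient.eq.2 h3
        rw [hsnew, fibImg_add, fibImg_smul, h4, one_smul, h2]
        abel
      exact (fibIndep_snoc_congr y s _ _ h1).2 (hw y hy)
    have hZp_good : ∀ z ∈ Zp, FibIndep z (Fin.snoc s snew : Fin (h + 1) → M) := by
      intro z hz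
      have hzFF : z ∉ F ∪ F₁ := (hZp z hz).2
      have hzY : z ∉ Y := fun hzY => hzFF (Or.inr (hY z hzY).1)
      have h1 : fibImg z snew = fibImg z s' := by
        have h3 := ha z (Finset.mem_union_right _ hz)
        rw [if_neg hzY, sub_zero] at h3
        have h4 : Ideal.Quotient.mk z.asIdeal a = 0 := Ideal.Quotient.eq_zero_iff_mem.2 h3
        rw [hsnew, fibImg_add, fibImg_smul, h4, zero_smul, add_zero]
      refine (fibIndep_snoc_congr z s _ _ h1).2 ?_
      by_contra hc
      exact hzFF (hs'Z z hc)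
    refine ⟨snew, F', hF', ?_, ?_, ?_⟩
    · intro x hx
      have h2 := htP x (Finset.mem_union_left _ hx)
      rw [if_pos hx, fibImg_zero] at h2
      rw [hsnew, fibImg_add, fibImg_smul, h2, smul_zero, add_zero]
      exact hs'P x hx
    · intro x hx
      exact hZbF' hx
    · intro Z hZF'
      obtain ⟨C, hZC, hCbad, hCF⟩ := hF'c Z hZF'
      have hCk : ((k + 1 : ℕ) : ℕ∞) ≤ Order.coheight C := by
        by_cases hC1 : (C : Set _) ⊆ F₁
        · obtain ⟨G, hG, hCG⟩ := hYC C hC1 hCF (fun y hy hyC => hCbad hyC (hY_good y hy))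
          exact coheight_succ_le_of_lt F₁ hF₁c C G hG hCG
        · have hCFF : ¬ (C : Set _) ⊆ F ∪ F₁ := by
            intro hsub
            rcases (isPreirreducible_iff_isClosed_union_isClosed.1
              C.isIrreducible.isPreirreducible) F F₁ hF hF₁ hsub with h1 | h1
            · exact hCF h1
            · exact hC1 h1
          have hC3 : (C : Set _) ⊆ F₃ := by
            have hsub : (C : Set _) ⊆ (F ∪ F₁) ∪ F₃ := fun x hx => hbad_sub x (hCbad hx)
            rcases (isPreirreducible_iff_isClosed_union_isClosed.1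
              C.isIrreducible.isPreirreducible) (F ∪ F₁) F₃ (hF.union hF₁) hF₃ hsub with h1 | h1
            · exact absurd h1 hCFF
            · exact h1
          obtain ⟨H, hH, hCH⟩ := hZpC C hC3 hCFF (fun z hz hzC => hCbad hzC (hZp_good z hz))
          exact coheight_succ_le_of_lt F₃ hF₃c C H hH hCH
      exact hCk.trans (Order.coheight_anti hZC)

end Main


section Summand


variable {R : Type u} [CommRing R] {M : Type u} [AddCommGroup M] [Module R M]

theorem exists_det_not_mem_of_free_summand (m : Ideal R) [m.IsMaximal] (r : ℕ)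
    [Module.FinitePresentation R M]
    (f : (Fin r → Localization.AtPrime m) →ₗ[Localization.AtPrime m]
      LocalizedModule m.primeCompl M)
    (g : LocalizedModule m.primeCompl M →ₗ[Localization.AtPrime m]
      (Fin r → Localization.AtPrime m))
    (hgf : g ∘ₗ f = LinearMap.id) :
    ∃ (s : Fin r → M) (φ : Fin r → (M →ₗ[R] R)),
      (Matrix.of fun i j => φ i (s j)).det ∉ m := by
  classical
  -- the R-linear forms with values in the localization
  let gi : Fin r → (M →ₗ[R] Localization.AtPrime m) := fun i =>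
    ((LinearMap.proj i : (Fin r → Localization.AtPrime m) →ₗ[Localization.AtPrime m] _).restrictScalars R) ∘ₗ
      (g.restrictScalars R) ∘ₗ (LocalizedModule.mkLinearMap m.primeCompl M)
  have hlift : ∀ i, ∃ (φ : M →ₗ[R] R) (c : m.primeCompl),
      (Algebra.linearMap R (Localization.AtPrime m)) ∘ₗ φ = c • gi i := fun i =>
    Module.FinitePresentation.exists_lift_of_isLocalizedModule m.primeCompl
      (Algebra.linearMap R (Localization.AtPrime m)) (gi i)
  choose φ c hφ using hlift
  have hsurj : ∀ j : Fin r, ∃ p : M × m.primeCompl,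
      p.2 • f (Pi.single j 1) = LocalizedModule.mkLinearMap m.primeCompl M p.1 := fun j =>
    IsLocalizedModule.surj m.primeCompl (LocalizedModule.mkLinearMap m.primeCompl M) _
  choose p hp using hsurj
  refine ⟨fun j => (p j).1, φ, ?_⟩
  have hentry : ∀ i j, algebraMap R (Localization.AtPrime m) (φ i (p j).1) =
      if i = j then algebraMap R (Localization.AtPrime m) ((c i : R) * ((p i).2 : R)) else 0 := by
    intro i j
    have h1 := LinearMap.congr_fun (hφ i) (p j).1
    simp only [LinearMap.comp_apply, Algebra.linearMap_apply, LinearMap.smul_apply] at h1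
    rw [h1]
    simp only [gi, LinearMap.comp_apply, LinearMap.restrictScalars_apply, LinearMap.proj_apply]
    rw [← hp j]
    have h2 : g ((p j).2 • f (Pi.single j 1)) =
        (((p j).2 : R)) • (Pi.single j 1 : Fin r → Localization.AtPrime m) := by
      have h0 := LinearMap.congr_fun hgf (Pi.single j 1)
      simp only [LinearMap.comp_apply, LinearMap.id_apply] at h0
      rw [Submonoid.smul_def]
      have h3 := (g.restrictScalars R).map_smul ((p j).2 : R) (f (Pi.single j 1))
      rw [LinearMap.restrictScalars_apply, LinearMap.restrictScalars_apply] at h3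
      rw [h3, h0]
    rw [h2]
    rw [Submonoid.smul_def, Pi.smul_apply, Pi.single_apply]
    by_cases hij : i = j
    · subst hij
      rw [if_pos rfl, if_pos rfl, Algebra.smul_def, Algebra.smul_def, mul_one, map_mul]
    · rw [if_neg hij, if_neg hij, smul_zero, smul_zero]
  intro hdet
  have hmat : (algebraMap R (Localization.AtPrime m)).mapMatrix (Matrix.of fun i j => φ i (p j).1) =
      Matrix.diagonal fun i => algebraMap R (Localization.AtPrime m) ((c i : R) * ((p i).2 : R)) := by
    ext i j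
    rw [RingHom.mapMatrix_apply, Matrix.map_apply, Matrix.of_apply, hentry i j, Matrix.diagonal_apply]
  have hdet2 := congrArg Matrix.det hmat
  rw [← RingHom.map_det, Matrix.det_diagonal, ← map_prod] at hdet2
  have hu : IsUnit (algebraMap R (Localization.AtPrime m) (∏ i, ((c i : R) * ((p i).2 : R)))) := by
    rw [IsLocalization.AtPrime.isUnit_to_map_iff (Localization.AtPrime m) m]
    exact (m.primeCompl).prod_mem fun i _ => (m.primeCompl).mul_mem (c i).2 (p i).2.2
  rw [← hdet2, IsLocalization.AtPrime.isUnit_to_map_iff (Localization.AtPrime m) m] at hu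
  exact hu hdet




theorem le_finrank_of_fibIndep [Module.Finite R M] (x : MaximalSpectrum R) {r : ℕ} (s : Fin r → M)
    (hs : FibIndep x s) :
    r ≤ Module.finrank (R ⧸ x.asIdeal) ((M ⧸ (x.asIdeal • ⊤ : Submodule R M)) ⧸ fibB M x) := by
  let _ : Field (R ⧸ x.asIdeal) := Ideal.Quotient.field x.asIdeal
  have : Module.Finite (R ⧸ x.asIdeal) (M ⧸ (x.asIdeal • ⊤ : Submodule R M)) :=
    Module.Finite.of_restrictScalars_finite R _ _
  have := hs.fintype_card_le_finrank
  simpa using this

theorem exists_dual_eq_one_of_forall_fibIndep (t : M)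
    (ht : ∀ x : MaximalSpectrum R, FibIndep x (Fin.snoc (Fin.elim0 : Fin 0 → M) t : Fin (0 + 1) → M)) :
    ∃ φ : M →ₗ[R] R, φ t = 1 := by
  let I : Ideal R := LinearMap.range (LinearMap.applyₗ t : (M →ₗ[R] R) →ₗ[R] R)
  have hI : I = ⊤ := by
    by_contra hne
    obtain ⟨m, hm, hIm⟩ := Ideal.exists_le_maximal I hne
    have h1 := ht ⟨m, hm⟩
    rw [fibIndep_iff_det] at h1
    obtain ⟨φ, hφ⟩ := h1
    apply hφ
    apply hIm
    rw [Matrix.det_fin_one]
    simp only [Matrix.of_apply]
    refine ⟨φ 0, ?_⟩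
    simp [Fin.snoc]
  have h1 : (1 : R) ∈ I := by rw [hI]; trivial
  obtain ⟨φ, hφ⟩ := h1
  exact ⟨φ, hφ⟩


end Summand

end Groth.Agent.H36
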