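import Mathlib
import Groth.Agent.H36.Serre
import Groth.Agent.H36.BassU

set_option autoImplicit false
set_option linter.unusedSectionVars false
set_option linter.style.haveILetI false
universe u

namespace Groth.Agent.H36

open TopologicalSpace

section Dim

variable {R : Type u} [CommRing R]

theorem noetherianSpace_maximalSpectrum_of_noetherian [IsNoetherianRing R] :
    NoetherianSpace (MaximalSpectrum R) :=
  noetherianSpace_maximalSpectrum

theorem topologicalKrullDim_maximalSpectrum_le :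
    topologicalKrullDim (MaximalSpectrum R) ≤ ringKrullDim R := by
  have hind : Topology.IsInducing (MaximalSpectrum.toPrimeSpectrum (R := R)) := ⟨rfl⟩
  have := hind.topologicalKrullDim_le
  rwa [PrimeSpectrum.topologicalKrullDim_eq_ringKrullDim] at this

end Dim

section Rank

variable {R : Type u} [CommRing R] {M : Type u} [AddCommGroup M] [Module R M]

theorem le_finrank_fib_of_le_rankAtStalk [Module.Finite R M] [Module.Projective R M]
    (x : MaximalSpectrum R) (r : ℕ)
    (hr : r ≤ Module.rankAtStalk M x.toPrimeSpectrum) :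
    r ≤ Module.finrank (R ⧸ x.asIdeal) ((M ⧸ (x.asIdeal • ⊤ : Submodule R M)) ⧸ fibB M x) := by
  haveI := x.isMaximal
  haveI : Module.FinitePresentation R M := Module.finitePresentation_of_projective R M
  haveI : Module.Free (Localization.AtPrime x.asIdeal)
      (LocalizedModule x.asIdeal.primeCompl M) := Module.free_of_flat_of_isLocalRing
  let n' := Module.finrank (Localization.AtPrime x.asIdeal)
      (LocalizedModule x.asIdeal.primeCompl M)
  have hn' : r ≤ n' := hr
  let b : Module.Basis (Fin n') (Localization.AtPrime x.asIdeal)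
      (LocalizedModule x.asIdeal.primeCompl M) := Module.finBasis _ _
  let ι : Fin r → Fin n' := Fin.castLE hn'
  have hι : Function.Injective ι := Fin.castLE_injective hn'
  let f : (Fin r → Localization.AtPrime x.asIdeal) →ₗ[Localization.AtPrime x.asIdeal]
      LocalizedModule x.asIdeal.primeCompl M :=
    b.equivFun.symm.toLinearMap ∘ₗ Function.ExtendByZero.linearMap (Localization.AtPrime x.asIdeal) ι
  let g : LocalizedModule x.asIdeal.primeCompl M →ₗ[Localization.AtPrime x.asIdeal]
      (Fin r → Localization.AtPrime x.asIdeal) :=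
    LinearMap.funLeft (Localization.AtPrime x.asIdeal) (Localization.AtPrime x.asIdeal) ι ∘ₗ
      b.equivFun.toLinearMap
  have hgf : g ∘ₗ f = LinearMap.id := by
    ext v i
    simp only [g, f, LinearMap.comp_apply, LinearEquiv.coe_coe, LinearEquiv.apply_symm_apply,
      LinearMap.funLeft_apply, Function.ExtendByZero.linearMap_apply, LinearMap.id_apply]
    rw [hι.extend_apply]
  obtain ⟨s, φ, hdet⟩ := exists_det_not_mem_of_free_summand x.asIdeal r f g hgf
  exact le_finrank_of_fibIndep x s ((fibIndep_iff_det x s).2 ⟨φ, hdet⟩)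

end Rank

section Affine

variable {R : Type u} [CommRing R] {M : Type u} [AddCommGroup M] [Module R M]

theorem serre_affine [NoetherianSpace (MaximalSpectrum R)] [Module.Finite R M] (k : ℕ) :
    ∀ (u : M) (a : R) (F : Set (MaximalSpectrum R)), IsClosed F →
    (∀ x : MaximalSpectrum R, 0 + k ≤ Module.finrank (R ⧸ x.asIdeal)
      ((M ⧸ (x.asIdeal • ⊤ : Submodule R M)) ⧸ fibB M x)) →
    (∀ x : MaximalSpectrum R, a ∈ x.asIdeal →
      ¬ FibIndep x (Fin.snoc (Fin.elim0 : Fin 0 → M) u : Fin (0 + 1) → M) → x ∈ F) →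
    ∃ (t : M) (F' : Set (MaximalSpectrum R)), IsClosed F' ∧
      (∀ x, ¬ FibIndep x (Fin.snoc (Fin.elim0 : Fin 0 → M) (u + a • t) : Fin (0 + 1) → M) →
        x ∈ F ∪ F') ∧
      ∀ Z : IrreducibleCloseds (MaximalSpectrum R), (Z : Set _) ⊆ F' →
        (k : ℕ∞) ≤ Order.coheight Z := by
  induction k with
  | zero =>
    intro u a F hF hrank hZ
    exact ⟨0, Set.univ, isClosed_univ, fun x _ => Or.inr trivial, fun Z _ => by simp⟩
  | succ k ih =>
    intro u a F hF hrank hZ
    classical
    obtain ⟨t₁, F₁, hF₁, hs'Z, hF₁c⟩ :=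
      ih u a F hF (fun x => by have := hrank x; omega) hZ
    obtain ⟨s', hs'⟩ : ∃ s' : M, s' = u + a • t₁ := ⟨_, rfl⟩
    rw [← hs'] at hs'Z
    obtain ⟨Y, hY, hYC⟩ := exists_generic_points F F₁ hF₁
    -- at the points of `Y` choose a basic element and a coefficient
    have hw : ∀ y : MaximalSpectrum R, ∃ (w : M) (c : R),
        y ∈ Y → (FibIndep y (Fin.snoc (Fin.elim0 : Fin 0 → M) w : Fin (0 + 1) → M) ∧
          fibImg y (s' + a • (c • (w - s'))) = fibImg y w) := by
      intro y
      by_cases hy : y ∈ Y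
      · have hyF : y ∉ F := (hY y hy).2
        by_cases hay : a ∈ y.asIdeal
        · refine ⟨s', 0, fun _ => ⟨?_, ?_⟩⟩
          · have hu : FibIndep y (Fin.snoc (Fin.elim0 : Fin 0 → M) u : Fin (0 + 1) → M) := by
              by_contra hc
              exact hyF (hZ y hay hc)
            refine (fibIndep_snoc_congr y _ _ _ ?_).2 hu
            rw [hs', fibImg_add, fibImg_smul, Ideal.Quotient.eq_zero_iff_mem.2 hay, zero_smul,
              add_zero]
          · rw [zero_smul, smul_zero, add_zero]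
        · have hind : FibIndep y (Fin.elim0 : Fin 0 → M) := by
            unfold FibIndep
            exact linearIndependent_empty_type
          obtain ⟨w, hw⟩ := exists_fibIndep_snoc y _ hind (by have := hrank y; omega)
          haveI := y.isMaximal
          obtain ⟨c, hc⟩ := Ideal.Quotient.exists_inv
            (I := y.asIdeal) (a := Ideal.Quotient.mk y.asIdeal a)
            (fun h0 => hay (Ideal.Quotient.eq_zero_iff_mem.1 h0))
          obtain ⟨c, rfl⟩ := Ideal.Quotient.mk_surjective c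
          refine ⟨w, c, fun _ => ⟨hw, ?_⟩⟩
          rw [fibImg_add, fibImg_smul, fibImg_smul, smul_smul, hc, one_smul, fibImg_sub]
          abel
      · exact ⟨0, 0, fun h => absurd h hy⟩
    choose w c hw using hw
    obtain ⟨t, F₃, hF₃, htP, htZ, hF₃c⟩ := serre_aux k (0 + 1)
      (Fin.snoc (Fin.elim0 : Fin 0 → M) s' : Fin (0 + 1) → M) (F ∪ F₁) (hF.union hF₁)
      Y (by
        intro x hx
        exact Or.inr (hY x hx).1)
      (fun x => c x • (w x - s')) (fun x => by have := hrank x; omega) hs'Z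
    obtain ⟨Zp, hZp, hZpC⟩ := exists_generic_points (F ∪ F₁) F₃ hF₃
    obtain ⟨a', ha'⟩ := exists_crt (Y ∪ Zp) (fun x => if x ∈ Y then 1 else 0)
    obtain ⟨snew, hsnew⟩ : ∃ snew : M, snew = s' + (a' * a) • t := ⟨_, rfl⟩
    have hsnew' : snew = u + a • (t₁ + a' • t) := by
      rw [hsnew, hs', smul_add, smul_smul, mul_comm a a', add_assoc]
    obtain ⟨F', hF', hZbF', hF'c⟩ := exists_trim
      {x | ¬ FibIndep x (Fin.snoc (Fin.elim0 : Fin 0 → M) snew : Fin (0 + 1) → M)} F
      (isClosed_not_fibIndep _)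
    have hbad_sub : ∀ x, ¬ FibIndep x (Fin.snoc (Fin.elim0 : Fin 0 → M) snew : Fin (0 + 1) → M) →
        x ∈ (F ∪ F₁) ∪ F₃ := by
      intro x hx
      by_contra hc
      apply hx
      rw [hsnew]
      exact fibIndep_snoc_add_smul x (Fin.elim0 : Fin 0 → M) s' t (a' * a) (by
        by_contra h3
        exact hc (htZ x h3))
    have hY_good : ∀ y ∈ Y,
        FibIndep y (Fin.snoc (Fin.elim0 : Fin 0 → M) snew : Fin (0 + 1) → M) := by
      intro y hy
      have h1 : fibImg y snew = fibImg y (w y) := by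
        have h2 := htP y hy
        have h3 := ha' y (Finset.mem_union_left _ hy)
        rw [if_pos hy] at h3
        have h4 : Ideal.Quotient.mk y.asIdeal a' = 1 := by
          rw [← map_one (Ideal.Quotient.mk y.asIdeal)]
          exact Ideal.Quotient.eq.2 h3
        rw [← (hw y hy).2, hsnew, fibImg_add, fibImg_smul, map_mul, h4, one_mul, h2,
          fibImg_add, fibImg_smul y a]
      exact (fibIndep_snoc_congr y _ _ _ h1).2 (hw y hy).1
    have hZp_good : ∀ z ∈ Zp,
        FibIndep z (Fin.snoc (Fin.elim0 : Fin 0 → M) snew : Fin (0 + 1) → M) := by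
      intro z hz
      have hzFF : z ∉ F ∪ F₁ := (hZp z hz).2
      have hzY : z ∉ Y := fun hzY => hzFF (Or.inr (hY z hzY).1)
      have h1 : fibImg z snew = fibImg z s' := by
        have h3 := ha' z (Finset.mem_union_right _ hz)
        rw [if_neg hzY, sub_zero] at h3
        have h4 : Ideal.Quotient.mk z.asIdeal a' = 0 := Ideal.Quotient.eq_zero_iff_mem.2 h3
        rw [hsnew, fibImg_add, fibImg_smul, map_mul, h4, zero_mul, zero_smul, add_zero]
      refine (fibIndep_snoc_congr z _ _ _ h1).2 ?_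
      by_contra hc
      exact hzFF (hs'Z z hc)
    refine ⟨t₁ + a' • t, F', hF', ?_, ?_⟩
    · intro x hx
      rw [← hsnew'] at hx
      exact hZbF' hx
    · intro Z hZF'
      obtain ⟨C, hZC, hCbad, hCF⟩ := hF'c Z hZF'
      have hCk : ((k + 1 : ℕ) : ℕ∞) ≤ Order.coheight C := by
        by_cases hC1 : (C : Set _) ⊆ F₁
        · obtain ⟨G, hG, hCG⟩ := hYC C hC1 hCF (fun y hy hyC => hCbad hyC (hY_good y hy))
          exact coheight_succ_le_of_lt F₁ hF₁c C G hG hCG
        · have hCFF : ¬ (C : Set _) ⊆ F ∪ F₁ := by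
            intro hsub
            rcases (isPreirreducible_iff_isClosed_union_isClosed.1
              C.isIrreducible.isPreirreducible) F F₁ hF hF₁ hsub with h1 | h1
            · exact hCF h1
            · exact hC1 h1
          have hC3 : (C : Set _) ⊆ F₃ := by
            have hsub : (C : Set _) ⊆ (F ∪ F₁) ∪ F₃ := fun x hx => hbad_sub x (hCbad hx)
            rcases (isPreirreducible_iff_isClosed_union_isClosed.1
              C.isIrreducible.isPreirreducible) (F ∪ F₁) F₃ (hF.union hF₁) hF₃ hsub with h1 | h1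
            · exact absurd h1 hCFF
            · exact h1
          obtain ⟨H, hH, hCH⟩ := hZpC C hC3 hCFF (fun z hz hzC => hCbad hzC (hZp_good z hz))
          exact coheight_succ_le_of_lt F₃ hF₃c C H hH hCH
      exact hCk.trans (Order.coheight_anti hZC)

theorem eq_empty_of_coheight [NoetherianSpace (MaximalSpectrum R)] (d : ℕ)
    (hdim : topologicalKrullDim (MaximalSpectrum R) ≤ d) (F' : Set (MaximalSpectrum R))
    (hF'c : ∀ Z : IrreducibleCloseds (MaximalSpectrum R), (Z : Set _) ⊆ F' →
        ((d + 1 : ℕ) : ℕ∞) ≤ Order.coheight Z) : F' = ∅ := by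
  by_contra hne
  obtain ⟨x, hx⟩ := Set.nonempty_iff_ne_empty.2 hne
  have h1 := hF'c ⟨{x}, isIrreducible_singleton, isClosed_singleton⟩
    (by simpa using hx)
  have h2 := Order.coheight_le_krullDim
    (⟨{x}, isIrreducible_singleton, isClosed_singleton⟩ :
      TopologicalSpace.IrreducibleCloseds (MaximalSpectrum R))
  have h3 : (((d + 1 : ℕ) : ℕ∞) : WithBot ℕ∞) ≤ (d : WithBot ℕ∞) :=
    ((WithBot.coe_le_coe.2 h1).trans h2).trans hdim
  have h4 : ((d + 1 : ℕ) : ℕ∞) ≤ (d : ℕ∞) := by
    exact_mod_cast h3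
  have h5 : d + 1 ≤ d := by exact_mod_cast h4
  omega

/-- Bass: a unimodular element `(p, a)` of `M × R` can be moved to `p + a • q` unimodular. -/
theorem exists_add_smul_unimodular [NoetherianSpace (MaximalSpectrum R)] [Module.Finite R M]
    (d : ℕ) (hdim : topologicalKrullDim (MaximalSpectrum R) ≤ d)
    (hrank : ∀ x : MaximalSpectrum R, d + 1 ≤ Module.finrank (R ⧸ x.asIdeal)
      ((M ⧸ (x.asIdeal • ⊤ : Submodule R M)) ⧸ fibB M x))
    (p : M) (a : R) (φ : M →ₗ[R] R) (r : R) (h : φ p + r * a = 1) :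
    ∃ (q : M) (ψ : M →ₗ[R] R), ψ (p + a • q) = 1 := by
  obtain ⟨t, F', hF', htZ, hF'c⟩ := serre_affine (d + 1) p a ∅ isClosed_empty
    (fun x => by have := hrank x; omega) (by
      intro x hax hx
      exfalso
      apply hx
      rw [fibIndep_iff_det]
      refine ⟨fun _ => φ, ?_⟩
      rw [Matrix.det_fin_one]
      simp only [Matrix.of_apply]
      intro hmem
      have h1 : (Fin.snoc (Fin.elim0 : Fin 0 → M) p : Fin (0 + 1) → M) 0 = p := by
        simp [Fin.snoc]
      rw [h1] at hmem
      have h2 : (1 : R) ∈ x.asIdeal := by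
        rw [← h]
        exact x.asIdeal.add_mem hmem (x.asIdeal.mul_mem_left r hax)
      exact x.isMaximal.ne_top ((Ideal.eq_top_iff_one _).2 h2))
  have hF'empty : F' = ∅ := eq_empty_of_coheight d hdim F' hF'c
  refine ⟨t, exists_dual_eq_one_of_forall_fibIndep (p + a • t) fun x => ?_⟩
  by_contra hc
  have := htZ x hc
  rw [hF'empty] at this
  simp at this

end Affine

section Cancel

variable {R : Type u} [CommRing R] {A : Type u} [AddCommGroup A] [Module R A]
  {B : Type u} [AddCommGroup B] [Module R B]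

theorem fst_apply_of_fix (ρ : (A × R) ≃ₗ[R] (B × R)) (hρ : ρ (0, 1) = (0, 1)) (x : A × R) :
    (ρ (x.1, 0)).1 = (ρ x).1 := by
  have hx : x = (x.1, 0) + x.2 • ((0, 1) : A × R) := by
    ext <;> simp
  conv_rhs => rw [hx]
  rw [map_add, map_smul, hρ]
  simp

/-- an isomorphism `A × R ≃ B × R` fixing `(0, 1)` gives `A ≃ B` -/
theorem nonempty_equiv_of_fix (ρ : (A × R) ≃ₗ[R] (B × R)) (hρ : ρ (0, 1) = (0, 1)) :
    Nonempty (A ≃ₗ[R] B) := by
  have hρ' : ρ.symm (0, 1) = (0, 1) := by rw [← hρ, ρ.symm_apply_apply]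
  let f : A →ₗ[R] B := LinearMap.fst R B R ∘ₗ ρ.toLinearMap ∘ₗ LinearMap.inl R A R
  let g : B →ₗ[R] A := LinearMap.fst R A R ∘ₗ ρ.symm.toLinearMap ∘ₗ LinearMap.inl R B R
  refine ⟨LinearEquiv.ofLinearMap f g ?_ ?_⟩
  · ext b
    simp only [f, g, LinearMap.comp_apply, LinearMap.inl_apply, LinearEquiv.coe_coe,
      LinearMap.fst_apply, LinearMap.id_apply]
    rw [fst_apply_of_fix ρ hρ, ρ.apply_symm_apply]
  · ext b
    simp only [f, g, LinearMap.comp_apply, LinearMap.inl_apply, LinearEquiv.coe_coe,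
      LinearMap.fst_apply, LinearMap.id_apply]
    rw [fst_apply_of_fix ρ.symm hρ', ρ.symm_apply_apply]

/-- the shear `(x, r) ↦ (x + r • q, r)` -/
noncomputable def shearL (q : A) : (A × R) ≃ₗ[R] (A × R) :=
  (LinearEquiv.prodComm R A R) ≪≫ₗ
    (LinearEquiv.skewProd (LinearEquiv.refl R R) (LinearEquiv.refl R A)
      (LinearMap.toSpanSingleton R A q)) ≪≫ₗ (LinearEquiv.prodComm R R A)

theorem shearL_apply (q : A) (x : A) (r : R) :
    shearL q (x, r) = (x + r • q, r) := by
  simp [shearL, LinearEquiv.skewProd_apply]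

/-- the shear `(x, r) ↦ (x, r + f x)` -/
noncomputable def shearR (f : A →ₗ[R] R) : (A × R) ≃ₗ[R] (A × R) :=
  LinearEquiv.skewProd (LinearEquiv.refl R A) (LinearEquiv.refl R R) f

theorem shearR_apply (f : A →ₗ[R] R) (x : A) (r : R) :
    shearR f (x, r) = (x, r + f x) := by
  simp [shearR, LinearEquiv.skewProd_apply]

/-- a unimodular `(p, a)` with `p + a • q` unimodular in `A` can be moved to `(0, 1)` -/
theorem exists_aut_of_unimodular (p q : A) (a : R) (ψ : A →ₗ[R] R) (h : ψ (p + a • q) = 1) :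
    ∃ τ : (A × R) ≃ₗ[R] (A × R), τ (p, a) = (0, 1) := by
  refine ⟨shearL q ≪≫ₗ shearR ((1 - a) • ψ) ≪≫ₗ shearL (-(p + a • q)), ?_⟩
  simp only [LinearEquiv.trans_apply, shearL_apply, shearR_apply, LinearMap.smul_apply, h]
  ext
  · simp
  · simp

/-- Bass cancellation of one free summand of rank one -/
theorem cancel_one [NoetherianSpace (MaximalSpectrum R)] [Module.Finite R A]
    (d : ℕ) (hdim : topologicalKrullDim (MaximalSpectrum R) ≤ d)
    (hrank : ∀ x : MaximalSpectrum R, d + 1 ≤ Module.finrank (R ⧸ x.asIdeal)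
      ((A ⧸ (x.asIdeal • ⊤ : Submodule R A)) ⧸ fibB A x))
    (σ : (A × R) ≃ₗ[R] (B × R)) : Nonempty (A ≃ₗ[R] B) := by
  obtain ⟨pa, hpa⟩ : ∃ pa : A × R, pa = σ.symm (0, 1) := ⟨_, rfl⟩
  have hσ : σ pa = (0, 1) := by rw [hpa, σ.apply_symm_apply]
  let φ : A →ₗ[R] R := LinearMap.snd R B R ∘ₗ σ.toLinearMap ∘ₗ LinearMap.inl R A R
  have hφ : φ pa.1 + (σ (0, 1)).2 * pa.2 = 1 := by
    have hx : pa = (pa.1, 0) + pa.2 • ((0, 1) : A × R) := by
      ext <;> simp
    have h1 : (σ pa).2 = 1 := by rw [hσ]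
    rw [hx, map_add, map_smul] at h1
    simp only [Prod.snd_add, Prod.smul_snd, smul_eq_mul] at h1
    rw [mul_comm]
    exact h1
  obtain ⟨q, ψ, hψ⟩ := exists_add_smul_unimodular d hdim hrank pa.1 pa.2 φ _ hφ
  obtain ⟨τ, hτ⟩ := exists_aut_of_unimodular pa.1 q pa.2 ψ hψ
  refine nonempty_equiv_of_fix (τ.symm ≪≫ₗ σ) ?_
  rw [LinearEquiv.trans_apply, ← hτ, τ.symm_apply_apply]
  exact hσ

end Cancel

section Split

variable {R : Type u} [CommRing R] {A : Type u} [AddCommGroup A] [Module R A]

/-- splitting off the line spanned by a unimodular element -/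
noncomputable def kerProdEquiv (ψ : A →ₗ[R] R) (s : A) (h : ψ s = 1) :
    A ≃ₗ[R] (LinearMap.ker ψ × R) :=
  LinearEquiv.ofLinearMap
    (LinearMap.prod
      (LinearMap.codRestrict (LinearMap.ker ψ)
        (LinearMap.id - (LinearMap.toSpanSingleton R A s) ∘ₗ ψ) (by
          intro x
          simp [LinearMap.mem_ker, h]))
      ψ)
    (LinearMap.coprod (LinearMap.ker ψ).subtype (LinearMap.toSpanSingleton R A s))
    (by
      apply LinearMap.ext
      rintro ⟨⟨k, hk⟩, r⟩
      rw [LinearMap.mem_ker] at hk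
      ext
      · simp [hk, h]
      · simp [hk, h])
    (by
      ext x
      simp)

theorem kerProdEquiv_apply_fst (ψ : A →ₗ[R] R) (s : A) (h : ψ s = 1) (k : LinearMap.ker ψ) :
    (kerProdEquiv ψ s h (k : A)).1 = k := by
  ext
  have hk : ψ (k : A) = 0 := k.2
  simp [kerProdEquiv, hk]

end Split

section Main

variable {R : Type u} [CommRing R]

/-- `P × R^(m+1) ≃ (P × R^m) × R` -/
noncomputable def prodSuccEquiv (m : ℕ) (P : Type u) [AddCommGroup P] [Module R P] :
    (P × (Fin (m + 1) → R)) ≃ₗ[R] ((P × (Fin m → R)) × R) :=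
  (LinearEquiv.prodCongr (LinearEquiv.refl R P)
    ((Fin.consLinearEquiv R (fun _ : Fin (m + 1) => R)).symm ≪≫ₗ
      LinearEquiv.prodComm R R (Fin m → R))) ≪≫ₗ
    (LinearEquiv.prodAssoc R P (Fin m → R) R).symm

/-- Bass cancellation: free summands can be cancelled when the rank exceeds the dimension. -/
theorem cancel_free [IsNoetherianRing R] (d : ℕ) (hdim : ringKrullDim R ≤ d) (m : ℕ) :
    ∀ (P P' : Type u) [AddCommGroup P] [Module R P] [Module.Finite R P] [Module.Projective R P]
      [AddCommGroup P'] [Module R P'],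
      (∀ p : PrimeSpectrum R, d + 1 ≤ Module.rankAtStalk P p) →
      ((P × (Fin m → R)) ≃ₗ[R] (P' × (Fin m → R))) → Nonempty (P ≃ₗ[R] P') := by
  haveI := noetherianSpace_maximalSpectrum_of_noetherian (R := R)
  have hdim' : topologicalKrullDim (MaximalSpectrum R) ≤ d :=
    topologicalKrullDim_maximalSpectrum_le.trans hdim
  induction m with
  | zero =>
    intro P P' _ _ _ _ _ _ hrk e
    exact ⟨(LinearEquiv.prodUnique (R := R) (M := P) (M₂ := Fin 0 → R)).symm ≪≫ₗ e ≪≫ₗ
      LinearEquiv.prodUnique⟩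
  | succ m ih =>
    intro P P' _ _ _ _ _ _ hrk e
    have hrk2 : ∀ p : PrimeSpectrum R, d + 1 ≤ Module.rankAtStalk (P × (Fin m → R)) p := by
      intro p
      rw [Module.rankAtStalk_prod]
      exact (hrk p).trans (Nat.le_add_right _ _)
    obtain ⟨e'⟩ := cancel_one (A := P × (Fin m → R)) (B := P' × (Fin m → R)) d hdim'
      (fun x => le_finrank_fib_of_le_rankAtStalk x (d + 1) (hrk2 _))
      ((prodSuccEquiv m P).symm ≪≫ₗ e ≪≫ₗ prodSuccEquiv m P')
    exact ih P P' hrk e'

/-- cancellation of an arbitrary finite free module -/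
theorem cancel_free' [IsNoetherianRing R] (d : ℕ) (hdim : ringKrullDim R ≤ d)
    (P P' F : Type u) [AddCommGroup P] [Module R P] [Module.Finite R P] [Module.Projective R P]
    [AddCommGroup P'] [Module R P'] [AddCommGroup F] [Module R F] [Module.Finite R F]
    [Module.Free R F]
    (hrk : ∀ p : PrimeSpectrum R, d + 1 ≤ Module.rankAtStalk P p)
    (e : (P × F) ≃ₗ[R] (P' × F)) : Nonempty (P ≃ₗ[R] P') := by
  let b := (Module.Free.chooseBasis R F).reindex
    (Fintype.equivFin (Module.Free.ChooseBasisIndex R F))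
  exact cancel_free d hdim _ P P' hrk
    ((LinearEquiv.prodCongr (LinearEquiv.refl R P) b.equivFun.symm) ≪≫ₗ e ≪≫ₗ
      (LinearEquiv.prodCongr (LinearEquiv.refl R P') b.equivFun))

/-- Serre: a projective module of rank exceeding the dimension has a unimodular element. -/
theorem exists_unimodular [IsNoetherianRing R] (d : ℕ) (hdim : ringKrullDim R ≤ d)
    (P : Type u) [AddCommGroup P] [Module R P] [Module.Finite R P] [Module.Projective R P]
    (hrk : ∀ p : PrimeSpectrum R, d + 1 ≤ Module.rankAtStalk P p) :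
    ∃ (s : P) (ψ : P →ₗ[R] R), ψ s = 1 := by
  haveI := noetherianSpace_maximalSpectrum_of_noetherian (R := R)
  have hdim' : topologicalKrullDim (MaximalSpectrum R) ≤ d :=
    topologicalKrullDim_maximalSpectrum_le.trans hdim
  obtain ⟨q, ψ, hψ⟩ := exists_add_smul_unimodular (M := P) d hdim'
    (fun x => le_finrank_fib_of_le_rankAtStalk x (d + 1) (hrk _)) 0 1 0 1 (by simp)
  exact ⟨0 + (1 : R) • q, ψ, hψ⟩

/-- Serre splitting: `P ≃ K × R^j` when the rank is at least `d + j`. -/
theorem exists_split_free [IsNoetherianRing R] (d : ℕ) (hdim : ringKrullDim R ≤ d) (j : ℕ) :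
    ∀ (P : Type u) [AddCommGroup P] [Module R P] [Module.Finite R P] [Module.Projective R P],
      (∀ p : PrimeSpectrum R, d + j ≤ Module.rankAtStalk P p) →
      ∃ K : Submodule R P, Nonempty (P ≃ₗ[R] (K × (Fin j → R))) := by
  induction j with
  | zero =>
    intro P _ _ _ _ hrk
    exact ⟨⊤, ⟨(Submodule.topEquiv (R := R) (M := P)).symm ≪≫ₗ
      (LinearEquiv.prodUnique (R := R) (M := (⊤ : Submodule R P)) (M₂ := Fin 0 → R)).symm⟩⟩
  | succ j ih =>
    intro P _ _ _ _ hrk
    obtain ⟨s, ψ, hψ⟩ := exists_unimodular d hdim P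
      (fun p => by have := hrk p; omega)
    let e₁ := kerProdEquiv ψ s hψ
    haveI : Module.Projective R (LinearMap.ker ψ) :=
      Module.Projective.of_split (LinearMap.ker ψ).subtype
        (LinearMap.fst R _ R ∘ₗ e₁.toLinearMap) (by
          ext k
          simp only [LinearMap.comp_apply, Submodule.subtype_apply, LinearEquiv.coe_coe,
            LinearMap.fst_apply, LinearMap.id_apply]
          rw [kerProdEquiv_apply_fst])
    have hrk1 : ∀ p : PrimeSpectrum R, d + j ≤ Module.rankAtStalk (LinearMap.ker ψ) p := by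
      intro p
      have h1 := hrk p
      rw [Module.rankAtStalk_eq_of_equiv e₁, Module.rankAtStalk_prod] at h1
      cases subsingleton_or_nontrivial R with
      | inl hR =>
        exact (IsEmpty.false p).elim
      | inr hR =>
        rw [Pi.add_apply, Module.rankAtStalk_self] at h1
        simp only [Pi.one_apply] at h1
        omega
    obtain ⟨K₂, ⟨e₂⟩⟩ := ih (LinearMap.ker ψ) hrk1
    let e₃ : K₂ ≃ₗ[R] K₂.map (LinearMap.ker ψ).subtype :=
      Submodule.equivMapOfInjective _ (Submodule.injective_subtype _) K₂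
    refine ⟨K₂.map (LinearMap.ker ψ).subtype, ⟨?_⟩⟩
    exact e₁ ≪≫ₗ (LinearEquiv.prodCongr e₂ (LinearEquiv.refl R R)) ≪≫ₗ
      (LinearEquiv.prodAssoc R K₂ (Fin j → R) R) ≪≫ₗ
      (LinearEquiv.prodCongr e₃
        (LinearEquiv.prodComm R (Fin j → R) R ≪≫ₗ
          Fin.consLinearEquiv R (fun _ : Fin (j + 1) => R)))

end Main

section Conv

variable {R : Type u} [CommRing R]

theorem exists_isCompl_of_equiv_prod {P K F F' : Type u} [AddCommGroup P] [Module R P]
    [AddCommGroup K] [Module R K] [AddCommGroup F] [Module R F] [AddCommGroup F'] [Module R F']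
    (e : P ≃ₗ[R] (K × F)) (eF : F ≃ₗ[R] F') :
    ∃ (P₀ Q : Submodule R P), IsCompl P₀ Q ∧ Nonempty (Q ≃ₗ[R] F') := by
  refine ⟨(LinearMap.range (LinearMap.inl R K F)).map e.symm.toLinearMap,
    (LinearMap.range (LinearMap.inr R K F)).map e.symm.toLinearMap, ?_, ⟨?_⟩⟩
  · have h := LinearMap.isCompl_range_inl_inr (R := R) (M := K) (M₂ := F)
    exact (Submodule.orderIsoMapComap e.symm).isCompl h
  · exact (Submodule.equivMapOfInjective e.symm.toLinearMap e.symm.injective _).symm ≪≫ₗ
      (LinearEquiv.ofInjective (LinearMap.inr R K F) LinearMap.inr_injective).symm ≪≫ₗ eF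

/-- `(ι → A × B) ≃ (ι → A) × (ι → B)` -/
def piProdEquiv (ι A B : Type*) [AddCommGroup A] [Module R A] [AddCommGroup B] [Module R B] :
    (ι → A × B) ≃ₗ[R] ((ι → A) × (ι → B)) where
  toFun f := (fun i => (f i).1, fun i => (f i).2)
  invFun g := fun i => (g.1 i, g.2 i)
  map_add' := by intros; rfl
  map_smul' := by intros; rfl
  left_inv := by intro f; rfl
  right_inv := by intro g; rfl

end Conv

end Groth.Agent.H36
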