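import Mathlib
import Groth.Agent.H11.FtDim

set_option autoImplicit false
universe u

namespace Groth.Agent.H36.BertiniAlg

/-- In a finite type domain over a field, a prime with `dim A/p + 2 = dim A` has height `2`. -/
theorem height_eq_two {k A : Type u} [Field k] [CommRing A] [IsDomain A] [Algebra k A]
    [Algebra.FiniteType k A] (p : Ideal A) [hp : p.IsPrime]
    (hdim : ringKrullDim (A ⧸ p) + 2 = ringKrullDim A) : p.height = 2 := by
  have h1 := Groth.Agent.H11.FtDim.height_add_coheight_eq k A ⟨p, hp⟩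
  have h2 := Groth.Agent.H24.coheight_eq_ringKrullDim_quotient (⟨p, hp⟩ : PrimeSpectrum A)
  have h3 : Order.height (⟨p, hp⟩ : PrimeSpectrum A) = p.height := by
    rw [← PrimeSpectrum.height_eq_orderHeight]
  rw [h3] at h1
  rw [← hdim, ← h2] at h1
  have h22 : (2 : WithBot ℕ∞) = ((2 : ℕ∞) : WithBot ℕ∞) := rfl
  have hfin : Order.coheight (⟨p, hp⟩ : PrimeSpectrum A) ≠ ⊤ := by
    intro htop
    rw [htop] at h2
    have h4 : ringKrullDim A < ⊤ := by
      obtain ⟨n, -, hn, -⟩ := Groth.Agent.H14.ringKrullDim_eq_trdeg_of_finiteType_domain k A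
      rw [hn]
      exact WithBot.coe_lt_coe.mpr (ENat.natCast_lt_top n)
    rw [← hdim, ← h2, h22, ← WithBot.coe_add, top_add] at h4
    exact lt_irrefl _ h4
  obtain ⟨c, hc⟩ := ENat.ne_top_iff_exists.mp hfin
  rw [← hc] at h1
  have h5 : ((p.height + (c : ℕ∞) : ℕ∞) : WithBot ℕ∞) = (((2 : ℕ∞) + (c : ℕ∞) : ℕ∞) : WithBot ℕ∞) := by
    rw [h1, h22, ← WithBot.coe_add, add_comm]
  have h6 := WithBot.coe_injective h5
  exact (ENat.add_left_injective_of_ne_top (ENat.natCast_ne_top c)) h6


open Polynomial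

section piece2

variable {k A : Type*} [Field k] [CommRing A] [IsDomain A] [Algebra k A]

/-- If `g1` is algebraic over `k[g0]` with `g0` transcendental, there is a bivariate polynomial
vanishing at `(g0,g1)` whose reduction mod the first variable is nonzero. -/
theorem exists_bivariate (g0 g1 : A) (h0 : Transcendental k g0)
    (h1 : IsAlgebraic (Algebra.adjoin k {g0}) g1) :
    ∃ P : k[X][X], P.map (evalRingHom 0) ≠ 0 ∧
      eval₂ (aeval g0 : k[X] →ₐ[k] A).toRingHom g1 P = 0 := by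
  classical
  obtain ⟨Q, hQ0, hQ⟩ := h1
  -- the surjection `k[X] → adjoin k {g0}`
  have hmem : ∀ p : k[X], aeval g0 p ∈ Algebra.adjoin k {g0} := by
    intro p
    rw [Algebra.adjoin_singleton_eq_range_aeval]
    exact ⟨p, rfl⟩
  let φ : k[X] →+* Algebra.adjoin k {g0} :=
    (aeval g0 : k[X] →ₐ[k] A).toRingHom.codRestrict (Algebra.adjoin k {g0}).toSubring hmem
  have hφsurj : Function.Surjective φ := by
    rintro ⟨s, hs⟩
    rw [Algebra.adjoin_singleton_eq_range_aeval] at hs
    obtain ⟨p, hp⟩ := hs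
    exact ⟨p, Subtype.ext hp⟩
  obtain ⟨R, hR⟩ := Polynomial.map_surjective φ hφsurj Q
  have hR0 : R ≠ 0 := by
    rintro rfl
    rw [Polynomial.map_zero] at hR
    exact hQ0 hR.symm
  have hcomp : (algebraMap (Algebra.adjoin k {g0}) A).comp φ = (aeval g0 : k[X] →ₐ[k] A).toRingHom := by
    ext <;> rfl
  have hRev : eval₂ (aeval g0 : k[X] →ₐ[k] A).toRingHom g1 R = 0 := by
    rw [← hcomp, ← Polynomial.eval₂_map, hR]
    exact hQ
  -- pass to the primitive part
  have hc0 : R.content ≠ 0 := by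
    rwa [Ne, Polynomial.content_eq_zero_iff]
  have hRP : R = C R.content * R.primPart := R.eq_C_content_mul_primPart
  have hPev : eval₂ (aeval g0 : k[X] →ₐ[k] A).toRingHom g1 R.primPart = 0 := by
    rw [hRP, Polynomial.eval₂_mul, Polynomial.eval₂_C] at hRev
    rcases mul_eq_zero.mp hRev with h | h
    · exfalso
      have : aeval g0 R.content = 0 := h
      exact hc0 ((transcendental_iff.mp h0) _ this)
    · exact h
  refine ⟨R.primPart, ?_, hPev⟩
  intro hzero
  have hprim : R.primPart.IsPrimitive := R.isPrimitive_primPart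
  have hdvd : (C (X : k[X])) ∣ R.primPart := by
    rw [Polynomial.C_dvd_iff_dvd_coeff]
    intro i
    rw [Polynomial.X_dvd_iff]
    have := congrArg (fun p => p.coeff i) hzero
    simp only [Polynomial.coeff_map, Polynomial.coeff_zero, coe_evalRingHom] at this
    rw [← Polynomial.coeff_zero_eq_eval_zero] at this
    exact this
  exact Polynomial.not_isUnit_X (hprim _ hdvd)

omit [IsDomain A] in
/-- Reduction of the relation modulo a prime containing `g0`. -/
theorem isAlgebraic_of_bivariate {B : Type*} [CommRing B] [Algebra k B] (φ : A →ₐ[k] B)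
    (g0 g1 : A) (hφ : φ g0 = 0) (P : k[X][X]) (hP0 : P.map (evalRingHom 0) ≠ 0)
    (hP : eval₂ (aeval g0 : k[X] →ₐ[k] A).toRingHom g1 P = 0) : IsAlgebraic k (φ g1) := by
  refine ⟨P.map (evalRingHom 0), hP0, ?_⟩
  have h1 := congrArg φ hP
  rw [map_zero] at h1
  have h2 : φ (eval₂ (aeval g0 : k[X] →ₐ[k] A).toRingHom g1 P) =
      eval₂ ((φ : A →+* B).comp (aeval g0 : k[X] →ₐ[k] A).toRingHom) (φ g1) P :=
    Polynomial.hom_eval₂ P _ (φ : A →+* B) g1
  have h3 : ((φ : A →+* B).comp (aeval g0 : k[X] →ₐ[k] A).toRingHom) =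
      (algebraMap k B).comp (evalRingHom 0) := by
    ext
    · simp
    · simp [hφ]
  rw [h2, h3, ← Polynomial.eval₂_map] at h1
  exact h1

end piece2


theorem transcendental_pair {k A : Type*} [Field k] [CommRing A] [IsDomain A] [Algebra k A]
    [IsNoetherianRing A] (g0 g1 : A) (p : Ideal A)
    (hp : p ∈ (Ideal.span {g0, g1}).minimalPrimes) (hht : ¬ p.height ≤ 1) :
    Transcendental k g0 ∧ Transcendental (Algebra.adjoin k {g0}) g1 := by
  have hpp : p.IsPrime := hp.1.1
  have hg0p : g0 ∈ p := hp.1.2 (Ideal.subset_span (Set.mem_insert _ _))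
  have hg1p : g1 ∈ p := hp.1.2 (Ideal.subset_span (Set.mem_insert_of_mem _ rfl))
  have hg0 : g0 ≠ 0 := by
    rintro rfl
    apply hht
    have : Ideal.span {(0 : A), g1} = Ideal.span {g1} := Ideal.span_insert_zero
    rw [this] at hp
    exact Ideal.height_le_one_of_isPrincipal_of_mem_minimalPrimes _ p hp
  have ht0 : Transcendental k g0 := by
    intro halg
    have hu : IsUnit g0 := halg.isIntegral.isUnit hg0
    exact hpp.ne_top (Ideal.eq_top_of_isUnit_mem _ hg0p hu)
  refine ⟨ht0, ?_⟩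
  intro halg
  obtain ⟨P, hP0, hP⟩ := exists_bivariate g0 g1 ht0 halg
  obtain ⟨q, hq, hqp⟩ := Ideal.exists_minimalPrimes_le
    (show Ideal.span {g0} ≤ p from (Ideal.span_singleton_le_iff_mem _).mpr hg0p)
  have hqprime : q.IsPrime := hq.1.1
  have hg0q : g0 ∈ q := hq.1.2 (Ideal.subset_span rfl)
  have halg1 : IsAlgebraic k (Ideal.Quotient.mkₐ k q g1) :=
    isAlgebraic_of_bivariate (Ideal.Quotient.mkₐ k q) g0 g1
      (by rw [Ideal.Quotient.mkₐ_eq_mk]; exact Ideal.Quotient.eq_zero_iff_mem.mpr hg0q) P hP0 hP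
  have hg1q : g1 ∈ q := by
    by_contra hnot
    have hne : Ideal.Quotient.mkₐ k q g1 ≠ 0 := by
      rw [Ideal.Quotient.mkₐ_eq_mk, Ne, Ideal.Quotient.eq_zero_iff_mem]
      exact hnot
    have hu : IsUnit (Ideal.Quotient.mkₐ k q g1) := halg1.isIntegral.isUnit hne
    obtain ⟨b, hb⟩ := hu.exists_right_inv
    obtain ⟨h, rfl⟩ := Ideal.Quotient.mk_surjective b
    rw [Ideal.Quotient.mkₐ_eq_mk, ← map_mul, ← map_one (Ideal.Quotient.mk q),
      Ideal.Quotient.eq] at hb
    have h1 : g1 * h - 1 ∈ p := hqp hb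
    have h2 : g1 * h ∈ p := Ideal.mul_mem_right _ _ hg1p
    have h3 : (1 : A) ∈ p := by
      have := Ideal.sub_mem _ h2 h1
      rwa [sub_sub_cancel] at this
    exact hpp.ne_top ((Ideal.eq_top_iff_one _).mpr h3)
  have hle : Ideal.span {g0, g1} ≤ q := by
    rw [Ideal.span_le]
    rintro x (rfl | rfl)
    · exact hg0q
    · exact hg1q
  have hpq : p ≤ q := hp.2 ⟨hqprime, hle⟩ hqp
  have : p = q := le_antisymm hpq hqp
  apply hht
  rw [this]
  exact Ideal.height_le_one_of_isPrincipal_of_mem_minimalPrimes _ q hq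


end Groth.Agent.H36.BertiniAlg
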