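import Mathlib

/-!
# Translations of the field of rational functions `K(x)` and the generic linear form

For a field extension `K/k` and `Ω = Frac K[x_i]`: the translation automorphisms `x_i ↦ x_i + v_i`,
the generic linear form `ξ = Σ g_i x_i`, transcendence of `ξ` over `k[x]`, and an exchange lemma.
-/

set_option autoImplicit false
universe u

namespace Groth.Agent.H36.RatShift

open MvPolynomial

variable {k K : Type*} [Field k] [Field K] [Algebra k K] {σ : Type*}

noncomputable def shiftPoly (v : σ → K) : MvPolynomial σ K ≃ₐ[K] MvPolynomial σ K :=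
  AlgEquiv.ofAlgHom (aeval fun i => X i + C (v i)) (aeval fun i => X i - C (v i))
    (by ext i; simp) (by ext i; simp)

@[simp] theorem shiftPoly_X (v : σ → K) (i : σ) : shiftPoly v (X i) = X i + C (v i) := by
  simp [shiftPoly]

noncomputable def shift (v : σ → K) :
    FractionRing (MvPolynomial σ K) ≃ₐ[K] FractionRing (MvPolynomial σ K) :=
  IsFractionRing.algEquivOfAlgEquiv (shiftPoly v)

noncomputable def xx (K : Type*) [Field K] (σ : Type*) (i : σ) : FractionRing (MvPolynomial σ K) :=
  algebraMap (MvPolynomial σ K) (FractionRing (MvPolynomial σ K)) (X i)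

theorem shift_xx (v : σ → K) (i : σ) :
    shift v (xx K σ i) = xx K σ i + algebraMap K (FractionRing (MvPolynomial σ K)) (v i) := by
  rw [xx, shift, IsFractionRing.algEquivOfAlgEquiv_algebraMap, shiftPoly_X, map_add]
  congr 1

theorem algebraicIndependent_xx_top : AlgebraicIndependent K (xx K σ) := by
  have h := MvPolynomial.algebraicIndependent_X σ K
  have := h.map' (f := IsScalarTower.toAlgHom K (MvPolynomial σ K) (FractionRing (MvPolynomial σ K)))
    (IsFractionRing.injective _ _)
  exact this

theorem algebraicIndependent_xx : AlgebraicIndependent k (xx K σ) :=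
  (algebraicIndependent_xx_top (K := K) (σ := σ)).restrictScalars (algebraMap k K).injective

/-- the shift by a vector with entries in `k`, as a `k`-algebra map -/
noncomputable def shiftk (v : σ → k) :
    FractionRing (MvPolynomial σ K) →ₐ[k] FractionRing (MvPolynomial σ K) :=
  (shift (fun i => algebraMap k K (v i))).toAlgHom.restrictScalars k

theorem shiftk_xx (v : σ → k) (i : σ) :
    shiftk (K := K) v (xx K σ i) = xx K σ i + algebraMap k (FractionRing (MvPolynomial σ K)) (v i) := by
  change shift _ (xx K σ i) = _
  rw [shift_xx, ← IsScalarTower.algebraMap_apply]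

theorem shiftk_algebraMap (v : σ → k) (a : K) :
    shiftk (K := K) v (algebraMap K (FractionRing (MvPolynomial σ K)) a) =
      algebraMap K (FractionRing (MvPolynomial σ K)) a :=
  (shift (fun i => algebraMap k K (v i))).commutes a

theorem shiftk_injective (v : σ → k) : Function.Injective (shiftk (K := K) (σ := σ) v) :=
  (shift (fun i => algebraMap k K (v i))).injective

theorem adjoin_shiftk (v : σ → k) :
    Algebra.adjoin k (Set.range (shiftk (K := K) v ∘ xx K σ)) = Algebra.adjoin k (Set.range (xx K σ)) := by
  apply le_antisymm
  · rw [Algebra.adjoin_le_iff]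
    rintro _ ⟨i, rfl⟩
    rw [Function.comp_apply, shiftk_xx]
    exact add_mem (Algebra.subset_adjoin ⟨i, rfl⟩) (Subalgebra.algebraMap_mem _ _)
  · rw [Algebra.adjoin_le_iff]
    rintro _ ⟨i, rfl⟩
    have h1 : xx K σ i = shiftk (K := K) v (xx K σ i) -
        algebraMap k (FractionRing (MvPolynomial σ K)) (v i) := by
      rw [shiftk_xx, add_sub_cancel_right]
    rw [h1]
    exact sub_mem (Algebra.subset_adjoin ⟨i, rfl⟩) (Subalgebra.algebraMap_mem _ _)

/-- algebraicity over `k[x]` is preserved by the shift -/
theorem isAlgebraic_shiftk (v : σ → k) (z : FractionRing (MvPolynomial σ K))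
    (hz : IsAlgebraic (Algebra.adjoin k (Set.range (xx K σ))) z) :
    IsAlgebraic (Algebra.adjoin k (Set.range (xx K σ))) (shiftk (K := K) v z) := by
  have hx : AlgebraicIndependent k (xx K σ) := algebraicIndependent_xx
  have hx' : AlgebraicIndependent k (shiftk (K := K) v ∘ xx K σ) :=
    hx.map' (shiftk_injective v)
  by_contra hcon
  have h1 : Transcendental (Algebra.adjoin k (Set.range (shiftk (K := K) v ∘ xx K σ)))
      (shiftk (K := K) v z) := by
    rw [adjoin_shiftk]
    exact hcon
  rw [← hx'.option_iff_transcendental] at h1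
  have h2 : (fun o : Option σ => o.elim (shiftk (K := K) v z) (shiftk (K := K) v ∘ xx K σ)) =
      shiftk (K := K) v ∘ (fun o : Option σ => o.elim z (xx K σ)) := by
    funext o
    cases o <;> rfl
  rw [h2, AlgHom.algebraicIndependent_iff _ (shiftk_injective v),
    hx.option_iff_transcendental] at h1
  exact h1 hz

variable [Fintype σ] [DecidableEq σ]

/-- the generic linear form `ξ = Σ gᵢ xᵢ` -/
noncomputable def xi (g : σ → K) : FractionRing (MvPolynomial σ K) :=
  ∑ i, algebraMap K (FractionRing (MvPolynomial σ K)) (g i) * xx K σ i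

omit [DecidableEq σ] in
theorem shiftk_xi (g : σ → K) (v : σ → k) :
    shiftk (K := K) v (xi g) = xi g + algebraMap K (FractionRing (MvPolynomial σ K))
      (∑ i, v i • g i) := by
  simp only [xi, map_sum, map_mul, shiftk_algebraMap, shiftk_xx, mul_add, Finset.sum_add_distrib]
  congr 1
  refine Finset.sum_congr rfl (fun i _ => ?_)
  rw [Algebra.smul_def, map_mul, ← IsScalarTower.algebraMap_apply, mul_comm]

/-- If some `gⱼ` is transcendental over `k[x]`, so is `ξ`. -/
theorem transcendental_xi (g : σ → K) (j : σ)
    (hj : Transcendental (Algebra.adjoin k (Set.range (xx K σ)))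
      (algebraMap K (FractionRing (MvPolynomial σ K)) (g j))) :
    Transcendental (Algebra.adjoin k (Set.range (xx K σ))) (xi g) := by
  intro halg
  have h1 := isAlgebraic_shiftk (Pi.single j (1 : k)) _ halg
  rw [shiftk_xi] at h1
  have h2 : ∑ i, (Pi.single j (1 : k) : σ → k) i • g i = g j := by
    rw [Finset.sum_eq_single j]
    · simp
    · intro b _ hb
      simp [hb]
    · intro h; exact absurd (Finset.mem_univ j) h
  rw [h2] at h1
  have h3 := h1.sub halg
  rw [add_sub_cancel_left] at h3
  exact hj h3


/-- two-element families from sets -/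
theorem algebraicIndependent_pair_of_indepOn {R A : Type*} [CommRing R] [CommRing A] [Algebra R A]
    {a b : A} (hab : a ≠ b) (h : AlgebraicIndepOn R id ({b, a} : Set A)) :
    AlgebraicIndependent R ![a, b] := by
  let f : Fin 2 → ({b, a} : Set A) := ![⟨a, by simp⟩, ⟨b, by simp⟩]
  have hf : Function.Injective f := by
    intro i j hij
    fin_cases i <;> fin_cases j <;> simp [f, Subtype.ext_iff] at hij ⊢
    · exact absurd hij hab
    · exact absurd hij.symm hab
  have := AlgebraicIndependent.comp h f hf
  convert this using 1
  funext i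
  fin_cases i <;> rfl

/-- exchange: among `g j0, g j1` one is algebraically independent of `x, ξ`. -/
theorem exists_algebraicIndependent (g : σ → K) (j0 j1 : σ)
    (h01 : AlgebraicIndependent k ![g j0, g j1]) :
    ∃ j, (j = j0 ∨ j = j1) ∧
      AlgebraicIndependent k (Sum.elim (xx K σ)
        ![xi g, algebraMap K (FractionRing (MvPolynomial σ K)) (g j)]) := by
  classical
  have hxK : AlgebraicIndependent K (xx K σ) := algebraicIndependent_xx_top
  have hx : AlgebraicIndependent k (xx K σ) := algebraicIndependent_xx
  have h3a : AlgebraicIndependent k (Sum.elim (xx K σ)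
      (algebraMap K (FractionRing (MvPolynomial σ K)) ∘ ![g j0, g j1])) :=
    AlgebraicIndependent.sumElim_comp h01 hxK
  have hswap : ∀ (y : Fin 2 → FractionRing (MvPolynomial σ K)),
      AlgebraicIndependent k (Sum.elim (xx K σ) y) ↔
        (AlgebraicIndependent k (xx K σ) ∧
          AlgebraicIndependent (Algebra.adjoin k (Set.range (xx K σ))) y) := by
    intro y
    rw [← AlgebraicIndependent.sumElim_iff]
    have : Sum.elim (xx K σ) y = Sum.elim y (xx K σ) ∘ (Equiv.sumComm σ (Fin 2)) := by
      funext s
      cases s <;> rfl
    rw [this, algebraicIndependent_equiv]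
  have hpair := ((hswap _).mp h3a).2
  set F := Algebra.adjoin k (Set.range (xx K σ)) with hF
  have hγ0 : Transcendental F (algebraMap K (FractionRing (MvPolynomial σ K)) (g j0)) :=
    hpair.transcendental 0
  have hξ : Transcendental F (xi g) := transcendental_xi g j0 hγ0
  have hne : algebraMap K (FractionRing (MvPolynomial σ K)) (g j0) ≠
      algebraMap K (FractionRing (MvPolynomial σ K)) (g j1) := by
    intro h
    have := hpair.injective (a₁ := 0) (a₂ := 1) (by simpa using h)
    exact absurd this (by decide)
  -- the matroid
  have hI : (AlgebraicIndependent.matroid F (FractionRing (MvPolynomial σ K))).Indep {xi g} := by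
    rw [AlgebraicIndependent.matroid_indep_iff]
    unfold AlgebraicIndepOn
    rw [algebraicIndependent_singleton_iff (⟨xi g, rfl⟩ : ({xi g} : Set _))]
    exact hξ
  have hJ : (AlgebraicIndependent.matroid F (FractionRing (MvPolynomial σ K))).Indep
      {algebraMap K (FractionRing (MvPolynomial σ K)) (g j0),
        algebraMap K (FractionRing (MvPolynomial σ K)) (g j1)} := by
    rw [AlgebraicIndependent.matroid_indep_iff]
    have h := hpair.to_subtype_range
    have hr : Set.range (algebraMap K (FractionRing (MvPolynomial σ K)) ∘ ![g j0, g j1]) =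
        {algebraMap K (FractionRing (MvPolynomial σ K)) (g j0),
          algebraMap K (FractionRing (MvPolynomial σ K)) (g j1)} := by
      ext z
      simp only [Set.mem_range, Function.comp_apply, Fin.exists_fin_two, Matrix.cons_val_zero,
        Matrix.cons_val_one, Set.mem_insert_iff, Set.mem_singleton_iff]
      constructor
      · rintro (h | h)
        · exact Or.inl h.symm
        · exact Or.inr h.symm
      · rintro (h | h)
        · exact Or.inl h.symm
        · exact Or.inr h.symm
    rw [hr] at h
    exact h
  have hcard : ({xi g} : Set (FractionRing (MvPolynomial σ K))).encard <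
      ({algebraMap K (FractionRing (MvPolynomial σ K)) (g j0),
        algebraMap K (FractionRing (MvPolynomial σ K)) (g j1)} : Set _).encard := by
    rw [Set.encard_singleton, Set.encard_pair hne]
    norm_num
  obtain ⟨e, ⟨heJ, heI⟩, hind⟩ := hI.augment hJ hcard
  rw [AlgebraicIndependent.matroid_indep_iff] at hind
  have heξ : xi g ≠ e := fun h => heI (by rw [← h]; rfl)
  have hpair2 : AlgebraicIndependent F ![xi g, e] :=
    algebraicIndependent_pair_of_indepOn heξ hind
  have hfinal : AlgebraicIndependent k (Sum.elim (xx K σ) ![xi g, e]) :=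
    (hswap _).mpr ⟨hx, hpair2⟩
  rcases heJ with rfl | rfl
  · exact ⟨j0, Or.inl rfl, hfinal⟩
  · exact ⟨j1, Or.inr rfl, hfinal⟩

end Groth.Agent.H36.RatShift
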