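import Mathlib
import Groth.Agent.H36.RatShift

/-!
# Change of coordinates for the Bertini-type irreducibility statement

For `c_j ≠ 0`: `t = x_j / c_j`, `z_i = x_i - c_i t` (`i ≠ j`), `z_j = t`, `a = ξ - δ t`.
-/

set_option autoImplicit false
universe u

namespace Groth.Agent.H36.BertiniField

open RatShift Cardinal

/-- A finite family generating an algebra which contains an algebraically independent family of the
same size is algebraically independent. -/
theorem algebraicIndependent_of_mem_adjoin {R A ι : Type*} [Field R] [Field A] [Algebra R A]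
    [Finite ι] (v w : ι → A) (hv : AlgebraicIndependent R v)
    (h : ∀ i, v i ∈ Algebra.adjoin R (Set.range w)) : AlgebraicIndependent R w := by
  let w' : ι → Algebra.adjoin R (Set.range w) := fun i => ⟨w i, Algebra.subset_adjoin ⟨i, rfl⟩⟩
  let v' : ι → Algebra.adjoin R (Set.range w) := fun i => ⟨v i, h i⟩
  have hv' : AlgebraicIndependent R v' :=
    (AlgHom.algebraicIndependent_iff (Algebra.adjoin R (Set.range w)).val
      Subtype.val_injective).mp hv
  have htop : Algebra.adjoin R (Set.range w') = ⊤ := by
    have h1 : Set.range w' = ((↑) : Algebra.adjoin R (Set.range w) → A) ⁻¹' (Set.range w) := by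
      ext ⟨a, ha⟩
      constructor
      · rintro ⟨i, hi⟩
        exact ⟨i, congrArg Subtype.val hi⟩
      · rintro ⟨i, hi⟩
        exact ⟨i, Subtype.ext hi⟩
    rw [h1, Algebra.adjoin_adjoin_coe_preimage]
  have : Algebra.IsAlgebraic (Algebra.adjoin R (Set.range w')) (Algebra.adjoin R (Set.range w)) := by
    constructor
    intro a
    have ha : a ∈ Algebra.adjoin R (Set.range w') := by rw [htop]; trivial
    exact isAlgebraic_algebraMap (⟨a, ha⟩ : Algebra.adjoin R (Set.range w'))
  have hle := hv'.lift_cardinalMk_le_trdeg
  have hb := Algebra.IsAlgebraic.isTranscendenceBasis_of_lift_le_trdeg_of_finite R w' hle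
  exact hb.1.map' (f := (Algebra.adjoin R (Set.range w)).val) Subtype.val_injective

/-- two-element algebraically independent families from transcendence statements -/
theorem algebraicIndependent_pair {R B : Type*} [CommRing R] [CommRing B] [Algebra R B] (a b : B)
    (ha : Transcendental R a) (hb : Transcendental (Algebra.adjoin R {a}) b) :
    AlgebraicIndependent R ![a, b] := by
  have h1 : AlgebraicIndependent R ![a] := algebraicIndependent_iff_transcendental.mpr ha
  have hr : Set.range ![a] = {a} := by
    ext z
    simp [eq_comm]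
  have h2 := (h1.option_iff_transcendental b).mpr (by rw [hr]; exact hb)
  let e : Fin 2 ≃ Option (Fin 1) :=
    { toFun := ![some 0, none]
      invFun := fun o => o.elim 1 (fun _ => 0)
      left_inv := by intro i; fin_cases i <;> rfl
      right_inv := by
        intro o
        cases o with
        | none => rfl
        | some i => fin_cases i; rfl }
  have h3 := (algebraicIndependent_equiv e (f := fun o : Option (Fin 1) => o.elim b ![a])).mpr h2
  convert h3 using 1
  funext i
  fin_cases i <;> rfl

variable {k K : Type*} [Field k] [Field K] [Algebra k K] {σ : Type*}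

/-- the new parameter `t = x_j / c_j` -/
noncomputable def tt (c : σ → k) (j : σ) : FractionRing (MvPolynomial σ K) :=
  xx K σ j * (algebraMap k (FractionRing (MvPolynomial σ K)) (c j))⁻¹

/-- the new coordinates: `z_j = t`, `z_i = x_i - c_i t` -/
noncomputable def zz [DecidableEq σ] (c : σ → k) (j : σ) (i : σ) : FractionRing (MvPolynomial σ K) :=
  if i = j then tt (K := K) c j else xx K σ i - algebraMap k _ (c i) * tt (K := K) c j

theorem xx_self [DecidableEq σ] (c : σ → k) (j : σ) (hcj : c j ≠ 0) :
    xx K σ j = algebraMap k _ (c j) * zz (K := K) c j j := by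
  have h0 : algebraMap k (FractionRing (MvPolynomial σ K)) (c j) ≠ 0 := by
    rw [Ne, map_eq_zero]; exact hcj
  simp only [zz, if_true, tt]
  field_simp

theorem xx_of_ne [DecidableEq σ] (c : σ → k) (j i : σ) (hij : i ≠ j) :
    xx K σ i = zz (K := K) c j i + algebraMap k _ (c i) * zz (K := K) c j j := by
  simp only [zz, if_neg hij, if_true]
  ring

theorem xx_sub [DecidableEq σ] (c : σ → k) (j i : σ) (hcj : c j ≠ 0) :
    xx K σ i - algebraMap k _ (c i) * tt (K := K) c j =
      if i = j then 0 else zz (K := K) c j i := by
  by_cases hij : i = j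
  · subst hij
    rw [if_pos rfl]
    have := xx_self (K := K) c i hcj
    simp only [zz, if_true] at this
    rw [this, sub_self]
  · rw [if_neg hij]
    simp only [zz, if_neg hij]

variable [Fintype σ]

/-- the element `δ = Σ cᵢ gᵢ` in `Ω` -/
noncomputable def dd (g : σ → K) (c : σ → k) : FractionRing (MvPolynomial σ K) :=
  algebraMap K _ (∑ i, c i • g i)

theorem dd_eq (g : σ → K) (c : σ → k) :
    dd g c = ∑ i, algebraMap K (FractionRing (MvPolynomial σ K)) (g i) * algebraMap k _ (c i) := by
  simp only [dd, map_sum]
  refine Finset.sum_congr rfl (fun i _ => ?_)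
  rw [Algebra.smul_def, map_mul, ← IsScalarTower.algebraMap_apply, mul_comm]

/-- `a = ξ - δ t` -/
noncomputable def aa [DecidableEq σ] (g : σ → K) (c : σ → k) (j : σ) :
    FractionRing (MvPolynomial σ K) :=
  xi g - dd g c * tt (K := K) c j

theorem aa_eq [DecidableEq σ] (g : σ → K) (c : σ → k) (j : σ) (hcj : c j ≠ 0) :
    aa g c j = ∑ i, algebraMap K (FractionRing (MvPolynomial σ K)) (g i) *
      (if i = j then 0 else zz (K := K) c j i) := by
  simp only [aa, xi, dd_eq, Finset.sum_mul, ← Finset.sum_sub_distrib]
  refine Finset.sum_congr rfl (fun i _ => ?_)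
  rw [← xx_sub (K := K) c j i hcj]
  ring

omit [Fintype σ] in
theorem zz_self [DecidableEq σ] (c : σ → k) (j : σ) : zz (K := K) c j j = tt (K := K) c j := by
  simp [zz]

omit [Fintype σ] in
theorem xx_mem_adjoin_zz [DecidableEq σ] {R : Type*} [CommSemiring R]
    [Algebra R (FractionRing (MvPolynomial σ K))] (S : Subalgebra R (FractionRing (MvPolynomial σ K)))
    (c : σ → k) (j : σ) (hcj : c j ≠ 0)
    (hS : ∀ a : k, algebraMap k (FractionRing (MvPolynomial σ K)) a ∈ S)
    (hz : ∀ i, zz (K := K) c j i ∈ S) (i : σ) : xx K σ i ∈ S := by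
  by_cases hij : i = j
  · subst hij
    rw [xx_self (K := K) c i hcj]
    exact mul_mem (hS _) (hz i)
  · rw [xx_of_ne (K := K) c j i hij]
    exact add_mem (hz i) (mul_mem (hS _) (hz j))

/-- the new coordinates are algebraically independent over `K` -/
theorem algebraicIndependent_zz [DecidableEq σ] (c : σ → k) (j : σ) (hcj : c j ≠ 0) :
    AlgebraicIndependent K (zz (K := K) c j) := by
  refine algebraicIndependent_of_mem_adjoin (xx K σ) _ algebraicIndependent_xx_top ?_
  intro i
  refine xx_mem_adjoin_zz _ c j hcj ?_ ?_ i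
  · intro a
    rw [IsScalarTower.algebraMap_apply k K]
    exact Subalgebra.algebraMap_mem _ _
  · intro i
    exact Algebra.subset_adjoin ⟨i, rfl⟩

/-- the family `(z, a, δ)` is algebraically independent over `k` -/
theorem algebraicIndependent_zz_aa_dd [DecidableEq σ] (g : σ → K) (c : σ → k) (j : σ)
    (hcj : c j ≠ 0)
    (hind : AlgebraicIndependent k (Sum.elim (xx K σ) ![xi g, dd g c])) :
    AlgebraicIndependent k (Sum.elim (zz (K := K) c j) ![aa g c j, dd g c]) := by
  refine algebraicIndependent_of_mem_adjoin _ _ hind ?_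
  have hz : ∀ i, zz (K := K) c j i ∈
      Algebra.adjoin k (Set.range (Sum.elim (zz (K := K) c j) ![aa g c j, dd g c])) :=
    fun i => Algebra.subset_adjoin ⟨Sum.inl i, rfl⟩
  have ha : aa g c j ∈
      Algebra.adjoin k (Set.range (Sum.elim (zz (K := K) c j) ![aa g c j, dd g c])) :=
    Algebra.subset_adjoin ⟨Sum.inr 0, rfl⟩
  have hd : dd g c ∈
      Algebra.adjoin k (Set.range (Sum.elim (zz (K := K) c j) ![aa g c j, dd g c])) :=
    Algebra.subset_adjoin ⟨Sum.inr 1, rfl⟩
  rintro (i | i)
  · exact xx_mem_adjoin_zz _ c j hcj (fun a => Subalgebra.algebraMap_mem _ _) hz i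
  · fin_cases i
    · have : xi g = aa g c j + dd g c * zz (K := K) c j j := by
        rw [zz_self, aa]; ring
      change xi g ∈ _
      rw [this]
      exact add_mem ha (mul_mem hd (hz j))
    · exact hd

end Groth.Agent.H36.BertiniField
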