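import Mathlib

/-!
# Translation automorphisms of a simple transcendental extension `Ω = L(t)`
-/


set_option autoImplicit false
universe u

namespace Groth.Agent.H36.Pencil

open IntermediateField

section auto

variable {L Ω : Type*} [Field L] [Field Ω] [Algebra L Ω]

/-- `RatFunc L ≃ Ω` for a transcendental generator `s` of `Ω/L`. -/
noncomputable def ratEquiv (s : Ω) (hs : Transcendental L s) (hstop : L⟮s⟯ = ⊤) :
    RatFunc L ≃ₐ[L] Ω :=
  (RatFunc.algEquivOfTranscendental s hs).trans ((equivOfEq hstop).trans topEquiv)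

theorem ratEquiv_X (s : Ω) (hs : Transcendental L s) (hstop : L⟮s⟯ = ⊤) :
    ratEquiv s hs hstop RatFunc.X = s := by
  simp only [ratEquiv, AlgEquiv.trans_apply]
  have h1 : (RatFunc.algEquivOfTranscendental s hs) (RatFunc.X : RatFunc L) =
      AdjoinSimple.gen L s := by
    apply Subtype.ext
    exact RatFunc.algEquivOfTranscendental_X s hs
  rw [h1]
  rfl

theorem transcendental_add (t : Ω) (ht : Transcendental L t) (c : L) :
    Transcendental L (t + algebraMap L Ω c) := by
  intro h
  apply ht
  have := h.sub (isAlgebraic_algebraMap (R := L) (A := Ω) c)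
  rwa [add_sub_cancel_right] at this

theorem adjoin_add_eq_top (t : Ω) (htop : L⟮t⟯ = ⊤) (c : L) :
    L⟮t + algebraMap L Ω c⟯ = ⊤ := by
  rw [← htop]
  apply le_antisymm
  · rw [adjoin_simple_le_iff]
    exact add_mem (mem_adjoin_simple_self L t) (IntermediateField.algebraMap_mem _ c)
  · rw [adjoin_simple_le_iff]
    have h := sub_mem (mem_adjoin_simple_self L (t + algebraMap L Ω c))
      (IntermediateField.algebraMap_mem L⟮t + algebraMap L Ω c⟯ c)
    rwa [add_sub_cancel_right] at h

/-- The translation `t ↦ t + c`. -/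
noncomputable def tau (t : Ω) (ht : Transcendental L t) (htop : L⟮t⟯ = ⊤) (c : L) : Ω ≃ₐ[L] Ω :=
  (ratEquiv t ht htop).symm.trans
    (ratEquiv (t + algebraMap L Ω c) (transcendental_add t ht c) (adjoin_add_eq_top t htop c))

theorem tau_t (t : Ω) (ht : Transcendental L t) (htop : L⟮t⟯ = ⊤) (c : L) :
    tau t ht htop c t = t + algebraMap L Ω c := by
  have h1 : (ratEquiv t ht htop).symm t = RatFunc.X := by
    rw [AlgEquiv.symm_apply_eq, ratEquiv_X]
  rw [tau, AlgEquiv.trans_apply, h1, ratEquiv_X]

theorem tau_symm_t (t : Ω) (ht : Transcendental L t) (htop : L⟮t⟯ = ⊤) (c : L) :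
    (tau t ht htop c).symm t = t - algebraMap L Ω c := by
  rw [AlgEquiv.symm_apply_eq, map_sub, tau_t, AlgEquiv.commutes, add_sub_cancel_right]

end auto

end Groth.Agent.H36.Pencil
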