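import Mathlib

/-!
# Purely transcendental extensions preserve separable closedness

If `k` is separably closed in `K` and `y` is a family algebraically independent over `K`, then
`k(y)` is separably closed in `K(y)` (`mem_adjoin_of_isSeparable`).  Also: transport lemmas for
`IsSeparable` (`isSeparable_transport`, `isSeparable_of_subset`).
-/

set_option autoImplicit false
universe u

namespace Groth.Agent.H36.SepClosedRat

open Polynomial

/-- A root of a separable polynomial is separable. -/
theorem isSeparable_of_separable_aeval {S Ω : Type*} [Field S] [Field Ω] [Algebra S Ω] {x : Ω}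
    (q : S[X]) (hq : q.Separable) (hx : aeval x q = 0) : IsSeparable S x :=
  hq.of_dvd (minpoly.dvd S x hx)

/-- Transport of separability along compatible ring homomorphisms. -/
theorem isSeparable_transport {S1 S2 Ω1 Ω2 : Type*} [Field S1] [Field S2] [Field Ω1] [Field Ω2]
    [Algebra S1 Ω1] [Algebra S2 Ω2] (φ : S1 →+* S2) (τ : Ω1 →+* Ω2)
    (h : ∀ s, τ (algebraMap S1 Ω1 s) = algebraMap S2 Ω2 (φ s)) {x : Ω1}
    (hx : IsSeparable S1 x) : IsSeparable S2 (τ x) := by
  refine isSeparable_of_separable_aeval ((minpoly S1 x).map φ) (Polynomial.Separable.map hx) ?_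
  rw [aeval_def, eval₂_map]
  have h1 : (algebraMap S2 Ω2).comp φ = τ.comp (algebraMap S1 Ω1) := by
    ext s
    exact (h s).symm
  rw [h1, ← Polynomial.hom_eval₂, ← aeval_def, minpoly.aeval, map_zero]

/-- Separability over a subfield (given as a subset) passes to a larger subfield. -/
theorem isSeparable_of_subset {A B Ω : Type*} [Field A] [Field B] [Field Ω] [Algebra A Ω]
    [Algebra B Ω] (S1 : IntermediateField A Ω) (S2 : IntermediateField B Ω)
    (h : (S1 : Set Ω) ⊆ S2) {x : Ω} (hx : IsSeparable S1 x) : IsSeparable S2 x := by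
  let φ : S1 →+* S2 := (algebraMap S1 Ω).codRestrict S2 (fun s => h s.2)
  exact isSeparable_transport φ (RingHom.id Ω) (fun s => rfl) hx

/-- If `k` is separably closed in `K`, every element algebraic over `k` has a `q`-power in `k`. -/
theorem exists_pow_mem_range {k K : Type*} [Field k] [Field K] [Algebra k K]
    (hk : ∀ a : K, IsSeparable k a → a ∈ Set.range (algebraMap k K)) (a : K)
    (ha : IsIntegral k a) :
    ∃ n : ℕ, a ^ (ringExpChar k) ^ n ∈ Set.range (algebraMap k K) := by
  have : ExpChar k (ringExpChar k) := ringExpChar.expChar k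
  obtain ⟨g, hgsep, m, hexp⟩ := (minpoly.irreducible ha).hasSeparableContraction (ringExpChar k)
  refine ⟨m, hk _ ?_⟩
  refine isSeparable_of_separable_aeval g hgsep ?_
  rw [← Polynomial.expand_aeval, hexp, minpoly.aeval]

variable {k K Ω : Type*} [Field k] [Field K] [Field Ω] [Algebra k K] [Algebra K Ω] [Algebra k Ω]
  [IsScalarTower k K Ω] {ι : Type*} (y : ι → Ω)

theorem aeval_map_eq (q : MvPolynomial ι k) :
    MvPolynomial.aeval y (MvPolynomial.map (algebraMap k K) q) = MvPolynomial.aeval y q := by
  exact MvPolynomial.aeval_map_algebraMap K y q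

theorem adjoin_k_le : ∀ a ∈ Algebra.adjoin k (Set.range y), a ∈ Algebra.adjoin K (Set.range y) := by
  intro a ha
  have h : Algebra.adjoin k (Set.range y) ≤ (Algebra.adjoin K (Set.range y)).restrictScalars k := by
    apply Algebra.adjoin_le
    intro z hz
    exact Algebra.subset_adjoin (R := K) hz
  exact h ha

attribute [local instance] MvPolynomial.algebraMvPolynomial in
open scoped IntermediateField.algebraAdjoinAdjoin in
/-- An element of `K(y)` algebraic over `k(y)` is a quotient `U/s` with `s ∈ k[y]` and `U ∈ K[y]`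
with coefficients algebraic over `k`. -/
theorem exists_integral_polynomial (hy : AlgebraicIndependent K y) (θ : Ω)
    (hθK : θ ∈ IntermediateField.adjoin K (Set.range y))
    (hθ : IsAlgebraic (IntermediateField.adjoin k (Set.range y)) θ) :
    ∃ (U : MvPolynomial ι K) (s : MvPolynomial ι k), s ≠ 0 ∧ (∀ d, IsIntegral k (U.coeff d)) ∧
      MvPolynomial.aeval y s * θ = MvPolynomial.aeval y U := by
  classical
  have hyk : AlgebraicIndependent k y := hy.restrictScalars (algebraMap k K).injective
  have h1 : IsAlgebraic (Algebra.adjoin k (Set.range y)) θ :=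
    (IsFractionRing.isAlgebraic_iff (Algebra.adjoin k (Set.range y))
      (IntermediateField.adjoin k (Set.range y)) Ω).mpr hθ
  obtain ⟨s0, hs0, hint⟩ := h1.exists_integral_multiple
  obtain ⟨s, hs⟩ : ∃ s : MvPolynomial ι k, hyk.aevalEquiv s = s0 := hyk.aevalEquiv.surjective s0
  have hs' : MvPolynomial.aeval y s = (s0 : Ω) := by
    rw [← hs, ← hyk.algebraMap_aevalEquiv]; rfl
  have hsne : s ≠ 0 := by
    rintro rfl
    rw [map_zero] at hs
    exact hs0 hs.symm
  -- the element `z = s0 * θ`
  have hz_def : s0 • θ = MvPolynomial.aeval y s * θ := by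
    rw [hs']; rfl
  rw [hz_def] at hint
  have hzK : MvPolynomial.aeval y s * θ ∈ IntermediateField.adjoin K (Set.range y) := by
    refine mul_mem ?_ hθK
    rw [hs']
    exact IntermediateField.algebra_adjoin_le_adjoin K _ (adjoin_k_le y _ s0.2)
  -- integral over `K[y]`
  let j : Algebra.adjoin k (Set.range y) →+* Algebra.adjoin K (Set.range y) :=
    (algebraMap (Algebra.adjoin k (Set.range y)) Ω).codRestrict (Algebra.adjoin K (Set.range y))
      (fun a => adjoin_k_le y _ a.2)
  have hintK : IsIntegral (Algebra.adjoin K (Set.range y)) (MvPolynomial.aeval y s * θ) := by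
    obtain ⟨p, hpm, hp⟩ := hint
    refine ⟨p.map j, hpm.map j, ?_⟩
    rw [eval₂_map]
    exact hp
  have hintK' : IsIntegral (Algebra.adjoin K (Set.range y))
      (⟨MvPolynomial.aeval y s * θ, hzK⟩ : IntermediateField.adjoin K (Set.range y)) := by
    rw [← isIntegral_algebraMap_iff (B := Ω)
      (algebraMap (IntermediateField.adjoin K (Set.range y)) Ω).injective]
    exact hintK
  have : IsIntegrallyClosed (Algebra.adjoin K (Set.range y)) :=
    IsIntegrallyClosed.of_equiv hy.aevalEquiv.toRingEquiv
  obtain ⟨w, hw⟩ := (IsIntegrallyClosed.isIntegral_iff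
    (K := IntermediateField.adjoin K (Set.range y))).mp hintK'
  obtain ⟨U, hU⟩ : ∃ U : MvPolynomial ι K, hy.aevalEquiv U = w := hy.aevalEquiv.surjective w
  have hU' : MvPolynomial.aeval y U = MvPolynomial.aeval y s * θ := by
    rw [← hy.algebraMap_aevalEquiv, hU]
    have := congrArg (fun t : IntermediateField.adjoin K (Set.range y) => (t : Ω)) hw
    exact this
  refine ⟨U, s, hsne, ?_, hU'.symm⟩
  -- integrality of `U` over `k[y]`
  have hUint : IsIntegral (MvPolynomial ι k) U := by
    obtain ⟨p, hpm, hp⟩ := hint
    refine ⟨p.map (hyk.aevalEquiv.symm : Algebra.adjoin k (Set.range y) →+* MvPolynomial ι k),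
      hpm.map _, ?_⟩
    have hinj : Function.Injective (MvPolynomial.aeval y : MvPolynomial ι K →ₐ[K] Ω) := hy
    apply hinj
    rw [map_zero]
    have h2 := Polynomial.hom_eval₂
      (p.map (hyk.aevalEquiv.symm : Algebra.adjoin k (Set.range y) →+* MvPolynomial ι k))
      (algebraMap (MvPolynomial ι k) (MvPolynomial ι K))
      ((MvPolynomial.aeval y : MvPolynomial ι K →ₐ[K] Ω) : MvPolynomial ι K →+* Ω) U
    have h3 : (MvPolynomial.aeval y : MvPolynomial ι K →ₐ[K] Ω)
        (eval₂ (algebraMap (MvPolynomial ι k) (MvPolynomial ι K)) U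
          (p.map (hyk.aevalEquiv.symm : Algebra.adjoin k (Set.range y) →+* MvPolynomial ι k))) =
        eval₂ (((MvPolynomial.aeval y : MvPolynomial ι K →ₐ[K] Ω) : MvPolynomial ι K →+* Ω).comp
          (algebraMap (MvPolynomial ι k) (MvPolynomial ι K)))
          ((MvPolynomial.aeval y : MvPolynomial ι K →ₐ[K] Ω) U)
          (p.map (hyk.aevalEquiv.symm : Algebra.adjoin k (Set.range y) →+* MvPolynomial ι k)) := h2
    rw [h3, eval₂_map, hU']
    have h4 : ((((MvPolynomial.aeval y : MvPolynomial ι K →ₐ[K] Ω) : MvPolynomial ι K →+* Ω).comp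
        (algebraMap (MvPolynomial ι k) (MvPolynomial ι K))).comp
        (hyk.aevalEquiv.symm : Algebra.adjoin k (Set.range y) →+* MvPolynomial ι k)) =
        algebraMap (Algebra.adjoin k (Set.range y)) Ω := by
      ext a
      simp only [RingHom.comp_apply, RingHom.coe_coe, MvPolynomial.algebraMap_def]
      rw [aeval_map_eq, ← hyk.algebraMap_aevalEquiv, AlgEquiv.apply_symm_apply]
    rw [h4]
    exact hp
  exact MvPolynomial.isIntegral_iff_isIntegral_coeff.mp hUint

/-- If `k` is separably closed in `K` and `y` is algebraically independent over `K`, then `k(y)` is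
separably closed in `K(y)`. -/
theorem mem_adjoin_of_isSeparable (hy : AlgebraicIndependent K y)
    (hk : ∀ a : K, IsSeparable k a → a ∈ Set.range (algebraMap k K)) (θ : Ω)
    (hθK : θ ∈ IntermediateField.adjoin K (Set.range y))
    (hθ : IsSeparable (IntermediateField.adjoin k (Set.range y)) θ) :
    θ ∈ IntermediateField.adjoin k (Set.range y) := by
  classical
  have hyk : AlgebraicIndependent k y := hy.restrictScalars (algebraMap k K).injective
  obtain ⟨U, s, hs, hU, hsU⟩ := exists_integral_polynomial y hy θ hθK hθ.isIntegral.isAlgebraic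
  have hexp : ExpChar (IntermediateField.adjoin k (Set.range y)) (ringExpChar k) :=
    expChar_of_injective_algebraMap
      (algebraMap k (IntermediateField.adjoin k (Set.range y))).injective (ringExpChar k)
  have hexpΩ : ExpChar Ω (ringExpChar k) :=
    expChar_of_injective_algebraMap (algebraMap k Ω).injective (ringExpChar k)
  have hyP : ∀ i, y i ∈ perfectClosure (IntermediateField.adjoin k (Set.range y)) Ω := by
    intro i
    have : y i = algebraMap (IntermediateField.adjoin k (Set.range y)) Ω
        ⟨y i, IntermediateField.subset_adjoin k _ ⟨i, rfl⟩⟩ := rfl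
    rw [this]
    exact IntermediateField.algebraMap_mem _ _
  have hcoef : ∀ d, algebraMap K Ω (U.coeff d) ∈
      perfectClosure (IntermediateField.adjoin k (Set.range y)) Ω := by
    intro d
    obtain ⟨n, b, hb⟩ := exists_pow_mem_range hk (U.coeff d) (hU d)
    rw [mem_perfectClosure_iff_pow_mem (ringExpChar k)]
    refine ⟨n, ⟨algebraMap k (IntermediateField.adjoin k (Set.range y)) b, ?_⟩⟩
    rw [← map_pow, ← hb, ← IsScalarTower.algebraMap_apply, ← IsScalarTower.algebraMap_apply]
  have hUP : MvPolynomial.aeval y U ∈
      perfectClosure (IntermediateField.adjoin k (Set.range y)) Ω := by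
    rw [MvPolynomial.aeval_def, MvPolynomial.eval₂_eq]
    exact sum_mem (fun d _ => mul_mem (hcoef d) (prod_mem (fun i _ => pow_mem (hyP i) _)))
  have hsE : MvPolynomial.aeval y s ∈ IntermediateField.adjoin k (Set.range y) := by
    have h1 : MvPolynomial.aeval y s ∈ Algebra.adjoin k (Set.range y) := by
      rw [Algebra.adjoin_range_eq_range_aeval]
      exact ⟨s, rfl⟩
    exact IntermediateField.algebra_adjoin_le_adjoin k _ h1
  have hsP : MvPolynomial.aeval y s ∈
      perfectClosure (IntermediateField.adjoin k (Set.range y)) Ω := by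
    have : MvPolynomial.aeval y s = algebraMap (IntermediateField.adjoin k (Set.range y)) Ω
        ⟨MvPolynomial.aeval y s, hsE⟩ := rfl
    rw [this]
    exact IntermediateField.algebraMap_mem _ _
  have hsne : MvPolynomial.aeval y s ≠ 0 := by
    intro h0
    apply hs
    apply hyk
    rw [h0, map_zero]
  have hθP : θ ∈ perfectClosure (IntermediateField.adjoin k (Set.range y)) Ω := by
    have : θ = (MvPolynomial.aeval y s)⁻¹ * MvPolynomial.aeval y U := by
      rw [← hsU, inv_mul_cancel_left₀ hsne]
    rw [this]
    exact mul_mem (inv_mem hsP) hUP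
  have hsep' : IsSeparable (IntermediateField.adjoin k (Set.range y))
      (⟨θ, hθP⟩ : perfectClosure (IntermediateField.adjoin k (Set.range y)) Ω) := by
    unfold IsSeparable at hθ ⊢
    have : minpoly (IntermediateField.adjoin k (Set.range y))
        (⟨θ, hθP⟩ : perfectClosure (IntermediateField.adjoin k (Set.range y)) Ω) =
        minpoly (IntermediateField.adjoin k (Set.range y)) θ :=
      (minpoly.algebraMap_eq
        (algebraMap (perfectClosure (IntermediateField.adjoin k (Set.range y)) Ω) Ω).injective
        (⟨θ, hθP⟩ : perfectClosure (IntermediateField.adjoin k (Set.range y)) Ω)).symm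
    rw [this]
    exact hθ
  obtain ⟨e, he⟩ := IsPurelyInseparable.inseparable'
    (F := IntermediateField.adjoin k (Set.range y)) _ hsep'
  have h2 : θ = (e : Ω) := by
    have := congrArg
      (fun t : perfectClosure (IntermediateField.adjoin k (Set.range y)) Ω => (t : Ω)) he
    exact this.symm
  rw [h2]
  exact e.2

end Groth.Agent.H36.SepClosedRat
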