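import Mathlib
import Groth.Agent.H36.PencilAuto
import Groth.Agent.H36.SepClosedRat

set_option autoImplicit false
universe u

namespace Groth.Agent.H36.Pencil

open IntermediateField

variable {F L Ω : Type*} [Field F] [Field L] [Field Ω] [Algebra F L] [Algebra L Ω] [Algebra F Ω]
  [IsScalarTower F L Ω]

/-- the translation by `c ∈ F`, as an `F`-automorphism -/
noncomputable def tauF (t : Ω) (ht : Transcendental L t) (htop : L⟮t⟯ = ⊤) (c : F) : Ω ≃ₐ[F] Ω :=
  (tau t ht htop (algebraMap F L c)).restrictScalars F

theorem tauF_t (t : Ω) (ht : Transcendental L t) (htop : L⟮t⟯ = ⊤) (c : F) :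
    tauF t ht htop c t = t + algebraMap F Ω c := by
  change tau t ht htop (algebraMap F L c) t = _
  rw [tau_t, ← IsScalarTower.algebraMap_apply]

theorem tauF_L (t : Ω) (ht : Transcendental L t) (htop : L⟮t⟯ = ⊤) (c : F) (l : L) :
    tauF t ht htop c (algebraMap L Ω l) = algebraMap L Ω l :=
  (tau t ht htop (algebraMap F L c)).commutes l

theorem tauF_symm_t (t : Ω) (ht : Transcendental L t) (htop : L⟮t⟯ = ⊤) (c : F) :
    (tauF t ht htop c).symm t = t - algebraMap F Ω c := by
  change (tau t ht htop (algebraMap F L c)).symm t = _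
  rw [tau_symm_t, ← IsScalarTower.algebraMap_apply]

theorem tauF_symm_L (t : Ω) (ht : Transcendental L t) (htop : L⟮t⟯ = ⊤) (c : F) (l : L) :
    (tauF t ht htop c).symm (algebraMap L Ω l) = algebraMap L Ω l :=
  (tau t ht htop (algebraMap F L c)).symm.commutes l

/-- image of `F(t, a + b t)` under the translation -/
theorem tauF_mem (t : Ω) (ht : Transcendental L t) (htop : L⟮t⟯ = ⊤) (c : F) (α β : L) (x : Ω)
    (hx : x ∈ adjoin F {t, algebraMap L Ω α + algebraMap L Ω β * t}) :
    tauF t ht htop c x ∈ adjoin F {t, algebraMap L Ω α + algebraMap L Ω β * t +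
      algebraMap L Ω β * algebraMap F Ω c} := by
  have hle : adjoin F {t, algebraMap L Ω α + algebraMap L Ω β * t} ≤
      (adjoin F {t, algebraMap L Ω α + algebraMap L Ω β * t +
        algebraMap L Ω β * algebraMap F Ω c}).comap (tauF t ht htop c).toAlgHom := by
    rw [adjoin_le_iff]
    intro z hz
    change tauF t ht htop c z ∈ adjoin F {t, algebraMap L Ω α + algebraMap L Ω β * t +
        algebraMap L Ω β * algebraMap F Ω c}
    rcases hz with h | h
    · rw [h, tauF_t]
      exact add_mem (subset_adjoin F _ (Set.mem_insert _ _)) (IntermediateField.algebraMap_mem _ c)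
    · rw [h, map_add, map_mul, tauF_L, tauF_L, tauF_t, mul_add, ← add_assoc]
      exact subset_adjoin F _ (Set.mem_insert_of_mem _ rfl)
  exact hle hx

theorem tauF_symm_mem (t : Ω) (ht : Transcendental L t) (htop : L⟮t⟯ = ⊤) (c : F) (α β : L) (x : Ω)
    (hx : x ∈ adjoin F {t, algebraMap L Ω α + algebraMap L Ω β * t +
      algebraMap L Ω β * algebraMap F Ω c}) :
    (tauF t ht htop c).symm x ∈ adjoin F {t, algebraMap L Ω α + algebraMap L Ω β * t} := by
  have hle : adjoin F {t, algebraMap L Ω α + algebraMap L Ω β * t +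
        algebraMap L Ω β * algebraMap F Ω c} ≤
      (adjoin F {t, algebraMap L Ω α + algebraMap L Ω β * t}).comap
        (tauF t ht htop c).symm.toAlgHom := by
    rw [adjoin_le_iff]
    intro z hz
    change (tauF t ht htop c).symm z ∈ adjoin F {t, algebraMap L Ω α + algebraMap L Ω β * t}
    rcases hz with h | h
    · rw [h, tauF_symm_t]
      exact sub_mem (subset_adjoin F _ (Set.mem_insert _ _)) (IntermediateField.algebraMap_mem _ c)
    · rw [h, map_add, map_add, map_mul, map_mul, tauF_symm_L, tauF_symm_L, tauF_symm_t,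
        AlgEquiv.commutes]
      have : algebraMap L Ω α + algebraMap L Ω β * (t - algebraMap F Ω c) +
          algebraMap L Ω β * algebraMap F Ω c = algebraMap L Ω α + algebraMap L Ω β * t := by ring
      rw [this]
      exact subset_adjoin F _ (Set.mem_insert_of_mem _ rfl)
  exact hle hx

end Groth.Agent.H36.Pencil
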