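import Mathlib

/-!
# Transcendence lemma for the pencil argument
-/

set_option autoImplicit false
universe u

namespace Groth.Agent.H36.Pencil

open IntermediateField

/-- a subfield-closure bound for adjoin, across different base fields -/
theorem adjoin_subset_of {A B Ω : Type*} [Field A] [Field B] [Field Ω] [Algebra A Ω] [Algebra B Ω]
    (S : Set Ω) (T : IntermediateField B Ω) (hA : Set.range (algebraMap A Ω) ⊆ T) (hS : S ⊆ T) :
    (adjoin A S : Set Ω) ⊆ T :=
  (Subfield.closure_le (t := T.toSubfield)).mpr (Set.union_subset hA hS)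

/-- algebraicity passes to a larger subfield (given as a subset) -/
theorem isAlgebraic_of_subset {A B Ω : Type*} [Field A] [Field B] [Field Ω] [Algebra A Ω]
    [Algebra B Ω] (S1 : IntermediateField A Ω) (S2 : IntermediateField B Ω)
    (h : (S1 : Set Ω) ⊆ S2) {x : Ω} (hx : IsAlgebraic S1 x) : IsAlgebraic S2 x := by
  let φ : S1 →+* S2 := (algebraMap S1 Ω).codRestrict S2 (fun s => h s.2)
  obtain ⟨p, hp0, hp⟩ := hx
  refine ⟨p.map φ, (Polynomial.map_ne_zero_iff φ.injective).mpr hp0, ?_⟩
  rw [Polynomial.aeval_def, Polynomial.eval₂_map]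
  exact hp

open scoped IntermediateField.algebraAdjoinAdjoin in
/-- the key transcendence statement of the pencil argument -/
theorem transcendental_xi2 {F Ω : Type*} [Field F] [Field Ω] [Algebra F Ω]
    (t a b ξ1 ξ2 θ1 r d : Ω) (hfam : AlgebraicIndependent F ![t, a, b])
    (hξ1 : ξ1 = a + b * r) (hr : r ∈ adjoin F {t})
    (hξ2 : ξ2 = ξ1 + b * d) (hd : d ∈ Set.range (algebraMap F Ω)) (hd0 : d ≠ 0)
    (hθ1 : IsAlgebraic (adjoin F {t, ξ1}) θ1) :
    Transcendental (adjoin (adjoin F {t}) {ξ1, θ1}) ξ2 := by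
  classical
  intro halg
  -- the algebraic closure of `N = F(t, ξ1)` in `Ω`
  have hMC : ((adjoin (adjoin F {t}) {ξ1, θ1} : IntermediateField (adjoin F {t}) Ω) : Set Ω) ⊆
      (algebraicClosure (adjoin F {t, ξ1}) Ω : IntermediateField (adjoin F {t, ξ1}) Ω) := by
    apply adjoin_subset_of
    · rintro _ ⟨x, rfl⟩
      have hx : (x : Ω) ∈ adjoin F {t, ξ1} :=
        adjoin.mono F {t} {t, ξ1} (by simp) x.2
      exact IntermediateField.algebraMap_mem
        (algebraicClosure (adjoin F {t, ξ1}) Ω) (⟨x, hx⟩ : adjoin F {t, ξ1})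
    · rintro z (rfl | rfl)
      · exact IntermediateField.algebraMap_mem
          (algebraicClosure (adjoin F {t, z}) Ω)
          (⟨z, subset_adjoin F _ (Set.mem_insert_of_mem _ rfl)⟩ : adjoin F {t, z})
      · rw [SetLike.mem_coe, mem_algebraicClosure_iff]
        exact hθ1
  have h1 : IsAlgebraic (algebraicClosure (adjoin F {t, ξ1}) Ω) ξ2 :=
    isAlgebraic_of_subset _ _ hMC halg
  have h2 : IsAlgebraic (adjoin F {t, ξ1}) ξ2 := IsAlgebraic.restrictScalars _ h1
  -- membership in the closure `C`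
  have hCmem : ∀ x : Ω, x ∈ adjoin F {t, ξ1} → x ∈ algebraicClosure (adjoin F {t, ξ1}) Ω := by
    intro x hx
    exact IntermediateField.algebraMap_mem
      (algebraicClosure (adjoin F {t, ξ1}) Ω) (⟨x, hx⟩ : adjoin F {t, ξ1})
  have hξ2C : ξ2 ∈ algebraicClosure (adjoin F {t, ξ1}) Ω := mem_algebraicClosure_iff.mpr h2
  have hξ1C : ξ1 ∈ algebraicClosure (adjoin F {t, ξ1}) Ω :=
    hCmem _ (subset_adjoin F _ (Set.mem_insert_of_mem _ rfl))
  have htC : t ∈ algebraicClosure (adjoin F {t, ξ1}) Ω :=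
    hCmem _ (subset_adjoin F _ (Set.mem_insert _ _))
  have hdC : d ∈ algebraicClosure (adjoin F {t, ξ1}) Ω := by
    obtain ⟨d', rfl⟩ := hd
    exact hCmem _ (IntermediateField.algebraMap_mem _ d')
  have hrC : r ∈ algebraicClosure (adjoin F {t, ξ1}) Ω :=
    hCmem _ (adjoin.mono F {t} {t, ξ1} (by simp) hr)
  have hbC : b ∈ algebraicClosure (adjoin F {t, ξ1}) Ω := by
    have : b = (ξ2 - ξ1) * d⁻¹ := by
      rw [hξ2, add_sub_cancel_left, mul_inv_cancel_right₀ hd0]
    rw [this]
    exact mul_mem (sub_mem hξ2C hξ1C) (inv_mem hdC)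
  have haC : a ∈ algebraicClosure (adjoin F {t, ξ1}) Ω := by
    have : a = ξ1 - b * r := by rw [hξ1, add_sub_cancel_right]
    rw [this]
    exact sub_mem hξ1C (mul_mem hbC hrC)
  -- the matroid
  have hI : (AlgebraicIndependent.matroid F Ω).Indep (Set.range ![t, a, b]) := by
    rw [AlgebraicIndependent.matroid_indep_iff]
    exact hfam.to_subtype_range
  have hsub : Set.range ![t, a, b] ⊆ (AlgebraicIndependent.matroid F Ω).closure {t, ξ1} := by
    rw [AlgebraicIndependent.matroid_closure_eq]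
    rintro _ ⟨i, rfl⟩
    have hi : (![t, a, b] i) ∈ algebraicClosure (adjoin F {t, ξ1}) Ω := by
      fin_cases i
      · exact htC
      · exact haC
      · exact hbC
    rw [mem_algebraicClosure_iff] at hi
    have h3 : IsAlgebraic (Algebra.adjoin F ({t, ξ1} : Set Ω)) (![t, a, b] i) :=
      (IsFractionRing.isAlgebraic_iff (Algebra.adjoin F ({t, ξ1} : Set Ω))
        (adjoin F ({t, ξ1} : Set Ω)) Ω).mpr hi
    exact h3
  have hcard1 : (3 : ℕ∞) ≤ (Set.range ![t, a, b]).encard := by
    have := hfam.injective.encard_range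
    simpa using this
  have hcard2 := hI.encard_le_eRk_of_subset hsub
  rw [Matroid.eRk_closure_eq] at hcard2
  have hcard3 : (AlgebraicIndependent.matroid F Ω).eRk {t, ξ1} ≤ 2 :=
    ((AlgebraicIndependent.matroid F Ω).eRk_le_encard _).trans (by
      have h := Set.encard_insert_le ({ξ1} : Set Ω) t
      rw [Set.encard_singleton] at h
      exact h.trans (by norm_num))
  have : (3 : ℕ∞) ≤ 2 := (hcard1.trans hcard2).trans hcard3
  exact absurd this (by norm_num)

end Groth.Agent.H36.Pencil
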