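import Mathlib
import Groth.Agent.H36.PencilTau
import Groth.Agent.H36.PencilTrans
import Groth.Agent.H36.SepClosedRat
import Groth.Agent.H38.AlgClosureFG

/-!
# The pencil lemma

If `F` is separably closed in `L`, `Ω = L(t)` is finitely generated over the infinite field `F`,
and `α, β ∈ L` are algebraically independent over `F`, then `F(t, α + β t)` is separably closed in
`Ω` (`pencil`).
-/

set_option autoImplicit false
set_option maxHeartbeats 1000000
universe u

namespace Groth.Agent.H36.Pencil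

open IntermediateField

variable {F L Ω : Type*} [Field F] [Field L] [Field Ω] [Algebra F L] [Algebra L Ω] [Algebra F Ω]
  [IsScalarTower F L Ω]

/-- `F(t)` is separably closed in `Ω = L(t)` when `F` is separably closed in `L`. -/
theorem sepClosed_Ft (t : Ω) (ht : Transcendental L t) (htop : L⟮t⟯ = ⊤)
    (hsep : ∀ x : L, IsSeparable F x → x ∈ Set.range (algebraMap F L)) (z : Ω)
    (hz : IsSeparable (adjoin F {t}) z) : z ∈ adjoin F {t} := by
  have hy : AlgebraicIndependent L (fun _ : Unit => t) :=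
    (algebraicIndependent_unique_type_iff (ι := Unit)).mpr ht
  have hr : Set.range (fun _ : Unit => t) = {t} := Set.range_const
  have := SepClosedRat.mem_adjoin_of_isSeparable (k := F) (K := L) (fun _ : Unit => t) hy hsep z
    (by rw [hr, htop]; trivial) (by rw [hr]; exact hz)
  rwa [hr] at this

/-- the independent family `(t, a, b)` -/
theorem algebraicIndependent_tab (t : Ω) (ht : Transcendental L t) (α β : L)
    (hαβ : AlgebraicIndependent F ![α, β]) :
    AlgebraicIndependent F ![t, algebraMap L Ω α, algebraMap L Ω β] := by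
  have hy : AlgebraicIndependent L (fun _ : Unit => t) :=
    (algebraicIndependent_unique_type_iff (ι := Unit)).mpr ht
  have h := AlgebraicIndependent.sumElim_comp hαβ hy
  let e : Fin 3 ≃ Unit ⊕ Fin 2 :=
    { toFun := ![Sum.inl (), Sum.inr 0, Sum.inr 1]
      invFun := Sum.elim (fun _ => 0) ![1, 2]
      left_inv := by intro i; fin_cases i <;> rfl
      right_inv := by
        intro s
        rcases s with u | i
        · rfl
        · fin_cases i <;> rfl }
  have h3 := (algebraicIndependent_equiv e (f := Sum.elim (fun _ : Unit => t)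
    (algebraMap L Ω ∘ ![α, β]))).mpr h
  convert h3 using 1
  funext i
  fin_cases i <;> rfl

/-- **Pencil lemma.** Let `F` be separably closed in `L`, `Ω = L(t)`, `α, β ∈ L` algebraically
independent over `F` (infinite), `Ω/F` finitely generated. Then `F(t, α + β t)` is separably closed
in `Ω`. -/
theorem pencil (t : Ω) (ht : Transcendental L t) (htop : L⟮t⟯ = ⊤) (α β : L)
    (hαβ : AlgebraicIndependent F ![α, β])
    (hsep : ∀ x : L, IsSeparable F x → x ∈ Set.range (algebraMap F L))
    [Infinite F] [Algebra.EssFiniteType F Ω] (θ : Ω)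
    (hθ : IsSeparable (adjoin F {t, algebraMap L Ω α + algebraMap L Ω β * t}) θ) :
    θ ∈ adjoin F {t, algebraMap L Ω α + algebraMap L Ω β * t} := by
  classical
  obtain ⟨a, ha⟩ : ∃ a, a = algebraMap L Ω α := ⟨_, rfl⟩
  obtain ⟨b, hb⟩ : ∃ b, b = algebraMap L Ω β := ⟨_, rfl⟩
  rw [← ha, ← hb] at hθ ⊢
  have hfam : AlgebraicIndependent F ![t, a, b] := by
    rw [ha, hb]; exact algebraicIndependent_tab t ht α β hαβ
  -- the translates
  have hθc : ∀ c : F, IsSeparable (adjoin F {t, a + b * t + b * algebraMap F Ω c})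
      (tauF t ht htop c θ) := by
    intro c
    let φ : adjoin F {t, a + b * t} →+* adjoin F {t, a + b * t + b * algebraMap F Ω c} :=
      ((tauF t ht htop c : Ω →+* Ω).comp (algebraMap (adjoin F {t, a + b * t}) Ω)).codRestrict
        (adjoin F {t, a + b * t + b * algebraMap F Ω c})
        (fun s => by
          have := tauF_mem t ht htop c α β (s : Ω) (by rw [← ha, ← hb]; exact s.2)
          rw [← ha, ← hb] at this
          exact this)
    exact SepClosedRat.isSeparable_transport φ (tauF t ht htop c : Ω →+* Ω) (fun s => rfl) hθ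
  -- all translates are separable over `F2 = F(t,a,b)`
  have hEcF2 : ∀ c : F, ((adjoin F {t, a + b * t + b * algebraMap F Ω c} :
      IntermediateField F Ω) : Set Ω) ⊆ (adjoin F {t, a, b} : IntermediateField F Ω) := by
    intro c
    apply adjoin_subset_of
    · rintro _ ⟨x, rfl⟩
      exact IntermediateField.algebraMap_mem _ x
    · have h1 : t ∈ adjoin F {t, a, b} := subset_adjoin F _ (by simp)
      have h2 : a ∈ adjoin F {t, a, b} := subset_adjoin F _ (by simp)
      have h3 : b ∈ adjoin F {t, a, b} := subset_adjoin F _ (by simp)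
      intro z hz
      rcases hz with h | h
      · rw [h]; exact h1
      · rw [h]
        exact add_mem (add_mem h2 (mul_mem h3 h1))
          (mul_mem h3 (IntermediateField.algebraMap_mem _ c))
  have hθcF2 : ∀ c : F, IsSeparable (adjoin F {t, a, b}) (tauF t ht htop c θ) :=
    fun c => SepClosedRat.isSeparable_of_subset _ _ (hEcF2 c) (hθc c)
  -- finiteness
  have : Algebra.EssFiniteType (adjoin F {t, a, b}) Ω :=
    Algebra.EssFiniteType.of_comp F (adjoin F {t, a, b}) Ω
  have hfdAC : FiniteDimensional (adjoin F {t, a, b}) (algebraicClosure (adjoin F {t, a, b}) Ω) :=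
    Groth.Agent.H38.AlgClosureFG.finiteDimensional_algebraicClosure _ _
  have hScle : separableClosure (adjoin F {t, a, b}) Ω ≤ algebraicClosure (adjoin F {t, a, b}) Ω :=
    le_algebraicClosure _ _ _
  have : FiniteDimensional (adjoin F {t, a, b}) (separableClosure (adjoin F {t, a, b}) Ω) :=
    FiniteDimensional.of_injective (IntermediateField.inclusion hScle).toLinearMap
      (IntermediateField.inclusion_injective hScle)
  have : Finite (IntermediateField (adjoin F {t, a, b})
      (separableClosure (adjoin F {t, a, b}) Ω)) :=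
    Field.finite_intermediateField_of_exists_primitive_element _ _
      (Field.exists_primitive_element _ _)
  have hmem : ∀ c : F, tauF t ht htop c θ ∈ separableClosure (adjoin F {t, a, b}) Ω :=
    fun c => mem_separableClosure_iff.mpr (hθcF2 c)
  let g : F → IntermediateField (adjoin F {t, a, b}) (separableClosure (adjoin F {t, a, b}) Ω) :=
    fun c => adjoin (adjoin F {t, a, b})
      {(⟨tauF t ht htop c θ, hmem c⟩ : separableClosure (adjoin F {t, a, b}) Ω)}
  obtain ⟨c1, c2, hne, heq⟩ := Finite.exists_ne_map_eq_of_infinite g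
  -- consequence: θ₂ ∈ F2(θ₁)
  have hθ21 : tauF t ht htop c2 θ ∈ adjoin (adjoin F {t, a, b}) {tauF t ht htop c1 θ} := by
    have h1 : (⟨tauF t ht htop c2 θ, hmem c2⟩ : separableClosure (adjoin F {t, a, b}) Ω) ∈ g c1 := by
      rw [heq]
      exact subset_adjoin _ _ rfl
    have h2 : (separableClosure (adjoin F {t, a, b}) Ω).val
        (⟨tauF t ht htop c2 θ, hmem c2⟩ : separableClosure (adjoin F {t, a, b}) Ω) ∈
        (g c1).map (separableClosure (adjoin F {t, a, b}) Ω).val :=
      ⟨_, h1, rfl⟩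
    rw [adjoin_map, Set.image_singleton] at h2
    exact h2
  -- notation
  obtain ⟨θ1, hθ1def⟩ : ∃ θ1, θ1 = tauF t ht htop c1 θ := ⟨_, rfl⟩
  obtain ⟨θ2, hθ2def⟩ : ∃ θ2, θ2 = tauF t ht htop c2 θ := ⟨_, rfl⟩
  obtain ⟨ξ1, hξ1def⟩ : ∃ ξ1, ξ1 = a + b * t + b * algebraMap F Ω c1 := ⟨_, rfl⟩
  obtain ⟨ξ2, hξ2def⟩ : ∃ ξ2, ξ2 = a + b * t + b * algebraMap F Ω c2 := ⟨_, rfl⟩
  have hs1 : IsSeparable (adjoin F {t, ξ1}) θ1 := by rw [hξ1def, hθ1def]; exact hθc c1
  have hs2 : IsSeparable (adjoin F {t, ξ2}) θ2 := by rw [hξ2def, hθ2def]; exact hθc c2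
  rw [← hθ1def, ← hθ2def] at hθ21
  have hd0 : algebraMap F Ω (c2 - c1) ≠ 0 := by
    rw [Ne, map_eq_zero, sub_eq_zero]
    exact fun h => hne h.symm
  have hξ21 : ξ2 = ξ1 + b * algebraMap F Ω (c2 - c1) := by
    rw [hξ1def, hξ2def, map_sub]; ring
  have htr : Transcendental (adjoin (adjoin F {t}) {ξ1, θ1}) ξ2 :=
    transcendental_xi2 t a b ξ1 ξ2 θ1 (t + algebraMap F Ω c1) (algebraMap F Ω (c2 - c1)) hfam
      (by rw [hξ1def]; ring)
      (add_mem (subset_adjoin F _ rfl) (IntermediateField.algebraMap_mem _ c1))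
      hξ21 ⟨_, rfl⟩ hd0 hs1.isIntegral.isAlgebraic
  -- elementary memberships
  have hK'M : ∀ x : Ω, x ∈ adjoin F {t} → x ∈ adjoin (adjoin F {t}) {ξ1, θ1} := fun x hx =>
    IntermediateField.algebraMap_mem (adjoin (adjoin F {t}) {ξ1, θ1}) (⟨x, hx⟩ : adjoin F {t})
  have hMT : ∀ x : Ω, x ∈ adjoin (adjoin F {t}) {ξ1, θ1} →
      x ∈ adjoin (adjoin (adjoin F {t}) {ξ1, θ1}) {ξ2} := fun x hx =>
    IntermediateField.algebraMap_mem (adjoin (adjoin (adjoin F {t}) {ξ1, θ1}) {ξ2})
      (⟨x, hx⟩ : adjoin (adjoin F {t}) {ξ1, θ1})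
  have hFK' : ∀ c : F, algebraMap F Ω c ∈ adjoin F {t} := fun c =>
    IntermediateField.algebraMap_mem _ c
  have htK' : t ∈ adjoin F {t} := subset_adjoin F _ rfl
  have hξ1M : ξ1 ∈ adjoin (adjoin F {t}) {ξ1, θ1} := subset_adjoin _ _ (by simp)
  have hθ1M : θ1 ∈ adjoin (adjoin F {t}) {ξ1, θ1} := subset_adjoin _ _ (by simp)
  have hξ2T : ξ2 ∈ adjoin (adjoin (adjoin F {t}) {ξ1, θ1}) {ξ2} := subset_adjoin _ _ rfl
  have hbT : b ∈ adjoin (adjoin (adjoin F {t}) {ξ1, θ1}) {ξ2} := by
    have : b = (ξ2 - ξ1) * (algebraMap F Ω (c2 - c1))⁻¹ := by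
      rw [hξ21, add_sub_cancel_left, mul_inv_cancel_right₀ hd0]
    rw [this]
    exact mul_mem (sub_mem hξ2T (hMT _ hξ1M)) (inv_mem (hMT _ (hK'M _ (hFK' _))))
  have haT : a ∈ adjoin (adjoin (adjoin F {t}) {ξ1, θ1}) {ξ2} := by
    have : a = ξ1 - b * (t + algebraMap F Ω c1) := by rw [hξ1def]; ring
    rw [this]
    exact sub_mem (hMT _ hξ1M)
      (mul_mem hbT (add_mem (hMT _ (hK'M _ htK')) (hMT _ (hK'M _ (hFK' _)))))
  have hF2T : ((adjoin F {t, a, b} : IntermediateField F Ω) : Set Ω) ⊆
      (adjoin (adjoin (adjoin F {t}) {ξ1, θ1}) {ξ2} :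
        IntermediateField (adjoin (adjoin F {t}) {ξ1, θ1}) Ω) := by
    apply adjoin_subset_of
    · rintro _ ⟨x, rfl⟩
      exact hMT _ (hK'M _ (hFK' x))
    · intro z hz
      rcases hz with h | h | h
      · rw [h]; exact hMT _ (hK'M _ htK')
      · rw [h]; exact haT
      · rw [h]; exact hbT
  have hθ2T : θ2 ∈ adjoin (adjoin (adjoin F {t}) {ξ1, θ1}) {ξ2} := by
    have hsub : ((adjoin (adjoin F {t, a, b}) {θ1} :
        IntermediateField (adjoin F {t, a, b}) Ω) : Set Ω) ⊆
        (adjoin (adjoin (adjoin F {t}) {ξ1, θ1}) {ξ2} :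
          IntermediateField (adjoin (adjoin F {t}) {ξ1, θ1}) Ω) := by
      apply adjoin_subset_of
      · rintro _ ⟨x, rfl⟩
        exact hF2T x.2
      · intro z hz
        rw [Set.mem_singleton_iff] at hz
        rw [hz]
        exact hMT _ hθ1M
    exact hsub hθ21
  -- apply the one-variable statement over `M`
  have hr : Set.range (fun _ : Unit => ξ2) = {ξ2} := Set.range_const
  have hy : AlgebraicIndependent (adjoin (adjoin F {t}) {ξ1, θ1}) (fun _ : Unit => ξ2) :=
    (algebraicIndependent_unique_type_iff (ι := Unit)).mpr htr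
  have hk : ∀ x : adjoin (adjoin F {t}) {ξ1, θ1}, IsSeparable (adjoin F {t}) x →
      x ∈ Set.range (algebraMap (adjoin F {t}) (adjoin (adjoin F {t}) {ξ1, θ1})) := by
    intro x hx
    have h1 : IsSeparable (adjoin F {t}) (x : Ω) :=
      SepClosedRat.isSeparable_transport (RingHom.id (adjoin F {t}))
        (algebraMap (adjoin (adjoin F {t}) {ξ1, θ1}) Ω) (fun s => rfl) hx
    have h2 := sepClosed_Ft t ht htop hsep (x : Ω) h1
    exact ⟨⟨(x : Ω), h2⟩, Subtype.ext rfl⟩
  have hsep2 : IsSeparable (adjoin (adjoin F {t}) (Set.range (fun _ : Unit => ξ2))) θ2 := by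
    rw [hr]
    refine SepClosedRat.isSeparable_of_subset _ _ ?_ hs2
    apply adjoin_subset_of
    · rintro _ ⟨x, rfl⟩
      exact IntermediateField.algebraMap_mem (adjoin (adjoin F {t}) {ξ2})
        (⟨algebraMap F Ω x, hFK' x⟩ : adjoin F {t})
    · intro z hz
      rcases hz with h | h
      · rw [h]
        exact IntermediateField.algebraMap_mem (adjoin (adjoin F {t}) {ξ2})
          (⟨t, htK'⟩ : adjoin F {t})
      · rw [h]; exact subset_adjoin _ _ rfl
  have hfin := SepClosedRat.mem_adjoin_of_isSeparable (k := adjoin F {t})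
    (K := adjoin (adjoin F {t}) {ξ1, θ1}) (fun _ : Unit => ξ2) hy hk θ2
    (by rw [hr]; exact hθ2T) hsep2
  rw [hr] at hfin
  have hθ2E : θ2 ∈ adjoin F {t, ξ2} := by
    have hsub : ((adjoin (adjoin F {t}) {ξ2} : IntermediateField (adjoin F {t}) Ω) : Set Ω) ⊆
        (adjoin F {t, ξ2} : IntermediateField F Ω) := by
      apply adjoin_subset_of
      · rintro _ ⟨x, rfl⟩
        exact adjoin.mono F {t} {t, ξ2} (by simp) x.2
      · intro z hz
        rw [Set.mem_singleton_iff] at hz
        rw [hz]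
        exact subset_adjoin F _ (by simp)
    exact hsub hfin
  -- translate back
  subst ha hb
  have := tauF_symm_mem t ht htop c2 α β θ2 (by rw [← hξ2def]; exact hθ2E)
  rwa [hθ2def, AlgEquiv.symm_apply_apply] at this

end Groth.Agent.H36.Pencil
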