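import Mathlib
import Groth.Agent.H36.BertiniField
import Groth.Agent.H36.Pencil

/-!
# `k(x, ξ)` is separably closed in `K(x)` (field-theoretic Bertini statement)
-/

set_option autoImplicit false
set_option maxHeartbeats 2000000
universe u

namespace Groth.Agent.H36.BertiniField

open RatShift IntermediateField

variable {k K : Type*} [Field k] [Field K] [Algebra k K] {σ : Type*}

/-- `K(x) = Ω`. -/
theorem adjoin_xx_eq_top : IntermediateField.adjoin K (Set.range (xx K σ)) = ⊤ := by
  rw [eq_top_iff]
  intro w _
  obtain ⟨p, q, -, rfl⟩ := IsFractionRing.div_surjective (A := MvPolynomial σ K) w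
  have hmem : ∀ p : MvPolynomial σ K,
      algebraMap (MvPolynomial σ K) (FractionRing (MvPolynomial σ K)) p ∈
        IntermediateField.adjoin K (Set.range (xx K σ)) := by
    intro p
    apply IntermediateField.algebra_adjoin_le_adjoin K _
    rw [Algebra.adjoin_range_eq_range_aeval]
    refine ⟨p, ?_⟩
    have h1 := MvPolynomial.comp_aeval_apply (R := K) (fun i : σ => (MvPolynomial.X i : MvPolynomial σ K))
      (IsScalarTower.toAlgHom K (MvPolynomial σ K) (FractionRing (MvPolynomial σ K))) p
    rw [MvPolynomial.aeval_X_left, AlgHom.id_apply] at h1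
    exact h1.symm
  exact div_mem (hmem p) (hmem q)

/-- algebraicity over a subring whose image lies in a subfield passes to the subfield -/
theorem isAlgebraic_of_range_subset {S1 B Ω : Type*} [CommRing S1] [Field B] [Field Ω]
    [Algebra S1 Ω] [Algebra B Ω] (S2 : IntermediateField B Ω)
    (hinj : Function.Injective (algebraMap S1 Ω)) (h : ∀ s : S1, algebraMap S1 Ω s ∈ S2) {x : Ω}
    (hx : IsAlgebraic S1 x) : IsAlgebraic S2 x := by
  let φ : S1 →+* S2 := (algebraMap S1 Ω).codRestrict S2 h
  have hφ : Function.Injective φ := by
    intro s s' hss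
    apply hinj
    exact congrArg Subtype.val hss
  obtain ⟨p, hp0, hp⟩ := hx
  refine ⟨p.map φ, (Polynomial.map_ne_zero_iff hφ).mpr hp0, ?_⟩
  rw [Polynomial.aeval_def, Polynomial.eval₂_map]
  exact hp

theorem essFiniteType_rat [Finite σ] [Algebra.EssFiniteType k K] :
    Algebra.EssFiniteType k (FractionRing (MvPolynomial σ K)) := by
  have : Algebra.EssFiniteType (MvPolynomial σ K) (FractionRing (MvPolynomial σ K)) :=
    Algebra.EssFiniteType.of_isLocalization _ (nonZeroDivisors (MvPolynomial σ K))
  have : Algebra.EssFiniteType K (FractionRing (MvPolynomial σ K)) :=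
    Algebra.EssFiniteType.comp K (MvPolynomial σ K) _
  exact Algebra.EssFiniteType.comp k K _

variable [Fintype σ] [DecidableEq σ]

open scoped IntermediateField.algebraAdjoinAdjoin in
/-- **Main field-theoretic statement.** -/
theorem sepClosed_adjoin [Algebra.EssFiniteType k K]
    (hk : ∀ a : K, IsSeparable k a → a ∈ Set.range (algebraMap k K))
    (g : σ → K) (c : σ → k)
    (hind : AlgebraicIndependent k (Sum.elim (xx K σ) ![xi g, dd g c]))
    (θ : FractionRing (MvPolynomial σ K))
    (hθ : IsSeparable (adjoin k (Set.range (xx K σ) ∪ {xi g})) θ) :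
    θ ∈ adjoin k (Set.range (xx K σ) ∪ {xi g}) := by
  classical
  -- 1. some `c j ≠ 0`
  obtain ⟨j, hcj⟩ : ∃ j, c j ≠ 0 := by
    by_contra hall
    push Not at hall
    have h0 : dd g c = 0 := by
      simp [dd, hall]
    exact hind.ne_zero (Sum.inr 1) h0
  have hw := algebraicIndependent_zz_aa_dd g c j hcj hind
  -- 2. some index different from `j`
  obtain ⟨i0, hi0⟩ : ∃ i0, i0 ≠ j := by
    by_contra hall
    push Not at hall
    have h0 : aa g c j = 0 := by
      rw [aa_eq g c j hcj]
      refine Finset.sum_eq_zero (fun i _ => ?_)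
      rw [if_pos (hall i), mul_zero]
    exact hw.ne_zero (Sum.inr 0) h0
  -- 3. the coordinates `y'`
  have hz := algebraicIndependent_zz (K := K) c j hcj
  obtain ⟨hy'0, htr0⟩ := (AlgebraicIndependent.iff_transcendental_adjoin_image j).mp hz
  obtain ⟨y', hy'def⟩ : ∃ y' : {i // i ≠ j} → FractionRing (MvPolynomial σ K),
      y' = fun i => zz (K := K) c j i.1 := ⟨_, rfl⟩
  have hy' : AlgebraicIndependent K y' := by rw [hy'def]; exact hy'0
  have himg : zz (K := K) c j '' {j}ᶜ = Set.range y' := by
    rw [hy'def]
    ext w
    constructor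
    · rintro ⟨i, hi, rfl⟩
      exact ⟨⟨i, hi⟩, rfl⟩
    · rintro ⟨⟨i, hi⟩, rfl⟩
      exact ⟨i, hi, rfl⟩
  rw [himg] at htr0
  have hy'z : ∀ i (hi : i ≠ j), zz (K := K) c j i = y' ⟨i, hi⟩ := by
    intro i hi; rw [hy'def]
  -- 4. the fields `F0 ⊆ L0`
  have hkL0 : ∀ a : k, algebraMap k (FractionRing (MvPolynomial σ K)) a ∈
      adjoin K (Set.range y') := by
    intro a
    rw [IsScalarTower.algebraMap_apply k K]
    exact IntermediateField.algebraMap_mem _ _
  have hF0L0 : ((adjoin k (Set.range y') : IntermediateField k _) :
      Set (FractionRing (MvPolynomial σ K))) ⊆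
      ((adjoin K (Set.range y') : IntermediateField K (FractionRing (MvPolynomial σ K))) :
        Set (FractionRing (MvPolynomial σ K))) := by
    apply Pencil.adjoin_subset_of
    · rintro _ ⟨a, rfl⟩
      exact hkL0 a
    · exact subset_adjoin K _
  let algFL : Algebra (adjoin k (Set.range y')) (adjoin K (Set.range y')) :=
    ((algebraMap (adjoin k (Set.range y')) (FractionRing (MvPolynomial σ K))).codRestrict
      (adjoin K (Set.range y')) (fun x => hF0L0 x.2)).toAlgebra
  have : IsScalarTower (adjoin k (Set.range y')) (adjoin K (Set.range y'))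
      (FractionRing (MvPolynomial σ K)) := IsScalarTower.of_algebraMap_eq (fun x => rfl)
  -- 5. hypotheses of the pencil lemma
  have ht : Transcendental (adjoin K (Set.range y')) (tt (K := K) c j) := by
    intro halg
    apply htr0
    rw [zz_self]
    exact (IsFractionRing.isAlgebraic_iff (Algebra.adjoin K (Set.range y'))
      (adjoin K (Set.range y')) (FractionRing (MvPolynomial σ K))).mpr halg
  have hzL0t : ∀ i, zz (K := K) c j i ∈
      (adjoin (adjoin K (Set.range y')) {tt (K := K) c j} :
        IntermediateField (adjoin K (Set.range y')) (FractionRing (MvPolynomial σ K))) := by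
    intro i
    by_cases hij : i = j
    · rw [hij, zz_self]
      exact mem_adjoin_simple_self _ _
    · rw [hy'z i hij]
      exact IntermediateField.algebraMap_mem _
        (⟨y' ⟨i, hij⟩, subset_adjoin K _ ⟨_, rfl⟩⟩ : adjoin K (Set.range y'))
  have hkL0t : ∀ a : k, algebraMap k (FractionRing (MvPolynomial σ K)) a ∈
      (adjoin (adjoin K (Set.range y')) {tt (K := K) c j} :
        IntermediateField (adjoin K (Set.range y')) (FractionRing (MvPolynomial σ K))) := by
    intro a
    exact IntermediateField.algebraMap_mem _
      (⟨algebraMap k _ a, hkL0 a⟩ : adjoin K (Set.range y'))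
  have htop : (adjoin (adjoin K (Set.range y')) {tt (K := K) c j} :
      IntermediateField (adjoin K (Set.range y')) (FractionRing (MvPolynomial σ K))) = ⊤ := by
    rw [eq_top_iff]
    intro w _
    have hw1 : w ∈ (adjoin K (Set.range (xx K σ)) : IntermediateField K _) := by
      rw [adjoin_xx_eq_top]; trivial
    have hsub : ((adjoin K (Set.range (xx K σ)) : IntermediateField K _) :
        Set (FractionRing (MvPolynomial σ K))) ⊆
        ((adjoin (adjoin K (Set.range y')) {tt (K := K) c j} :
          IntermediateField (adjoin K (Set.range y')) (FractionRing (MvPolynomial σ K))) :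
          Set (FractionRing (MvPolynomial σ K))) := by
      apply Pencil.adjoin_subset_of
      · rintro _ ⟨a, rfl⟩
        exact IntermediateField.algebraMap_mem _
          (⟨algebraMap K _ a, IntermediateField.algebraMap_mem _ a⟩ : adjoin K (Set.range y'))
      · rintro _ ⟨i, rfl⟩
        exact xx_mem_adjoin_zz
          (adjoin (adjoin K (Set.range y')) {tt (K := K) c j}).toSubalgebra c j hcj hkL0t hzL0t i
    exact hsub hw1
  have haL0 : aa g c j ∈ adjoin K (Set.range y') := by
    rw [aa_eq g c j hcj]
    refine sum_mem (fun i _ => ?_)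
    by_cases hij : i = j
    · rw [if_pos hij, mul_zero]; exact zero_mem _
    · rw [if_neg hij, hy'z i hij]
      exact mul_mem (IntermediateField.algebraMap_mem _ _) (subset_adjoin K _ ⟨_, rfl⟩)
  have hdL0 : dd g c ∈ adjoin K (Set.range y') := IntermediateField.algebraMap_mem _ _
  -- independence of `(a, δ)` over `F0`
  have hi1 : (Sum.inr 0 : σ ⊕ Fin 2) ∉ (Sum.inl '' ({j}ᶜ : Set σ) : Set (σ ⊕ Fin 2)) := by
    rintro ⟨i, -, hi⟩
    exact absurd hi (by simp)
  have hi2 : (Sum.inr 1 : σ ⊕ Fin 2) ∉
      (insert (Sum.inr 0) (Sum.inl '' ({j}ᶜ : Set σ)) : Set (σ ⊕ Fin 2)) := by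
    rintro (h | ⟨i, -, hi⟩)
    · exact absurd h (by simp)
    · exact absurd hi (by simp)
  have hT1 := hw.transcendental_adjoin hi1
  have hT2 := hw.transcendental_adjoin hi2
  have him1 : (Sum.elim (zz (K := K) c j) ![aa g c j, dd g c]) ''
      (Sum.inl '' ({j}ᶜ : Set σ)) = Set.range y' := by
    rw [← himg, Set.image_image]
    rfl
  have him2 : (Sum.elim (zz (K := K) c j) ![aa g c j, dd g c]) ''
      (insert (Sum.inr 0) (Sum.inl '' ({j}ᶜ : Set σ))) = insert (aa g c j) (Set.range y') := by
    rw [Set.image_insert_eq, him1]
    rfl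
  rw [him1] at hT1
  rw [him2] at hT2
  change Transcendental _ (aa g c j) at hT1
  change Transcendental _ (dd g c) at hT2
  have hTa : Transcendental (adjoin k (Set.range y')) (aa g c j) := by
    intro halg
    apply hT1
    exact (IsFractionRing.isAlgebraic_iff (Algebra.adjoin k (Set.range y'))
      (adjoin k (Set.range y')) (FractionRing (MvPolynomial σ K))).mpr halg
  have hTd : Transcendental (Algebra.adjoin (adjoin k (Set.range y')) {aa g c j}) (dd g c) := by
    intro halg
    apply hT2
    have hG : IsAlgebraic (adjoin k (insert (aa g c j) (Set.range y'))) (dd g c) := by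
      refine isAlgebraic_of_range_subset _ Subtype.val_injective ?_ halg
      intro s
      have h1 : (s : FractionRing (MvPolynomial σ K)) ∈
          adjoin (adjoin k (Set.range y')) {aa g c j} :=
        IntermediateField.algebra_adjoin_le_adjoin _ _ s.2
      have hsub : ((adjoin (adjoin k (Set.range y')) {aa g c j} :
          IntermediateField (adjoin k (Set.range y')) _) :
          Set (FractionRing (MvPolynomial σ K))) ⊆
          ((adjoin k (insert (aa g c j) (Set.range y')) : IntermediateField k _) :
            Set (FractionRing (MvPolynomial σ K))) := by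
        apply Pencil.adjoin_subset_of
        · rintro _ ⟨x, rfl⟩
          exact adjoin.mono k _ _ (Set.subset_insert _ _) x.2
        · intro w hw'
          rw [Set.mem_singleton_iff] at hw'
          rw [hw']
          exact subset_adjoin k _ (Set.mem_insert _ _)
      exact hsub h1
    exact (IsFractionRing.isAlgebraic_iff (Algebra.adjoin k (insert (aa g c j) (Set.range y')))
      (adjoin k (insert (aa g c j) (Set.range y'))) (FractionRing (MvPolynomial σ K))).mpr hG
  have hpairΩ : AlgebraicIndependent (adjoin k (Set.range y')) ![aa g c j, dd g c] :=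
    algebraicIndependent_pair _ _ hTa hTd
  have hαβ : AlgebraicIndependent (adjoin k (Set.range y'))
      ![(⟨aa g c j, haL0⟩ : adjoin K (Set.range y')), (⟨dd g c, hdL0⟩ : adjoin K (Set.range y'))] := by
    rw [← AlgHom.algebraicIndependent_iff
      (IsScalarTower.toAlgHom (adjoin k (Set.range y')) (adjoin K (Set.range y'))
        (FractionRing (MvPolynomial σ K)))
      (algebraMap (adjoin K (Set.range y')) (FractionRing (MvPolynomial σ K))).injective]
    convert hpairΩ using 1
    funext i
    fin_cases i <;> rfl
  -- separable closedness of `F0` in `L0`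
  have hsep : ∀ x : adjoin K (Set.range y'), IsSeparable (adjoin k (Set.range y')) x →
      x ∈ Set.range (algebraMap (adjoin k (Set.range y')) (adjoin K (Set.range y'))) := by
    intro x hx
    have h1 : IsSeparable (adjoin k (Set.range y')) (x : FractionRing (MvPolynomial σ K)) :=
      SepClosedRat.isSeparable_transport (RingHom.id (adjoin k (Set.range y')))
        (algebraMap (adjoin K (Set.range y')) (FractionRing (MvPolynomial σ K)))
        (fun s => rfl) hx
    have h2 := SepClosedRat.mem_adjoin_of_isSeparable y' hy' hk _ x.2 h1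
    exact ⟨⟨(x : FractionRing (MvPolynomial σ K)), h2⟩, Subtype.ext rfl⟩
  -- `F0` is infinite
  have : Infinite (adjoin k (Set.range y')) := by
    have hyk : AlgebraicIndependent k y' := hy'.restrictScalars (algebraMap k K).injective
    have h1 : Transcendental k (y' ⟨i0, hi0⟩) := hyk.transcendental _
    have h2 : Transcendental k
        (⟨y' ⟨i0, hi0⟩, subset_adjoin k _ ⟨_, rfl⟩⟩ : adjoin k (Set.range y')) := by
      rw [← transcendental_algebraMap_iff
        (algebraMap (adjoin k (Set.range y')) (FractionRing (MvPolynomial σ K))).injective]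
      exact h1
    exact h2.infinite
  have : Algebra.EssFiniteType k (FractionRing (MvPolynomial σ K)) := essFiniteType_rat
  have : Algebra.EssFiniteType (adjoin k (Set.range y')) (FractionRing (MvPolynomial σ K)) :=
    Algebra.EssFiniteType.of_comp k _ _
  -- 6. apply the pencil lemma
  have hxi : xi g = aa g c j + dd g c * tt (K := K) c j := by rw [aa]; ring
  have hET : ((adjoin k (Set.range (xx K σ) ∪ {xi g}) : IntermediateField k _) :
      Set (FractionRing (MvPolynomial σ K))) ⊆
      ((adjoin (adjoin k (Set.range y')) {tt (K := K) c j, aa g c j + dd g c * tt (K := K) c j} :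
        IntermediateField (adjoin k (Set.range y')) _) :
        Set (FractionRing (MvPolynomial σ K))) := by
    apply Pencil.adjoin_subset_of
    · rintro _ ⟨a, rfl⟩
      exact IntermediateField.algebraMap_mem _
        (⟨algebraMap k _ a, IntermediateField.algebraMap_mem _ a⟩ : adjoin k (Set.range y'))
    · rintro w (⟨i, rfl⟩ | hw')
      · refine xx_mem_adjoin_zz
          (adjoin (adjoin k (Set.range y'))
            {tt (K := K) c j, aa g c j + dd g c * tt (K := K) c j}).toSubalgebra c j hcj ?_ ?_ i
        · intro a
          exact IntermediateField.algebraMap_mem _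
            (⟨algebraMap k _ a, IntermediateField.algebraMap_mem _ a⟩ : adjoin k (Set.range y'))
        · intro i
          by_cases hij : i = j
          · rw [hij, zz_self]
            exact subset_adjoin _ _ (Set.mem_insert _ _)
          · rw [hy'z i hij]
            exact IntermediateField.algebraMap_mem _
              (⟨y' ⟨i, hij⟩, subset_adjoin k _ ⟨_, rfl⟩⟩ : adjoin k (Set.range y'))
      · rw [Set.mem_singleton_iff] at hw'
        rw [hw', hxi]
        exact subset_adjoin _ _ (Set.mem_insert_of_mem _ rfl)
  have hTE : ((adjoin (adjoin k (Set.range y'))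
      {tt (K := K) c j, aa g c j + dd g c * tt (K := K) c j} :
        IntermediateField (adjoin k (Set.range y')) _) :
        Set (FractionRing (MvPolynomial σ K))) ⊆
      ((adjoin k (Set.range (xx K σ) ∪ {xi g}) : IntermediateField k _) :
        Set (FractionRing (MvPolynomial σ K))) := by
    have hxE : ∀ i, xx K σ i ∈ adjoin k (Set.range (xx K σ) ∪ {xi g}) :=
      fun i => subset_adjoin k _ (Or.inl ⟨i, rfl⟩)
    have htE : tt (K := K) c j ∈ adjoin k (Set.range (xx K σ) ∪ {xi g}) := by
      rw [tt]
      exact mul_mem (hxE j) (inv_mem (IntermediateField.algebraMap_mem _ _))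
    apply Pencil.adjoin_subset_of
    · rintro _ ⟨x, rfl⟩
      have hsub : ((adjoin k (Set.range y') : IntermediateField k _) :
          Set (FractionRing (MvPolynomial σ K))) ⊆
          ((adjoin k (Set.range (xx K σ) ∪ {xi g}) : IntermediateField k _) :
            Set (FractionRing (MvPolynomial σ K))) := by
        apply Pencil.adjoin_subset_of
        · rintro _ ⟨a, rfl⟩
          exact IntermediateField.algebraMap_mem _ a
        · rintro _ ⟨⟨i, hi⟩, rfl⟩
          rw [hy'def]
          simp only [zz, if_neg hi]
          exact sub_mem (hxE i) (mul_mem (IntermediateField.algebraMap_mem _ _) htE)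
      exact hsub x.2
    · intro w hw'
      rcases hw' with h | h
      · rw [h]; exact htE
      · rw [h, ← hxi]
        exact subset_adjoin k _ (Or.inr rfl)
  have hθT := SepClosedRat.isSeparable_of_subset _ _ hET hθ
  have hfin := Pencil.pencil (F := adjoin k (Set.range y')) (L := adjoin K (Set.range y'))
    (tt (K := K) c j) ht htop ⟨aa g c j, haL0⟩ ⟨dd g c, hdL0⟩ hαβ hsep θ hθT
  exact hTE hfin

end Groth.Agent.H36.BertiniField
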