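import Mathlib
import Groth.Agent.H14.DimTrdeg

/-!
# Non-injectivity of algebra maps from polynomial rings for dimension reasons
-/

set_option autoImplicit false
set_option linter.unusedSectionVars false
set_option linter.unusedVariables false
set_option linter.style.haveILetI false

namespace Groth.Agent.H36.BertiniSm

universe u

open MvPolynomial

/-- A `k`-algebra map from a polynomial ring in `N` variables to a domain of finite type over `k`
of Krull dimension `< N` is not injective. -/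
theorem exists_ne_zero_map_eq_zero_of_domain (k D : Type u) [Field k] [CommRing D] [IsDomain D]
    [Algebra k D] [Algebra.FiniteType k D] (N e : ℕ) (hD : ringKrullDim D ≤ (e : WithBot ℕ∞))
    (hN : e < N) (φ : MvPolynomial (Fin N) k →ₐ[k] D) :
    ∃ g : MvPolynomial (Fin N) k, g ≠ 0 ∧ φ g = 0 := by
  by_contra hcon
  push Not at hcon
  have hinj : Function.Injective φ := by
    rw [injective_iff_map_eq_zero]
    intro g hg
    by_contra hne
    exact hcon g hne hg
  obtain ⟨n', hn1, hn2, -⟩ := Groth.Agent.H14.ringKrullDim_eq_trdeg_of_finiteType_domain k D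
  have hn'e : n' ≤ e := by
    rw [hn2] at hD
    exact_mod_cast hD
  let ψ : MvPolynomial (Fin N) k →ₐ[k] FractionRing D :=
    (IsScalarTower.toAlgHom k D (FractionRing D)).comp φ
  have hψinj : Function.Injective ψ := by
    intro a b hab
    apply hinj
    exact IsFractionRing.injective D (FractionRing D) hab
  have hai : AlgebraicIndependent k (fun i : Fin N => ψ (X i)) := by
    rw [algebraicIndependent_iff_injective_aeval]
    have : (aeval fun i : Fin N => ψ (X i)) = ψ := by
      apply MvPolynomial.algHom_ext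
      intro i
      simp
    rw [this]
    exact hψinj
  have hcard := hai.lift_cardinalMk_le_trdeg
  rw [hn1] at hcard
  simp only [Cardinal.mk_fin, Cardinal.lift_natCast, Nat.cast_le] at hcard
  omega

/-- A `k`-algebra map from a polynomial ring in `N` variables over `k` to a polynomial ring over a
reduced finite type `k`-algebra `S` is not injective as soon as `N` exceeds the dimension. -/
theorem exists_ne_zero_map_eq_zero (k S : Type u) [Field k] [CommRing S] [Algebra k S]
    [Algebra.FiniteType k S] [IsReduced S] (ι : Type) [Finite ι] (d N : ℕ)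
    (hd : ∀ 𝔭 ∈ minimalPrimes S, ringKrullDim (S ⧸ 𝔭) ≤ (d : WithBot ℕ∞))
    (hN : d + Nat.card ι < N) (Ψ : MvPolynomial (Fin N) k →ₐ[k] MvPolynomial ι S) :
    ∃ g : MvPolynomial (Fin N) k, g ≠ 0 ∧ Ψ g = 0 := by
  classical
  haveI : IsNoetherianRing S := Algebra.FiniteType.isNoetherianRing k S
  have hfin : (minimalPrimes S).Finite := minimalPrimes.finite_of_isNoetherianRing S
  have hstep : ∀ 𝔭 ∈ minimalPrimes S, ∃ g : MvPolynomial (Fin N) k, g ≠ 0 ∧
      MvPolynomial.map (Ideal.Quotient.mk 𝔭) (Ψ g) = 0 := by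
    intro 𝔭 h𝔭
    haveI : 𝔭.IsPrime := h𝔭.1.1
    haveI : IsNoetherianRing (S ⧸ 𝔭) := inferInstance
    haveI : Algebra.FiniteType k (S ⧸ 𝔭) :=
      Algebra.FiniteType.of_surjective (Ideal.Quotient.mkₐ k 𝔭) (Ideal.Quotient.mkₐ_surjective k 𝔭)
    haveI : Algebra.FiniteType k (MvPolynomial ι (S ⧸ 𝔭)) :=
      Algebra.FiniteType.trans (S := S ⧸ 𝔭) inferInstance inferInstance
    have hdim : ringKrullDim (MvPolynomial ι (S ⧸ 𝔭)) ≤ ((d + Nat.card ι : ℕ) : WithBot ℕ∞) := by
      rw [MvPolynomial.ringKrullDim_of_isNoetherianRing]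
      push_cast
      gcongr
      exact hd 𝔭 h𝔭
    let φ : MvPolynomial (Fin N) k →ₐ[k] MvPolynomial ι (S ⧸ 𝔭) :=
      (MvPolynomial.mapAlgHom (Ideal.Quotient.mkₐ k 𝔭)).comp Ψ
    obtain ⟨g, hg0, hg⟩ := exists_ne_zero_map_eq_zero_of_domain k (MvPolynomial ι (S ⧸ 𝔭)) N
      (d + Nat.card ι) hdim hN φ
    exact ⟨g, hg0, hg⟩
  choose! g hg0 hg using hstep
  refine ⟨∏ 𝔭 ∈ hfin.toFinset, g 𝔭, ?_, ?_⟩
  · rw [Finset.prod_ne_zero_iff]
    intro 𝔭 h𝔭
    exact hg0 𝔭 (hfin.mem_toFinset.mp h𝔭)
  · ext m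
    rw [MvPolynomial.coeff_zero]
    have hmem : coeff m (Ψ (∏ 𝔭 ∈ hfin.toFinset, g 𝔭)) ∈ sInf (minimalPrimes S) := by
      rw [Submodule.mem_sInf]
      intro 𝔭 h𝔭
      have h1 : MvPolynomial.map (Ideal.Quotient.mk 𝔭) (Ψ (∏ 𝔭 ∈ hfin.toFinset, g 𝔭)) = 0 := by
        rw [map_prod, map_prod]
        exact Finset.prod_eq_zero (hfin.mem_toFinset.mpr h𝔭) (hg 𝔭 h𝔭)
      have h2 := congrArg (coeff m) h1
      rw [MvPolynomial.coeff_map, MvPolynomial.coeff_zero] at h2
      exact Ideal.Quotient.eq_zero_iff_mem.mp h2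
    have hrad : sInf (minimalPrimes S) = ⊥ := by
      unfold minimalPrimes
      rw [Ideal.sInf_minimalPrimes]
      exact nilradical_eq_zero S
    rw [hrad] at hmem
    exact hmem

end Groth.Agent.H36.BertiniSm
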