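import Mathlib
import Groth.Agent.H36.BertiniSmA
import Groth.Agent.H11.StdSmoothFibre
import Groth.Agent.H11.FtDim
import Groth.Agent.H47.SmoothReduced

/-!
# Generic hyperplanes are transversal on a coordinate chart of a smooth algebra
-/

set_option autoImplicit false
set_option linter.unusedSectionVars false
set_option linter.unusedVariables false
set_option linter.style.haveILetI false

namespace Groth.Agent.H36.BertiniSm

universe u

open MvPolynomial KaehlerDifferential

section param

variable {k S : Type u} [Field k] [CommRing S] [Algebra k S] {n : ℕ} (y : Fin n → S)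
  (I : Finset (Fin n)) (b : Module.Basis I S Ω[S⁄k])

/-- The coordinates of `d (y j)` in the basis `b`. -/
noncomputable def coef (j : Fin n) (i : I) : S := b.repr (D k S (y j)) i

/-- The affine linear form `a 0 + ∑ a (j+1) y j`. -/
noncomputable def lin (a : Fin (n + 1) → k) : S :=
  algebraMap k S (a 0) + ∑ j : Fin n, algebraMap k S (a j.succ) * y j

theorem repr_D_lin (a : Fin (n + 1) → k) (i : I) :
    b.repr (D k S (lin y a)) i = ∑ j : Fin n, algebraMap k S (a j.succ) * coef y I b j i := by
  unfold lin coef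
  rw [map_add, Derivation.map_algebraMap, zero_add, map_sum, map_sum, Finsupp.finsetSum_apply]
  refine Finset.sum_congr rfl fun j _ => ?_
  rw [Derivation.leibniz, Derivation.map_algebraMap, smul_zero, add_zero, map_smul,
    Finsupp.smul_apply, smul_eq_mul]

theorem coef_of_mem (hb : ∀ i : I, b i = D k S (y i)) (j i : I) :
    coef y I b j i = if j = i then 1 else 0 := by
  unfold coef
  rw [← hb j, Module.Basis.repr_self, Finsupp.single_apply]

/-- The parametrisation of the coefficients `a (j+1)` of the bad hyperplanes. -/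
noncomputable def alpha (j : Fin n) : MvPolynomial {j : Fin n // j ∉ I} S :=
  if hj : j ∈ I then - ∑ l : {j : Fin n // j ∉ I}, C (coef y I b l.1 ⟨j, hj⟩) * X l
  else X ⟨j, hj⟩

/-- The parametrisation of the constant coefficient `a 0` of the bad hyperplanes. -/
noncomputable def alpha0 : MvPolynomial {j : Fin n // j ∉ I} S :=
  - ∑ j : Fin n, alpha y I b j * C (y j)

/-- The coordinate ring map of the parametrisation of bad hyperplanes. -/
noncomputable def Psi : MvPolynomial (Fin (n + 1)) k →ₐ[k] MvPolynomial {j : Fin n // j ∉ I} S :=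
  aeval (Fin.cons (alpha0 y I b) (alpha y I b) : Fin (n + 1) → MvPolynomial {j : Fin n // j ∉ I} S)

theorem eval_eq_of_bad (hb : ∀ i : I, b i = D k S (y i)) {K : Type*} [CommRing K] [Algebra k K]
    (ev : S →ₐ[k] K) (a : Fin (n + 1) → k) (h0 : ev (lin y a) = 0)
    (h1 : ∀ i : I, ev (b.repr (D k S (lin y a)) i) = 0) (p : MvPolynomial (Fin (n + 1)) k) :
    (eval₂Hom (ev : S →+* K) (fun l : {j : Fin n // j ∉ I} => algebraMap k K (a l.1.succ)))
      (Psi y I b p) = algebraMap k K (eval a p) := by
  classical
  set χ := eval₂Hom (ev : S →+* K) (fun l : {j : Fin n // j ∉ I} => algebraMap k K (a l.1.succ))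
    with hχ
  have hχC : ∀ s : S, χ (C s) = ev s := fun s => by rw [hχ]; simp
  have hχX : ∀ l, χ (X l) = algebraMap k K (a l.1.succ) := fun l => by rw [hχ]; simp
  have hα : ∀ j : Fin n, χ (alpha y I b j) = algebraMap k K (a j.succ) := by
    intro j
    unfold alpha
    split_ifs with hj
    · have h1' := h1 ⟨j, hj⟩
      rw [repr_D_lin, map_sum] at h1'
      rw [← Fintype.sum_subtype_add_sum_subtype (fun j' : Fin n => j' ∈ I)] at h1'
      have hI : ∀ (inst : Fintype {j' : Fin n // j' ∈ I}),
          @Finset.sum _ _ _ (@Finset.univ _ inst) (fun j' : {j' : Fin n // j' ∈ I} =>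
            ev (algebraMap k S (a j'.1.succ) * coef y I b j'.1 ⟨j, hj⟩)) =
            algebraMap k K (a j.succ) := by
        intro inst
        rw [Finset.sum_eq_single (⟨j, hj⟩ : {j' : Fin n // j' ∈ I})]
        · rw [coef_of_mem y I b hb ⟨j, hj⟩ ⟨j, hj⟩, if_pos rfl, mul_one, AlgHom.commutes]
        · intro j' _ hne
          rw [coef_of_mem y I b hb j' ⟨j, hj⟩, if_neg hne, mul_zero, map_zero]
        · intro h; exact absurd (Finset.mem_univ _) h
      rw [hI] at h1'
      rw [map_neg, map_sum]
      simp only [map_mul, hχC, hχX]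
      simp only [map_mul, AlgHom.commutes] at h1'
      have h1'' : algebraMap k K (a j.succ) + ∑ l : {j : Fin n // j ∉ I},
          ev (coef y I b l.1 ⟨j, hj⟩) * algebraMap k K (a l.1.succ) = 0 := by
        rw [← h1']
        congr 1
        refine Finset.sum_congr ?_ (fun l _ => mul_comm _ _)
        congr
      linear_combination -h1''
    · exact hχX ⟨j, hj⟩
  have hα0 : χ (alpha0 y I b) = algebraMap k K (a 0) := by
    unfold alpha0
    rw [map_neg, map_sum]
    simp only [map_mul, hα, hχC]
    have h0' := h0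
    unfold lin at h0'
    rw [map_add, map_sum] at h0'
    simp only [map_mul, AlgHom.commutes] at h0'
    rw [neg_eq_iff_eq_neg, eq_neg_iff_add_eq_zero, add_comm]
    exact h0'
  have key : (χ.comp (Psi y I b).toRingHom) = (algebraMap k K).comp (eval a) := by
    apply MvPolynomial.ringHom_ext
    · intro r
      simp only [RingHom.comp_apply, AlgHom.toRingHom_eq_coe, RingHom.coe_coe, eval_C]
      rw [← MvPolynomial.algebraMap_eq, AlgHom.commutes, MvPolynomial.algebraMap_apply, hχC,
        AlgHom.commutes]
    · intro m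
      simp only [RingHom.comp_apply, AlgHom.toRingHom_eq_coe, RingHom.coe_coe, eval_X]
      unfold Psi
      rw [aeval_X]
      refine Fin.cases ?_ (fun j => ?_) m
      · rw [Fin.cons_zero]; exact hα0
      · rw [Fin.cons_succ]; exact hα j
  exact congrArg (fun f => f p) key

end param

/-- On a coordinate chart of a smooth algebra, a generic hyperplane is transversal. -/
theorem exists_generic (k S : Type u) [Field k] [CommRing S] [Algebra k S]
    [Algebra.FinitePresentation k S] [Algebra.FormallySmooth k S] {n : ℕ} (y : Fin n → S)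
    (I : Finset (Fin n)) (b : Module.Basis I S Ω[S⁄k]) (hb : ∀ i : I, b i = D k S (y i)) :
    ∃ g : MvPolynomial (Fin (n + 1)) k, g ≠ 0 ∧ ∀ a : Fin (n + 1) → k, eval a g ≠ 0 →
      ∀ Q : Ideal S, Q ≠ ⊤ → lin y a ∈ Q → ∃ i : I, b.repr (D k S (lin y a)) i ∉ Q := by
  classical
  rcases subsingleton_or_nontrivial S with hS | hS
  · refine ⟨1, one_ne_zero, fun a _ Q hQ _ => ?_⟩
    exact absurd (Subsingleton.elim Q ⊤) hQ
  haveI : Algebra.Smooth k S := ⟨inferInstance, inferInstance⟩
  haveI : IsReduced S := Groth.Agent.H47.isReduced_of_smooth k S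
  haveI : Algebra.FiniteType k S := inferInstance
  haveI : Algebra.IsStandardSmooth k S :=
    Algebra.IsStandardSmooth.of_basis_kaehlerDifferential b (by
      rintro _ ⟨i, rfl⟩
      exact ⟨y i, (hb i).symm⟩)
  haveI : Algebra.IsStandardSmoothOfRelativeDimension I.card k S := by
    rw [Algebra.IsStandardSmoothOfRelativeDimension.iff_of_isStandardSmooth]
    rw [rank_eq_card_basis b, Fintype.card_coe]
  have hdim : ∀ 𝔭 ∈ minimalPrimes S, ringKrullDim (S ⧸ 𝔭) ≤ (I.card : WithBot ℕ∞) := by
    intro 𝔭 h𝔭
    haveI : 𝔭.IsPrime := h𝔭.1.1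
    have h1 := Groth.Agent.H11.FtDim.localDim_ge (k := k) (⟨𝔭, inferInstance⟩ : PrimeSpectrum S) 𝔭
      le_rfl
    rw [Groth.Agent.H11.StdSmoothFibre.localDim_eq_of_isStandardSmoothOfRelativeDimension k S
      I.card] at h1
    exact h1
  have hcard : I.card + Nat.card {j : Fin n // j ∉ I} < n + 1 := by
    have h1 : Nat.card {j : Fin n // j ∉ I} = n - I.card := by
      rw [Nat.card_eq_fintype_card, Fintype.card_subtype_compl, Fintype.card_fin,
        Fintype.card_coe]
    have h2 : I.card ≤ n := by
      have := Finset.card_le_univ I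
      simpa using this
    omega
  obtain ⟨g, hg0, hg⟩ := exists_ne_zero_map_eq_zero k S {j : Fin n // j ∉ I} I.card (n + 1) hdim
    hcard (Psi y I b)
  refine ⟨g, hg0, fun a hga Q hQ hlin => ?_⟩
  by_contra hcon
  push Not at hcon
  haveI : Nontrivial (S ⧸ Q) := Ideal.Quotient.nontrivial_iff.mpr hQ
  have h0 : (Ideal.Quotient.mkₐ k Q) (lin y a) = 0 := Ideal.Quotient.eq_zero_iff_mem.mpr hlin
  have h1 : ∀ i : I, (Ideal.Quotient.mkₐ k Q) (b.repr (D k S (lin y a)) i) = 0 := fun i =>
    Ideal.Quotient.eq_zero_iff_mem.mpr (hcon i)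
  have h2 := eval_eq_of_bad y I b hb (Ideal.Quotient.mkₐ k Q) a h0 h1 g
  rw [hg, map_zero] at h2
  have h3 : eval a g = 0 := by
    apply (algebraMap k (S ⧸ Q)).injective
    rw [← h2, map_zero]
  exact hga h3

end Groth.Agent.H36.BertiniSm
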