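import Mathlib

/-!
# A hypersurface section of a smooth algebra with free differentials, transversal to a coordinate
-/

set_option autoImplicit false
set_option linter.unusedSectionVars false
set_option linter.unusedVariables false
set_option linter.style.haveILetI false

namespace Groth.Agent.H36.BertiniSm

universe u v

open KaehlerDifferential TensorProduct

section hyp

variable (k : Type u) (S : Type v) [CommRing k] [CommRing S] [Algebra k S]
  {I : Type} [Fintype I] [DecidableEq I]
  (b : Module.Basis I S Ω[S⁄k]) (h : S)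

/-- The `i`-th coordinate functional on `T ⊗ Ω[S/k]`, `T = S/(h)`. -/
noncomputable def coordT (i : I) :
    (S ⧸ Ideal.span {h}) ⊗[S] Ω[S⁄k] →ₗ[S ⧸ Ideal.span {h}] (S ⧸ Ideal.span {h}) :=
  LinearMap.liftBaseChange (S ⧸ Ideal.span {h})
    ((Algebra.linearMap S (S ⧸ Ideal.span {h})) ∘ₗ (b.coord i))

theorem coordT_tmul (i : I) (t : S ⧸ Ideal.span {h}) (ω : Ω[S⁄k]) :
    coordT k S b h i (t ⊗ₜ ω) = t * Ideal.Quotient.mk (Ideal.span {h}) (b.repr ω i) := by
  unfold coordT
  rw [LinearMap.liftBaseChange_tmul]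
  simp [Module.Basis.coord_apply]

theorem coordT_one_tmul_D_mul (i : I) (s' : S) :
    coordT k S b h i (1 ⊗ₜ D k S (s' * h)) =
      Ideal.Quotient.mk (Ideal.span {h}) s' *
        Ideal.Quotient.mk (Ideal.span {h}) (b.repr (D k S h) i) := by
  rw [coordT_tmul, one_mul, Derivation.leibniz, map_add, map_smul, map_smul, Finsupp.add_apply,
    Finsupp.smul_apply, Finsupp.smul_apply, smul_eq_mul, smul_eq_mul, map_add, map_mul, map_mul]
  have : Ideal.Quotient.mk (Ideal.span {h}) h = 0 :=
    Ideal.Quotient.eq_zero_iff_mem.mpr (Ideal.mem_span_singleton_self h)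
  rw [this, zero_mul, add_zero]

theorem ker_algebraMap_quotient :
    RingHom.ker (algebraMap S (S ⧸ Ideal.span {h})) = Ideal.span {h} := by
  rw [Ideal.Quotient.algebraMap_eq, Ideal.mk_ker]

end hyp

theorem kerCotangentToTensor_injective (k : Type u) (S : Type v) [CommRing k] [CommRing S]
    [Algebra k S] {I : Type} [Fintype I] [DecidableEq I]
    (b : Module.Basis I S Ω[S⁄k]) (h : S) (i0 : I) (hu : IsUnit (b.repr (D k S h) i0)) :
    Function.Injective (kerCotangentToTensor k S (S ⧸ Ideal.span {h})) := by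
  rw [injective_iff_map_eq_zero]
  intro c hc
  obtain ⟨⟨z, hz⟩, rfl⟩ := Ideal.toCotangent_surjective _ c
  have hz' : z ∈ Ideal.span {h} := by rwa [ker_algebraMap_quotient] at hz
  obtain ⟨s', rfl⟩ := Ideal.mem_span_singleton'.mp hz'
  rw [kerCotangentToTensor_toCotangent] at hc
  have h1 := congrArg (coordT k S b h i0) hc
  rw [coordT_one_tmul_D_mul, map_zero] at h1
  have hu' : IsUnit (Ideal.Quotient.mk (Ideal.span {h}) (b.repr (D k S h) i0)) := hu.map _
  have h2 : Ideal.Quotient.mk (Ideal.span {h}) s' = 0 := by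
    have := congrArg (· * (hu'.unit⁻¹ : (S ⧸ Ideal.span {h})ˣ).1) h1
    simpa [mul_assoc] using this
  have h3 : s' ∈ Ideal.span {h} := Ideal.Quotient.eq_zero_iff_mem.mp h2
  rw [Ideal.toCotangent_eq_zero]
  change s' * h ∈ (RingHom.ker (algebraMap S (S ⧸ Ideal.span {h}))) ^ 2
  rw [ker_algebraMap_quotient, pow_two]
  exact Ideal.mul_mem_mul h3 (Ideal.mem_span_singleton_self h)

section basis

variable (k : Type u) (S : Type v) [CommRing k] [CommRing S] [Algebra k S]
  {I : Type} [Fintype I] [DecidableEq I]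
  (b : Module.Basis I S Ω[S⁄k]) (s : I → S) (hb : ∀ i, b i = D k S (s i)) (h : S) (i0 : I)
  (hu : IsUnit (b.repr (D k S h) i0))

include hb in
theorem D_mk_eq (s'' : S) :
    D k (S ⧸ Ideal.span {h}) (Ideal.Quotient.mk (Ideal.span {h}) s'') =
      ∑ i : I, Ideal.Quotient.mk (Ideal.span {h}) (b.repr (D k S s'') i) •
        D k (S ⧸ Ideal.span {h}) (Ideal.Quotient.mk (Ideal.span {h}) (s i)) := by
  have h1 := congrArg (KaehlerDifferential.map k k S (S ⧸ Ideal.span {h}))
    (b.sum_repr (D k S s'')).symm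
  rw [map_D, map_sum] at h1
  rw [Ideal.Quotient.algebraMap_eq] at h1
  rw [h1]
  refine Finset.sum_congr rfl fun i _ => ?_
  rw [map_smul, hb, map_D, Ideal.Quotient.algebraMap_eq]
  rw [← algebraMap_smul (S ⧸ Ideal.span {h}) (b.repr (D k S s'') i), Ideal.Quotient.algebraMap_eq]

include hb hu in
theorem linearIndependent_D_mk :
    LinearIndependent (S ⧸ Ideal.span {h}) (fun i : {i : I // i ≠ i0} =>
      D k (S ⧸ Ideal.span {h}) (Ideal.Quotient.mk (Ideal.span {h}) (s i.1))) := by
  rw [Fintype.linearIndependent_iff]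
  intro t ht
  have hsurj : Function.Surjective (algebraMap S (S ⧸ Ideal.span {h})) :=
    Ideal.Quotient.mk_surjective
  set ω : (S ⧸ Ideal.span {h}) ⊗[S] Ω[S⁄k] := ∑ i : {i : I // i ≠ i0}, t i ⊗ₜ[S] b i.1 with hω
  have hω0 : mapBaseChange k S (S ⧸ Ideal.span {h}) ω = 0 := by
    rw [hω, map_sum, ← ht]
    refine Finset.sum_congr rfl fun i _ => ?_
    rw [mapBaseChange_tmul, hb, map_D, Ideal.Quotient.algebraMap_eq]
  obtain ⟨c, hc⟩ :=
    (exact_kerCotangentToTensor_mapBaseChange k S (S ⧸ Ideal.span {h}) hsurj ω).mp hω0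
  obtain ⟨⟨z, hz⟩, rfl⟩ := Ideal.toCotangent_surjective _ c
  have hz' : z ∈ Ideal.span {h} := by rwa [ker_algebraMap_quotient] at hz
  obtain ⟨s', rfl⟩ := Ideal.mem_span_singleton'.mp hz'
  rw [kerCotangentToTensor_toCotangent] at hc
  have hcoord : ∀ i : I, coordT k S b h i ω =
      ∑ i' : {i : I // i ≠ i0}, t i' * (if i'.1 = i then 1 else 0) := by
    intro i
    rw [hω, map_sum]
    refine Finset.sum_congr rfl fun i' _ => ?_
    rw [coordT_tmul, Module.Basis.repr_self, Finsupp.single_apply]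
    split_ifs <;> simp
  have hu' : IsUnit (Ideal.Quotient.mk (Ideal.span {h}) (b.repr (D k S h) i0)) := hu.map _
  have h0 : Ideal.Quotient.mk (Ideal.span {h}) s' = 0 := by
    have h1 := hcoord i0
    rw [← hc, coordT_one_tmul_D_mul] at h1
    have h2 : ∑ i' : {i : I // i ≠ i0}, t i' * (if i'.1 = i0 then (1 : S ⧸ Ideal.span {h}) else 0)
        = 0 := by
      refine Finset.sum_eq_zero fun i' _ => ?_
      rw [if_neg i'.2, mul_zero]
    rw [h2] at h1
    have := congrArg (· * (hu'.unit⁻¹ : (S ⧸ Ideal.span {h})ˣ).1) h1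
    simpa [mul_assoc] using this
  intro i
  have h1 := hcoord i.1
  rw [← hc, coordT_one_tmul_D_mul, h0, zero_mul] at h1
  rw [Finset.sum_eq_single i] at h1
  · rw [if_pos rfl, mul_one] at h1
    exact h1.symm
  · intro i' _ hne
    rw [if_neg (fun heq => hne (Subtype.ext heq)), mul_zero]
  · intro hi; exact absurd (Finset.mem_univ _) hi

include hb hu in
theorem span_D_mk :
    ⊤ ≤ Submodule.span (S ⧸ Ideal.span {h}) (Set.range (fun i : {i : I // i ≠ i0} =>
      D k (S ⧸ Ideal.span {h}) (Ideal.Quotient.mk (Ideal.span {h}) (s i.1)))) := by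
  set N := Submodule.span (S ⧸ Ideal.span {h}) (Set.range (fun i : {i : I // i ≠ i0} =>
      D k (S ⧸ Ideal.span {h}) (Ideal.Quotient.mk (Ideal.span {h}) (s i.1)))) with hN
  have hne : ∀ i : I, i ≠ i0 →
      D k (S ⧸ Ideal.span {h}) (Ideal.Quotient.mk (Ideal.span {h}) (s i)) ∈ N := fun i hi =>
    Submodule.subset_span ⟨⟨i, hi⟩, rfl⟩
  have hu' : IsUnit (Ideal.Quotient.mk (Ideal.span {h}) (b.repr (D k S h) i0)) := hu.map _
  have hi0 : D k (S ⧸ Ideal.span {h}) (Ideal.Quotient.mk (Ideal.span {h}) (s i0)) ∈ N := by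
    have h1 := D_mk_eq k S b s hb h h
    have h2 : Ideal.Quotient.mk (Ideal.span {h}) h = 0 :=
      Ideal.Quotient.eq_zero_iff_mem.mpr (Ideal.mem_span_singleton_self h)
    rw [h2, map_zero, ← Finset.add_sum_erase Finset.univ _ (Finset.mem_univ i0)] at h1
    rw [← Submodule.smul_mem_iff_of_isUnit N hu']
    have h3 := eq_neg_of_add_eq_zero_left h1.symm
    rw [h3]
    refine N.neg_mem (N.sum_mem fun i hi => N.smul_mem _ (hne i (Finset.ne_of_mem_erase hi)))
  have hall : ∀ i : I,
      D k (S ⧸ Ideal.span {h}) (Ideal.Quotient.mk (Ideal.span {h}) (s i)) ∈ N := by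
    intro i
    by_cases hi : i = i0
    · rw [hi]; exact hi0
    · exact hne i hi
  rw [← span_range_derivation k (S ⧸ Ideal.span {h}), Submodule.span_le]
  rintro _ ⟨t, rfl⟩
  obtain ⟨s'', rfl⟩ := Ideal.Quotient.mk_surjective t
  rw [D_mk_eq k S b s hb h s'']
  exact N.sum_mem fun i _ => N.smul_mem _ (hall i)

end basis

/-- If `S` is a smooth `k`-algebra whose differentials are free on `d (s i)`, and the
`i0`-coordinate of `d h` is a unit, then `S/(h)` is standard smooth of relative dimension one less. -/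
theorem isStandardSmoothOfRelativeDimension_quotient (k : Type u) (S : Type v) [CommRing k]
    [CommRing S] [Algebra k S] [Algebra.FinitePresentation k S] [Algebra.FormallySmooth k S]
    {I : Type} [Fintype I] [DecidableEq I]
    (b : Module.Basis I S Ω[S⁄k]) (s : I → S) (hb : ∀ i, b i = D k S (s i)) (h : S) (i0 : I)
    (hu : IsUnit (b.repr (D k S h) i0)) (J : Ideal S) (hJ : J = Ideal.span {h})
    [Nontrivial (S ⧸ J)] :
    Algebra.IsStandardSmoothOfRelativeDimension (Fintype.card I - 1) k (S ⧸ J) := by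
  subst hJ
  have hsurj : Function.Surjective (algebraMap S (S ⧸ Ideal.span {h})) :=
    Ideal.Quotient.mk_surjective
  haveI : Algebra.FinitePresentation k (S ⧸ Ideal.span {h}) :=
    Algebra.FinitePresentation.quotient (Submodule.fg_span_singleton h)
  haveI : Subsingleton (Algebra.H1Cotangent k (S ⧸ Ideal.span {h})) :=
    (Algebra.FormallySmooth.kerCotangentToTensor_injective_iff hsurj).mp
      (kerCotangentToTensor_injective k S b h i0 hu)
  let B' : Module.Basis {i : I // i ≠ i0} (S ⧸ Ideal.span {h}) Ω[(S ⧸ Ideal.span {h})⁄k] :=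
    Module.Basis.mk (linearIndependent_D_mk k S b s hb h i0 hu) (span_D_mk k S b s hb h i0 hu)
  haveI : Algebra.IsStandardSmooth k (S ⧸ Ideal.span {h}) :=
    Algebra.IsStandardSmooth.of_basis_kaehlerDifferential B' (by
      rintro _ ⟨i, rfl⟩
      exact ⟨Ideal.Quotient.mk (Ideal.span {h}) (s i.1), by simp [B']⟩)
  rw [Algebra.IsStandardSmoothOfRelativeDimension.iff_of_isStandardSmooth]
  rw [rank_eq_card_basis B']
  congr 1
  have := Set.card_ne_eq i0
  rw [← this]
  exact Fintype.card_congr (Equiv.refl _)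

end Groth.Agent.H36.BertiniSm
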