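import Mathlib
import Groth.Agent.H36.BertiniSmB
import Groth.Agent.H36.BertiniSmC

/-!
# Coordinate charts on the smooth locus of an affine variety, and Bertini on a chart
-/

set_option autoImplicit false
set_option linter.unusedSectionVars false
set_option linter.unusedVariables false
set_option linter.style.haveILetI false

namespace Groth.Agent.H36.BertiniSm

universe u

open KaehlerDifferential

set_option backward.isDefEq.respectTransparency.types false in
/-- If `S` is smooth over `R` and the differentials of the `v i` span `Ω` at a prime `p`, then on a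
basic open neighbourhood of `p` the module of differentials is free on some of the `d (v i)`. -/
theorem exists_basis_away {R S : Type*} [CommRing R] [CommRing S] [Algebra R S]
    [Algebra.Smooth R S] (p : Ideal S) [p.IsPrime] [Algebra.IsSmoothAt R p]
    {ι : Type} (v : ι → S)
    (hv : Submodule.span (Localization.AtPrime p) (Set.range (fun i =>
      D R (Localization.AtPrime p) (algebraMap S (Localization.AtPrime p) (v i)))) = ⊤) :
    ∃ g : S, g ∉ p ∧ ∃ (κ : Type) (a : κ → ι)
      (b : Module.Basis κ (Localization.Away g) Ω[Localization.Away g⁄R]),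
      ∀ i, b i = D R (Localization.Away g) (algebraMap S (Localization.Away g) (v (a i))) := by
  obtain ⟨κ, a, b, hb⟩ := Module.exists_basis_of_span_of_flat _ hv
  let e : (κ →₀ S) →ₗ[S] Ω[S⁄R] :=
    Finsupp.linearCombination S fun i : κ ↦ D R S (v (a i))
  let l₁ : (κ →₀ S) →ₗ[S] (κ →₀ Localization.AtPrime p) :=
    Finsupp.mapRange.linearMap (Algebra.linearMap S (Localization.AtPrime p))
  let l₂ : Ω[S⁄R] →ₗ[S] Ω[Localization.AtPrime p⁄R] := map R R S (Localization.AtPrime p)
  let eₚ : (κ →₀ Localization.AtPrime p) →ₗ[Localization.AtPrime p] Ω[Localization.AtPrime p⁄R] :=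
    IsLocalizedModule.mapExtendScalars p.primeCompl l₁ l₂ (Localization.AtPrime p) e
  have : eₚ = b.repr.symm := by
    ext i
    trans IsLocalizedModule.map p.primeCompl l₁ l₂ e <| l₁ <| Finsupp.single i 1
    · simp [eₚ, -IsLocalizedModule.map_apply, l₁]
    · simp [l₂, e, hb]
  have heₚ : Function.Bijective eₚ := this ▸ b.repr.symm.bijective
  have : Finite κ := Module.Finite.finite_basis b
  obtain ⟨g, hg, h⟩ := Module.FinitePresentation.exists_notMem_bijective e p l₁ l₂ heₚ
  let l₁ₜ : (κ →₀ S) →ₗ[S] (κ →₀ Localization.Away g) :=
    Finsupp.mapRange.linearMap (Algebra.linearMap S _)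
  let l₂ₜ : Ω[S⁄R] →ₗ[S] Ω[Localization.Away g⁄R] :=
    map R R S (Localization.Away g)
  rw [← IsLocalizedModule.map_bijective_iff_localizedModuleMap_bijective l₁ₜ l₂ₜ] at h
  let eₜ' : (κ →₀ Localization.Away g) →ₗ[Localization.Away g] Ω[Localization.Away g⁄R] :=
    IsLocalizedModule.mapExtendScalars (Submonoid.powers g) l₁ₜ l₂ₜ (Localization.Away g) e
  refine ⟨g, hg, κ, a, .ofRepr (LinearEquiv.ofBijective eₜ' h).symm, ?_⟩
  intro i
  simp +zetaDelta [IsLocalizedModule.map_linearCombination]

/-- `D(F)` is a coordinate chart of `Spec A ⊆ 𝔸ⁿ`: it is smooth over `k` with differentials free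
on some of the `d (x i)`. -/
def ChartProp (k : Type u) [Field k] {n : ℕ} {A : Type u} [CommRing A] [Algebra k A]
    (x : Fin n → A) (F : A) : Prop :=
  ∃ (S : Type u) (_ : CommRing S) (_ : Algebra A S) (_ : Algebra k S) (_ : IsScalarTower k A S)
    (_ : IsLocalization.Away F S) (_ : Algebra.FormallySmooth k S) (I : Finset (Fin n))
    (b : Module.Basis I S Ω[S⁄k]), ∀ i : I, b i = D k S (algebraMap A S (x i))

/-- The differentials of the coordinate functions span the differentials of any localization. -/
theorem span_D_coord (k : Type u) [Field k] {n : ℕ} {A : Type u} [CommRing A] [Algebra k A]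
    (x : Fin n → A)
    (hx : Function.Surjective (MvPolynomial.aeval x : MvPolynomial (Fin n) k →ₐ[k] A))
    (L : Type u) [CommRing L] [Algebra A L] [Algebra k L] [IsScalarTower k A L]
    (M : Submonoid A) [IsLocalization M L] :
    Submodule.span L (Set.range (fun i => D k L (algebraMap A L (x i)))) = ⊤ := by
  set N := Submodule.span L (Set.range (fun i => D k L (algebraMap A L (x i)))) with hN
  have h1 := span_range_map_derivation_of_isLocalization k A L M
  rw [eq_top_iff, ← h1, Submodule.span_le]
  rintro _ ⟨a, rfl⟩
  obtain ⟨P, rfl⟩ := hx a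
  rw [Function.comp_apply, map_D]
  induction P using MvPolynomial.induction_on with
  | C c =>
    rw [MvPolynomial.aeval_C, ← IsScalarTower.algebraMap_apply, Derivation.map_algebraMap]
    exact N.zero_mem
  | add P Q hP hQ =>
    rw [map_add, map_add, map_add]
    exact N.add_mem hP hQ
  | mul_X P i hP =>
    rw [map_mul, MvPolynomial.aeval_X, map_mul, Derivation.leibniz]
    exact N.add_mem (N.smul_mem _ (Submodule.subset_span ⟨i, rfl⟩)) (N.smul_mem _ hP)

theorem exists_chart (k : Type u) [Field k] {n : ℕ} {A : Type u} [CommRing A] [Algebra k A]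
    (x : Fin n → A)
    (hx : Function.Surjective (MvPolynomial.aeval x : MvPolynomial (Fin n) k →ₐ[k] A))
    (f : A) [Algebra.Smooth k (Localization.Away f)] (q' : Ideal A) [q'.IsPrime] (hf : f ∉ q') :
    ∃ F : A, F ∉ q' ∧ ChartProp k x F := by
  classical
  have hdisj : Disjoint (Submonoid.powers f : Set A) (q' : Set A) := by
    rwa [Ideal.disjoint_powers_iff_notMem_of_isPrime]
  set p : Ideal (Localization.Away f) := q'.map (algebraMap A (Localization.Away f)) with hp
  haveI hpprime : p.IsPrime :=
    IsLocalization.isPrime_of_isPrime_disjoint (.powers f) _ _ ‹_› hdisj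
  haveI : Algebra.IsSmoothAt k p := by
    have : (⟨p, hpprime⟩ : PrimeSpectrum (Localization.Away f)) ∈
        Algebra.smoothLocus k (Localization.Away f) := by
      rw [Algebra.smoothLocus_eq_univ]; trivial
    exact this
  haveI : IsLocalization.AtPrime (Localization.AtPrime p)
      (p.comap (algebraMap A (Localization.Away f))) :=
    IsLocalization.isLocalization_isLocalization_atPrime_isLocalization (.powers f) _ p
  have hv := span_D_coord k x hx (Localization.AtPrime p)
    (p.comap (algebraMap A (Localization.Away f))).primeCompl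
  have hv' : Submodule.span (Localization.AtPrime p) (Set.range (fun i =>
      D k (Localization.AtPrime p) (algebraMap (Localization.Away f) (Localization.AtPrime p)
        (algebraMap A (Localization.Away f) (x i))))) = ⊤ := by
    rw [← hv]
    congr 2
  obtain ⟨g₁, hg₁, κ, a, b₂, hb₂⟩ := exists_basis_away (R := k) p
    (fun i => algebraMap A (Localization.Away f) (x i)) hv'
  have hassoc := IsLocalization.Away.associated_sec_fst f g₁
  haveI : IsLocalization.Away (f * (IsLocalization.Away.sec f g₁).1) (Localization.Away g₁) :=
    .mul_of_associated _ _ g₁ hassoc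
  have hF : f * (IsLocalization.Away.sec f g₁).1 ∉ q' := by
    refine Ideal.IsPrime.mul_notMem ‹_› hf fun hmem ↦ hg₁ ?_
    rw [Ideal.mem_iff_of_associated hassoc.symm]
    exact Ideal.mem_map_of_mem (algebraMap A (Localization.Away f)) hmem
  haveI : Algebra.FormallySmooth (Localization.Away f) (Localization.Away g₁) :=
    Algebra.FormallySmooth.of_isLocalization (.powers g₁)
  haveI : Algebra.FormallySmooth k (Localization.Away g₁) :=
    Algebra.FormallySmooth.comp k (Localization.Away f) (Localization.Away g₁)
  have hdisj₁ : Disjoint (Submonoid.powers g₁ : Set (Localization.Away f)) (p : Set _) := by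
    rwa [Ideal.disjoint_powers_iff_notMem_of_isPrime]
  haveI : Nontrivial (Localization.Away g₁) := by
    have := IsLocalization.isPrime_of_isPrime_disjoint (.powers g₁) (Localization.Away g₁) p
      hpprime hdisj₁
    exact (⟨_, this⟩ : PrimeSpectrum (Localization.Away g₁)).nontrivial
  have hainj : Function.Injective a := by
    intro i j hij
    apply b₂.injective
    rw [hb₂, hb₂, hij]
  haveI : Algebra.FiniteType k (Localization.Away g₁) := by
    haveI : Algebra.FiniteType (Localization.Away f) (Localization.Away g₁) :=
      IsLocalization.finiteType_of_monoid_fg (.powers g₁) _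
    exact Algebra.FiniteType.trans (S := Localization.Away f) inferInstance inferInstance
  haveI : Finite κ := Module.Finite.finite_basis b₂
  letI : Fintype κ := Fintype.ofFinite κ
  let I : Finset (Fin n) := Finset.univ.image a
  let eqv : κ ≃ I := Equiv.ofBijective
    (fun i => ⟨a i, Finset.mem_image_of_mem a (Finset.mem_univ i)⟩) ⟨fun i j hij =>
      hainj (congrArg Subtype.val hij), fun ⟨j, hj⟩ => by
        obtain ⟨i, -, rfl⟩ := Finset.mem_image.mp hj
        exact ⟨i, rfl⟩⟩
  refine ⟨f * (IsLocalization.Away.sec f g₁).1, hF, Localization.Away g₁, inferInstance,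
    inferInstance, inferInstance, inferInstance, inferInstance, inferInstance, I,
    b₂.reindex eqv, ?_⟩
  intro i
  rw [Module.Basis.reindex_apply, hb₂]
  have h1 : a (eqv.symm i) = i.1 := congrArg Subtype.val (eqv.apply_symm_apply i)
  rw [h1, ← IsScalarTower.algebraMap_apply]

/-- The number of coordinates of a chart at a point is the dimension of the variety. -/
theorem chart_card_eq (k : Type u) [Field k] (r : ℕ) {A : Type u} [CommRing A] [Algebra k A]
    [Algebra.FiniteType k A]
    (hdim : ∀ P ∈ minimalPrimes A, ringKrullDim (A ⧸ P) = r)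
    (F : A) (S : Type u) [CommRing S] [Algebra A S] [Algebra k S] [IsScalarTower k A S]
    [IsLocalization.Away F S] [Algebra.FormallySmooth k S]
    (I : Type) [Fintype I] (b : Module.Basis I S Ω[S⁄k])
    (hb : Set.range b ⊆ Set.range (D k S)) (Q : PrimeSpectrum S) : Fintype.card I = r := by
  haveI : Algebra.FinitePresentation k A := Algebra.FinitePresentation.of_finiteType.mp inferInstance
  haveI : Algebra.FinitePresentation A S := IsLocalization.Away.finitePresentation F
  haveI : Algebra.FinitePresentation k S := Algebra.FinitePresentation.trans k A S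
  haveI : Nontrivial S := Q.nontrivial
  haveI : Algebra.IsStandardSmooth k S := Algebra.IsStandardSmooth.of_basis_kaehlerDifferential b hb
  haveI : Algebra.IsStandardSmoothOfRelativeDimension (Fintype.card I) k S := by
    rw [Algebra.IsStandardSmoothOfRelativeDimension.iff_of_isStandardSmooth]
    rw [rank_eq_card_basis b]
  have h1 := Groth.Agent.H11.StdSmoothFibre.localDim_eq_of_isStandardSmoothOfRelativeDimension k S
    (Fintype.card I) Q
  haveI : Algebra.Etale A S := Algebra.Etale.of_isLocalizationAway F
  have h2 := Groth.Agent.H11.SmoothDim1.localDim_comap_of_etale (algebraMap A S) (RingHom.etale_algebraMap.mpr inferInstance) Q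
  have h3 : FlatMor.localDim (PrimeSpectrum A) (PrimeSpectrum.comap (algebraMap A S) Q) =
      (r : WithBot ℕ∞) := by
    apply le_antisymm
    · apply Groth.Agent.H11.FtDim.localDim_le (k := k)
      intro q hq _
      exact (hdim q hq).le
    · obtain ⟨q, hq, hqle⟩ := Ideal.exists_minimalPrimes_le
        (bot_le : (⊥ : Ideal A) ≤ (PrimeSpectrum.comap (algebraMap A S) Q).asIdeal)
      haveI : q.IsPrime := hq.1.1
      rw [← hdim q hq]
      exact Groth.Agent.H11.FtDim.localDim_ge (k := k) _ q hqle
  rw [h2, h3] at h1
  exact_mod_cast h1.symm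

/-- Transfer of standard smoothness to the localization of the quotient ring. -/
theorem stdSmooth_away_quotient (k : Type u) [Field k] {A : Type u} [CommRing A] [Algebra k A]
    (h F' : A) (S' : Type u) [CommRing S'] [Algebra A S'] [Algebra k S'] [IsScalarTower k A S']
    [IsLocalization.Away F' S'] (d : ℕ)
    [Algebra.IsStandardSmoothOfRelativeDimension d k
      (S' ⧸ (Ideal.span {h}).map (algebraMap A S'))] :
    Algebra.IsStandardSmoothOfRelativeDimension d k
      (Localization.Away (Ideal.Quotient.mk (Ideal.span {h}) F')) := by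
  have inst : IsLocalization
      (Algebra.algebraMapSubmonoid (A ⧸ Ideal.span {h}) (Submonoid.powers F'))
      (S' ⧸ (Ideal.span {h}).map (algebraMap A S')) := inferInstance
  have hsub : Algebra.algebraMapSubmonoid (A ⧸ Ideal.span {h}) (Submonoid.powers F') =
      Submonoid.powers (Ideal.Quotient.mk (Ideal.span {h}) F') := by
    unfold Algebra.algebraMapSubmonoid
    rw [Submonoid.map_powers]
    rfl
  rw [hsub] at inst
  haveI : IsLocalization.Away (Ideal.Quotient.mk (Ideal.span {h}) F')
      (S' ⧸ (Ideal.span {h}).map (algebraMap A S')) := inst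
  haveI i2 : IsScalarTower k (A ⧸ Ideal.span {h})
      (S' ⧸ (Ideal.span {h}).map (algebraMap A S')) := by
    refine IsScalarTower.of_algebraMap_eq fun c => ?_
    rw [IsScalarTower.algebraMap_apply k A (A ⧸ Ideal.span {h}), Ideal.Quotient.algebraMap_eq]
    rw [IsScalarTower.algebraMap_apply k S' (S' ⧸ (Ideal.span {h}).map (algebraMap A S'))]
    rw [IsScalarTower.algebraMap_apply k A S']
    rfl
  let e : Localization.Away (Ideal.Quotient.mk (Ideal.span {h}) F') ≃ₐ[A ⧸ Ideal.span {h}]
      (S' ⧸ (Ideal.span {h}).map (algebraMap A S')) :=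
    IsLocalization.algEquiv (Submonoid.powers (Ideal.Quotient.mk (Ideal.span {h}) F')) _ _
  exact Algebra.IsStandardSmoothOfRelativeDimension.of_algEquiv d (e.restrictScalars k).symm

/-- Bertini on a coordinate chart. -/
theorem chart_generic (k : Type u) [Field k] {n : ℕ} (r : ℕ) {A : Type u} [CommRing A]
    [Algebra k A] (x : Fin n → A)
    (hx : Function.Surjective (MvPolynomial.aeval x : MvPolynomial (Fin n) k →ₐ[k] A))
    (hdim : ∀ P ∈ minimalPrimes A, ringKrullDim (A ⧸ P) = r) (F : A) (hF : ChartProp k x F) :
    ∃ g : MvPolynomial (Fin (n + 1)) k, g ≠ 0 ∧ ∀ a : Fin (n + 1) → k,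
      MvPolynomial.eval a g ≠ 0 → ∀ (q' : Ideal A) [q'.IsPrime], F ∉ q' →
        (algebraMap k A (a 0) + ∑ i : Fin n, algebraMap k A (a i.succ) * x i) ∈ q' →
        ∃ F' : A, F' ∉ q' ∧ Algebra.IsStandardSmoothOfRelativeDimension (r - 1) k
          (Localization.Away (Ideal.Quotient.mk (Ideal.span
            {algebraMap k A (a 0) + ∑ i : Fin n, algebraMap k A (a i.succ) * x i}) F')) := by
  classical
  obtain ⟨S, _, _, _, _, _, _, I, b, hb⟩ := hF
  haveI : Algebra.FiniteType k A := Algebra.FiniteType.of_surjective _ hx
  haveI : Algebra.FinitePresentation k A := Algebra.FinitePresentation.of_finiteType.mp inferInstance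
  haveI : Algebra.FinitePresentation A S := IsLocalization.Away.finitePresentation F
  haveI : Algebra.FinitePresentation k S := Algebra.FinitePresentation.trans k A S
  obtain ⟨g, hg0, hg⟩ := exists_generic k S (fun j => algebraMap A S (x j)) I b hb
  refine ⟨g, hg0, fun a hga q' _ hFq' hlin => ?_⟩
  set ha : A := algebraMap k A (a 0) + ∑ i : Fin n, algebraMap k A (a i.succ) * x i with hha
  have hlin_eq : algebraMap A S ha = lin (fun j => algebraMap A S (x j)) a := by
    rw [hha, lin, map_add, map_sum, ← IsScalarTower.algebraMap_apply]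
    congr 1
    refine Finset.sum_congr rfl fun j _ => ?_
    rw [map_mul, ← IsScalarTower.algebraMap_apply]
  have hdisj : Disjoint (Submonoid.powers F : Set A) (q' : Set A) := by
    rwa [Ideal.disjoint_powers_iff_notMem_of_isPrime]
  set Q : Ideal S := q'.map (algebraMap A S) with hQdef
  haveI hQprime : Q.IsPrime := IsLocalization.isPrime_of_isPrime_disjoint (.powers F) _ _ ‹_› hdisj
  have hlinQ : lin (fun j => algebraMap A S (x j)) a ∈ Q := by
    rw [← hlin_eq]
    exact Ideal.mem_map_of_mem _ hlin
  obtain ⟨i0, hi0⟩ := hg a hga Q hQprime.ne_top hlinQ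
  set η : S := b.repr (D k S (lin (fun j => algebraMap A S (x j)) a)) i0 with hη
  -- the second localization
  have hassoc := IsLocalization.Away.associated_sec_fst F η
  haveI : IsLocalization.Away (F * (IsLocalization.Away.sec F η).1) (Localization.Away η) :=
    .mul_of_associated _ _ η hassoc
  have hF' : F * (IsLocalization.Away.sec F η).1 ∉ q' := by
    refine Ideal.IsPrime.mul_notMem ‹_› hFq' fun hmem ↦ hi0 ?_
    rw [Ideal.mem_iff_of_associated hassoc.symm]
    exact Ideal.mem_map_of_mem (algebraMap A S) hmem
  refine ⟨F * (IsLocalization.Away.sec F η).1, hF', ?_⟩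
  haveI : Algebra.FinitePresentation S (Localization.Away η) :=
    IsLocalization.Away.finitePresentation η
  haveI : Algebra.FinitePresentation k (Localization.Away η) :=
    Algebra.FinitePresentation.trans k S (Localization.Away η)
  haveI : Algebra.FormallySmooth S (Localization.Away η) :=
    Algebra.FormallySmooth.of_isLocalization (.powers η)
  haveI : Algebra.FormallySmooth k (Localization.Away η) :=
    Algebra.FormallySmooth.comp k S (Localization.Away η)
  let b' : Module.Basis I (Localization.Away η) Ω[Localization.Away η⁄k] :=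
    b.ofIsLocalizedModule (Localization.Away η) (Submonoid.powers η)
      (KaehlerDifferential.map k k S (Localization.Away η))
  have hb' : ∀ i : I, b' i = D k (Localization.Away η)
      (algebraMap S (Localization.Away η) (algebraMap A S (x i))) := by
    intro i
    rw [Module.Basis.ofIsLocalizedModule_apply, hb, map_D]
  have hu : IsUnit (b'.repr (D k (Localization.Away η)
      (algebraMap S (Localization.Away η) (lin (fun j => algebraMap A S (x j)) a))) i0) := by
    rw [← map_D k k S (Localization.Away η), Module.Basis.ofIsLocalizedModule_repr_apply]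
    exact IsLocalization.Away.algebraMap_isUnit η
  have hJ : (Ideal.span {ha}).map (algebraMap A (Localization.Away η)) =
      Ideal.span {algebraMap S (Localization.Away η) (lin (fun j => algebraMap A S (x j)) a)} := by
    rw [Ideal.map_span, Set.image_singleton, ← hlin_eq, ← IsScalarTower.algebraMap_apply]
  haveI : Nontrivial (Localization.Away η ⧸
      (Ideal.span {ha}).map (algebraMap A (Localization.Away η))) := by
    rw [Ideal.Quotient.nontrivial_iff]
    have hdisj' : Disjoint (Submonoid.powers (F * (IsLocalization.Away.sec F η).1) : Set A)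
        (q' : Set A) := by
      rwa [Ideal.disjoint_powers_iff_notMem_of_isPrime]
    have hprime := IsLocalization.isPrime_of_isPrime_disjoint
      (.powers (F * (IsLocalization.Away.sec F η).1)) (Localization.Away η) q' ‹_› hdisj'
    intro htop
    apply hprime.ne_top
    rw [eq_top_iff, ← htop]
    apply Ideal.map_mono
    rw [Ideal.span_le, Set.singleton_subset_iff]
    exact hlin
  have hstd := isStandardSmoothOfRelativeDimension_quotient k (Localization.Away η) b'
    (fun i => algebraMap S (Localization.Away η) (algebraMap A S (x i))) hb'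
    (algebraMap S (Localization.Away η) (lin (fun j => algebraMap A S (x j)) a)) i0 hu
    ((Ideal.span {ha}).map (algebraMap A (Localization.Away η))) hJ
  have hcard : Fintype.card I = r :=
    chart_card_eq k r hdim F S I b (by
      rintro _ ⟨i, rfl⟩
      exact ⟨_, (hb i).symm⟩) ⟨Q, hQprime⟩
  rw [hcard] at hstd
  haveI := hstd
  exact stdSmooth_away_quotient k ha (F * (IsLocalization.Away.sec F η).1) (Localization.Away η)
    (r - 1)

end Groth.Agent.H36.BertiniSm
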