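import Mathlib
import Groth.Agent.S4228
import Groth.Agent.H47.RegSmoothField
import Groth.Agent.H11.OmegaReg

/-!
# Bertini for regular affine varieties over an algebraically closed field: local ring version
-/

set_option autoImplicit false
set_option linter.unusedSectionVars false
set_option linter.unusedVariables false
set_option linter.style.haveILetI false

namespace Groth.Agent.H36.BertiniProj

universe u

open AlgebraicGeometry CategoryTheory

/-- The image of the complement of a prime `q'` containing `I` in `B ⧸ I` is the complement of the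
image prime. -/
theorem algebraMapSubmonoid_primeCompl {B : Type*} [CommRing B] (I q' : Ideal B) [q'.IsPrime]
    (hI : I ≤ q') [(q'.map (Ideal.Quotient.mk I)).IsPrime] :
    Algebra.algebraMapSubmonoid (B ⧸ I) q'.primeCompl =
      (q'.map (Ideal.Quotient.mk I)).primeCompl := by
  ext z
  constructor
  · rintro ⟨s, hs, rfl⟩
    intro hmem
    apply hs
    have h1 : s ∈ (q'.map (Ideal.Quotient.mk I)).comap (Ideal.Quotient.mk I) := hmem
    rw [Ideal.comap_map_of_surjective _ Ideal.Quotient.mk_surjective] at h1
    have h2 : Ideal.comap (Ideal.Quotient.mk I) ⊥ ≤ q' := by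
      rw [← RingHom.ker_eq_comap_bot, Ideal.mk_ker]
      exact hI
    exact (sup_le le_rfl h2) h1
  · intro hz
    obtain ⟨s, rfl⟩ := Ideal.Quotient.mk_surjective z
    refine ⟨s, ?_, rfl⟩
    intro hs
    exact hz (Ideal.mem_map_of_mem _ hs)

/-- If the localization of `B ⧸ I` at a prime is regular (given through a further localization
`Localization.Away f̄`), so is `R ⧸ I R` for `R` the localization of `B` at the prime. -/
theorem isRegularLocalRing_quotient_of_away_aux {B : Type u} [CommRing B] (I : Ideal B)
    (q' : Ideal B) [q'.IsPrime] (hIq : I ≤ q') (fbar : B ⧸ I)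
    [hq : (q'.map (Ideal.Quotient.mk I)).IsPrime]
    (hf : fbar ∉ q'.map (Ideal.Quotient.mk I))
    [hQ : ((q'.map (Ideal.Quotient.mk I)).map
      (algebraMap (B ⧸ I) (Localization.Away fbar))).IsPrime]
    (hreg : IsRegularLocalRing (Localization.AtPrime
      ((q'.map (Ideal.Quotient.mk I)).map
        (algebraMap (B ⧸ I) (Localization.Away fbar)))))
    (R : Type u) [CommRing R] [Algebra B R] [IsLocalization.AtPrime R q'] :
    IsRegularLocalRing (R ⧸ I.map (algebraMap B R)) := by
  have hdisj : Disjoint (Submonoid.powers fbar : Set (B ⧸ I))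
      ((q'.map (Ideal.Quotient.mk I) : Ideal (B ⧸ I)) : Set (B ⧸ I)) := by
    rwa [Ideal.disjoint_powers_iff_notMem_of_isPrime]
  have hcomap : ((q'.map (Ideal.Quotient.mk I)).map
      (algebraMap (B ⧸ I) (Localization.Away fbar))).comap
        (algebraMap (B ⧸ I) (Localization.Away fbar)) = q'.map (Ideal.Quotient.mk I) :=
    IsLocalization.under_map_of_isPrime_disjoint (Submonoid.powers fbar) _ ‹_› hdisj
  haveI h1 : IsLocalization.AtPrime (Localization.AtPrime
      ((q'.map (Ideal.Quotient.mk I)).map (algebraMap (B ⧸ I) (Localization.Away fbar))))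
      (((q'.map (Ideal.Quotient.mk I)).map
        (algebraMap (B ⧸ I) (Localization.Away fbar))).comap
          (algebraMap (B ⧸ I) (Localization.Away fbar))) :=
    IsLocalization.isLocalization_isLocalization_atPrime_isLocalization (Submonoid.powers fbar)
      _ _
  haveI h2 : IsLocalization.AtPrime (Localization.AtPrime
      ((q'.map (Ideal.Quotient.mk I)).map (algebraMap (B ⧸ I) (Localization.Away fbar))))
      (q'.map (Ideal.Quotient.mk I)) := by
    convert h1
    exact hcomap.symm
  have h3 : IsLocalization (Algebra.algebraMapSubmonoid (B ⧸ I) q'.primeCompl)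
      (R ⧸ I.map (algebraMap B R)) := inferInstance
  rw [algebraMapSubmonoid_primeCompl I q' hIq] at h3
  haveI h4 : IsLocalization.AtPrime (R ⧸ I.map (algebraMap B R))
      (q'.map (Ideal.Quotient.mk I)) := h3
  exact IsRegularLocalRing.of_ringEquiv
    (IsLocalization.algEquiv (q'.map (Ideal.Quotient.mk I)).primeCompl (Localization.AtPrime
      ((q'.map (Ideal.Quotient.mk I)).map (algebraMap (B ⧸ I) (Localization.Away fbar))))
      (R ⧸ I.map (algebraMap B R))).toRingEquiv

theorem isRegularLocalRing_quotient_of_away {B : Type u} [CommRing B] (b : B) (q' : Ideal B)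
    [q'.IsPrime] (hb : b ∈ q') (fbar : B ⧸ Ideal.span {b})
    [hq : (q'.map (Ideal.Quotient.mk (Ideal.span {b}))).IsPrime]
    (hf : fbar ∉ q'.map (Ideal.Quotient.mk (Ideal.span {b})))
    [hQ : ((q'.map (Ideal.Quotient.mk (Ideal.span {b}))).map
      (algebraMap (B ⧸ Ideal.span {b}) (Localization.Away fbar))).IsPrime]
    (hreg : IsRegularLocalRing (Localization.AtPrime
      ((q'.map (Ideal.Quotient.mk (Ideal.span {b}))).map
        (algebraMap (B ⧸ Ideal.span {b}) (Localization.Away fbar)))))
    (R : Type u) [CommRing R] [Algebra B R] [IsLocalization.AtPrime R q'] :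
    IsRegularLocalRing (R ⧸ Ideal.span {algebraMap B R b}) := by
  have hIq : Ideal.span {b} ≤ q' := (Ideal.span_singleton_le_iff_mem _).mpr hb
  have h1 := isRegularLocalRing_quotient_of_away_aux (Ideal.span {b}) q' hIq fbar hf hreg R
  have hmap : (Ideal.span {b}).map (algebraMap B R) = Ideal.span {algebraMap B R b} := by
    rw [Ideal.map_span, Set.image_singleton]
  exact IsRegularLocalRing.of_ringEquiv (Ideal.quotEquivOfEq hmap)

/-- Bertini for the local rings of a regular affine variety over an algebraically closed field: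
for a general hyperplane, the hyperplane section is regular at all its points. -/
theorem affine_bertini_regular (k : Type u) [Field k] [IsAlgClosed k] (n r : ℕ) (B : Type u)
    [CommRing B] [Algebra k B] (x : Fin n → B)
    (hx : Function.Surjective (MvPolynomial.aeval x : MvPolynomial (Fin n) k →ₐ[k] B))
    (hdim : ∀ P ∈ minimalPrimes B, ringKrullDim (B ⧸ P) = r)
    (hregB : ∀ (q' : Ideal B) [q'.IsPrime], IsRegularLocalRing (Localization.AtPrime q')) :
    ∃ g : MvPolynomial (Fin (n + 1)) k, g ≠ 0 ∧ ∀ a : Fin (n + 1) → k,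
      MvPolynomial.eval a g ≠ 0 → ∀ (b : B),
        b = algebraMap k B (a 0) + ∑ i : Fin n, algebraMap k B (a i.succ) * x i →
        ∀ (q' : Ideal B) [q'.IsPrime], b ∈ q' →
        ∀ (R : Type u) [CommRing R] [Algebra B R] [IsLocalization.AtPrime R q'],
          IsRegularLocalRing (R ⧸ Ideal.span {algebraMap B R b}) := by
  haveI : Infinite k := IsAlgClosed.instInfinite
  obtain ⟨g, hg0, hg⟩ := Groth.Agent.S4228.result k n r B x hx hdim
  refine ⟨g, hg0, fun a hga b hb q' _ hbq R _ _ _ => ?_⟩
  subst hb
  haveI : Algebra.FiniteType k B := Algebra.FiniteType.of_surjective _ hx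
  haveI : Algebra.FinitePresentation k B := Algebra.FinitePresentation.of_finiteType.mp inferInstance
  have hker : RingHom.ker (Ideal.Quotient.mk (Ideal.span
      {algebraMap k B (a 0) + ∑ i : Fin n, algebraMap k B (a i.succ) * x i})) ≤ q' := by
    rw [Ideal.mk_ker]
    exact (Ideal.span_singleton_le_iff_mem _).mpr hbq
  haveI hq : (q'.map (Ideal.Quotient.mk (Ideal.span
      {algebraMap k B (a 0) + ∑ i : Fin n, algebraMap k B (a i.succ) * x i}))).IsPrime :=
    Ideal.map_isPrime_of_surjective Ideal.Quotient.mk_surjective hker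
  have hcomap : (q'.map (Ideal.Quotient.mk (Ideal.span
      {algebraMap k B (a 0) + ∑ i : Fin n, algebraMap k B (a i.succ) * x i}))).comap
      (Ideal.Quotient.mk _) = q' := by
    rw [Ideal.comap_map_of_surjective _ Ideal.Quotient.mk_surjective]
    apply le_antisymm
    · refine sup_le le_rfl ?_
      rw [← RingHom.ker_eq_comap_bot]
      exact hker
    · exact le_sup_left
  have hsm : ∃ f : B, f ∉ (q'.map (Ideal.Quotient.mk (Ideal.span
      {algebraMap k B (a 0) + ∑ i : Fin n, algebraMap k B (a i.succ) * x i}))).comap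
      (Ideal.Quotient.mk _) ∧
      Smooth (Spec.map (CommRingCat.ofHom (algebraMap k (Localization.Away f)))) := by
    rw [hcomap]
    haveI : IsRegularLocalRing (Localization.AtPrime q') := hregB q'
    haveI : Algebra.IsGeometricallyReduced k q'.ResidueField :=
      Groth.Agent.H11.OmegaReg.isGeometricallyReduced_of_isAlgClosed k _
    have hsmAt : Algebra.IsSmoothAt k q' :=
      Groth.Agent.H47.RSF.isSmoothAt_of_isRegularLocalRing k B q'
    have hmem : (⟨q', inferInstance⟩ : PrimeSpectrum B) ∈ Algebra.smoothLocus k B := hsmAt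
    obtain ⟨_, ⟨_, ⟨f, rfl⟩, rfl⟩, hqf, hfsub⟩ :=
      PrimeSpectrum.isBasis_basic_opens.exists_subset_of_mem_open hmem Algebra.isOpen_smoothLocus
    have hS : Algebra.Smooth k (Localization.Away f) :=
      Algebra.basicOpen_subset_smoothLocus_iff_smooth.mp hfsub
    exact ⟨f, hqf, (HasRingHomProperty.Spec_iff (P := @Smooth)).mpr
      (RingHom.smooth_algebraMap.mpr hS)⟩
  obtain ⟨fbar, hfbar, hsmrel⟩ := hg a hga _ hq hsm
  haveI := hsmrel
  have hsm2 : Smooth (Spec.map (CommRingCat.ofHom (algebraMap k (Localization.Away fbar)))) :=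
    SmoothOfRelativeDimension.smooth (r - 1) _
  have hS2 : Algebra.Smooth k (Localization.Away fbar) := by
    have h1 : (algebraMap k (Localization.Away fbar)).Smooth :=
      (HasRingHomProperty.Spec_iff (P := @Smooth)).mp hsm2
    rwa [RingHom.smooth_algebraMap] at h1
  haveI := hS2
  have hdisj : Disjoint (Submonoid.powers fbar : Set (B ⧸ Ideal.span
      {algebraMap k B (a 0) + ∑ i : Fin n, algebraMap k B (a i.succ) * x i}))
      ((q'.map (Ideal.Quotient.mk (Ideal.span
      {algebraMap k B (a 0) + ∑ i : Fin n, algebraMap k B (a i.succ) * x i})) : Ideal (B ⧸ Ideal.span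
      {algebraMap k B (a 0) + ∑ i : Fin n, algebraMap k B (a i.succ) * x i})) : Set (B ⧸ Ideal.span
      {algebraMap k B (a 0) + ∑ i : Fin n, algebraMap k B (a i.succ) * x i})) := by
    rwa [Ideal.disjoint_powers_iff_notMem_of_isPrime]
  haveI hQ : ((q'.map (Ideal.Quotient.mk (Ideal.span
      {algebraMap k B (a 0) + ∑ i : Fin n, algebraMap k B (a i.succ) * x i}))).map
      (algebraMap _ (Localization.Away fbar))).IsPrime :=
    IsLocalization.isPrime_of_isPrime_disjoint (.powers fbar) _ _ hq hdisj
  haveI : Algebra.IsSmoothAt k ((q'.map (Ideal.Quotient.mk (Ideal.span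
      {algebraMap k B (a 0) + ∑ i : Fin n, algebraMap k B (a i.succ) * x i}))).map
      (algebraMap _ (Localization.Away fbar))) := by
    have : (⟨_, hQ⟩ : PrimeSpectrum (Localization.Away fbar)) ∈
        Algebra.smoothLocus k (Localization.Away fbar) := by
      rw [Algebra.smoothLocus_eq_univ]; trivial
    exact this
  haveI : Algebra.FiniteType k (Localization.Away fbar) := inferInstance
  have hreg := Groth.Agent.H47.RSF.isRegularLocalRing_of_isSmoothAt k (Localization.Away fbar)
    ((q'.map (Ideal.Quotient.mk (Ideal.span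
      {algebraMap k B (a 0) + ∑ i : Fin n, algebraMap k B (a i.succ) * x i}))).map
      (algebraMap _ (Localization.Away fbar)))
  exact isRegularLocalRing_quotient_of_away _ q' hbq fbar hfbar hreg R

end Groth.Agent.H36.BertiniProj
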