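import Mathlib
import Groth.Prelude.Def_CohB1
import Groth.Agent.H54.ProjClosedPt
import Groth.Agent.H73.Dehom2

/-!
# Affine charts of a closed subscheme of projective space
-/

set_option autoImplicit false
set_option linter.unusedSectionVars false
set_option linter.unusedVariables false
set_option linter.style.haveILetI false

namespace Groth.Agent.H36.BertiniProj

universe u

open AlgebraicGeometry CategoryTheory HomogeneousLocalization Groth.Agent.H54.PL

section alg

variable (k : Type u) [Field k] (n : ℕ)

local notation "𝒬" => CohB1.polyGrading n k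
local notation "S" => MvPolynomial (Fin (n + 1)) k

theorem eq_lin_of_mem (h : S) (hh : h ∈ 𝒬 1) :
    h = lin k n (fun j => MvPolynomial.coeff (Finsupp.single j 1) h) := by
  classical
  unfold lin
  have hhom : h.IsHomogeneous 1 := (MvPolynomial.mem_homogeneousSubmodule 1 h).mp hh
  ext d
  rw [MvPolynomial.coeff_sum]
  simp only [MvPolynomial.coeff_C_mul, MvPolynomial.coeff_X]
  by_cases hd : ∃ i, d = Finsupp.single i 1
  · obtain ⟨i, rfl⟩ := hd
    rw [Finset.sum_eq_single i]
    · simp
    · intro b _ hb
      rw [if_neg, mul_zero]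
      intro heq
      apply hb
      exact Finsupp.single_left_injective (one_ne_zero) heq
    · intro hi; exact absurd (Finset.mem_univ i) hi
  · have h0 : MvPolynomial.coeff d h = 0 := by
      apply hhom.coeff_eq_zero
      intro hdeg
      apply hd
      rw [← Finsupp.sum_eq_one_iff]
      exact hdeg
    rw [h0]
    symm
    apply Finset.sum_eq_zero
    intro i _
    rw [if_neg, mul_zero]
    intro heq
    exact hd ⟨i, heq.symm⟩

theorem coeff_lin (c : Fin (n + 1) → k) (i : Fin (n + 1)) :
    MvPolynomial.coeff (Finsupp.single i 1) (lin k n c) = c i := by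
  classical
  unfold lin
  rw [MvPolynomial.coeff_sum]
  simp only [MvPolynomial.coeff_C_mul, MvPolynomial.coeff_X]
  rw [Finset.sum_eq_single i]
  · simp
  · intro b _ hb
    rw [if_neg, mul_zero]
    intro heq
    apply hb
    exact Finsupp.single_left_injective (one_ne_zero) heq
  · intro hi; exact absurd (Finset.mem_univ i) hi

theorem exists_eq_lin (h : ↥(𝒬 1)) : ∃ c : Fin (n + 1) → k, h = ⟨lin k n c, lin_mem k n c⟩ :=
  ⟨_, Subtype.ext (eq_lin_of_mem k n h.1 h.2)⟩

variable (j : Fin (n + 1))

/-- The element `lin c / X j` of the coordinate ring of the chart `D₊(X j)`. -/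
noncomputable def awayLin (c : Fin (n + 1) → k) : Away 𝒬 (MvPolynomial.X j : S) :=
  HomogeneousLocalization.mk ⟨1, ⟨lin k n c, lin_mem k n c⟩, ⟨MvPolynomial.X j, X_mem k n j⟩,
    Submonoid.mem_powers _⟩

theorem awayLin_eq (c : Fin (n + 1) → k) :
    awayLin k n j c = ∑ i, cst k n _ (c i) * xc k n j i := by
  apply val_injective
  rw [← HomogeneousLocalization.algebraMap_apply (y := ∑ i, cst k n _ (c i) * xc k n j i), map_sum]
  simp only [map_mul, HomogeneousLocalization.algebraMap_apply, val_cst, val_xc,
    Localization.mk_mul, one_mul]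
  unfold awayLin
  rw [val_mk]
  exact Localization.mk_sum (fun i => MvPolynomial.C (c i) * MvPolynomial.X i) Finset.univ
    (⟨MvPolynomial.X j, Submonoid.mem_powers _⟩ : Submonoid.powers (MvPolynomial.X j : S))

theorem xc_self : xc k n j j = 1 := by
  apply val_injective
  rw [val_xc, val_one]
  exact Localization.mk_self (⟨MvPolynomial.X j, Submonoid.mem_powers _⟩ :
    Submonoid.powers (MvPolynomial.X j : S))

end alg

section scheme

variable (k : Type u) [Field k] (n : ℕ)


variable {X : Scheme.{u}} (ι : X ⟶ Proj (CohB1.polyGrading n k)) (j : Fin (n + 1))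

/-- The ring map from the coordinate ring of the chart `D₊(X j)` to the sections of `X` over the
preimage of the chart. -/
noncomputable def chartHom :
    Away (CohB1.polyGrading n k) (MvPolynomial.X j : MvPolynomial (Fin (n + 1)) k) →+* Γ(X, ι ⁻¹ᵁ Proj.basicOpen (CohB1.polyGrading n k) (MvPolynomial.X j : MvPolynomial (Fin (n + 1)) k)) :=
  (ι.app (Proj.basicOpen (CohB1.polyGrading n k) (MvPolynomial.X j : MvPolynomial (Fin (n + 1)) k))).hom.comp
    (Proj.awayToSection (CohB1.polyGrading n k) (MvPolynomial.X j : MvPolynomial (Fin (n + 1)) k)).hom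

theorem isAffineOpen_basicOpen_X :
    IsAffineOpen (Proj.basicOpen (CohB1.polyGrading n k) (MvPolynomial.X j : MvPolynomial (Fin (n + 1)) k)) :=
  Proj.isAffineOpen_basicOpen (CohB1.polyGrading n k) (MvPolynomial.X j : MvPolynomial (Fin (n + 1)) k) (X_mem k n j) one_pos

theorem chartHom_surjective [IsClosedImmersion ι] : Function.Surjective (chartHom k n ι j) := by
  unfold chartHom
  rw [RingHom.coe_comp]
  apply Function.Surjective.comp
  · exact ι.app_surjective _ (isAffineOpen_basicOpen_X k n j)
  · have : IsIso (Proj.awayToSection (CohB1.polyGrading n k) (MvPolynomial.X j : MvPolynomial (Fin (n + 1)) k)) :=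
      (Proj.basicOpenIsoAway (CohB1.polyGrading n k) (MvPolynomial.X j : MvPolynomial (Fin (n + 1)) k) (X_mem k n j) one_pos).isIso_hom
    exact (ConcreteCategory.bijective_of_isIso (Proj.awayToSection (CohB1.polyGrading n k) (MvPolynomial.X j : MvPolynomial (Fin (n + 1)) k))).2

theorem isAffineOpen_chart [IsClosedImmersion ι] :
    IsAffineOpen (ι ⁻¹ᵁ Proj.basicOpen (CohB1.polyGrading n k) (MvPolynomial.X j : MvPolynomial (Fin (n + 1)) k)) :=
  (isAffineOpen_basicOpen_X k n j).preimage ι

theorem germ_chartHom (x : X)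
    (hj : (MvPolynomial.X j : MvPolynomial (Fin (n + 1)) k) ∉ (show ProjectiveSpectrum (CohB1.polyGrading n k) from ι.base x).asHomogeneousIdeal)
    (s : Away (CohB1.polyGrading n k) (MvPolynomial.X j : MvPolynomial (Fin (n + 1)) k)) :
    (X.presheaf.germ (ι ⁻¹ᵁ Proj.basicOpen (CohB1.polyGrading n k) (MvPolynomial.X j : MvPolynomial (Fin (n + 1)) k)) x hj).hom
        (chartHom k n ι j s) =
      (ι.stalkMap x).hom ((Proj.stalkIso' (CohB1.polyGrading n k) (ι.base x)).symm
        (mapId (CohB1.polyGrading n k) (Submonoid.powers_le.mpr hj) s)) := by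
  unfold chartHom
  rw [RingHom.comp_apply]
  have h1 := Scheme.Hom.germ_stalkMap_apply ι (Proj.basicOpen (CohB1.polyGrading n k) (MvPolynomial.X j : MvPolynomial (Fin (n + 1)) k)) x hj
    ((Proj.awayToSection (CohB1.polyGrading n k) (MvPolynomial.X j : MvPolynomial (Fin (n + 1)) k)).hom s)
  rw [← h1]
  congr 1
  exact (Proj.stalkIso' (CohB1.polyGrading n k) (ι.base x)).eq_symm_apply.mpr
    (Proj.stalkIso'_germ (CohB1.polyGrading n k) _ (ι.base x) hj _)

end scheme

end Groth.Agent.H36.BertiniProj
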