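import Mathlib
import Groth.Agent.H36.BertiniProjA
import Groth.Agent.H36.BertiniProjB
import Groth.Agent.H14.DimTrdeg

/-!
# Bertini on an affine chart of a regular closed subscheme of projective space
-/

set_option autoImplicit false
set_option linter.unusedSectionVars false
set_option linter.unusedVariables false
set_option linter.style.haveILetI false

namespace Groth.Agent.H36.BertiniProj

universe u

open AlgebraicGeometry CategoryTheory HomogeneousLocalization Groth.Agent.H54.PL

section chart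

variable (k : Type u) [Field k] (n : ℕ) {X : Scheme.{u}}
  (ι : X ⟶ Proj (CohB1.polyGrading n k)) (j : Fin (n + 1))

/-- The coordinate ring of the chart is generated by the coordinate functions. -/
theorem aeval_chart_surjective [IsClosedImmersion ι] :
    letI : Algebra k Γ(X, ι ⁻¹ᵁ Proj.basicOpen (CohB1.polyGrading n k)
      (MvPolynomial.X j : MvPolynomial (Fin (n + 1)) k)) :=
      ((chartHom k n ι j).comp (cst k n _)).toAlgebra
    Function.Surjective (MvPolynomial.aeval
      (fun i : Fin n => chartHom k n ι j (xc k n j (j.succAbove i))) :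
      MvPolynomial (Fin n) k →ₐ[k] Γ(X, ι ⁻¹ᵁ Proj.basicOpen (CohB1.polyGrading n k)
      (MvPolynomial.X j : MvPolynomial (Fin (n + 1)) k))) := by
  letI : Algebra k Γ(X, ι ⁻¹ᵁ Proj.basicOpen (CohB1.polyGrading n k)
      (MvPolynomial.X j : MvPolynomial (Fin (n + 1)) k)) :=
      ((chartHom k n ι j).comp (cst k n _)).toAlgebra
  intro b
  obtain ⟨s, rfl⟩ := chartHom_surjective k n ι j b
  obtain ⟨p, rfl⟩ := ((Groth.Agent.H73.Dehom.main n k).2 j).2 s
  refine ⟨MvPolynomial.rename (finSuccAboveEquiv j).symm p, ?_⟩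
  rw [MvPolynomial.aeval_def, MvPolynomial.eval₂_rename, MvPolynomial.coe_eval₂Hom,
    MvPolynomial.hom_eval₂]
  congr 1
  ext j'
  simp only [Function.comp_apply]
  have h1 : j.succAbove ((finSuccAboveEquiv j).symm j') = j'.1 := by
    have := (finSuccAboveEquiv j).apply_symm_apply j'
    rw [finSuccAboveEquiv_apply] at this
    exact congrArg Subtype.val this
  rw [h1]
  rfl

/-- the value of the chart map on `lin c / X j` in terms of the coordinate functions -/
theorem chartHom_awayLin (c : Fin (n + 1) → k) :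
    letI : Algebra k Γ(X, ι ⁻¹ᵁ Proj.basicOpen (CohB1.polyGrading n k)
      (MvPolynomial.X j : MvPolynomial (Fin (n + 1)) k)) :=
      ((chartHom k n ι j).comp (cst k n _)).toAlgebra
    chartHom k n ι j (awayLin k n j c) =
      algebraMap k _ ((c ∘ (Fin.cons j j.succAbove : Fin (n + 1) → Fin (n + 1))) 0) +
        ∑ i : Fin n, algebraMap k _
          ((c ∘ (Fin.cons j j.succAbove : Fin (n + 1) → Fin (n + 1))) i.succ) *
          chartHom k n ι j (xc k n j (j.succAbove i)) := by
  letI : Algebra k Γ(X, ι ⁻¹ᵁ Proj.basicOpen (CohB1.polyGrading n k)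
      (MvPolynomial.X j : MvPolynomial (Fin (n + 1)) k)) :=
      ((chartHom k n ι j).comp (cst k n _)).toAlgebra
  rw [awayLin_eq, map_sum, Fin.sum_univ_succAbove _ j]
  simp only [map_mul, Function.comp_apply, Fin.cons_zero, Fin.cons_succ, xc_self, mul_one]
  rfl

/-- the prime ideals of the coordinate ring of the chart have regular localizations -/
theorem isRegularLocalRing_chart [IsClosedImmersion ι]
    (hreg : ∀ x : X, IsRegularLocalRing (X.presheaf.stalk x))
    (q' : Ideal Γ(X, ι ⁻¹ᵁ Proj.basicOpen (CohB1.polyGrading n k)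
      (MvPolynomial.X j : MvPolynomial (Fin (n + 1)) k))) [q'.IsPrime] :
    IsRegularLocalRing (Localization.AtPrime q') := by
  have hU := isAffineOpen_chart k n ι j
  have hy : hU.fromSpec ⟨q', inferInstance⟩ ∈ ι ⁻¹ᵁ Proj.basicOpen (CohB1.polyGrading n k)
      (MvPolynomial.X j : MvPolynomial (Fin (n + 1)) k) := by
    rw [← SetLike.mem_coe, ← hU.range_fromSpec]
    exact ⟨_, rfl⟩
  letI := TopCat.Presheaf.algebra_section_stalk X.presheaf
    (⟨hU.fromSpec ⟨q', inferInstance⟩, hy⟩ : ↥(ι ⁻¹ᵁ Proj.basicOpen (CohB1.polyGrading n k)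
      (MvPolynomial.X j : MvPolynomial (Fin (n + 1)) k)))
  haveI hloc : IsLocalization.AtPrime (X.presheaf.stalk (hU.fromSpec ⟨q', inferInstance⟩)) q' :=
    hU.isLocalization_stalk' ⟨q', inferInstance⟩ hy
  haveI := hreg (hU.fromSpec ⟨q', inferInstance⟩)
  exact IsRegularLocalRing.of_ringEquiv
    (IsLocalization.algEquiv q'.primeCompl (X.presheaf.stalk (hU.fromSpec ⟨q', inferInstance⟩))
      (Localization.AtPrime q')).toRingEquiv

/-- all irreducible components of the chart have the same dimension (there is at most one) -/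
theorem exists_dim_chart [IsIntegral X] [IsClosedImmersion ι] :
    ∃ r : ℕ, ∀ P ∈ minimalPrimes Γ(X, ι ⁻¹ᵁ Proj.basicOpen (CohB1.polyGrading n k)
      (MvPolynomial.X j : MvPolynomial (Fin (n + 1)) k)),
      ringKrullDim (Γ(X, ι ⁻¹ᵁ Proj.basicOpen (CohB1.polyGrading n k)
      (MvPolynomial.X j : MvPolynomial (Fin (n + 1)) k)) ⧸ P) = r := by
  letI : Algebra k Γ(X, ι ⁻¹ᵁ Proj.basicOpen (CohB1.polyGrading n k)
      (MvPolynomial.X j : MvPolynomial (Fin (n + 1)) k)) :=
      ((chartHom k n ι j).comp (cst k n _)).toAlgebra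
  by_cases hne : Nonempty ↥(ι ⁻¹ᵁ Proj.basicOpen (CohB1.polyGrading n k)
      (MvPolynomial.X j : MvPolynomial (Fin (n + 1)) k))
  · obtain ⟨⟨x, hx⟩⟩ := hne
    haveI : IsDomain Γ(X, ι ⁻¹ᵁ Proj.basicOpen (CohB1.polyGrading n k)
      (MvPolynomial.X j : MvPolynomial (Fin (n + 1)) k)) :=
      @IsIntegral.component_integral X _ _ ⟨⟨x, hx⟩⟩
    haveI : Algebra.FiniteType k Γ(X, ι ⁻¹ᵁ Proj.basicOpen (CohB1.polyGrading n k)
      (MvPolynomial.X j : MvPolynomial (Fin (n + 1)) k)) :=
      Algebra.FiniteType.of_surjective _ (aeval_chart_surjective k n ι j)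
    obtain ⟨r, -, hr, -⟩ := Groth.Agent.H14.ringKrullDim_eq_trdeg_of_finiteType_domain k
      Γ(X, ι ⁻¹ᵁ Proj.basicOpen (CohB1.polyGrading n k)
      (MvPolynomial.X j : MvPolynomial (Fin (n + 1)) k))
    refine ⟨r, fun P hP => ?_⟩
    rw [IsDomain.minimalPrimes_eq_singleton_bot, Set.mem_singleton_iff] at hP
    subst hP
    rw [← hr]
    exact ringKrullDim_eq_of_ringEquiv (RingEquiv.quotientBot _)
  · refine ⟨0, fun P hP => ?_⟩
    exfalso
    have hbot : ι ⁻¹ᵁ Proj.basicOpen (CohB1.polyGrading n k)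
      (MvPolynomial.X j : MvPolynomial (Fin (n + 1)) k) = ⊥ := by
      ext x
      simp only [TopologicalSpace.Opens.coe_bot, Set.mem_empty_iff_false, iff_false]
      intro hx
      exact hne ⟨⟨x, hx⟩⟩
    haveI : P.IsPrime := hP.1.1
    have h1 : (1 : Γ(X, ι ⁻¹ᵁ Proj.basicOpen (CohB1.polyGrading n k)
      (MvPolynomial.X j : MvPolynomial (Fin (n + 1)) k))) ∈ P := by
      have hsub : Subsingleton Γ(X, ι ⁻¹ᵁ Proj.basicOpen (CohB1.polyGrading n k)
        (MvPolynomial.X j : MvPolynomial (Fin (n + 1)) k)) := by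
        rw [hbot]; infer_instance
      rw [Subsingleton.elim (1 : Γ(X, ι ⁻¹ᵁ Proj.basicOpen (CohB1.polyGrading n k)
        (MvPolynomial.X j : MvPolynomial (Fin (n + 1)) k))) 0]
      exact P.zero_mem
    exact ‹P.IsPrime›.ne_top ((Ideal.eq_top_iff_one P).mpr h1)

theorem injective_cons_succAbove : Function.Injective
    (Fin.cons j j.succAbove : Fin (n + 1) → Fin (n + 1)) := by
  intro a b hab
  induction a using Fin.cases with
  | zero =>
    induction b using Fin.cases with
    | zero => rfl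
    | succ b =>
      rw [Fin.cons_zero, Fin.cons_succ] at hab
      exact absurd hab.symm (Fin.succAbove_ne j b)
  | succ a =>
    induction b using Fin.cases with
    | zero =>
      rw [Fin.cons_zero, Fin.cons_succ] at hab
      exact absurd hab (Fin.succAbove_ne j a)
    | succ b =>
      rw [Fin.cons_succ, Fin.cons_succ] at hab
      rw [Fin.succAbove_right_injective hab]

/-- Bertini on the chart `D₊(X j)`. -/
theorem chart_bertini [IsAlgClosed k] [IsIntegral X] [IsClosedImmersion ι]
    (hreg : ∀ x : X, IsRegularLocalRing (X.presheaf.stalk x)) :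
    ∃ g : MvPolynomial (Fin (n + 1)) k, g ≠ 0 ∧ ∀ c : Fin (n + 1) → k,
      MvPolynomial.eval c g ≠ 0 → ∀ x : X,
        lin k n c ∈ (show ProjectiveSpectrum (CohB1.polyGrading n k) from ι.base x).asHomogeneousIdeal →
        ∀ hj : (MvPolynomial.X j : MvPolynomial (Fin (n + 1)) k) ∉
          (show ProjectiveSpectrum (CohB1.polyGrading n k) from ι.base x).asHomogeneousIdeal,
        IsRegularLocalRing (X.presheaf.stalk x ⧸ Ideal.span
          {(ι.stalkMap x).hom ((Proj.stalkIso' (CohB1.polyGrading n k) (ι.base x)).symm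
            (HomogeneousLocalization.mk ⟨1, ⟨lin k n c, lin_mem k n c⟩,
              ⟨MvPolynomial.X j, X_mem k n j⟩, hj⟩))}) := by
  classical
  letI : Algebra k Γ(X, ι ⁻¹ᵁ Proj.basicOpen (CohB1.polyGrading n k)
      (MvPolynomial.X j : MvPolynomial (Fin (n + 1)) k)) :=
      ((chartHom k n ι j).comp (cst k n _)).toAlgebra
  have hU := isAffineOpen_chart k n ι j
  obtain ⟨r, hdim⟩ := exists_dim_chart k n ι j
  obtain ⟨g', hg'0, hg'⟩ := affine_bertini_regular k n r
    Γ(X, ι ⁻¹ᵁ Proj.basicOpen (CohB1.polyGrading n k)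
      (MvPolynomial.X j : MvPolynomial (Fin (n + 1)) k))
    (fun i : Fin n => chartHom k n ι j (xc k n j (j.succAbove i)))
    (aeval_chart_surjective k n ι j) hdim
    (fun q' _ => isRegularLocalRing_chart k n ι j hreg q')
  refine ⟨MvPolynomial.rename (Fin.cons j j.succAbove : Fin (n + 1) → Fin (n + 1)) g', ?_, ?_⟩
  · intro h0
    apply hg'0
    exact MvPolynomial.rename_injective _ (injective_cons_succAbove n j)
      (by rw [h0, map_zero])
  intro c hc x hlin hj
  rw [MvPolynomial.eval_rename] at hc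
  have hxU : x ∈ ι ⁻¹ᵁ Proj.basicOpen (CohB1.polyGrading n k)
      (MvPolynomial.X j : MvPolynomial (Fin (n + 1)) k) := hj
  letI := TopCat.Presheaf.algebra_section_stalk X.presheaf
    (⟨x, hxU⟩ : ↥(ι ⁻¹ᵁ Proj.basicOpen (CohB1.polyGrading n k)
      (MvPolynomial.X j : MvPolynomial (Fin (n + 1)) k)))
  haveI hloc : IsLocalization.AtPrime (X.presheaf.stalk x) (hU.primeIdealOf ⟨x, hxU⟩).asIdeal :=
    hU.isLocalization_stalk ⟨x, hxU⟩
  have hgerm : algebraMap Γ(X, ι ⁻¹ᵁ Proj.basicOpen (CohB1.polyGrading n k)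
      (MvPolynomial.X j : MvPolynomial (Fin (n + 1)) k)) (X.presheaf.stalk x)
      (chartHom k n ι j (awayLin k n j c)) =
      (ι.stalkMap x).hom ((Proj.stalkIso' (CohB1.polyGrading n k) (ι.base x)).symm
        (HomogeneousLocalization.mk ⟨1, ⟨lin k n c, lin_mem k n c⟩,
          ⟨MvPolynomial.X j, X_mem k n j⟩, hj⟩)) :=
    germ_chartHom k n ι j x hj (awayLin k n j c)
  have hmem : chartHom k n ι j (awayLin k n j c) ∈ (hU.primeIdealOf ⟨x, hxU⟩).asIdeal := by
    rw [← IsLocalization.AtPrime.to_map_mem_maximal_iff (X.presheaf.stalk x)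
      (hU.primeIdealOf ⟨x, hxU⟩).asIdeal, hgerm]
    rw [← bb_mem_maximalIdeal_iff k n j (ι.base x) hj c] at hlin
    rw [IsLocalRing.mem_maximalIdeal, mem_nonunits_iff] at hlin ⊢
    intro hu
    apply hlin
    have hu' := (isUnit_map_iff (ι.stalkMap x).hom _).mp hu
    exact (MulEquiv.isUnit_map (Proj.stalkIso' (CohB1.polyGrading n k) (ι.base x)).symm).mp hu'
  have key := hg' (c ∘ (Fin.cons j j.succAbove : Fin (n + 1) → Fin (n + 1))) hc
    (chartHom k n ι j (awayLin k n j c)) (chartHom_awayLin k n ι j c)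
    (hU.primeIdealOf ⟨x, hxU⟩).asIdeal hmem (X.presheaf.stalk x)
  rw [hgerm] at key
  exact key

/-- a general hyperplane does not contain `X` -/
theorem exists_not_mem [Nonempty X] :
    ∃ g : MvPolynomial (Fin (n + 1)) k, g ≠ 0 ∧ ∀ c : Fin (n + 1) → k,
      MvPolynomial.eval c g ≠ 0 → ∃ x : X, lin k n c ∉
        (show ProjectiveSpectrum (CohB1.polyGrading n k) from ι.base x).asHomogeneousIdeal := by
  classical
  obtain ⟨x₀⟩ := ‹Nonempty X›
  have hadd : ∀ a b : Fin (n + 1) → k, lin k n (a + b) = lin k n a + lin k n b := by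
    intro a b
    unfold lin
    simp only [Pi.add_apply, map_add, add_mul, Finset.sum_add_distrib]
  have hzero : lin k n (0 : Fin (n + 1) → k) = 0 := by
    unfold lin
    simp
  have hsmul : ∀ (a : k) (b : Fin (n + 1) → k),
      lin k n (a • b) = MvPolynomial.C a * lin k n b := by
    intro a b
    unfold lin
    simp only [Pi.smul_apply, smul_eq_mul, map_mul, Finset.mul_sum, mul_assoc]
  let W : Submodule k (Fin (n + 1) → k) :=
    { carrier := {c | lin k n c ∈
        (show ProjectiveSpectrum (CohB1.polyGrading n k) from ι.base x₀).asHomogeneousIdeal.toIdeal}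
      add_mem' := by
        intro a b ha hb
        rw [Set.mem_ofPred_eq, hadd]
        exact Ideal.add_mem _ ha hb
      zero_mem' := by
        rw [Set.mem_ofPred_eq, hzero]
        exact Ideal.zero_mem _
      smul_mem' := by
        intro a b hb
        rw [Set.mem_ofPred_eq, hsmul]
        exact Ideal.mul_mem_left _ _ hb }
  obtain ⟨i, hi⟩ := exists_X_notMem k n
    (show ProjectiveSpectrum (CohB1.polyGrading n k) from ι.base x₀)
  have hW : W < ⊤ := by
    rw [lt_top_iff_ne_top]
    intro htop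
    apply hi
    have h1 : (Pi.single i 1 : Fin (n + 1) → k) ∈ W := htop ▸ Submodule.mem_top
    have h2 : lin k n (Pi.single i 1) = MvPolynomial.X i := by
      unfold lin
      rw [Finset.sum_eq_single i]
      · simp
      · intro b _ hb
        rw [Pi.single_apply, if_neg hb, map_zero, zero_mul]
      · intro h; exact absurd (Finset.mem_univ i) h
    have h3 : lin k n (Pi.single i 1) ∈
        (show ProjectiveSpectrum (CohB1.polyGrading n k) from ι.base x₀).asHomogeneousIdeal := h1
    rwa [h2] at h3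
  obtain ⟨φ, hφ0, hφ⟩ := Submodule.exists_le_ker_of_lt_top W hW
  have heval : ∀ c : Fin (n + 1) → k,
      MvPolynomial.eval c (lin k n (fun i => φ (Pi.single i 1))) = φ c := by
    intro c
    rw [eval_lin, LinearMap.pi_apply_eq_sum_univ φ c]
    refine Finset.sum_congr rfl fun i _ => ?_
    rw [smul_eq_mul, mul_comm]
    congr 2
    ext i'
    rw [Pi.single_apply]
    simp [eq_comm]
  refine ⟨lin k n (fun i => φ (Pi.single i 1)), ?_, ?_⟩
  · intro h0
    apply hφ0
    refine LinearMap.ext fun c => ?_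
    rw [← heval c, h0, map_zero, LinearMap.zero_apply]
  · intro c hc
    rw [heval] at hc
    refine ⟨x₀, fun hmem => hc ?_⟩
    have : c ∈ W := hmem
    exact hφ this

end chart

end Groth.Agent.H36.BertiniProj
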