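import Mathlib

set_option autoImplicit false
universe u

namespace Groth.Agent.H36.Birkhoff

open Polynomial Matrix

variable {k : Type u} [Field k]

/-- reversal of a polynomial at level `N` -/
noncomputable def rev (N : ℕ) (f : k[X]) : k[X] :=
  ∑ l ∈ Finset.range (N + 1), Polynomial.C (f.coeff l) * X ^ (N - l)

theorem coeff_zero_rev (N : ℕ) (f : k[X]) : (rev N f).coeff 0 = f.coeff N := by
  unfold rev
  rw [Polynomial.finsetSum_coeff, Finset.sum_eq_single N]
  · simp
  · intro l hl hlN
    rw [Finset.mem_range] at hl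
    rw [coeff_C_mul_X_pow, if_neg]
    omega
  · intro h
    simp at h

theorem toLaurent_rev (N : ℕ) (f : k[X]) (hf : f.natDegree ≤ N) :
    LaurentPolynomial.invert (toLaurent (rev N f)) * LaurentPolynomial.T (N : ℤ) = toLaurent f := by
  conv_rhs => rw [f.as_sum_range' (N + 1) (by omega)]
  unfold rev
  rw [map_sum, map_sum, Finset.sum_mul, map_sum]
  refine Finset.sum_congr rfl fun l hl => ?_
  rw [Finset.mem_range] at hl
  rw [Polynomial.toLaurent_C_mul_X_pow, Polynomial.toLaurent_C_mul_T, map_mul,
    LaurentPolynomial.invert_C, LaurentPolynomial.invert_T, mul_assoc, ← LaurentPolynomial.T_add]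
  congr 2
  omega

/-- column degree -/
noncomputable def coldeg {n : ℕ} (M : Matrix (Fin n) (Fin n) k[X]) (j : Fin n) : ℕ :=
  Finset.univ.sup fun i => (M i j).natDegree

theorem natDegree_le_coldeg {n : ℕ} (M : Matrix (Fin n) (Fin n) k[X]) (i j : Fin n) :
    (M i j).natDegree ≤ coldeg M j :=
  Finset.le_sup (f := fun i => (M i j).natDegree) (Finset.mem_univ i)

/-- leading coefficient matrix -/
noncomputable def lc {n : ℕ} (M : Matrix (Fin n) (Fin n) k[X]) : Matrix (Fin n) (Fin n) k :=
  fun i j => (M i j).coeff (coldeg M j)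

theorem natDegree_le_pred_of_coeff_eq_zero (f : k[X]) (N : ℕ) (h1 : f.natDegree ≤ N)
    (h2 : f.coeff N = 0) : f.natDegree ≤ N - 1 := by
  rcases Nat.lt_or_ge f.natDegree N with h | h
  · omega
  · have hN : f.natDegree = N := le_antisymm h1 h
    have : f = 0 := by
      by_contra hne
      have := Polynomial.leadingCoeff_ne_zero.2 hne
      rw [Polynomial.leadingCoeff, hN] at this
      exact this h2
    rw [this]
    simp

theorem exists_reduce_step {n : ℕ} (M : Matrix (Fin n) (Fin n) k[X]) (hM : M.det ≠ 0)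
    (hlc : (lc M).det = 0) :
    ∃ E : Matrix (Fin n) (Fin n) k[X], E.det = 1 ∧
      ∑ j, coldeg (M * E) j < ∑ j, coldeg M j := by
  classical
  obtain ⟨c, hc0, hc⟩ := (Matrix.exists_mulVec_eq_zero_iff).2 hlc
  have hJ : (Finset.univ.filter fun j => c j ≠ 0).Nonempty := by
    by_contra hne
    rw [Finset.not_nonempty_iff_eq_empty] at hne
    apply hc0
    funext j
    change c j = 0
    by_contra hj
    have : j ∈ Finset.univ.filter fun j => c j ≠ 0 := by simp [hj]
    rw [hne] at this
    simp at this
  obtain ⟨j₀, hj₀, hmax⟩ := Finset.exists_max_image _ (fun j => coldeg M j) hJ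
  rw [Finset.mem_filter] at hj₀
  have hcj₀ : c j₀ ≠ 0 := hj₀.2
  obtain ⟨v, hv⟩ : ∃ v : Fin n → k[X],
      v = fun l => Polynomial.C (c l / c j₀) * X ^ (coldeg M j₀ - coldeg M l) := ⟨_, rfl⟩
  have hvj₀ : v j₀ = 1 := by
    rw [hv]
    simp [div_self hcj₀]
  have hdetE : ((1 : Matrix (Fin n) (Fin n) k[X]).updateCol j₀ v).det = 1 := by
    rw [← Matrix.cramer_apply, Matrix.cramer_one]
    simpa using hvj₀
  -- the new column
  have hterm : ∀ i l, (M i l * v l).natDegree ≤ coldeg M j₀ ∧
      (M i l * v l).coeff (coldeg M j₀) = lc M i l * (c l / c j₀) := by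
    intro i l
    by_cases hl : c l = 0
    · rw [hv]
      simp [hl]
    · have hle : coldeg M l ≤ coldeg M j₀ := hmax l (by simp [hl])
      have h1 : M i l * v l =
          Polynomial.C (c l / c j₀) * (M i l * X ^ (coldeg M j₀ - coldeg M l)) := by
        rw [hv]; ring
      constructor
      · rw [h1]
        refine (Polynomial.natDegree_C_mul_le _ _).trans ?_
        refine (Polynomial.natDegree_mul_le).trans ?_
        rw [Polynomial.natDegree_X_pow]
        have := natDegree_le_coldeg M i l
        omega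
      · rw [h1, Polynomial.coeff_C_mul, Polynomial.coeff_mul_X_pow', if_pos (Nat.sub_le _ _)]
        have h2 : coldeg M j₀ - (coldeg M j₀ - coldeg M l) = coldeg M l := by omega
        rw [h2, mul_comm]
        rfl
  have hnew : ∀ i, ((M *ᵥ v) i).natDegree ≤ coldeg M j₀ - 1 := by
    intro i
    apply natDegree_le_pred_of_coeff_eq_zero
    · rw [Matrix.mulVec, dotProduct]
      exact Polynomial.natDegree_sum_le_of_forall_le _ _ fun l _ => (hterm i l).1
    · rw [Matrix.mulVec, dotProduct, Polynomial.finsetSum_coeff]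
      have h3 : ∑ l, (M i l * v l).coeff (coldeg M j₀) = (∑ l, lc M i l * c l) / c j₀ := by
        rw [Finset.sum_div]
        exact Finset.sum_congr rfl fun l _ => by rw [(hterm i l).2, mul_div_assoc]
      rw [h3]
      have h4 := congrFun hc i
      rw [Matrix.mulVec, dotProduct] at h4
      rw [h4]
      simp
  refine ⟨(1 : Matrix (Fin n) (Fin n) k[X]).updateCol j₀ v, hdetE, ?_⟩
  rw [Matrix.mul_updateCol, Matrix.mul_one]
  have hpos : 0 < coldeg M j₀ := by
    by_contra h0
    have h0' : coldeg M j₀ = 0 := by omega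
    apply hM
    have hzero : ∀ i, (M *ᵥ v) i = 0 := by
      intro i
      have h5 := hnew i
      rw [h0'] at h5
      have h6 : ((M *ᵥ v) i).coeff 0 = 0 := by
        -- from the coefficient computation
        rw [Matrix.mulVec, dotProduct, Polynomial.finsetSum_coeff]
        have h3 : ∑ l, (M i l * v l).coeff 0 = (∑ l, lc M i l * c l) / c j₀ := by
          rw [Finset.sum_div]
          refine Finset.sum_congr rfl fun l _ => ?_
          have := (hterm i l).2
          rw [h0'] at this
          rw [this, mul_div_assoc]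
        rw [h3]
        have h4 := congrFun hc i
        rw [Matrix.mulVec, dotProduct] at h4
        rw [h4]
        simp
      have h7 : ((M *ᵥ v) i).natDegree = 0 := by omega
      rw [Polynomial.eq_C_of_natDegree_eq_zero h7, h6]
      simp
    have hdet : (M * (1 : Matrix (Fin n) (Fin n) k[X]).updateCol j₀ v).det = 0 := by
      rw [Matrix.mul_updateCol, Matrix.mul_one]
      apply Matrix.det_eq_zero_of_column_eq_zero j₀
      intro i
      rw [Matrix.updateCol_self]
      exact hzero i
    rw [Matrix.det_mul, hdetE, mul_one] at hdet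
    exact hdet
  apply Finset.sum_lt_sum
  · intro j _
    by_cases hj : j = j₀
    · subst hj
      unfold coldeg
      apply Finset.sup_le
      intro i _
      rw [Matrix.updateCol_self]
      exact (hnew i).trans (Nat.sub_le _ _)
    · apply le_of_eq
      unfold coldeg
      congr 1
      funext i
      rw [Matrix.updateCol_ne hj]
  · refine ⟨j₀, Finset.mem_univ _, ?_⟩
    have : coldeg (M.updateCol j₀ (M *ᵥ v)) j₀ ≤ coldeg M j₀ - 1 := by
      unfold coldeg
      apply Finset.sup_le
      intro i _
      rw [Matrix.updateCol_self]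
      exact hnew i
    omega

/-- lattice reduction: some unimodular column transformation makes the leading coefficient
matrix invertible -/
theorem exists_reduced {n : ℕ} (M : Matrix (Fin n) (Fin n) k[X]) (hM : M.det ≠ 0) :
    ∃ P : Matrix (Fin n) (Fin n) k[X], P.det = 1 ∧ (lc (M * P)).det ≠ 0 := by
  classical
  have hex : ∃ m : ℕ, ∃ P : Matrix (Fin n) (Fin n) k[X], P.det = 1 ∧
      ∑ j, coldeg (M * P) j = m := ⟨_, 1, Matrix.det_one, rfl⟩
  obtain ⟨P, hP, hPm⟩ := Nat.find_spec hex
  refine ⟨P, hP, fun hlc => ?_⟩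
  have hMP : (M * P).det ≠ 0 := by
    rw [Matrix.det_mul, hP, mul_one]
    exact hM
  obtain ⟨E, hE, hlt⟩ := exists_reduce_step (M * P) hMP hlc
  have hmin := Nat.find_min hex (m := ∑ j, coldeg (M * P * E) j) (by rw [← hPm]; exact hlt)
  apply hmin
  refine ⟨P * E, ?_, ?_⟩
  · rw [Matrix.det_mul, hP, hE, mul_one]
  · rw [Matrix.mul_assoc]

/-- a polynomial with nonzero constant coefficient which becomes a unit in the Laurent polynomial
ring is a unit -/
theorem isUnit_of_isUnit_toLaurent (f : k[X]) (h0 : f.coeff 0 ≠ 0) (hu : IsUnit (toLaurent f)) :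
    IsUnit f := by
  obtain ⟨g, hg⟩ := hu.exists_right_inv
  obtain ⟨m, g', hg'⟩ := LaurentPolynomial.exists_T_pow g
  have h1 : f * g' = X ^ m := by
    apply Polynomial.toLaurent_injective
    rw [map_mul, hg', ← mul_assoc, hg, one_mul, Polynomial.toLaurent_X_pow]
  have h2 : f ∣ X ^ m := ⟨g', h1.symm⟩
  obtain ⟨i, -, hi⟩ := (dvd_prime_pow Polynomial.prime_X m).1 h2
  rcases Nat.eq_zero_or_pos i with h | h
  · subst h
    rw [pow_zero] at hi
    exact hi.symm.isUnit isUnit_one
  · exfalso
    apply h0
    rw [← Polynomial.X_dvd_iff]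
    exact (dvd_pow_self X (Nat.pos_iff_ne_zero.1 h)).trans hi.symm.dvd

/-- the inversion `T ↦ T⁻¹` as a ring homomorphism -/
noncomputable def invR : LaurentPolynomial k →+* LaurentPolynomial k :=
  (LaurentPolynomial.invert : LaurentPolynomial k ≃ₐ[k] LaurentPolynomial k)

theorem invR_apply (x : LaurentPolynomial k) : invR x = LaurentPolynomial.invert x := rfl

theorem exists_clear_denominators {n : ℕ} (A' : Matrix (Fin n) (Fin n) (LaurentPolynomial k)) :
    ∃ (N : ℕ) (B : Matrix (Fin n) (Fin n) k[X]),
      B.map (Polynomial.toLaurent (R := k)) =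
        (LaurentPolynomial.T (N : ℤ) : LaurentPolynomial k) • A' := by
  classical
  have h : ∀ i j, ∃ (m : ℕ) (f : k[X]), toLaurent f = A' i j * LaurentPolynomial.T (m : ℤ) :=
    fun i j => LaurentPolynomial.exists_T_pow _
  choose m f hf using h
  let N := Finset.univ.sup (fun p : Fin n × Fin n => m p.1 p.2)
  have hN : ∀ i j, m i j ≤ N := fun i j =>
    Finset.le_sup (f := fun p : Fin n × Fin n => m p.1 p.2) (Finset.mem_univ (i, j))
  refine ⟨N, Matrix.of fun i j => f i j * X ^ (N - m i j), ?_⟩
  refine Matrix.ext fun i j => ?_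
  rw [Matrix.map_apply, Matrix.of_apply, Matrix.smul_apply, smul_eq_mul, map_mul, hf,
    Polynomial.toLaurent_X_pow, mul_assoc, ← LaurentPolynomial.T_add, mul_comm]
  congr 2
  have := hN i j
  omega

theorem exists_factorization {n : ℕ} (A A' : Matrix (Fin n) (Fin n) (LaurentPolynomial k))
    (hAA' : A * A' = 1) (hA'A : A' * A = 1) :
    ∃ (P Q : Matrix (Fin n) (Fin n) k[X]) (d : Fin n → ℤ), IsUnit P ∧ IsUnit Q ∧
      A = P.map toLaurent * Matrix.diagonal (fun i => LaurentPolynomial.T (d i)) *
        (Q.map toLaurent).map LaurentPolynomial.invert := by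
  classical
  obtain ⟨N, B, hB⟩ := exists_clear_denominators A'
  -- `B` has a unit determinant over the Laurent ring
  have hBunit : IsUnit (toLaurent B.det) := by
    have h1 : (B.map toLaurent) *
        ((LaurentPolynomial.T (-(N : ℤ)) : LaurentPolynomial k) • A) = 1 := by
      rw [hB, Matrix.smul_mul, Matrix.mul_smul, smul_smul, ← LaurentPolynomial.T_add, hA'A]
      simp
    have h2 := congrArg Matrix.det h1
    rw [Matrix.det_mul, Matrix.det_one] at h2
    have h3 : (B.map toLaurent).det = toLaurent B.det := by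
      rw [← RingHom.mapMatrix_apply, ← RingHom.map_det]
    rw [h3] at h2
    exact IsUnit.of_mul_eq_one _ h2
  have hBdet : B.det ≠ 0 := by
    intro h0
    rw [h0, map_zero] at hBunit
    exact not_isUnit_zero hBunit
  obtain ⟨P, hP, hlc⟩ := exists_reduced B hBdet
  obtain ⟨M', hM'⟩ : ∃ M' : Matrix (Fin n) (Fin n) k[X], M' = B * P := ⟨_, rfl⟩
  rw [← hM'] at hlc
  obtain ⟨W, hW⟩ : ∃ W : Matrix (Fin n) (Fin n) k[X],
      W = fun i j => rev (coldeg M' j) (M' i j) := ⟨_, rfl⟩
  -- the constant coefficients of `W` form the leading coefficient matrix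
  have hW0 : W.det.coeff 0 ≠ 0 := by
    have h1 : (Polynomial.constantCoeff : k[X] →+* k).mapMatrix W = lc M' := by
      ext i j
      rw [RingHom.mapMatrix_apply, Matrix.map_apply, hW, Polynomial.constantCoeff_apply,
        coeff_zero_rev]
      rfl
    have h2 := RingHom.map_det (Polynomial.constantCoeff : k[X] →+* k) W
    rw [h1, Polynomial.constantCoeff_apply] at h2
    rw [h2]
    exact hlc
  -- the Laurent identity
  have hML : M'.map toLaurent = ((W.map toLaurent).map invR) *
      Matrix.diagonal (fun j => LaurentPolynomial.T ((coldeg M' j : ℕ) : ℤ)) := by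
    refine Matrix.ext fun i j => ?_
    rw [Matrix.mul_diagonal, Matrix.map_apply, Matrix.map_apply, Matrix.map_apply, hW, invR_apply,
      toLaurent_rev _ _ (natDegree_le_coldeg M' i j)]
  have hM'L : M'.map toLaurent = B.map toLaurent * P.map toLaurent := by
    rw [hM', Matrix.map_mul]
  have hPL : (P.map toLaurent).det = 1 := by
    rw [← RingHom.mapMatrix_apply, ← RingHom.map_det, hP, map_one]
  -- `W` is invertible
  have hWunit : IsUnit W.det := by
    apply isUnit_of_isUnit_toLaurent _ hW0
    have h1 := congrArg Matrix.det hML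
    rw [hM'L, Matrix.det_mul, hPL, mul_one, Matrix.det_mul, Matrix.det_diagonal] at h1
    have h3 : (B.map toLaurent).det = toLaurent B.det := by
      rw [← RingHom.mapMatrix_apply, ← RingHom.map_det]
    have h4 : ((W.map toLaurent).map invR).det = invR (toLaurent W.det) := by
      rw [← RingHom.mapMatrix_apply, ← RingHom.mapMatrix_apply, ← RingHom.map_det,
        ← RingHom.map_det]
    rw [h3, h4] at h1
    rw [h1] at hBunit
    have h5 : IsUnit (invR (toLaurent W.det)) := isUnit_of_mul_isUnit_left hBunit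
    rw [invR_apply] at h5
    exact (isUnit_map_iff (LaurentPolynomial.invert : LaurentPolynomial k ≃ₐ[k] _) _).1 h5
  have hWQ : W * W⁻¹ = 1 := Matrix.mul_nonsing_inv W hWunit
  refine ⟨P, W⁻¹, fun j => (N : ℤ) - (coldeg M' j : ℕ), ?_, ?_, ?_⟩
  · exact (Matrix.isUnit_iff_isUnit_det P).2 (by rw [hP]; exact isUnit_one)
  · exact Matrix.isUnit_nonsing_inv_iff.2 ((Matrix.isUnit_iff_isUnit_det W).2 hWunit)
  · have hWQL : ((W.map toLaurent).map invR) * ((W⁻¹.map toLaurent).map invR) = 1 := by
      rw [← Matrix.map_mul, ← Matrix.map_mul, hWQ, Matrix.map_one _ (map_zero _) (map_one _),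
        Matrix.map_one _ (map_zero _) (map_one _)]
    have hD : Matrix.diagonal (fun j =>
          (LaurentPolynomial.T ((N : ℤ) - (coldeg M' j : ℕ)) : LaurentPolynomial k)) =
        (LaurentPolynomial.T (N : ℤ) : LaurentPolynomial k) • Matrix.diagonal
          (fun j => (LaurentPolynomial.T (-((coldeg M' j : ℕ) : ℤ)) : LaurentPolynomial k)) := by
      refine Matrix.ext fun i j => ?_
      by_cases hij : i = j
      · subst hij
        rw [Matrix.smul_apply, Matrix.diagonal_apply_eq, Matrix.diagonal_apply_eq, smul_eq_mul,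
          ← LaurentPolynomial.T_add, sub_eq_add_neg]
      · rw [Matrix.smul_apply, Matrix.diagonal_apply_ne _ hij, Matrix.diagonal_apply_ne _ hij,
          smul_zero]
    have hDD : Matrix.diagonal (fun j => LaurentPolynomial.T ((coldeg M' j : ℕ) : ℤ)) *
        Matrix.diagonal
          (fun j => (LaurentPolynomial.T (-((coldeg M' j : ℕ) : ℤ)) : LaurentPolynomial k)) = 1 := by
      rw [Matrix.diagonal_mul_diagonal]
      have : (fun j : Fin n => (LaurentPolynomial.T ((coldeg M' j : ℕ) : ℤ) : LaurentPolynomial k) *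
          LaurentPolynomial.T (-((coldeg M' j : ℕ) : ℤ))) = fun _ => 1 := by
        funext j
        rw [← LaurentPolynomial.T_add, add_neg_cancel, LaurentPolynomial.T_zero]
      rw [this, Matrix.diagonal_one]
    have key : A' * (P.map toLaurent *
        Matrix.diagonal (fun j => LaurentPolynomial.T ((N : ℤ) - (coldeg M' j : ℕ))) *
        (W⁻¹.map toLaurent).map LaurentPolynomial.invert) = 1 := by
      have h1 : (LaurentPolynomial.T (N : ℤ) : LaurentPolynomial k) • (A' * P.map toLaurent) =
          ((W.map toLaurent).map invR) *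
            Matrix.diagonal (fun j => LaurentPolynomial.T ((coldeg M' j : ℕ) : ℤ)) := by
        rw [← hML, hM'L, hB, Matrix.smul_mul]
      calc A' * (P.map toLaurent *
            Matrix.diagonal (fun j => LaurentPolynomial.T ((N : ℤ) - (coldeg M' j : ℕ))) *
            (W⁻¹.map toLaurent).map LaurentPolynomial.invert)
          = ((LaurentPolynomial.T (N : ℤ) : LaurentPolynomial k) • (A' * P.map toLaurent)) *
              Matrix.diagonal
                (fun j => (LaurentPolynomial.T (-((coldeg M' j : ℕ) : ℤ)) : LaurentPolynomial k)) *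
              (W⁻¹.map toLaurent).map invR := by
            rw [hD, Matrix.mul_smul, Matrix.smul_mul, Matrix.mul_smul, Matrix.smul_mul,
              Matrix.smul_mul, Matrix.mul_assoc, Matrix.mul_assoc, Matrix.mul_assoc]
            rfl
        _ = 1 := by
            rw [h1, Matrix.mul_assoc ((W.map toLaurent).map invR), hDD, Matrix.mul_one, hWQL]
    calc A = A * (A' * (P.map toLaurent *
        Matrix.diagonal (fun j => LaurentPolynomial.T ((N : ℤ) - (coldeg M' j : ℕ))) *
        (W⁻¹.map toLaurent).map LaurentPolynomial.invert)) := by rw [key, Matrix.mul_one]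
      _ = _ := by rw [← Matrix.mul_assoc A A', hAA', Matrix.one_mul]

theorem birkhoff {n : ℕ} (A : Matrix (Fin n) (Fin n) (LaurentPolynomial k)) (hA : IsUnit A) :
    ∃ (P Q : Matrix (Fin n) (Fin n) (Polynomial k)) (d : Fin n → ℤ),
      IsUnit P ∧ IsUnit Q ∧ Antitone d ∧
        A = P.map Polynomial.toLaurent * Matrix.diagonal (fun i => LaurentPolynomial.T (d i)) *
          (Q.map Polynomial.toLaurent).map LaurentPolynomial.invert := by
  obtain ⟨A', hAA', hA'A⟩ : ∃ A', A * A' = 1 ∧ A' * A = 1 := by
    obtain ⟨u, rfl⟩ := hA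
    exact ⟨↑u⁻¹, u.mul_inv, u.inv_mul⟩
  obtain ⟨P, Q, d, hP, hQ, hEq⟩ := exists_factorization A A' hAA' hA'A
  obtain ⟨σ, hσ⟩ : ∃ σ : Equiv.Perm (Fin n), Monotone ((fun i => - d i) ∘ σ) :=
    ⟨Tuple.sort (fun i => - d i), Tuple.monotone_sort _⟩
  refine ⟨P.submatrix (Equiv.refl _) σ, Q.submatrix σ (Equiv.refl _), d ∘ σ, ?_, ?_, ?_, ?_⟩
  · exact (Matrix.isUnit_submatrix_equiv (Equiv.refl _) σ).2 hP
  · exact (Matrix.isUnit_submatrix_equiv σ (Equiv.refl _)).2 hQ
  · intro i j hij
    have := hσ hij
    simp only [Function.comp_apply, neg_le_neg_iff] at this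
    exact this
  · have h1 : (P.submatrix (Equiv.refl _) σ).map toLaurent =
        (P.map toLaurent).submatrix (Equiv.refl _) σ := (Matrix.submatrix_map _ _ _ _).symm
    have h2 : ((Q.submatrix σ (Equiv.refl _)).map toLaurent).map LaurentPolynomial.invert =
        ((Q.map toLaurent).map LaurentPolynomial.invert).submatrix σ (Equiv.refl _) := by
      rw [← Matrix.submatrix_map, ← Matrix.submatrix_map]
    have h3 : Matrix.diagonal (fun i => (LaurentPolynomial.T ((d ∘ σ) i) : LaurentPolynomial k)) =
        (Matrix.diagonal (fun i => (LaurentPolynomial.T (d i) : LaurentPolynomial k))).submatrix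
          σ σ := by
      rw [Matrix.submatrix_diagonal_equiv]
      rfl
    rw [h1, h2, h3, Matrix.submatrix_mul_equiv, Matrix.submatrix_mul_equiv, ← hEq]
    rfl

end Groth.Agent.H36.Birkhoff
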