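import Mathlib
import Groth.Agent.H39.GenericSmooth

/-!
# Generic smoothness, algebraic form

A finite type algebra `B` over a Noetherian domain `A` with perfect fraction field, all of whose
local rings are regular, is smooth over `A` after inverting a nonzero element of `A`.
-/

set_option autoImplicit false
set_option linter.unusedSectionVars false
set_option linter.unusedVariables false
set_option linter.style.haveILetI false

universe u

namespace Groth.Agent.H36.GenSm

/-- generic smoothness, algebraic form -/
theorem exists_smooth_away (A B : Type u) [CommRing A] [IsDomain A] [IsNoetherianRing A]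
    [CommRing B] [Algebra A B] [Algebra.FiniteType A B] (K : Type u) [Field K] [Algebra A K]
    [IsFractionRing A K] [PerfectField K]
    (hreg : ∀ (q : Ideal B) [q.IsPrime], IsRegularLocalRing (Localization.AtPrime q)) :
    ∃ a : A, a ≠ 0 ∧ Algebra.Smooth A (Localization.Away (algebraMap A B a)) := by
  haveI : Algebra.FinitePresentation A B :=
    Algebra.FinitePresentation.of_finiteType.mp inferInstance
  have hopen : IsOpen (Algebra.smoothLocus A B) := Algebra.isOpen_smoothLocus
  obtain ⟨I, hI⟩ := (PrimeSpectrum.isClosed_iff_zeroLocus_ideal _).mp hopen.isClosed_compl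
  by_cases hcomap : I.comap (algebraMap A B) = ⊥
  · exfalso
    let M : Submonoid B := Algebra.algebraMapSubmonoid B (nonZeroDivisors A)
    have hdisj : Disjoint (I : Set B) (M : Set B) := by
      rw [Set.disjoint_left]
      rintro _ hmem ⟨a, ha, rfl⟩
      have h1 : a ∈ I.comap (algebraMap A B) := hmem
      rw [hcomap, Ideal.mem_bot] at h1
      exact nonZeroDivisors.ne_zero ha h1
    obtain ⟨q, hq, hIq, hqM⟩ := Ideal.exists_le_prime_disjoint I M hdisj
    have hunder : q.under A = ⊥ := by
      rw [eq_bot_iff]
      intro a ha
      rw [Ideal.mem_bot]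
      by_contra hne
      exact Set.disjoint_left.mp hqM ha ⟨a, mem_nonZeroDivisors_of_ne_zero hne, rfl⟩
    haveI := hreg q
    have hsm := Groth.Agent.H39.GenericSmooth.isSmoothAt_of_isRegularLocalRing_of_under_eq_bot
      A B K q hunder
    have h1 : (⟨q, hq⟩ : PrimeSpectrum B) ∈ (Algebra.smoothLocus A B)ᶜ := by
      rw [hI]
      exact hIq
    exact h1 hsm
  · obtain ⟨a, ha, ha0⟩ := Submodule.exists_mem_ne_zero_of_ne_bot hcomap
    refine ⟨a, ha0, ?_⟩
    rw [← Algebra.basicOpen_subset_smoothLocus_iff_smooth]
    intro p hp
    by_contra hns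
    have h1 : p ∈ PrimeSpectrum.zeroLocus (I : Set B) := by
      rw [← hI]
      exact hns
    exact hp (h1 ha)

end Groth.Agent.H36.GenSm
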