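import Mathlib
import Groth.Agent.H36.GenSmoothAlg
import Groth.Agent.H23.RegSmooth2

/-!
# Bertini for base point free linear systems in characteristic zero: the affine case

For a smooth algebra `T` over an algebraically closed field `k` of characteristic zero and
`g_1, …, g_m ∈ T` generating the unit ideal, the general member `Σ c_t g_t` has smooth quotient.
The proof applies generic smoothness to the incidence algebra `T[c]/(Σ c_t g_t)` over `k[c]`.
-/

set_option autoImplicit false
set_option linter.unusedSectionVars false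
set_option linter.unusedVariables false
set_option linter.style.haveILetI false

universe u

namespace Groth.Agent.H36.Bpf

open MvPolynomial

attribute [local instance] MvPolynomial.algebraMvPolynomial

section Inc

variable (T : Type u) [CommRing T] {m : ℕ} (g : Fin m → T)

/-- the universal member `Σ c_t g_t` of the linear system -/
noncomputable def Funiv : MvPolynomial (Fin m) T := ∑ t, X t * C (g t)

/-- the incidence algebra `T[c]/(Σ c_t g_t)` -/
abbrev Inc : Type u := MvPolynomial (Fin m) T ⧸ Ideal.span {Funiv T g}

theorem aeval_Funiv {C' : Type*} [CommRing C'] [Algebra T C'] (x : Fin m → C') :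
    aeval x (Funiv T g) = ∑ t, x t * algebraMap T C' (g t) := by
  unfold Funiv
  rw [map_sum]
  refine Finset.sum_congr rfl fun t _ => ?_
  rw [map_mul, aeval_X, aeval_C]

/-- the incidence algebra of a base point free linear system is formally smooth over `T` -/
theorem formallySmooth_inc (hg : Ideal.span (Set.range g) = ⊤) :
    Algebra.FormallySmooth T (Inc T g) := by
  obtain ⟨u, hu⟩ : ∃ u : Fin m → T, ∑ t, u t * g t = 1 := by
    have h1 : (1 : T) ∈ Ideal.span (Set.range g) := by
      rw [hg]
      trivial
    exact Ideal.mem_span_range_iff_exists_fun.mp h1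
  refine Algebra.FormallySmooth.of_comp_surjective fun C' _ _ N hN f => ?_
  let x : Fin m → C' := fun t =>
    Function.surjInv Ideal.Quotient.mk_surjective (f (Ideal.Quotient.mk _ (X t)))
  have hx : ∀ t, Ideal.Quotient.mk N (x t) = f (Ideal.Quotient.mk _ (X t)) := fun t =>
    Function.surjInv_eq _ _
  obtain ⟨ε, hεdef⟩ : ∃ ε : C', ε = ∑ t, x t * algebraMap T C' (g t) := ⟨_, rfl⟩
  have hε : Ideal.Quotient.mk N ε = 0 := by
    have h1 : f (Ideal.Quotient.mk _ (Funiv T g)) = 0 := by
      rw [Ideal.Quotient.eq_zero_iff_mem.mpr (Ideal.mem_span_singleton_self _), map_zero]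
    have h3 : Ideal.Quotient.mk (Ideal.span {Funiv T g}) (Funiv T g) =
        ∑ t, Ideal.Quotient.mk (Ideal.span {Funiv T g}) (X t) *
          algebraMap T (Inc T g) (g t) := by
      calc Ideal.Quotient.mk (Ideal.span {Funiv T g}) (Funiv T g)
          = Ideal.Quotient.mk (Ideal.span {Funiv T g}) (∑ t, X t * C (g t)) := rfl
        _ = _ := by
          rw [map_sum]
          refine Finset.sum_congr rfl fun t _ => ?_
          rw [map_mul]
          rfl
    rw [← h1, hεdef, map_sum, h3, map_sum]
    refine Finset.sum_congr rfl fun t _ => ?_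
    rw [map_mul, map_mul, hx, AlgHom.commutes]
    rfl
  let x' : Fin m → C' := fun t => x t - ε * algebraMap T C' (u t)
  have hF : aeval x' (Funiv T g) = 0 := by
    rw [aeval_Funiv]
    have h1 : ∑ t, x' t * algebraMap T C' (g t) =
        ε - ε * algebraMap T C' (∑ t, u t * g t) := by
      have h2 : ∀ t, x' t * algebraMap T C' (g t) =
          x t * algebraMap T C' (g t) - ε * algebraMap T C' (u t * g t) := fun t => by
        rw [map_mul]
        change (x t - ε * algebraMap T C' (u t)) * algebraMap T C' (g t) = _
        ring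
      rw [Finset.sum_congr rfl (fun t _ => h2 t), Finset.sum_sub_distrib, ← Finset.mul_sum,
        ← map_sum, ← hεdef]
    rw [h1, hu, map_one, mul_one, sub_self]
  let f' : Inc T g →ₐ[T] C' := Ideal.Quotient.liftₐ (Ideal.span {Funiv T g}) (aeval x') (by
    intro p hp
    rw [Ideal.mem_span_singleton] at hp
    obtain ⟨r, rfl⟩ := hp
    rw [map_mul, hF, zero_mul])
  refine ⟨f', ?_⟩
  apply Ideal.Quotient.algHom_ext
  apply MvPolynomial.algHom_ext
  intro t
  change Ideal.Quotient.mk N (f' (Ideal.Quotient.mk _ (X t))) = f (Ideal.Quotient.mk _ (X t))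
  have h1 : f' (Ideal.Quotient.mk _ (X t)) = x' t := by
    change aeval x' (X t) = x' t
    rw [aeval_X]
  rw [h1, ← hx]
  change Ideal.Quotient.mk N (x t - ε * algebraMap T C' (u t)) = _
  rw [map_sub, map_mul, hε, zero_mul, sub_zero]

/-- the incidence algebra of a base point free linear system is smooth over `T` -/
theorem smooth_inc (hg : Ideal.span (Set.range g) = ⊤) : Algebra.Smooth T (Inc T g) :=
  ⟨formallySmooth_inc T g hg,
    Algebra.FinitePresentation.quotient (Submodule.fg_span_singleton (Funiv T g))⟩

end Inc

section Main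

variable (k T : Type u) [Field k] [CommRing T] [Algebra k T] {m : ℕ} (g : Fin m → T)

/-- generic smoothness of the incidence algebra over the parameter space -/
theorem exists_smooth_away_inc [IsAlgClosed k] [CharZero k] [Algebra.Smooth k T]
    (hg : Ideal.span (Set.range g) = ⊤) :
    ∃ a : MvPolynomial (Fin m) k, a ≠ 0 ∧ Algebra.Smooth (MvPolynomial (Fin m) k)
      (Localization.Away (algebraMap (MvPolynomial (Fin m) k) (Inc T g) a)) := by
  haveI : Algebra.Smooth T (Inc T g) := smooth_inc T g hg
  haveI : Algebra.Smooth k (Inc T g) := Algebra.Smooth.comp k T (Inc T g)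
  haveI : Algebra.FiniteType k (Inc T g) := inferInstance
  haveI : Algebra.FiniteType (MvPolynomial (Fin m) k) (Inc T g) :=
    Algebra.FiniteType.of_restrictScalars_finiteType k _ _
  haveI : IsNoetherianRing (Inc T g) := Algebra.FiniteType.isNoetherianRing k (Inc T g)
  haveI : IsRegularRing (Inc T g) :=
    (Groth.Agent.H23.RegSmooth.isRegularRing_iff_smooth k (Inc T g)).mpr inferInstance
  exact Groth.Agent.H36.GenSm.exists_smooth_away (MvPolynomial (Fin m) k) (Inc T g)
    (FractionRing (MvPolynomial (Fin m) k)) (fun q _ => isRegularRing_iff.mp inferInstance q)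

/-- the evaluation map from the incidence algebra to a member of the linear system -/
noncomputable def rho1 (c : Fin m → k) :
    Inc T g →ₐ[T] (T ⧸ Ideal.span {∑ t, algebraMap k T (c t) * g t}) :=
  Ideal.Quotient.liftₐ (Ideal.span {Funiv T g})
    (aeval (fun t => algebraMap k (T ⧸ Ideal.span {∑ t, algebraMap k T (c t) * g t}) (c t))) (by
    intro p hp
    rw [Ideal.mem_span_singleton] at hp
    obtain ⟨r, rfl⟩ := hp
    rw [map_mul, aeval_Funiv]
    have h1 : ∑ t, algebraMap k (T ⧸ Ideal.span {∑ t, algebraMap k T (c t) * g t}) (c t) *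
        algebraMap T (T ⧸ Ideal.span {∑ t, algebraMap k T (c t) * g t}) (g t) =
        Ideal.Quotient.mk (Ideal.span {∑ t, algebraMap k T (c t) * g t})
          (∑ t, algebraMap k T (c t) * g t) := by
      rw [map_sum]
      refine Finset.sum_congr rfl fun t _ => ?_
      rw [map_mul]
      rfl
    rw [h1, Ideal.Quotient.eq_zero_iff_mem.mpr (Ideal.mem_span_singleton_self _), zero_mul])

theorem rho1_mk (c : Fin m → k) (p : MvPolynomial (Fin m) T) :
    rho1 k T g c (Ideal.Quotient.mk _ p) =
      aeval (fun t => algebraMap k (T ⧸ Ideal.span {∑ t, algebraMap k T (c t) * g t}) (c t)) p :=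
  rfl

theorem rho1_algebraMap (c : Fin m → k) (p : MvPolynomial (Fin m) k) :
    rho1 k T g c (algebraMap (MvPolynomial (Fin m) k) (Inc T g) p) =
      algebraMap k (T ⧸ Ideal.span {∑ t, algebraMap k T (c t) * g t}) (eval c p) := by
  have h1 : algebraMap (MvPolynomial (Fin m) k) (Inc T g) p =
      Ideal.Quotient.mk _ (map (algebraMap k T) p) := rfl
  rw [h1, rho1_mk, aeval_map_algebraMap]
  have h2 := aeval_algebraMap_apply (A := k)
    (B := T ⧸ Ideal.span {∑ t, algebraMap k T (c t) * g t}) c p
  rw [← coe_aeval_eq_eval]
  exact h2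

/-- the members of the linear system over the locus where the incidence algebra is smooth over
the parameter space are formally smooth -/
theorem formallySmooth_fibre (a : MvPolynomial (Fin m) k)
    [Algebra.FormallySmooth (MvPolynomial (Fin m) k)
      (Localization.Away (algebraMap (MvPolynomial (Fin m) k) (Inc T g) a))]
    (c : Fin m → k) (hc : eval c a ≠ 0) :
    Algebra.FormallySmooth k (T ⧸ Ideal.span {∑ t, algebraMap k T (c t) * g t}) := by
  -- the evaluation map on the localized incidence algebra
  have hunit : IsUnit ((rho1 k T g c).toRingHom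
      (algebraMap (MvPolynomial (Fin m) k) (Inc T g) a)) := by
    change IsUnit (rho1 k T g c (algebraMap (MvPolynomial (Fin m) k) (Inc T g) a))
    rw [rho1_algebraMap]
    exact (IsUnit.mk0 _ hc).map _
  let ρ : Localization.Away (algebraMap (MvPolynomial (Fin m) k) (Inc T g) a) →+*
      (T ⧸ Ideal.span {∑ t, algebraMap k T (c t) * g t}) :=
    IsLocalization.Away.lift
      (S := Localization.Away (algebraMap (MvPolynomial (Fin m) k) (Inc T g) a))
      (algebraMap (MvPolynomial (Fin m) k) (Inc T g) a) (g := (rho1 k T g c).toRingHom) hunit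
  have hρ : ∀ b : Inc T g, ρ (algebraMap (Inc T g) _ b) = rho1 k T g c b := fun b =>
    IsLocalization.Away.lift_eq _ hunit b
  have hρA : ∀ p : MvPolynomial (Fin m) k,
      ρ (algebraMap (MvPolynomial (Fin m) k) _ p) =
        algebraMap k (T ⧸ Ideal.span {∑ t, algebraMap k T (c t) * g t}) (eval c p) := by
    intro p
    rw [IsScalarTower.algebraMap_apply (MvPolynomial (Fin m) k) (Inc T g)
      (Localization.Away (algebraMap (MvPolynomial (Fin m) k) (Inc T g) a)), hρ, rho1_algebraMap]
  have hρT : ∀ x : T, ρ (algebraMap T _ x) =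
      Ideal.Quotient.mk (Ideal.span {∑ t, algebraMap k T (c t) * g t}) x := by
    intro x
    rw [IsScalarTower.algebraMap_apply T (Inc T g)
      (Localization.Away (algebraMap (MvPolynomial (Fin m) k) (Inc T g) a)), hρ, AlgHom.commutes]
    rfl
  refine Algebra.FormallySmooth.of_comp_surjective fun C' _ _ N hN φb => ?_
  letI algAC : Algebra (MvPolynomial (Fin m) k) C' :=
    ((algebraMap k C').comp (eval c : MvPolynomial (Fin m) k →+* k)).toAlgebra
  have halgAC : ∀ p : MvPolynomial (Fin m) k,
      algebraMap (MvPolynomial (Fin m) k) C' p = algebraMap k C' (eval c p) := fun p => rfl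
  -- the composite as a map of algebras over the parameter ring
  let θ : Localization.Away (algebraMap (MvPolynomial (Fin m) k) (Inc T g) a) →ₐ[MvPolynomial (Fin m) k]
      C' ⧸ N :=
    { toRingHom := (φb : _ →+* C' ⧸ N).comp ρ
      commutes' := fun p => by
        change φb (ρ (algebraMap (MvPolynomial (Fin m) k) _ p)) = _
        rw [hρA, AlgHom.commutes]
        rfl }
  obtain ⟨ψ, hψ⟩ := Algebra.FormallySmooth.comp_surjective (MvPolynomial (Fin m) k)
    (Localization.Away (algebraMap (MvPolynomial (Fin m) k) (Inc T g) a)) N hN θ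
  have hψ' : ∀ b, Ideal.Quotient.mk N (ψ b) = φb (ρ b) := fun b => AlgHom.congr_fun hψ b
  have hψk : ∀ x : k, ψ (algebraMap k _ x) = algebraMap k C' x := by
    intro x
    rw [IsScalarTower.algebraMap_apply k (MvPolynomial (Fin m) k)
      (Localization.Away (algebraMap (MvPolynomial (Fin m) k) (Inc T g) a)), AlgHom.commutes, halgAC]
    simp
  -- the candidate lift
  let χ : T →ₐ[k] C' :=
    { toRingHom := (ψ : _ →+* C').comp (algebraMap T _)
      commutes' := fun x => by
        change ψ (algebraMap T _ (algebraMap k T x)) = _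
        rw [← IsScalarTower.algebraMap_apply k T
          (Localization.Away (algebraMap (MvPolynomial (Fin m) k) (Inc T g) a)), hψk] }
  have hχ : ∀ x : T, χ x = ψ (algebraMap T _ x) := fun x => rfl
  have hχh : χ (∑ t, algebraMap k T (c t) * g t) = 0 := by
    have h0 : algebraMap (Inc T g)
        (Localization.Away (algebraMap (MvPolynomial (Fin m) k) (Inc T g) a))
        (Ideal.Quotient.mk _ (Funiv T g)) = 0 := by
      rw [Ideal.Quotient.eq_zero_iff_mem.mpr (Ideal.mem_span_singleton_self _), map_zero]
    have h1 : Ideal.Quotient.mk (Ideal.span {Funiv T g}) (Funiv T g) =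
        ∑ t, algebraMap (MvPolynomial (Fin m) k) (Inc T g) (X t) *
          algebraMap T (Inc T g) (g t) := by
      calc Ideal.Quotient.mk (Ideal.span {Funiv T g}) (Funiv T g)
          = Ideal.Quotient.mk (Ideal.span {Funiv T g}) (∑ t, X t * C (g t)) := rfl
        _ = _ := by
          rw [map_sum]
          refine Finset.sum_congr rfl fun t _ => ?_
          rw [map_mul]
          congr 1
          change _ = Ideal.Quotient.mk _ (map (algebraMap k T) (X t))
          rw [map_X]
    rw [h1, map_sum] at h0
    have h2 := congrArg ψ h0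
    rw [map_zero, map_sum] at h2
    rw [map_sum, ← h2]
    refine Finset.sum_congr rfl fun t _ => ?_
    rw [map_mul, map_mul, map_mul, hχ, hχ, ← IsScalarTower.algebraMap_apply k T
        (Localization.Away (algebraMap (MvPolynomial (Fin m) k) (Inc T g) a)), hψk,
      ← IsScalarTower.algebraMap_apply (MvPolynomial (Fin m) k) (Inc T g)
        (Localization.Away (algebraMap (MvPolynomial (Fin m) k) (Inc T g) a)), AlgHom.commutes,
      halgAC, eval_X, ← IsScalarTower.algebraMap_apply T (Inc T g)
        (Localization.Away (algebraMap (MvPolynomial (Fin m) k) (Inc T g) a))]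
  let φ : (T ⧸ Ideal.span {∑ t, algebraMap k T (c t) * g t}) →ₐ[k] C' :=
    Ideal.Quotient.liftₐ (Ideal.span {∑ t, algebraMap k T (c t) * g t}) χ (by
      intro x hx
      rw [Ideal.mem_span_singleton] at hx
      obtain ⟨r, rfl⟩ := hx
      rw [map_mul, hχh, zero_mul])
  refine ⟨φ, ?_⟩
  apply Ideal.Quotient.algHom_ext
  apply AlgHom.ext
  intro x
  change Ideal.Quotient.mk N (χ x) = φb (Ideal.Quotient.mk _ x)
  rw [hχ, hψ', hρT]

/-- **Bertini in characteristic zero, affine form**: the general member of a base point free
linear system on a smooth affine variety is smooth. -/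
theorem affine_bpf_bertini [IsAlgClosed k] [CharZero k] [Algebra.Smooth k T]
    (hg : Ideal.span (Set.range g) = ⊤) :
    ∃ q : MvPolynomial (Fin m) k, q ≠ 0 ∧ ∀ c : Fin m → k, eval c q ≠ 0 →
      Algebra.Smooth k (T ⧸ Ideal.span {∑ t, algebraMap k T (c t) * g t}) := by
  obtain ⟨a, ha0, hsm⟩ := exists_smooth_away_inc k T g hg
  refine ⟨a, ha0, fun c hc => ⟨?_, ?_⟩⟩
  · haveI := hsm.formallySmooth
    exact formallySmooth_fibre k T g a c hc
  · exact Algebra.FinitePresentation.quotient (Submodule.fg_span_singleton _)

end Main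

end Groth.Agent.H36.Bpf
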