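import Mathlib

/-!
# The pullback of a closed subscheme along a morphism, on affine charts

For `ι : X ⟶ Y`, an ideal sheaf `I` on `Y` and an affine open `U` of `Y` with affine preimage,
the kernel of `Γ(X, ι⁻¹U) → Γ(X ×_Y V(I), …)` is the extension of `I(U)`.
-/

set_option autoImplicit false
set_option linter.unusedSectionVars false
set_option linter.unusedVariables false
set_option linter.style.haveILetI false

namespace Groth.Agent.H36.HypPull

universe u

open AlgebraicGeometry CategoryTheory CategoryTheory.Limits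

variable {X Y : Scheme.{u}} (ι : X ⟶ Y) (I : Y.IdealSheafData) (U : Y.affineOpens)

theorem map_le_ker :
    (I.ideal U).map (ι.app U.1).hom ≤
      RingHom.ker ((pullback.fst ι I.subschemeι).app (ι ⁻¹ᵁ U.1)).hom := by
  rw [Ideal.map_le_iff_le_comap]
  intro b hb
  rw [Ideal.mem_comap, RingHom.mem_ker]
  have h2 : (I.subschemeι.app U.1) b = 0 := by
    have := I.ker_subschemeι_app U
    rw [← RingHom.mem_ker, this]
    exact hb
  have e2 := Scheme.Hom.congr_app (pullback.condition (f := ι) (g := I.subschemeι)) U.1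
  have e3 : ((pullback.fst ι I.subschemeι ≫ ι).app U.1) b =
      ((pullback.fst ι I.subschemeι).app (ι ⁻¹ᵁ U.1)) ((ι.app U.1) b) := rfl
  have e4 : ((pullback.snd ι I.subschemeι ≫ I.subschemeι).app U.1) b = 0 := by
    have : ((pullback.snd ι I.subschemeι ≫ I.subschemeι).app U.1) b =
      ((pullback.snd ι I.subschemeι).app (I.subschemeι ⁻¹ᵁ U.1)) ((I.subschemeι.app U.1) b) := rfl
    rw [this, h2]
    exact map_zero _
  have h1 : ((pullback.fst ι I.subschemeι).app (ι ⁻¹ᵁ U.1)) ((ι.app U.1) b) = 0 := by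
    rw [← e3, e2, ConcreteCategory.comp_apply, e4]
    exact map_zero _
  exact h1

variable (hV : IsAffineOpen (ι ⁻¹ᵁ U.1))

/-- the quotient of the sections over the preimage chart by the extended ideal -/
abbrev QRing : Type u := Γ(X, ι ⁻¹ᵁ U.1) ⧸ (I.ideal U).map (ι.app U.1).hom

/-- the closed subscheme of the chart cut out by the extended ideal, mapped to `X` -/
noncomputable def tX : Spec (.of (QRing ι I U)) ⟶ X :=
  Spec.map (CommRingCat.ofHom (Ideal.Quotient.mk ((I.ideal U).map (ι.app U.1).hom))) ≫ hV.fromSpec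

/-- the same scheme mapped to the closed subscheme of `Y` -/
noncomputable def tZ : Spec (.of (QRing ι I U)) ⟶ I.subscheme :=
  Spec.map (CommRingCat.ofHom (Ideal.quotientMap ((I.ideal U).map (ι.app U.1).hom)
    (ι.app U.1).hom Ideal.le_comap_map)) ≫ I.subschemeCover.f U

theorem tX_comp : tX ι I U hV ≫ ι = tZ ι I U ≫ I.subschemeι := by
  have hU : IsAffineOpen U.1 := U.2
  have h1 : I.subschemeCover.f U ≫ I.subschemeι =
      Spec.map (CommRingCat.ofHom (Ideal.Quotient.mk (I.ideal U))) ≫ hU.fromSpec :=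
    (I.subschemeCover_map_subschemeι U).trans (I.glueDataObjι_ι U)
  have h2 : hV.fromSpec ≫ ι = Spec.map (ι.appLE U.1 (ι ⁻¹ᵁ U.1) le_rfl) ≫ hU.fromSpec :=
    (IsAffineOpen.SpecMap_appLE_fromSpec ι hU hV le_rfl).symm
  have e1 : tX ι I U hV ≫ ι =
      Spec.map (CommRingCat.ofHom (Ideal.Quotient.mk ((I.ideal U).map (ι.app U.1).hom))) ≫
        Spec.map (ι.appLE U.1 (ι ⁻¹ᵁ U.1) le_rfl) ≫ hU.fromSpec :=
    (Category.assoc _ _ _).trans (congrArg (_ ≫ ·) h2)
  have e2 : tZ ι I U ≫ I.subschemeι =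
      Spec.map (CommRingCat.ofHom (Ideal.quotientMap ((I.ideal U).map (ι.app U.1).hom)
        (ι.app U.1).hom Ideal.le_comap_map)) ≫
        Spec.map (CommRingCat.ofHom (Ideal.Quotient.mk (I.ideal U))) ≫ hU.fromSpec :=
    (Category.assoc _ _ _).trans (congrArg (_ ≫ ·) h1)
  rw [e1, e2, ← Category.assoc, ← Category.assoc, ← Spec.map_comp, ← Spec.map_comp]
  congr 2
  rw [← Scheme.Hom.app_eq_appLE]
  ext b
  rfl

/-- the induced map to the fibre product -/
noncomputable def tW : Spec (.of (QRing ι I U)) ⟶ pullback ι I.subschemeι :=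
  pullback.lift (tX ι I U hV) (tZ ι I U) (tX_comp ι I U hV)

theorem tW_fst : tW ι I U hV ≫ pullback.fst ι I.subschemeι = tX ι I U hV :=
  pullback.lift_fst _ _ _

theorem tX_app_eq_zero (a : Γ(X, ι ⁻¹ᵁ U.1)) (ha : ((tX ι I U hV).app (ι ⁻¹ᵁ U.1)) a = 0) :
    a ∈ (I.ideal U).map (ι.app U.1).hom := by
  let q := Ideal.Quotient.mk ((I.ideal U).map (ι.app U.1).hom)
  let f := Spec.map (CommRingCat.ofHom q)
  have h1 : ((tX ι I U hV).app (ι ⁻¹ᵁ U.1)) a =
      (f.app (hV.fromSpec ⁻¹ᵁ (ι ⁻¹ᵁ U.1))) ((hV.fromSpec.app (ι ⁻¹ᵁ U.1)) a) := rfl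
  have h2 : (hV.fromSpec.app (ι ⁻¹ᵁ U.1)) a =
      ((Spec Γ(X, ι ⁻¹ᵁ U.1)).presheaf.map (eqToHom hV.fromSpec_preimage_self).op)
        ((Scheme.ΓSpecIso Γ(X, ι ⁻¹ᵁ U.1)).inv a) := by
    rw [hV.fromSpec_app_self]
    rfl
  have h3 := ConcreteCategory.congr_hom
    (f.naturality (eqToHom hV.fromSpec_preimage_self).op) ((Scheme.ΓSpecIso Γ(X, ι ⁻¹ᵁ U.1)).inv a)
  have h4 := ConcreteCategory.congr_hom
    (Scheme.ΓSpecIso_inv_naturality (CommRingCat.ofHom q)) a
  rw [ConcreteCategory.comp_apply, ConcreteCategory.comp_apply] at h3 h4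
  let g1 := (Spec (CommRingCat.of (QRing ι I U))).presheaf.map
      ((TopologicalSpace.Opens.map f.base).map (eqToHom hV.fromSpec_preimage_self).op.unop).op
  let g2 := (Scheme.ΓSpecIso (CommRingCat.of (QRing ι I U))).inv
  have e : ((tX ι I U hV).app (ι ⁻¹ᵁ U.1)) a = g1 (g2 (q a)) :=
    h1.trans ((congrArg _ h2).trans (h3.trans (congrArg _ h4.symm)))
  have ha' : g1 (g2 (q a)) = 0 := e.symm.trans ha
  have inj1 : Function.Injective g1 := (ConcreteCategory.bijective_of_isIso g1).1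
  have inj2 : Function.Injective g2 := (ConcreteCategory.bijective_of_isIso g2).1
  have h5 : g2 (q a) = 0 := inj1 (ha'.trans (map_zero g1.hom).symm)
  have h6 : q a = 0 := inj2 (h5.trans (map_zero g2.hom).symm)
  exact Ideal.Quotient.eq_zero_iff_mem.mp h6

include hV in
theorem ker_le_map :
    RingHom.ker ((pullback.fst ι I.subschemeι).app (ι ⁻¹ᵁ U.1)).hom ≤
      (I.ideal U).map (ι.app U.1).hom := by
  intro a ha
  rw [RingHom.mem_ker] at ha
  apply tX_app_eq_zero ι I U hV a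
  have e := Scheme.Hom.congr_app (tW_fst ι I U hV).symm (ι ⁻¹ᵁ U.1)
  have h1 : ((tW ι I U hV ≫ pullback.fst ι I.subschemeι).app (ι ⁻¹ᵁ U.1)) a = 0 := by
    have : ((tW ι I U hV ≫ pullback.fst ι I.subschemeι).app (ι ⁻¹ᵁ U.1)) a =
        ((tW ι I U hV).app ((pullback.fst ι I.subschemeι) ⁻¹ᵁ (ι ⁻¹ᵁ U.1)))
          (((pullback.fst ι I.subschemeι).app (ι ⁻¹ᵁ U.1)) a) := rfl
    rw [this]
    exact (congrArg _ ha).trans (map_zero _)
  rw [e, ConcreteCategory.comp_apply, h1]
  exact map_zero _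

include hV in
/-- the kernel of restriction to the fibre product is the extended ideal -/
theorem ker_fst_app :
    RingHom.ker ((pullback.fst ι I.subschemeι).app (ι ⁻¹ᵁ U.1)).hom =
      (I.ideal U).map (ι.app U.1).hom :=
  le_antisymm (ker_le_map ι I U hV) (map_le_ker ι I U)

end Groth.Agent.H36.HypPull
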