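import Mathlib
import Groth.Agent.H54.ZeroChart
import Groth.Agent.H18.PUP.TwistOne
import Groth.Agent.H18.SectionHom
import Groth.Agent.H19.ProjSec
import Groth.Agent.H36.BertiniProjB

/-!
# The zero scheme of a linear form on projective space, on the standard charts
-/

set_option autoImplicit false
set_option linter.unusedSectionVars false
set_option linter.unusedVariables false
set_option linter.style.haveILetI false

namespace Groth.Agent.H36.HypZero

universe u

open AlgebraicGeometry CategoryTheory HomogeneousLocalization Groth.Agent.H54.PL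
open Groth.Agent.H18 Groth.Agent.H18.PUP Groth.Agent.H36.BertiniProj

/-- the ideal of the zero scheme on an open where the module has a basis -/
theorem zeroIdealOn_eq_span_of_basis {X : Scheme.{u}} (L : X.Modules)
    (s : Coh.structureModule X ⟶ L) (U : X.Opens) (σ : Γ(L, U)) (hσ : IsBasisOn L U σ)
    (f : Γ(X, U)) (hs : Groth.Agent.H54.ZeroIdeal.sval L s U = f • σ) :
    (show Ideal Γ(X, U) from PicF2.zeroIdealOn L s U) = Ideal.span {f} := by
  have hb := hσ U le_rfl
  have e : mres L (le_refl U) σ = σ := mres_self L le_rfl σ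
  ext a
  rw [Groth.Agent.H54.ZeroIdeal.mem_zeroIdealOn, Ideal.mem_span_singleton']
  constructor
  · intro h
    obtain ⟨b, hb'⟩ := h σ
    refine ⟨b, ?_⟩
    apply hb.1
    change (b * f) • mres L (le_refl U) σ = a • mres L (le_refl U) σ
    rw [e, hb', hs, mul_smul]
  · rintro ⟨b, rfl⟩ m
    obtain ⟨r, hr⟩ := hb.2 m
    have hr' : r • σ = m := by
      rw [← hr]
      change r • σ = r • mres L (le_refl U) σ
      rw [e]
    refine ⟨b * r, ?_⟩
    rw [hs, ← hr', ← mul_smul, ← mul_smul]
    congr 1
    ring

variable (k : Type u) [Field k] (n : ℕ)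

/-- the section of `O(1)` given by the linear form with coefficients `c` -/
noncomputable def secOf (c : Fin (n + 1) → k) :
    Coh.structureModule (CohB1.ProjSpace n k) ⟶ Twist.twistProjSpace n k 1 :=
  sectionHom (Twist.twistProjSpace n k 1) (gs (CohB1.polyGrading n k) (lin_mem k n c))

/-- the function `lin c / X j` on the chart `D₊(X j)` -/
noncomputable def fracLin (c : Fin (n + 1) → k) (j : Fin (n + 1)) :
    Γ(Proj (CohB1.polyGrading n k), Proj.basicOpen (CohB1.polyGrading n k)
      (MvPolynomial.X j : MvPolynomial (Fin (n + 1)) k)) :=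
  fracO (CohB1.polyGrading n k) (lin_mem k n c) (X_mem k n j) _ (fun x hx => hx)

theorem secVal_secOf (c : Fin (n + 1) → k) (j : Fin (n + 1)) :
    Groth.Agent.H54.ZeroIdeal.sval (Twist.twistProjSpace n k 1) (secOf k n c)
      (Proj.basicOpen (CohB1.polyGrading n k) (MvPolynomial.X j : MvPolynomial (Fin (n + 1)) k)) =
    fracLin k n c j • mres (Twist.twist (CohB1.polyGrading n k) 1) le_top
      (gs (CohB1.polyGrading n k) (X_mem k n j)) := by
  exact (sectionHom_app_one (Twist.twist (CohB1.polyGrading n k) 1) _ _).trans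
    (fracO_smul_gs (CohB1.polyGrading n k) (lin_mem k n c) (X_mem k n j) _ (fun x hx => hx)).symm

/-- on the chart `D₊(X j)` the ideal of the zero scheme is generated by `lin c / X j` -/
theorem zeroIdealOn_chart (c : Fin (n + 1) → k) (j : Fin (n + 1)) :
    (show Ideal Γ(Proj (CohB1.polyGrading n k), Proj.basicOpen (CohB1.polyGrading n k)
      (MvPolynomial.X j : MvPolynomial (Fin (n + 1)) k)) from
      PicF2.zeroIdealOn (Twist.twistProjSpace n k 1) (secOf k n c)
        (Proj.basicOpen (CohB1.polyGrading n k)
          (MvPolynomial.X j : MvPolynomial (Fin (n + 1)) k))) =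
      Ideal.span {fracLin k n c j} :=
  zeroIdealOn_eq_span_of_basis (X := CohB1.ProjSpace n k) (Twist.twistProjSpace n k 1)
    (secOf k n c) _ _ (isBasisOn_gs (CohB1.polyGrading n k) (X_mem k n j)) (fracLin k n c j)
    (secVal_secOf k n c j)

theorem awayToSection_awayLin (c : Fin (n + 1) → k) (j : Fin (n + 1)) :
    (Proj.awayToSection (CohB1.polyGrading n k)
      (MvPolynomial.X j : MvPolynomial (Fin (n + 1)) k)).hom (awayLin k n j c) =
      fracLin k n c j :=
  Subtype.ext (funext fun x => rfl)

/-- on the chart `D₊(X j)` the ideal sheaf of the zero scheme is generated by `lin c / X j` -/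
theorem zeroScheme_ideal_chart (c : Fin (n + 1) → k) (j : Fin (n + 1)) :
    (PicF2.zeroScheme (Twist.twistProjSpace n k 1) (secOf k n c)).ideal
      ⟨Proj.basicOpen (CohB1.polyGrading n k) (MvPolynomial.X j : MvPolynomial (Fin (n + 1)) k),
        isAffineOpen_basicOpen_X k n j⟩ =
      Ideal.span {(Proj.awayToSection (CohB1.polyGrading n k)
        (MvPolynomial.X j : MvPolynomial (Fin (n + 1)) k)).hom (awayLin k n j c)} := by
  rw [awayToSection_awayLin]
  exact (Groth.Agent.H54.ZeroChart.zeroScheme_ideal
    (Groth.Agent.H19.ProjSec.isInvertible_twistOne (R := k) n) (secOf k n c)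
    ⟨Proj.basicOpen (CohB1.polyGrading n k) (MvPolynomial.X j : MvPolynomial (Fin (n + 1)) k),
      isAffineOpen_basicOpen_X k n j⟩).trans (zeroIdealOn_chart k n c j)

theorem not_mem_support_aux (I : (Proj (CohB1.polyGrading n k)).IdealSheafData)
    (c : Fin (n + 1) → k) (y : Proj (CohB1.polyGrading n k)) (j : Fin (n + 1))
    (hj : (MvPolynomial.X j : MvPolynomial (Fin (n + 1)) k) ∉
      (show ProjectiveSpectrum (CohB1.polyGrading n k) from y).asHomogeneousIdeal)
    (hI : I.ideal ⟨Proj.basicOpen (CohB1.polyGrading n k)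
      (MvPolynomial.X j : MvPolynomial (Fin (n + 1)) k), isAffineOpen_basicOpen_X k n j⟩ =
      Ideal.span {(Proj.awayToSection (CohB1.polyGrading n k)
        (MvPolynomial.X j : MvPolynomial (Fin (n + 1)) k)).hom (awayLin k n j c)})
    (hy : lin k n c ∉ (show ProjectiveSpectrum (CohB1.polyGrading n k) from y).asHomogeneousIdeal) :
    y ∉ I.support := by
  have hyU : y ∈ Proj.basicOpen (CohB1.polyGrading n k)
    (MvPolynomial.X j : MvPolynomial (Fin (n + 1)) k) := hj
  intro hmem
  rw [Scheme.IdealSheafData.mem_support_iff_of_mem (U := ⟨Proj.basicOpen (CohB1.polyGrading n k)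
    (MvPolynomial.X j : MvPolynomial (Fin (n + 1)) k), isAffineOpen_basicOpen_X k n j⟩) hyU,
    hI, Scheme.zeroLocus_span, Scheme.zeroLocus_singleton,
    Set.mem_compl_iff] at hmem
  apply hmem
  rw [SetLike.mem_coe, Scheme.mem_basicOpen _ _ _ hyU]
  have h1 := Proj.stalkIso'_germ (CohB1.polyGrading n k) _ y hyU
    ((Proj.awayToSection (CohB1.polyGrading n k)
      (MvPolynomial.X j : MvPolynomial (Fin (n + 1)) k)).hom (awayLin k n j c))
  have h2 : IsUnit (bb k n j y hj c) := by
    by_contra hnu
    exact hy ((bb_mem_maximalIdeal_iff k n j y hj c).mp hnu)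
  have h3 : (Proj.stalkIso' (CohB1.polyGrading n k) y)
      (((Proj (CohB1.polyGrading n k)).presheaf.germ _ y hyU).hom
        ((Proj.awayToSection (CohB1.polyGrading n k)
          (MvPolynomial.X j : MvPolynomial (Fin (n + 1)) k)).hom (awayLin k n j c))) =
      bb k n j y hj c := h1
  rw [← h3] at h2
  exact (MulEquiv.isUnit_map (Proj.stalkIso' (CohB1.polyGrading n k) y)).mp h2

/-- a point at which the linear form does not vanish is not in the zero scheme -/
theorem not_mem_support (c : Fin (n + 1) → k) (y : Proj (CohB1.polyGrading n k))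
    (hy : lin k n c ∉ (show ProjectiveSpectrum (CohB1.polyGrading n k) from y).asHomogeneousIdeal) :
    y ∉ (PicF2.zeroScheme (Twist.twistProjSpace n k 1) (secOf k n c)).support := by
  obtain ⟨j, hj⟩ := exists_X_notMem k n (show ProjectiveSpectrum (CohB1.polyGrading n k) from y)
  exact not_mem_support_aux k n _ c y j hj (zeroScheme_ideal_chart k n c j) hy

end Groth.Agent.H36.HypZero
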