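import Mathlib
import Groth.Agent.H36.HypPullA
import Groth.Agent.H36.HypZeroA
import Groth.Agent.H36.BertiniProjC
import Groth.Agent.H18.ProjSpaceGlobal

/-!
# Smoothness of the pullback of a hyperplane along a closed immersion into projective space,
checked on the standard charts
-/

set_option autoImplicit false
set_option linter.unusedSectionVars false
set_option linter.unusedVariables false
set_option linter.style.haveILetI false

namespace Groth.Agent.H36.HypSmooth

universe u

open AlgebraicGeometry CategoryTheory CategoryTheory.Limits HomogeneousLocalization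
open Groth.Agent.H54.PL Groth.Agent.H18 Groth.Agent.H36.BertiniProj

theorem smooth_comp_of_surjective {k A C : Type u} [CommRing k] [CommRing A] [CommRing C]
    [Algebra k A] (π : A →+* C) (hπ : Function.Surjective π) (J : Ideal A)
    (hJ : RingHom.ker π = J) (h : Algebra.Smooth k (A ⧸ J)) :
    (π.comp (algebraMap k A)).Smooth := by
  subst hJ
  let e := RingHom.quotientKerEquivOfSurjective hπ
  have h1 : π.comp (algebraMap k A) = e.toRingHom.comp (algebraMap k (A ⧸ RingHom.ker π)) := by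
    ext r
    rfl
  rw [h1]
  exact RingHom.Smooth.comp (RingHom.smooth_algebraMap.mpr h)
    (RingHom.Smooth.of_bijective e.bijective)

section chart

variable (k : Type u) [Field k] (n : ℕ)

/-- constants on a standard chart, through the structure morphism -/
theorem toSpec_appLE_chart (j : Fin (n + 1)) (r : k) :
    ((CohB1.ProjSpace.toSpec n k).appLE ⊤ (Proj.basicOpen (CohB1.polyGrading n k)
      (MvPolynomial.X j : MvPolynomial (Fin (n + 1)) k)) le_top).hom
      ((Scheme.ΓSpecIso (CommRingCat.of k)).inv.hom r) =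
    (Proj.awayToSection (CohB1.polyGrading n k)
      (MvPolynomial.X j : MvPolynomial (Fin (n + 1)) k)).hom (cst k n _ r) := by
  have h1 : ((CohB1.ProjSpace.toSpec n k).appLE ⊤ (Proj.basicOpen (CohB1.polyGrading n k)
      (MvPolynomial.X j : MvPolynomial (Fin (n + 1)) k)) le_top).hom
      ((Scheme.ΓSpecIso (CommRingCat.of k)).inv.hom r) =
      ((Proj (CohB1.polyGrading n k)).presheaf.map (homOfLE (le_top : Proj.basicOpen
        (CohB1.polyGrading n k) (MvPolynomial.X j : MvPolynomial (Fin (n + 1)) k) ≤ ⊤)).op).hom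
        (Coh.toGlobal (CohB1.ProjSpace.toSpec n k) r) := rfl
  rw [h1]
  refine projSection_ext (CohB1.polyGrading n k) _ _ (fun x => ?_)
  have h2 := Groth.Agent.H18.PSL.toGlobal_val n k r x.1
  refine Eq.trans ?_ (h2.trans ?_)
  · rfl
  · rfl

end chart

section main

variable (k : Type u) [Field k] (n : ℕ) {X : Scheme.{u}}
  (ι : X ⟶ Proj (CohB1.polyGrading n k)) [IsClosedImmersion ι]
  (I : (Proj (CohB1.polyGrading n k)).IdealSheafData) (c : Fin (n + 1) → k)
  (hI : ∀ j : Fin (n + 1), I.ideal ⟨Proj.basicOpen (CohB1.polyGrading n k)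
      (MvPolynomial.X j : MvPolynomial (Fin (n + 1)) k), isAffineOpen_basicOpen_X k n j⟩ =
      Ideal.span {(Proj.awayToSection (CohB1.polyGrading n k)
        (MvPolynomial.X j : MvPolynomial (Fin (n + 1)) k)).hom (awayLin k n j c)})

include hI in
theorem ker_fst_app_chart (j : Fin (n + 1)) :
    RingHom.ker ((pullback.fst ι I.subschemeι).app (ι ⁻¹ᵁ Proj.basicOpen (CohB1.polyGrading n k)
      (MvPolynomial.X j : MvPolynomial (Fin (n + 1)) k))).hom =
      Ideal.span {chartHom k n ι j (awayLin k n j c)} := by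
  rw [Groth.Agent.H36.HypPull.ker_fst_app ι I ⟨_, isAffineOpen_basicOpen_X k n j⟩
    (isAffineOpen_chart k n ι j), hI j, Ideal.map_span, Set.image_singleton]
  rfl

theorem appLE_chart (j : Fin (n + 1)) (t : Γ(Spec (CommRingCat.of k), ⊤)) :
    ((pullback.fst ι I.subschemeι ≫ ι ≫ CohB1.ProjSpace.toSpec n k).appLE ⊤
      (pullback.fst ι I.subschemeι ⁻¹ᵁ ι ⁻¹ᵁ Proj.basicOpen (CohB1.polyGrading n k)
        (MvPolynomial.X j : MvPolynomial (Fin (n + 1)) k)) le_top).hom t =
    ((pullback.fst ι I.subschemeι).app (ι ⁻¹ᵁ Proj.basicOpen (CohB1.polyGrading n k)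
      (MvPolynomial.X j : MvPolynomial (Fin (n + 1)) k))).hom
      (chartHom k n ι j (cst k n _ ((Scheme.ΓSpecIso (CommRingCat.of k)).hom.hom t))) := by
  have e1 := Scheme.Hom.appLE_comp_appLE (pullback.fst ι I.subschemeι)
    (ι ≫ CohB1.ProjSpace.toSpec n k) ⊤
    (ι ⁻¹ᵁ Proj.basicOpen (CohB1.polyGrading n k)
      (MvPolynomial.X j : MvPolynomial (Fin (n + 1)) k))
    (pullback.fst ι I.subschemeι ⁻¹ᵁ ι ⁻¹ᵁ Proj.basicOpen (CohB1.polyGrading n k)
      (MvPolynomial.X j : MvPolynomial (Fin (n + 1)) k)) le_top le_rfl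
  have e2 := Scheme.Hom.appLE_comp_appLE ι (CohB1.ProjSpace.toSpec n k) ⊤
    (Proj.basicOpen (CohB1.polyGrading n k)
      (MvPolynomial.X j : MvPolynomial (Fin (n + 1)) k))
    (ι ⁻¹ᵁ Proj.basicOpen (CohB1.polyGrading n k)
      (MvPolynomial.X j : MvPolynomial (Fin (n + 1)) k)) le_top le_rfl
  have ht : t = (Scheme.ΓSpecIso (CommRingCat.of k)).inv.hom
      ((Scheme.ΓSpecIso (CommRingCat.of k)).hom.hom t) := by
    rw [← CommRingCat.comp_apply, Iso.hom_inv_id]
    rfl
  have e3 := toSpec_appLE_chart k n j ((Scheme.ΓSpecIso (CommRingCat.of k)).hom.hom t)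
  rw [← ht] at e3
  rw [← Scheme.Hom.app_eq_appLE] at e1 e2
  rw [← e1, ← e2]
  simp only [CommRingCat.hom_comp, RingHom.comp_apply]
  exact congrArg (fun z => ((pullback.fst ι I.subschemeι).app
    (ι ⁻¹ᵁ Proj.basicOpen (CohB1.polyGrading n k)
      (MvPolynomial.X j : MvPolynomial (Fin (n + 1)) k))).hom
    ((ι.app (Proj.basicOpen (CohB1.polyGrading n k)
      (MvPolynomial.X j : MvPolynomial (Fin (n + 1)) k))).hom z)) e3

include hI in
/-- the pullback of the subscheme cut out by `I` is smooth over `k` once its standard charts are -/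
theorem smooth_pullback
    (hsm : ∀ j : Fin (n + 1),
      letI : Algebra k Γ(X, ι ⁻¹ᵁ Proj.basicOpen (CohB1.polyGrading n k)
        (MvPolynomial.X j : MvPolynomial (Fin (n + 1)) k)) :=
        ((chartHom k n ι j).comp (cst k n _)).toAlgebra
      Algebra.Smooth k (Γ(X, ι ⁻¹ᵁ Proj.basicOpen (CohB1.polyGrading n k)
        (MvPolynomial.X j : MvPolynomial (Fin (n + 1)) k)) ⧸
          Ideal.span {chartHom k n ι j (awayLin k n j c)})) :
    Smooth (pullback.fst ι I.subschemeι ≫ ι ≫ CohB1.ProjSpace.toSpec n k) := by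
  have hWaff : ∀ j : Fin (n + 1), IsAffineOpen (pullback.fst ι I.subschemeι ⁻¹ᵁ
      ι ⁻¹ᵁ Proj.basicOpen (CohB1.polyGrading n k)
        (MvPolynomial.X j : MvPolynomial (Fin (n + 1)) k)) :=
    fun j => (isAffineOpen_chart k n ι j).preimage _
  have hcov : ⨆ j : Fin (n + 1), (pullback.fst ι I.subschemeι ⁻¹ᵁ
      ι ⁻¹ᵁ Proj.basicOpen (CohB1.polyGrading n k)
        (MvPolynomial.X j : MvPolynomial (Fin (n + 1)) k)) = ⊤ := by
    rw [eq_top_iff]
    intro w _
    obtain ⟨j, hj⟩ := exists_X_notMem k n (show ProjectiveSpectrum (CohB1.polyGrading n k) from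
      ι.base ((pullback.fst ι I.subschemeι).base w))
    exact TopologicalSpace.Opens.mem_iSup.mpr ⟨j, hj⟩
  refine HasRingHomProperty.of_iSup_eq_top (P := @Smooth)
    (fun j : Fin (n + 1) => (⟨_, hWaff j⟩ : (pullback ι I.subschemeι).affineOpens)) hcov
    (fun j => ?_)
  letI : Algebra k Γ(X, ι ⁻¹ᵁ Proj.basicOpen (CohB1.polyGrading n k)
    (MvPolynomial.X j : MvPolynomial (Fin (n + 1)) k)) :=
    ((chartHom k n ι j).comp (cst k n _)).toAlgebra
  have hφ : ((pullback.fst ι I.subschemeι ≫ ι ≫ CohB1.ProjSpace.toSpec n k).appLE ⊤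
      (pullback.fst ι I.subschemeι ⁻¹ᵁ ι ⁻¹ᵁ Proj.basicOpen (CohB1.polyGrading n k)
        (MvPolynomial.X j : MvPolynomial (Fin (n + 1)) k)) le_top).hom =
      ((((pullback.fst ι I.subschemeι).app (ι ⁻¹ᵁ Proj.basicOpen (CohB1.polyGrading n k)
        (MvPolynomial.X j : MvPolynomial (Fin (n + 1)) k))).hom).comp
        (algebraMap k Γ(X, ι ⁻¹ᵁ Proj.basicOpen (CohB1.polyGrading n k)
          (MvPolynomial.X j : MvPolynomial (Fin (n + 1)) k)))).comp
        (Scheme.ΓSpecIso (CommRingCat.of k)).hom.hom := by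
    ext t
    exact appLE_chart k n ι I j t
  change RingHom.Smooth ((pullback.fst ι I.subschemeι ≫ ι ≫ CohB1.ProjSpace.toSpec n k).appLE ⊤
      (pullback.fst ι I.subschemeι ⁻¹ᵁ ι ⁻¹ᵁ Proj.basicOpen (CohB1.polyGrading n k)
        (MvPolynomial.X j : MvPolynomial (Fin (n + 1)) k)) le_top).hom
  rw [hφ]
  refine RingHom.Smooth.comp (RingHom.Smooth.of_bijective
    (ConcreteCategory.bijective_of_isIso (Scheme.ΓSpecIso (CommRingCat.of k)).hom)) ?_
  exact smooth_comp_of_surjective _
    ((pullback.fst ι I.subschemeι).app_surjective _ (isAffineOpen_chart k n ι j)) _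
    (ker_fst_app_chart k n ι I c hI j) (hsm j)

end main

end Groth.Agent.H36.HypSmooth
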