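import Mathlib
import Groth.Agent.H36.BertiniSmA

/-!
# Parametrisation of the "bad" coefficient vectors of a linear system with an invertible minor
-/

set_option autoImplicit false
set_option linter.unusedSectionVars false
set_option linter.unusedVariables false
set_option linter.style.haveILetI false

namespace Groth.Agent.H36.Jet

universe u

open MvPolynomial

section param

variable {k S : Type u} [Field k] [CommRing S] [Algebra k S]
  {ι : Type} [Fintype ι] [DecidableEq ι] {m : ℕ}
  (N : Matrix ι (Fin m) S) (v0 : ι → S) (τ : ι → Fin m)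

/-- the free parameters: the indices not chosen by `τ` -/
abbrev Free : Type := {t : Fin m // t ∉ Set.range τ}

/-- the solved coefficients -/
noncomputable def alpha (a' : ι) : MvPolynomial (Free τ) S :=
  - ∑ a : ι, C ((N.submatrix id τ)⁻¹ a' a) *
      (C (v0 a) + ∑ t : Free τ, X t * C (N a t.1))

open Classical in
/-- the images of the variables -/
noncomputable def beta (t : Fin m) : MvPolynomial (Free τ) S :=
  if h : t ∈ Set.range τ then alpha N v0 τ (Classical.choose h) else X ⟨t, h⟩

/-- the coordinate ring map of the parametrisation -/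
noncomputable def Psi : MvPolynomial (Fin m) k →ₐ[k] MvPolynomial (Free τ) S :=
  aeval (beta N v0 τ)

theorem sum_split (hτ : Function.Injective τ) {K : Type*} [AddCommMonoid K] (φ : Fin m → K) :
    ∑ t : Fin m, φ t = ∑ a : ι, φ (τ a) + ∑ t : Free τ, φ t.1 := by
  classical
  rw [← Fintype.sum_subtype_add_sum_subtype (fun t : Fin m => t ∈ Set.range τ) φ]
  congr 1
  symm
  have h := Fintype.sum_equiv (Equiv.ofInjective τ hτ) (fun a => φ (τ a))
    (fun t : {t : Fin m // t ∈ Set.range τ} => φ t.1) (fun a => rfl)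
  refine h.trans ?_
  exact Finset.sum_congr (by ext; simp) (fun _ _ => rfl)

theorem eval_eq_of_bad (hτ : Function.Injective τ) (hu : IsUnit (N.submatrix id τ).det)
    {K : Type*} [CommRing K] [Algebra k K] (ev : S →ₐ[k] K) (c : Fin m → k)
    (hbad : ∀ a : ι, ev (v0 a + ∑ t : Fin m, algebraMap k S (c t) * N a t) = 0)
    (p : MvPolynomial (Fin m) k) :
    (eval₂Hom (ev : S →+* K) (fun t : Free τ => algebraMap k K (c t.1)))
      (Psi N v0 τ p) = algebraMap k K (eval c p) := by
  classical
  set χ := eval₂Hom (ev : S →+* K) (fun t : Free τ => algebraMap k K (c t.1)) with hχ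
  have hχC : ∀ s : S, χ (C s) = ev s := fun s => by rw [hχ]; simp
  have hχX : ∀ t, χ (X t) = algebraMap k K (c t.1) := fun t => by rw [hχ]; simp
  -- the vector `w`
  set w : ι → K := fun a => ev (v0 a) + ∑ t : Free τ, algebraMap k K (c t.1) * ev (N a t.1) with hw
  have hbad' : ∀ a : ι, w a + ∑ a' : ι, ev (N a (τ a')) * algebraMap k K (c (τ a')) = 0 := by
    intro a
    have h := hbad a
    rw [map_add, map_sum, sum_split τ hτ] at h
    simp only [map_mul, AlgHom.commutes] at h
    rw [hw]
    simp only
    rw [← h]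
    have e1 : ∑ a' : ι, ev (N a (τ a')) * algebraMap k K (c (τ a')) =
        ∑ a' : ι, algebraMap k K (c (τ a')) * ev (N a (τ a')) :=
      Finset.sum_congr rfl fun a' _ => mul_comm _ _
    rw [e1]
    ring
  have hα : ∀ a' : ι, χ (alpha N v0 τ a') = algebraMap k K (c (τ a')) := by
    intro a'
    unfold alpha
    rw [map_neg, map_sum]
    simp only [map_mul, map_add, map_sum, hχC, hχX]
    have e1 : ∀ a : ι, ev (v0 a) + ∑ t : Free τ, algebraMap k K (c t.1) * ev (N a t.1) = w a :=
      fun a => rfl
    simp only [e1]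
    have e2 : ∀ a : ι, w a = - ∑ a'' : ι, ev (N a (τ a'')) * algebraMap k K (c (τ a'')) :=
      fun a => eq_neg_of_add_eq_zero_left (hbad' a)
    simp only [e2, mul_neg, Finset.sum_neg_distrib, neg_neg]
    simp only [Finset.mul_sum]
    rw [Finset.sum_comm]
    have e3 : ∀ a'' : ι, ∑ a : ι, ev ((N.submatrix id τ)⁻¹ a' a) *
        (ev (N a (τ a'')) * algebraMap k K (c (τ a''))) =
        ev (((N.submatrix id τ)⁻¹ * N.submatrix id τ) a' a'') * algebraMap k K (c (τ a'')) := by
      intro a''
      rw [Matrix.mul_apply, map_sum, Finset.sum_mul]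
      refine Finset.sum_congr rfl fun a _ => ?_
      rw [map_mul, mul_assoc]
      rfl
    simp only [e3, Matrix.nonsing_inv_mul _ hu, Matrix.one_apply]
    rw [Finset.sum_eq_single a']
    · rw [if_pos rfl, map_one, one_mul]
    · intro b _ hb
      rw [if_neg (Ne.symm hb), map_zero, zero_mul]
    · intro h; exact absurd (Finset.mem_univ _) h
  have hβ : ∀ t : Fin m, χ (beta N v0 τ t) = algebraMap k K (c t) := by
    intro t
    unfold beta
    split_ifs with h
    · rw [hα, Classical.choose_spec h]
    · exact hχX ⟨t, h⟩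
  have key : (χ.comp (Psi N v0 τ).toRingHom) = (algebraMap k K).comp (eval c) := by
    apply MvPolynomial.ringHom_ext
    · intro r
      simp only [RingHom.comp_apply, AlgHom.toRingHom_eq_coe, RingHom.coe_coe, eval_C]
      rw [← MvPolynomial.algebraMap_eq, AlgHom.commutes, MvPolynomial.algebraMap_apply, hχC,
        AlgHom.commutes]
    · intro t
      simp only [RingHom.comp_apply, AlgHom.toRingHom_eq_coe, RingHom.coe_coe, eval_X]
      unfold Psi
      rw [aeval_X]
      exact hβ t
  exact congrArg (fun f => f p) key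

end param

/-- If a minor of maximal size of the matrix `N` is invertible, then for a general coefficient
vector `c` the vector `v0 + N c` vanishes nowhere. -/
theorem exists_generic_of_unit_minor (k S : Type u) [Field k] [CommRing S] [Algebra k S]
    [Algebra.FiniteType k S] [IsReduced S] (d : ℕ)
    (hd : ∀ 𝔭 ∈ minimalPrimes S, ringKrullDim (S ⧸ 𝔭) ≤ (d : WithBot ℕ∞))
    {ι : Type} [Fintype ι] [DecidableEq ι] (hι : d + 1 ≤ Fintype.card ι) (m : ℕ)
    (N : Matrix ι (Fin m) S) (v0 : ι → S) (τ : ι → Fin m) (hτ : Function.Injective τ)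
    (hu : IsUnit (N.submatrix id τ).det) :
    ∃ q : MvPolynomial (Fin m) k, q ≠ 0 ∧ ∀ c : Fin m → k, eval c q ≠ 0 →
      ∀ Q : Ideal S, Q ≠ ⊤ → ∃ a : ι, v0 a + ∑ t : Fin m, algebraMap k S (c t) * N a t ∉ Q := by
  classical
  have hcard : d + Nat.card (Free τ) < m := by
    have h1 : Nat.card (Free τ) = m - Fintype.card ι := by
      rw [Nat.card_eq_fintype_card, Fintype.card_subtype_compl, Fintype.card_fin]
      congr 1
      exact (Fintype.card_congr (Equiv.ofInjective τ hτ)).symm
    have h2 : Fintype.card ι ≤ m := by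
      have := Fintype.card_le_of_injective τ hτ
      simpa using this
    omega
  obtain ⟨q, hq0, hq⟩ := Groth.Agent.H36.BertiniSm.exists_ne_zero_map_eq_zero k S (Free τ) d m hd
    hcard (Psi N v0 τ)
  refine ⟨q, hq0, fun c hqc Q hQ => ?_⟩
  by_contra hcon
  push Not at hcon
  haveI : Nontrivial (S ⧸ Q) := Ideal.Quotient.nontrivial_iff.mpr hQ
  have hbad : ∀ a : ι, (Ideal.Quotient.mkₐ k Q)
      (v0 a + ∑ t : Fin m, algebraMap k S (c t) * N a t) = 0 := fun a =>
    Ideal.Quotient.eq_zero_iff_mem.mpr (hcon a)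
  have h2 := eval_eq_of_bad N v0 τ hτ hu (Ideal.Quotient.mkₐ k Q) c hbad q
  rw [hq, map_zero] at h2
  have h3 : eval c q = 0 := by
    apply (algebraMap k (S ⧸ Q)).injective
    rw [← h2, map_zero]
  exact hqc h3

end Groth.Agent.H36.Jet
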