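import Mathlib
import Groth.Agent.H36.JetParam
import Groth.Agent.H11.StdSmoothFibre
import Groth.Agent.H11.FtDim
import Groth.Agent.H47.SmoothReduced

/-!
# Bertini with jets on a coordinate chart of a smooth algebra
-/

set_option autoImplicit false
set_option linter.unusedSectionVars false
set_option linter.unusedVariables false
set_option linter.style.haveILetI false

namespace Groth.Agent.H36.Jet

universe u

open MvPolynomial KaehlerDifferential

/-- the dimension of a standard smooth algebra of relative dimension `r` over a field -/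
theorem dim_le_of_stdSmooth (k S : Type u) [Field k] [CommRing S] [Algebra k S] (r : ℕ)
    [Algebra.IsStandardSmoothOfRelativeDimension r k S] :
    ∀ 𝔭 ∈ minimalPrimes S, ringKrullDim (S ⧸ 𝔭) ≤ (r : WithBot ℕ∞) := by
  intro 𝔭 h𝔭
  haveI : 𝔭.IsPrime := h𝔭.1.1
  haveI : Algebra.IsStandardSmooth k S :=
    Algebra.IsStandardSmoothOfRelativeDimension.isStandardSmooth r
  haveI : Algebra.FiniteType k S := inferInstance
  have h1 := Groth.Agent.H11.FtDim.localDim_ge (k := k) (⟨𝔭, inferInstance⟩ : PrimeSpectrum S) 𝔭
    le_rfl
  rw [Groth.Agent.H11.StdSmoothFibre.localDim_eq_of_isStandardSmoothOfRelativeDimension k S r] at h1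
  exact h1

section jet

variable {k S : Type u} [Field k] [CommRing S] [Algebra k S] {I : Type} [Fintype I]
  [DecidableEq I] (b : Module.Basis I S Ω[S⁄k])

/-- the coordinates of the 1-jet of a function: its value and its partial derivatives -/
noncomputable def J (h : S) : Option I → S
  | none => h
  | some i => b.repr (D k S h) i

theorem J_none (h : S) : J b h none = h := rfl

theorem J_some (h : S) (i : I) : J b h (some i) = b.repr (D k S h) i := rfl

theorem J_add (h h' : S) (a : Option I) : J b (h + h') a = J b h a + J b h' a := by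
  cases a with
  | none => rfl
  | some i => simp [J_some]

theorem J_sum {ι' : Type*} (s : Finset ι') (h : ι' → S) (a : Option I) :
    J b (∑ t ∈ s, h t) a = ∑ t ∈ s, J b (h t) a := by
  classical
  induction s using Finset.induction_on with
  | empty =>
    cases a with
    | none => simp [J_none]
    | some i => simp [J_some]
  | insert x s hx ih => rw [Finset.sum_insert hx, Finset.sum_insert hx, J_add, ih]

theorem J_algebraMap_mul (c : k) (h : S) (a : Option I) :
    J b (algebraMap k S c * h) a = algebraMap k S c * J b h a := by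
  cases a with
  | none => rfl
  | some i =>
    rw [J_some, J_some, Derivation.leibniz, Derivation.map_algebraMap, smul_zero, add_zero,
      map_smul, Finsupp.smul_apply, smul_eq_mul]

variable {m : ℕ}

/-- the matrix of 1-jets of a family of functions -/
noncomputable def jetMatrix (g : Fin m → S) : Matrix (Option I) (Fin m) S :=
  fun a t => J b (g t) a

/-- the member of the linear system with coefficients `c` -/
noncomputable def lc (f0 : S) (g : Fin m → S) (c : Fin m → k) : S :=
  f0 + ∑ t : Fin m, algebraMap k S (c t) * g t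

theorem J_lc (f0 : S) (g : Fin m → S) (c : Fin m → k) (a : Option I) :
    J b (lc f0 g c) a = J b f0 a + ∑ t : Fin m, algebraMap k S (c t) * jetMatrix b g a t := by
  unfold lc
  rw [J_add, J_sum]
  congr 1
  refine Finset.sum_congr rfl fun t _ => ?_
  rw [J_algebraMap_mul]
  rfl

end jet

/-- Bertini with jets on a chart: if at every maximal ideal some maximal minor of the matrix of
1-jets is invertible, then a general member of the linear system has no singular zero. -/
theorem exists_generic_jet (k S : Type u) [Field k] [CommRing S] [Algebra k S] (r : ℕ)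
    [Algebra.IsStandardSmoothOfRelativeDimension r k S]
    {I : Type} [Fintype I] [DecidableEq I] (hI : Fintype.card I = r)
    (b : Module.Basis I S Ω[S⁄k]) {m : ℕ} (g : Fin m → S) (f0 : S)
    (hminor : ∀ 𝔪 : Ideal S, 𝔪.IsMaximal → ∃ τ : Option I → Fin m, Function.Injective τ ∧
      ((jetMatrix b g).submatrix id τ).det ∉ 𝔪) :
    ∃ q : MvPolynomial (Fin m) k, q ≠ 0 ∧ ∀ c : Fin m → k, eval c q ≠ 0 →
      ∀ 𝔪 : Ideal S, 𝔪.IsMaximal → lc f0 g c ∈ 𝔪 →
        ∃ i : I, b.repr (D k S (lc f0 g c)) i ∉ 𝔪 := by
  classical
  have key : ∀ τ : Option I → Fin m, Function.Injective τ →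
      ∃ q : MvPolynomial (Fin m) k, q ≠ 0 ∧ ∀ c : Fin m → k, eval c q ≠ 0 →
        ∀ 𝔪 : Ideal S, 𝔪.IsMaximal → ((jetMatrix b g).submatrix id τ).det ∉ 𝔪 →
          ∃ a : Option I, J b (lc f0 g c) a ∉ 𝔪 := by
    intro τ hτ
    set δ : S := ((jetMatrix b g).submatrix id τ).det with hδ
    let S' := Localization.Away δ
    haveI : Algebra.IsStandardSmoothOfRelativeDimension 0 S S' :=
      Algebra.IsStandardSmoothOfRelativeDimension.localization_away δ
    haveI : Algebra.IsStandardSmoothOfRelativeDimension (0 + r) k S' :=
      Algebra.IsStandardSmoothOfRelativeDimension.trans r 0 k S S'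
    haveI : Algebra.IsStandardSmoothOfRelativeDimension r k S' := by
      rwa [zero_add] at this
    haveI : Algebra.IsStandardSmooth k S' :=
      Algebra.IsStandardSmoothOfRelativeDimension.isStandardSmooth r
    haveI : Algebra.Smooth k S' := inferInstance
    haveI : IsReduced S' := Groth.Agent.H47.isReduced_of_smooth k S'
    haveI : Algebra.FiniteType k S' := inferInstance
    have hcard : r + 1 ≤ Fintype.card (Option I) := by
      rw [Fintype.card_option, hI]
    have hu : IsUnit (((jetMatrix b g).map (algebraMap S S')).submatrix id τ).det := by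
      have h1 : ((jetMatrix b g).map (algebraMap S S')).submatrix id τ =
          ((jetMatrix b g).submatrix id τ).map (algebraMap S S') := rfl
      rw [h1, ← RingHom.mapMatrix_apply, ← RingHom.map_det]
      exact IsLocalization.Away.algebraMap_isUnit δ
    obtain ⟨q, hq0, hq⟩ := exists_generic_of_unit_minor k S' r (dim_le_of_stdSmooth k S' r) hcard m
      ((jetMatrix b g).map (algebraMap S S')) (fun a => algebraMap S S' (J b f0 a)) τ hτ hu
    refine ⟨q, hq0, fun c hqc 𝔪 h𝔪 hδ𝔪 => ?_⟩
    have hdisj : Disjoint (Submonoid.powers δ : Set S) (𝔪 : Set S) := by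
      haveI := h𝔪.isPrime
      rwa [Ideal.disjoint_powers_iff_notMem_of_isPrime]
    have hQprime : (𝔪.map (algebraMap S S')).IsPrime :=
      IsLocalization.isPrime_of_isPrime_disjoint (.powers δ) _ _ h𝔪.isPrime hdisj
    obtain ⟨a, ha⟩ := hq c hqc (𝔪.map (algebraMap S S')) hQprime.ne_top
    refine ⟨a, fun hmem => ha ?_⟩
    have e : algebraMap S S' (J b (lc f0 g c) a) =
        algebraMap S S' (J b f0 a) + ∑ t : Fin m, algebraMap k S' (c t) *
          ((jetMatrix b g).map (algebraMap S S')) a t := by
      rw [J_lc, map_add, map_sum]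
      congr 1
      refine Finset.sum_congr rfl fun t _ => ?_
      rw [map_mul, ← IsScalarTower.algebraMap_apply]
      rfl
    rw [← e]
    exact Ideal.mem_map_of_mem _ hmem
  choose! q hq0 hq using key
  refine ⟨∏ τ : Option I → Fin m, if Function.Injective τ then q τ else 1, ?_, ?_⟩
  · rw [Finset.prod_ne_zero_iff]
    intro τ _
    split_ifs with h
    · exact hq0 τ h
    · exact one_ne_zero
  · intro c hc 𝔪 h𝔪 hlc
    obtain ⟨τ, hτ, hδ⟩ := hminor 𝔪 h𝔪
    have hqc : eval c (q τ) ≠ 0 := by
      intro h0
      apply hc
      rw [map_prod]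
      refine Finset.prod_eq_zero (Finset.mem_univ τ) ?_
      rw [if_pos hτ]
      exact h0
    obtain ⟨a, ha⟩ := hq τ hτ c hqc 𝔪 h𝔪 hδ
    cases a with
    | none => exact absurd hlc ha
    | some i => exact ⟨i, ha⟩

end Groth.Agent.H36.Jet
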