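import Mathlib
import Groth.Agent.H36.JetChart

/-!
# Separation of 1-jets at a closed point gives an invertible maximal minor of the jet matrix
-/

set_option autoImplicit false
set_option linter.unusedSectionVars false
set_option linter.unusedVariables false
set_option linter.style.haveILetI false

namespace Groth.Agent.H36.Jet

universe u

open MvPolynomial KaehlerDifferential

/-- a spanning family of `k ^ ι` contains a basis, indexed injectively by `ι` -/
theorem exists_injective_isUnit_of_span {k : Type*} [Field k] {ι : Type} [Fintype ι]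
    [DecidableEq ι] {m : ℕ} (v : Fin m → (ι → k))
    (hv : Submodule.span k (Set.range v) = ⊤) :
    ∃ τ : ι → Fin m, Function.Injective τ ∧
      IsUnit (Matrix.of (fun a a' : ι => v (τ a') a)).det := by
  classical
  obtain ⟨bs, hbs, hspan, hli⟩ := exists_linearIndependent k (Set.range v)
  have hspan' : ⊤ ≤ Submodule.span k (Set.range ((↑) : bs → (ι → k))) := by
    rw [Subtype.range_coe, hspan, hv]
  let B : Module.Basis bs k (ι → k) := Module.Basis.mk hli hspan'
  let e : bs ≃ ι := B.indexEquiv (Pi.basisFun k ι)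
  have hchoose : ∀ a : ι, ∃ t : Fin m, v t = ((e.symm a : bs) : ι → k) := fun a =>
    hbs (e.symm a).2
  choose τ hτ using hchoose
  have hinj : Function.Injective τ := by
    intro a a' h
    have h1 : ((e.symm a : bs) : ι → k) = ((e.symm a' : bs) : ι → k) := by
      rw [← hτ a, ← hτ a', h]
    exact e.symm.injective (Subtype.ext h1)
  refine ⟨τ, hinj, ?_⟩
  rw [← Matrix.isUnit_iff_isUnit_det, ← Matrix.linearIndependent_cols_iff_isUnit]
  have hcol : (Matrix.of (fun a a' : ι => v (τ a') a)).col = fun a' => v (τ a') := by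
    funext a' a
    rfl
  rw [hcol]
  have h2 : (fun a' => v (τ a')) = ((↑) : bs → (ι → k)) ∘ e.symm := by
    funext a'
    exact hτ a'
  rw [h2]
  exact hli.comp _ e.symm.injective

/-- a maximal ideal of a finite type algebra over an algebraically closed field is the kernel of a
`k`-point -/
theorem exists_algHom_ker_eq (k S : Type u) [Field k] [IsAlgClosed k] [CommRing S] [Algebra k S]
    [Algebra.FiniteType k S] (𝔪 : Ideal S) (h𝔪 : 𝔪.IsMaximal) :
    ∃ ε : S →ₐ[k] k, RingHom.ker (ε : S →+* k) = 𝔪 := by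
  letI := Ideal.Quotient.field 𝔪
  haveI : Algebra.FiniteType k (S ⧸ 𝔪) :=
    Algebra.FiniteType.of_surjective (Ideal.Quotient.mkₐ k 𝔪) (Ideal.Quotient.mkₐ_surjective k 𝔪)
  haveI : Module.Finite k (S ⧸ 𝔪) := finite_of_finite_type_of_isJacobsonRing k (S ⧸ 𝔪)
  haveI : Algebra.IsIntegral k (S ⧸ 𝔪) := Algebra.IsIntegral.of_finite k (S ⧸ 𝔪)
  have hbij : Function.Bijective (algebraMap k (S ⧸ 𝔪)) :=
    IsAlgClosed.algebraMap_bijective_of_isIntegral
  let e : k ≃ₐ[k] (S ⧸ 𝔪) := AlgEquiv.ofBijective (Algebra.ofId k (S ⧸ 𝔪)) hbij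
  refine ⟨(e.symm : (S ⧸ 𝔪) →ₐ[k] k).comp (Ideal.Quotient.mkₐ k 𝔪), ?_⟩
  ext x
  rw [RingHom.mem_ker]
  change e.symm (Ideal.Quotient.mk 𝔪 x) = 0 ↔ x ∈ 𝔪
  rw [map_eq_zero_iff _ e.symm.injective, Ideal.Quotient.eq_zero_iff_mem]

section

variable {k S : Type u} [Field k] [CommRing S] [Algebra k S] {I : Type} [Fintype I]
  [DecidableEq I] (b : Module.Basis I S Ω[S⁄k]) (ε : S →ₐ[k] k)

/-- the value at a `k`-point of the 1-jet -/
noncomputable def Phi : S →ₗ[k] (Option I → k) where
  toFun h a := ε (J b h a)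
  map_add' h h' := by
    funext a
    simp only [Pi.add_apply]
    rw [J_add, map_add]
  map_smul' c h := by
    funext a
    simp only [Pi.smul_apply, RingHom.id_apply, smul_eq_mul]
    rw [Algebra.smul_def, J_algebraMap_mul, map_mul, AlgHom.commutes]
    rfl

theorem Phi_apply (h : S) (a : Option I) : Phi b ε h a = ε (J b h a) := rfl

theorem Phi_mul_of_mem (u v : S) (hu : ε u = 0) (hv : ε v = 0) : Phi b ε (u * v) = 0 := by
  funext a
  rw [Phi_apply, Pi.zero_apply]
  cases a with
  | none => rw [J_none, map_mul, hu, zero_mul]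
  | some i =>
    rw [J_some, Derivation.leibniz, map_add, map_smul, map_smul, Finsupp.add_apply,
      Finsupp.smul_apply, Finsupp.smul_apply, smul_eq_mul, smul_eq_mul, map_add, map_mul, map_mul,
      hu, hv, zero_mul, zero_mul, add_zero]

theorem Phi_of_mem_sq (x : S) (hx : x ∈ RingHom.ker (ε : S →+* k) ^ 2) : Phi b ε x = 0 := by
  rw [pow_two] at hx
  refine Submodule.mul_induction_on hx ?_ ?_
  · intro u hu v hv
    exact Phi_mul_of_mem b ε u v hu hv
  · intro x y hx hy
    rw [map_add, hx, hy, add_zero]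

theorem Phi_one : Phi b ε 1 = Pi.single none 1 := by
  funext a
  rw [Phi_apply]
  cases a with
  | none => rw [J_none, map_one, Pi.single_eq_same]
  | some i =>
    rw [J_some, Pi.single_eq_of_ne (by simp)]
    have : D k S (1 : S) = 0 := by
      rw [← map_one (algebraMap k S), Derivation.map_algebraMap]
    rw [this, map_zero, Finsupp.zero_apply, map_zero]

theorem Phi_coord (y : I → S) (hb : ∀ i, b i = D k S (y i)) (i : I) :
    Phi b ε (y i - algebraMap k S (ε (y i))) = Pi.single (some i) 1 := by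
  funext a
  rw [Phi_apply]
  cases a with
  | none =>
    rw [J_none, map_sub, AlgHom.commutes, Pi.single_eq_of_ne (by simp)]
    simp
  | some j =>
    rw [J_some, map_sub, Derivation.map_algebraMap, sub_zero, ← hb i, Module.Basis.repr_self,
      Finsupp.single_apply]
    by_cases hij : i = j
    · subst hij
      rw [if_pos rfl, map_one, Pi.single_eq_same]
    · rw [if_neg hij, map_zero, Pi.single_eq_of_ne]
      intro h
      exact hij (Option.some_injective _ h).symm

theorem Phi_surjective (y : I → S) (hb : ∀ i, b i = D k S (y i)) :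
    Function.Surjective (Phi b ε) := by
  rw [← LinearMap.range_eq_top, eq_top_iff, ← (Pi.basisFun k (Option I)).span_eq,
    Submodule.span_le]
  rintro _ ⟨a, rfl⟩
  rw [Pi.basisFun_apply]
  cases a with
  | none => exact ⟨1, Phi_one b ε⟩
  | some i => exact ⟨_, Phi_coord b ε y hb i⟩

end

/-- Separation of 1-jets at a closed point gives an invertible maximal minor. -/
theorem exists_minor_of_jets (k S : Type u) [Field k] [IsAlgClosed k] [CommRing S] [Algebra k S]
    [Algebra.FiniteType k S] {I : Type} [Fintype I] [DecidableEq I]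
    (b : Module.Basis I S Ω[S⁄k]) (y : I → S) (hb : ∀ i, b i = D k S (y i))
    {m : ℕ} (g : Fin m → S) (𝔪 : Ideal S) (h𝔪 : 𝔪.IsMaximal)
    (hjet : ∀ h : S, ∃ c : Fin m → k, (∑ t : Fin m, algebraMap k S (c t) * g t) - h ∈ 𝔪 ^ 2) :
    ∃ τ : Option I → Fin m, Function.Injective τ ∧
      ((jetMatrix b g).submatrix id τ).det ∉ 𝔪 := by
  classical
  obtain ⟨ε, hε⟩ := exists_algHom_ker_eq k S 𝔪 h𝔪
  have hspan : Submodule.span k (Set.range fun t : Fin m => Phi b ε (g t)) = ⊤ := by
    rw [eq_top_iff]
    intro w _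
    obtain ⟨h, rfl⟩ := Phi_surjective b ε y hb w
    obtain ⟨c, hc⟩ := hjet h
    rw [← hε] at hc
    have h0 := Phi_of_mem_sq b ε _ hc
    rw [map_sub, sub_eq_zero] at h0
    rw [← h0, map_sum]
    refine Submodule.sum_mem _ fun t _ => ?_
    rw [← Algebra.smul_def, map_smul]
    exact Submodule.smul_mem _ _ (Submodule.subset_span ⟨t, rfl⟩)
  obtain ⟨τ, hτ, hu⟩ := exists_injective_isUnit_of_span (fun t : Fin m => Phi b ε (g t)) hspan
  refine ⟨τ, hτ, fun hmem => ?_⟩
  have h1 : Matrix.of (fun a a' : Option I => Phi b ε (g (τ a')) a) =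
      (ε : S →+* k).mapMatrix ((jetMatrix b g).submatrix id τ) := by
    ext a a'
    rfl
  rw [h1, ← RingHom.map_det] at hu
  rw [← hε, RingHom.mem_ker] at hmem
  rw [hmem] at hu
  exact not_isUnit_zero hu

end Groth.Agent.H36.Jet
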