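import Mathlib
import Groth.Agent.H36.JetMinor
import Groth.Agent.H36.BertiniSmD

/-!
# Bertini with jets for a coordinate chart: smoothness of a general member
-/

set_option autoImplicit false
set_option linter.unusedSectionVars false
set_option linter.unusedVariables false
set_option linter.style.haveILetI false

namespace Groth.Agent.H36.Jet

universe u

open MvPolynomial KaehlerDifferential

theorem smooth_of_forall_maximal_exists_away (k : Type u) [Field k] (B : Type u) [CommRing B]
    [Algebra k B]
    (h : ∀ (q : Ideal B) (_ : q.IsMaximal),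
      ∃ f : B, f ∉ q ∧ Algebra.Smooth k (Localization.Away f)) :
    Algebra.Smooth k B := by
  classical
  rw [← RingHom.smooth_algebraMap]
  let s : Set B := {f | Algebra.Smooth k (Localization.Away f)}
  have hs : Ideal.span s = ⊤ := by
    by_contra hne
    obtain ⟨m, hm, hle⟩ := Ideal.exists_le_maximal _ hne
    obtain ⟨f, hf, hsm⟩ := h m hm
    exact hf (hle (Ideal.subset_span hsm))
  refine RingHom.Smooth.ofLocalizationSpanTarget (algebraMap k B) s hs ?_
  rintro ⟨f, hf⟩
  have : Algebra.Smooth k (Localization.Away f) := hf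
  rw [← RingHom.smooth_algebraMap] at this
  convert this using 1
  exact (IsScalarTower.algebraMap_eq k B _).symm

/-- transport of a coordinate basis of the differentials along an isomorphism of algebras -/
theorem exists_basis_of_algEquiv (k S S' : Type u) [CommRing k] [CommRing S] [CommRing S']
    [Algebra k S] [Algebra k S'] (e : S ≃ₐ[k] S') {I : Type} (b : Module.Basis I S Ω[S⁄k])
    (y : I → S) (hb : ∀ i, b i = D k S (y i)) :
    ∃ b' : Module.Basis I S' Ω[S'⁄k], ∀ i, b' i = D k S' (e (y i)) := by
  letI : Algebra S S' := (e : S →+* S').toAlgebra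
  haveI : IsScalarTower k S S' := IsScalarTower.of_algebraMap_eq fun c => (e.commutes c).symm
  haveI : IsLocalization.Away (1 : S) S' :=
    IsLocalization.away_of_isUnit_of_bijective S' isUnit_one e.bijective
  refine ⟨b.ofIsLocalizedModule S' (Submonoid.powers (1 : S)) (KaehlerDifferential.map k k S S'),
    fun i => ?_⟩
  rw [Module.Basis.ofIsLocalizedModule_apply, hb, map_D]
  rfl

/-- an element of a ring whose image in the localization at a maximal ideal lies in the square of
the maximal ideal lies in the square of that maximal ideal -/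
theorem mem_sq_of_algebraMap_mem {T : Type*} [CommRing T] (𝔪 : Ideal T) [h𝔪 : 𝔪.IsMaximal]
    (S : Type*) [CommRing S] [Algebra T S] [IsLocalization.AtPrime S 𝔪] [IsLocalRing S] (a : T)
    (h : algebraMap T S a ∈ IsLocalRing.maximalIdeal S ^ 2) : a ∈ 𝔪 ^ 2 := by
  have h1 : IsLocalRing.maximalIdeal S = 𝔪.map (algebraMap T S) :=
    (IsLocalization.AtPrime.map_eq_maximalIdeal 𝔪 S).symm
  rw [h1, ← Ideal.map_pow] at h
  have hprim : (𝔪 ^ 2).IsPrimary := by
    apply Ideal.isPrimary_of_isMaximal_radical
    rw [Ideal.radical_pow _ two_ne_zero, h𝔪.isPrime.radical]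
    exact h𝔪
  have hdisj : Disjoint (𝔪.primeCompl : Set T) ((𝔪 ^ 2 : Ideal T) : Set T) := by
    rw [Set.disjoint_left]
    intro x hx hx2
    exact hx (Ideal.pow_le_self two_ne_zero hx2)
  have h2 := IsLocalization.under_map_of_isPrimary_disjoint 𝔪.primeCompl S hprim hdisj
  rw [← h2]
  exact h

/-- for a module free on `ε`, `r • ε ∈ J • ⊤` forces `r ∈ J` -/
theorem mem_of_smul_mem_smul_top {R M : Type*} [CommRing R] [AddCommGroup M] [Module R M]
    (ε : M) (hε : Function.Bijective (fun r : R => r • ε)) (J : Ideal R) (r : R)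
    (h : r • ε ∈ J • (⊤ : Submodule R M)) : r ∈ J := by
  have key : ∀ x ∈ J • (⊤ : Submodule R M), ∃ r' ∈ J, x = r' • ε := by
    intro x hx
    refine Submodule.smul_induction_on hx ?_ ?_
    · intro j hj n _
      obtain ⟨r', rfl⟩ := hε.2 n
      refine ⟨j * r', J.mul_mem_right _ hj, ?_⟩
      change j • (r' • ε) = _
      rw [mul_smul]
    · rintro x y ⟨r₁, hr₁, rfl⟩ ⟨r₂, hr₂, rfl⟩
      exact ⟨r₁ + r₂, J.add_mem hr₁ hr₂, (add_smul _ _ _).symm⟩
  obtain ⟨r', hr', he⟩ := key _ h
  have : r = r' := hε.1 he
  rw [this]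
  exact hr'

/-- Bertini with jets on a coordinate chart: a general member of the linear system cuts out a
smooth subscheme. -/
theorem affine_jet_bertini (k T : Type u) [Field k] [IsAlgClosed k] [CommRing T] [Algebra k T]
    [Algebra.FinitePresentation k T] [Algebra.FormallySmooth k T]
    {I : Type} [Fintype I] [DecidableEq I] (b : Module.Basis I T Ω[T⁄k]) (y : I → T)
    (hb : ∀ i, b i = D k T (y i)) {m : ℕ} (g : Fin m → T) (f0 : T)
    (hjet : ∀ 𝔪 : Ideal T, 𝔪.IsMaximal → ∀ h : T, ∃ c : Fin m → k,
      (∑ t : Fin m, algebraMap k T (c t) * g t) - h ∈ 𝔪 ^ 2) :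
    ∃ q : MvPolynomial (Fin m) k, q ≠ 0 ∧ ∀ c : Fin m → k, eval c q ≠ 0 →
      Algebra.Smooth k (T ⧸ Ideal.span {lc f0 g c}) := by
  classical
  rcases subsingleton_or_nontrivial T with hT | hT
  · refine ⟨1, one_ne_zero, fun c _ => ?_⟩
    apply smooth_of_forall_maximal_exists_away
    intro q hq
    exfalso
    exact hq.ne_top ((Ideal.eq_top_iff_one q).mpr (by
      have : (1 : T ⧸ Ideal.span {lc f0 g c}) = 0 := Subsingleton.elim _ _
      rw [this]
      exact q.zero_mem))
  haveI : Algebra.IsStandardSmooth k T := Algebra.IsStandardSmooth.of_basis_kaehlerDifferential b (by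
    rintro _ ⟨i, rfl⟩
    exact ⟨y i, (hb i).symm⟩)
  haveI : Algebra.IsStandardSmoothOfRelativeDimension (Fintype.card I) k T := by
    rw [Algebra.IsStandardSmoothOfRelativeDimension.iff_of_isStandardSmooth]
    rw [rank_eq_card_basis b]
  haveI : Algebra.FiniteType k T := inferInstance
  have hminor : ∀ 𝔪 : Ideal T, 𝔪.IsMaximal → ∃ τ : Option I → Fin m, Function.Injective τ ∧
      ((jetMatrix b g).submatrix id τ).det ∉ 𝔪 := fun 𝔪 h𝔪 =>
    exists_minor_of_jets k T b y hb g 𝔪 h𝔪 (hjet 𝔪 h𝔪)
  obtain ⟨q, hq0, hq⟩ := exists_generic_jet k T (Fintype.card I) rfl b g f0 hminor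
  refine ⟨q, hq0, fun c hc => ?_⟩
  set h : T := lc f0 g c with hh
  apply smooth_of_forall_maximal_exists_away
  intro 𝔫 h𝔫
  have h𝔪 : (𝔫.comap (Ideal.Quotient.mk (Ideal.span {h}))).IsMaximal :=
    Ideal.comap_isMaximal_of_surjective _ Ideal.Quotient.mk_surjective
  set 𝔪 : Ideal T := 𝔫.comap (Ideal.Quotient.mk (Ideal.span {h})) with h𝔪def
  have hh𝔪 : h ∈ 𝔪 := by
    rw [h𝔪def, Ideal.mem_comap]
    have : Ideal.Quotient.mk (Ideal.span {h}) h = 0 :=
      Ideal.Quotient.eq_zero_iff_mem.mpr (Ideal.mem_span_singleton_self h)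
    rw [this]
    exact 𝔫.zero_mem
  obtain ⟨i0, hi0⟩ := hq c hc 𝔪 h𝔪 hh𝔪
  set η : T := b.repr (D k T h) i0 with hη
  refine ⟨Ideal.Quotient.mk (Ideal.span {h}) η, fun hmem => hi0 hmem, ?_⟩
  haveI : Algebra.FinitePresentation T (Localization.Away η) :=
    IsLocalization.Away.finitePresentation η
  haveI : Algebra.FinitePresentation k (Localization.Away η) :=
    Algebra.FinitePresentation.trans k T (Localization.Away η)
  haveI : Algebra.FormallySmooth T (Localization.Away η) :=
    Algebra.FormallySmooth.of_isLocalization (.powers η)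
  haveI : Algebra.FormallySmooth k (Localization.Away η) :=
    Algebra.FormallySmooth.comp k T (Localization.Away η)
  let b' : Module.Basis I (Localization.Away η) Ω[Localization.Away η⁄k] :=
    b.ofIsLocalizedModule (Localization.Away η) (Submonoid.powers η)
      (KaehlerDifferential.map k k T (Localization.Away η))
  have hb' : ∀ i : I, b' i = D k (Localization.Away η)
      (algebraMap T (Localization.Away η) (y i)) := by
    intro i
    rw [Module.Basis.ofIsLocalizedModule_apply, hb, map_D]
  have hu : IsUnit (b'.repr (D k (Localization.Away η)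
      (algebraMap T (Localization.Away η) h)) i0) := by
    rw [← map_D k k T (Localization.Away η), Module.Basis.ofIsLocalizedModule_repr_apply]
    exact IsLocalization.Away.algebraMap_isUnit η
  have hJ : (Ideal.span {h}).map (algebraMap T (Localization.Away η)) =
      Ideal.span {algebraMap T (Localization.Away η) h} := by
    rw [Ideal.map_span, Set.image_singleton]
  haveI : Nontrivial (Localization.Away η ⧸
      (Ideal.span {h}).map (algebraMap T (Localization.Away η))) := by
    rw [Ideal.Quotient.nontrivial_iff]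
    have hdisj' : Disjoint (Submonoid.powers η : Set T) (𝔪 : Set T) := by
      haveI := h𝔪.isPrime
      rwa [Ideal.disjoint_powers_iff_notMem_of_isPrime]
    have hprime := IsLocalization.isPrime_of_isPrime_disjoint
      (.powers η) (Localization.Away η) 𝔪 h𝔪.isPrime hdisj'
    intro htop
    apply hprime.ne_top
    rw [eq_top_iff, ← htop]
    apply Ideal.map_mono
    rw [Ideal.span_le, Set.singleton_subset_iff]
    exact hh𝔪
  have hstd := Groth.Agent.H36.BertiniSm.isStandardSmoothOfRelativeDimension_quotient k
    (Localization.Away η) b'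
    (fun i => algebraMap T (Localization.Away η) (y i)) hb'
    (algebraMap T (Localization.Away η) h) i0 hu
    ((Ideal.span {h}).map (algebraMap T (Localization.Away η))) hJ
  haveI := hstd
  haveI := Groth.Agent.H36.BertiniSm.stdSmooth_away_quotient k h η (Localization.Away η)
    (Fintype.card I - 1)
  haveI : Algebra.IsStandardSmooth k
      (Localization.Away (Ideal.Quotient.mk (Ideal.span {h}) η)) :=
    Algebra.IsStandardSmoothOfRelativeDimension.isStandardSmooth (Fintype.card I - 1)
  infer_instance

end Groth.Agent.H36.Jet
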