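import Mathlib
import Groth.Prelude.Def_PicF2
import Groth.Prelude.Def_Formal
import Groth.Prelude.Def_FlatMod2
import Groth.Agent.H54.ZeroChart
import Groth.Agent.H36.HypZeroA
import Groth.Agent.H36.HypSmoothB
import Groth.Agent.H36.JetAffine
import Groth.Agent.H18.TwistAmple2

/-!
# Bertini with jets for an invertible module on a smooth scheme over an algebraically closed field
-/

set_option autoImplicit false
set_option linter.unusedSectionVars false
set_option linter.unusedVariables false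
set_option linter.style.haveILetI false

universe u

open CategoryTheory CategoryTheory.Limits AlgebraicGeometry TopologicalSpace Opposite
open Groth.Agent.H8 Groth.Agent.H18 Groth.Agent.H54.ZeroIdeal
open KaehlerDifferential

namespace Groth.Agent.H36.Jet

/-- the free module of rank one is the structure module -/
noncomputable def freeOneIso (X : Scheme.{u}) :
    FlatMod.freeMod X 1 ≅ Coh.structureModule X where
  hom := Sigma.desc (fun _ => 𝟙 _)
  inv := Sigma.ι (fun _ : Fin 1 => Coh.structureModule X) 0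
  hom_inv_id := by
    apply Sigma.hom_ext
    intro i
    have hi : i = 0 := Subsingleton.elim _ _
    subst hi
    simp
  inv_hom_id := by simp

theorem isInvertible_of_rank_one {X : Scheme.{u}} (L : X.Modules)
    (hL : FlatMod.IsFinLocFreeOfRank 1 L) : PicF.IsInvertible L := by
  intro x
  obtain ⟨U, hx, ⟨e⟩⟩ := hL x
  exact ⟨U, hx, ⟨e ≪≫ freeOneIso _⟩⟩

variable (k : Type u) [Field k] (Y : Scheme.{u}) [Y.Over (Spec (CommRingCat.of k))]

/-- the structure map `k → Γ(Y, U)` -/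
noncomputable def phi (U : Y.Opens) : k →+* Γ(Y, U) :=
  ((Y ↘ Spec (CommRingCat.of k)).appLE ⊤ U le_top).hom.comp
    (Scheme.ΓSpecIso (CommRingCat.of k)).inv.hom

theorem phi_res {U V : Y.Opens} (h : V ≤ U) (a : k) :
    (Y.presheaf.map (homOfLE h).op).hom (phi k Y U a) = phi k Y V a := by
  have h1 := Scheme.Hom.appLE_map (Y ↘ Spec (CommRingCat.of k)) (U := ⊤) (V := U) le_top
    (homOfLE h).op
  unfold phi
  rw [RingHom.comp_apply, RingHom.comp_apply, ← CommRingCat.comp_apply, h1]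

/-- the `k`-algebra structure on sections of the structure sheaf -/
@[instance_reducible]
noncomputable def algU (U : Y.Opens) : Algebra k Γ(Y, U) := (phi k Y U).toAlgebra

attribute [local instance] algU

theorem algebraMap_eq (U : Y.Opens) : algebraMap k Γ(Y, U) = phi k Y U := rfl

theorem smooth_sections [Smooth (Y ↘ Spec (CommRingCat.of k))] {U : Y.Opens}
    (hU : IsAffineOpen U) : Algebra.Smooth k Γ(Y, U) := by
  have h1 : RingHom.Smooth ((Y ↘ Spec (CommRingCat.of k)).appLE ⊤ U le_top).hom :=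
    HasRingHomProperty.appLE (P := @Smooth) (Y ↘ Spec (CommRingCat.of k)) inferInstance
      ⟨⊤, isAffineOpen_top _⟩ ⟨U, hU⟩ le_top
  rw [← RingHom.smooth_algebraMap, algebraMap_eq]
  exact RingHom.Smooth.comp (RingHom.Smooth.of_bijective
    (ConcreteCategory.bijective_of_isIso (Scheme.ΓSpecIso (CommRingCat.of k)).inv)) h1

theorem mem_basicOpen_iff_notMem_primeIdealOf {U : Y.Opens} (hU : IsAffineOpen U) (F : Γ(Y, U))
    (y : Y) (hy : y ∈ U) : y ∈ Y.basicOpen F ↔ F ∉ (hU.primeIdealOf ⟨y, hy⟩).asIdeal := by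
  have h1 := hU.fromSpec_primeIdealOf ⟨y, hy⟩
  have h2 := hU.fromSpec_preimage_basicOpen F
  have h3 : hU.primeIdealOf ⟨y, hy⟩ ∈ hU.fromSpec ⁻¹ᵁ Y.basicOpen F ↔ y ∈ Y.basicOpen F := by
    change hU.fromSpec (hU.primeIdealOf ⟨y, hy⟩) ∈ Y.basicOpen F ↔ _
    rw [h1]
  rw [← h3, h2]
  rfl

/-- every point of a smooth `k`-scheme has an affine open neighbourhood inside a given open on
which the differentials are free on the differentials of coordinate functions -/
theorem exists_chart_nhds [Smooth (Y ↘ Spec (CommRingCat.of k))] (y : Y) (W : Y.Opens)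
    (hy : y ∈ W) :
    ∃ U : Y.Opens, IsAffineOpen U ∧ y ∈ U ∧ U ≤ W ∧
      ∃ (I : Type) (_ : Fintype I) (_ : DecidableEq I)
        (b : Module.Basis I Γ(Y, U) Ω[Γ(Y, U)⁄k]) (c : I → Γ(Y, U)),
        ∀ i, b i = D k Γ(Y, U) (c i) := by
  classical
  obtain ⟨U₁, hU₁, hy₁, hU₁W⟩ := exists_isAffineOpen_mem_and_subset (x := y) (U := W) hy
  haveI : Algebra.Smooth k Γ(Y, U₁) := smooth_sections k Y hU₁
  haveI : Algebra.FiniteType k Γ(Y, U₁) := inferInstance
  obtain ⟨n, f, hf⟩ := Algebra.FiniteType.iff_quotient_mvPolynomial''.mp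
    (inferInstance : Algebra.FiniteType k Γ(Y, U₁))
  let x : Fin n → Γ(Y, U₁) := fun i => f (MvPolynomial.X i)
  have hfx : (MvPolynomial.aeval x : MvPolynomial (Fin n) k →ₐ[k] Γ(Y, U₁)) = f := by
    apply MvPolynomial.algHom_ext
    intro i
    rw [MvPolynomial.aeval_X]
  have hx : Function.Surjective
      (MvPolynomial.aeval x : MvPolynomial (Fin n) k →ₐ[k] Γ(Y, U₁)) := by
    rw [hfx]
    exact hf
  haveI hprime : (hU₁.primeIdealOf ⟨y, hy₁⟩).asIdeal.IsPrime :=
    (hU₁.primeIdealOf ⟨y, hy₁⟩).isPrime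
  haveI : Algebra.Smooth k (Localization.Away (1 : Γ(Y, U₁))) := by
    haveI : Algebra.Smooth Γ(Y, U₁) (Localization.Away (1 : Γ(Y, U₁))) :=
      ⟨Algebra.FormallySmooth.of_isLocalization (.powers (1 : Γ(Y, U₁))),
        IsLocalization.Away.finitePresentation 1⟩
    exact Algebra.Smooth.comp k Γ(Y, U₁) _
  obtain ⟨F, hF, S, _, _, _, _, _, _, I, b, hb⟩ :=
    Groth.Agent.H36.BertiniSm.exists_chart k x hx (1 : Γ(Y, U₁))
      (hU₁.primeIdealOf ⟨y, hy₁⟩).asIdeal
      (fun h1 => hprime.ne_top ((Ideal.eq_top_iff_one _).mpr h1))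
  refine ⟨Y.basicOpen F, hU₁.basicOpen F,
    (mem_basicOpen_iff_notMem_primeIdealOf Y hU₁ F y hy₁).mpr hF,
    (Y.basicOpen_le F).trans hU₁W, I, inferInstance, inferInstance, ?_⟩
  letI : Algebra Γ(Y, U₁) Γ(Y, Y.basicOpen F) :=
    (Y.presheaf.map (homOfLE (Y.basicOpen_le F)).op).hom.toAlgebra
  haveI : IsLocalization.Away F Γ(Y, Y.basicOpen F) := hU₁.isLocalization_basicOpen F
  haveI : IsScalarTower k Γ(Y, U₁) Γ(Y, Y.basicOpen F) :=
    IsScalarTower.of_algebraMap_eq fun a => (phi_res k Y (Y.basicOpen_le F) a).symm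
  let e : S ≃ₐ[Γ(Y, U₁)] Γ(Y, Y.basicOpen F) :=
    IsLocalization.algEquiv (Submonoid.powers F) S Γ(Y, Y.basicOpen F)
  obtain ⟨b', hb'⟩ := exists_basis_of_algEquiv k S Γ(Y, Y.basicOpen F) (e.restrictScalars k) b
    (fun i => algebraMap Γ(Y, U₁) S (x i)) hb
  exact ⟨b', _, hb'⟩

variable {Y}

theorem sval_add (L : Y.Modules) (φ ψ : Coh.structureModule Y ⟶ L) (U : Y.Opens) :
    sval L (φ + ψ) U = sval L φ U + sval L ψ U := rfl

theorem sval_zero (L : Y.Modules) (U : Y.Opens) :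
    sval L (0 : Coh.structureModule Y ⟶ L) U = 0 := rfl

theorem sval_sum (L : Y.Modules) {ι : Type*} (S : Finset ι)
    (φ : ι → (Coh.structureModule Y ⟶ L)) (U : Y.Opens) :
    sval L (∑ i ∈ S, φ i) U = ∑ i ∈ S, sval L (φ i) U := by
  classical
  induction S using Finset.induction_on with
  | empty => simp [sval_zero]
  | insert x S hx ih => rw [Finset.sum_insert hx, Finset.sum_insert hx, sval_add, ih]

theorem sval_smulMod_comp (L : Y.Modules) (s : Coh.structureModule Y ⟶ L) (a : k) (U : Y.Opens) :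
    sval L (Formal.smulMod k (Coh.structureModule Y) a ≫ s) U = phi k Y U a • sval L s U := by
  have h1 : sval L (Formal.smulMod k (Coh.structureModule Y) a ≫ s) U =
      s.app U ((Formal.smulMod k (Coh.structureModule Y) a).app U (1 : Γ(Y, U))) := rfl
  have h2 : (Formal.smulMod k (Coh.structureModule Y) a).app U (1 : Γ(Y, U)) =
      phi k Y U a • (1 : Γ(Y, U)) := rfl
  rw [h1, h2]
  exact Scheme.Modules.Hom.app_smul s (phi k Y U a) (1 : Γ(Y, U))

/-- the value on a chart of a member of the linear system -/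
theorem sval_lincomb (L : Y.Modules) {U : Y.Opens} (e : Γ(L, U)) {m : ℕ}
    (s : Fin m → (Coh.structureModule Y ⟶ L)) (g : Fin m → Γ(Y, U))
    (hg : ∀ t, sval L (s t) U = g t • e) (c : Fin m → k) :
    sval L (∑ i : Fin m, Formal.smulMod k (Coh.structureModule Y) (c i) ≫ s i) U =
      (∑ t : Fin m, algebraMap k Γ(Y, U) (c t) * g t) • e := by
  rw [sval_sum, Finset.sum_smul]
  refine Finset.sum_congr rfl fun t _ => ?_
  rw [sval_smulMod_comp, hg, smul_smul]
  rfl

/-- separation of 1-jets at closed points, read on a chart -/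
theorem jets_chart [Smooth (Y ↘ Spec (CommRingCat.of k))] (L : Y.Modules) {U : Y.Opens}
    (hU : IsAffineOpen U)
    (e : Γ(L, U)) (he : IsFreeGen L U e) {m : ℕ} (s : Fin m → (Coh.structureModule Y ⟶ L))
    (g : Fin m → Γ(Y, U)) (hg : ∀ t, sval L (s t) U = g t • e)
    (hjet : ∀ p : Y, IsClosed ({p} : Set Y) → ∀ l : ↥(L.presheaf.stalk p), ∃ c : Fin m → k,
      (L.presheaf.germ ⊤ p trivial)
          (PicF2.secVal L
            (∑ i : Fin m, Formal.smulMod k (Coh.structureModule Y) (c i) ≫ s i) ⊤) - l ∈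
        (IsLocalRing.maximalIdeal ↥(Y.presheaf.stalk p)) ^ 2 •
          (⊤ : Submodule ↥(Y.presheaf.stalk p) ↥(L.presheaf.stalk p)))
    (𝔪 : Ideal Γ(Y, U)) (h𝔪 : 𝔪.IsMaximal) (h : Γ(Y, U)) :
    ∃ c : Fin m → k, (∑ t : Fin m, algebraMap k Γ(Y, U) (c t) * g t) - h ∈ 𝔪 ^ 2 := by
  have : JacobsonSpace Y := LocallyOfFiniteType.jacobsonSpace (Y ↘ Spec (CommRingCat.of k))
  let xB : PrimeSpectrum Γ(Y, U) := ⟨𝔪, h𝔪.isPrime⟩
  have hpU : hU.fromSpec xB ∈ U := by
    have : hU.fromSpec xB ∈ Set.range hU.fromSpec := ⟨xB, rfl⟩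
    rw [hU.range_fromSpec] at this
    exact this
  have hpcl : IsClosed ({hU.fromSpec xB} : Set Y) := by
    have h1 : xB ∈ closedPoints (PrimeSpectrum Γ(Y, U)) :=
      (mem_closedPoints_iff).2 ((PrimeSpectrum.isClosed_singleton_iff_isMaximal xB).2 h𝔪)
    have h2 := hU.fromSpec.isOpenEmbedding.preimage_closedPoints
    have h3 : xB ∈ hU.fromSpec ⁻¹' closedPoints Y := by rw [h2]; exact h1
    exact (mem_closedPoints_iff).1 h3
  obtain ⟨c, hc⟩ := hjet (hU.fromSpec xB) hpcl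
    (Y.presheaf.germ U (hU.fromSpec xB) hpU h • L.presheaf.germ U (hU.fromSpec xB) hpU e)
  refine ⟨c, ?_⟩
  set a : Γ(Y, U) := ∑ t : Fin m, algebraMap k Γ(Y, U) (c t) * g t with ha
  have h1 : L.presheaf.germ ⊤ (hU.fromSpec xB) trivial
      (PicF2.secVal L (∑ i : Fin m, Formal.smulMod k (Coh.structureModule Y) (c i) ≫ s i) ⊤) =
      Y.presheaf.germ U (hU.fromSpec xB) hpU a • L.presheaf.germ U (hU.fromSpec xB) hpU e := by
    rw [← germ_smul', ← sval_lincomb k L e s g hg c]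
    rw [← res_val L _ (le_top : U ≤ ⊤)]
    exact (TopCat.Presheaf.germ_res_apply L.presheaf (homOfLE (le_top : U ≤ ⊤))
      (hU.fromSpec xB) hpU _).symm
  rw [h1, ← sub_smul, ← map_sub] at hc
  have h2 := mem_of_smul_mem_smul_top _ (he.germ_bijective hpU) _ _ hc
  letI : Algebra Γ(Y, U) (Y.presheaf.stalk (hU.fromSpec xB)) :=
    TopCat.Presheaf.algebra_section_stalk Y.presheaf ⟨hU.fromSpec xB, hpU⟩
  haveI : IsLocalization.AtPrime (Y.presheaf.stalk (hU.fromSpec xB)) 𝔪 :=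
    hU.isLocalization_stalk' xB hpU
  exact mem_sq_of_algebraMap_mem 𝔪 (Y.presheaf.stalk (hU.fromSpec xB)) (a - h) h2

theorem zeroScheme_ideal_chart (L : Y.Modules) (hL : PicF.IsInvertible L)
    (σ : Coh.structureModule Y ⟶ L) {U : Y.Opens} (hU : IsAffineOpen U) (e : Γ(L, U))
    (he : IsFreeGen L U e) (h : Γ(Y, U)) (hs : sval L σ U = h • e) :
    (PicF2.zeroScheme L σ).ideal ⟨U, hU⟩ = Ideal.span {h} :=
  (Groth.Agent.H54.ZeroChart.zeroScheme_ideal hL σ ⟨U, hU⟩).trans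
    (Groth.Agent.H36.HypZero.zeroIdealOn_eq_span_of_basis L σ U e he h hs)

/-- a closed subscheme which is cut out on the members of an affine open cover by one equation
with smooth quotient is smooth -/
theorem smooth_subscheme (Z : Y.IdealSheafData) {A : Type*} (U : A → Y.Opens)
    (hU : ∀ α, IsAffineOpen (U α)) (hcov : ∀ y : Y, ∃ α, y ∈ U α) (h : ∀ α, Γ(Y, U α))
    (hI : ∀ α, Z.ideal ⟨U α, hU α⟩ = Ideal.span {h α})
    (hsm : ∀ α, Algebra.Smooth k (Γ(Y, U α) ⧸ Ideal.span {h α})) :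
    Smooth (Z.subschemeι ≫ (Y ↘ Spec (CommRingCat.of k))) := by
  have hWaff : ∀ α, IsAffineOpen (Z.subschemeι ⁻¹ᵁ U α) := fun α => (hU α).preimage _
  have hcov' : ⨆ α, Z.subschemeι ⁻¹ᵁ U α = ⊤ := by
    rw [eq_top_iff]
    intro w _
    obtain ⟨α, hα⟩ := hcov (Z.subschemeι.base w)
    exact TopologicalSpace.Opens.mem_iSup.mpr ⟨α, hα⟩
  refine HasRingHomProperty.of_iSup_eq_top (P := @Smooth)
    (fun α => (⟨_, hWaff α⟩ : Z.subscheme.affineOpens)) hcov' (fun α => ?_)
  have hφ : ((Z.subschemeι ≫ (Y ↘ Spec (CommRingCat.of k))).appLE ⊤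
      (Z.subschemeι ⁻¹ᵁ U α) le_top).hom =
      (((Z.subschemeι.app (U α)).hom).comp (algebraMap k Γ(Y, U α))).comp
        (Scheme.ΓSpecIso (CommRingCat.of k)).hom.hom := by
    ext t
    have e1 := Scheme.Hom.appLE_comp_appLE Z.subschemeι (Y ↘ Spec (CommRingCat.of k)) ⊤
      (U α) (Z.subschemeι ⁻¹ᵁ U α) le_top le_rfl
    rw [← Scheme.Hom.app_eq_appLE] at e1
    rw [← e1]
    have ht : t = (Scheme.ΓSpecIso (CommRingCat.of k)).inv.hom
        ((Scheme.ΓSpecIso (CommRingCat.of k)).hom.hom t) := by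
      rw [← CommRingCat.comp_apply, Iso.hom_inv_id]
      rfl
    simp only [CommRingCat.hom_comp, RingHom.comp_apply]
    rw [algebraMap_eq]
    unfold phi
    rw [RingHom.comp_apply, ← ht]
  change RingHom.Smooth ((Z.subschemeι ≫ (Y ↘ Spec (CommRingCat.of k))).appLE ⊤
      (Z.subschemeι ⁻¹ᵁ U α) le_top).hom
  rw [hφ]
  refine RingHom.Smooth.comp (RingHom.Smooth.of_bijective
    (ConcreteCategory.bijective_of_isIso (Scheme.ΓSpecIso (CommRingCat.of k)).hom)) ?_
  exact Groth.Agent.H36.HypSmooth.smooth_comp_of_surjective _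
    (Z.subschemeι.app_surjective _ (hU α)) _
    ((Z.ker_subschemeι_app ⟨U α, hU α⟩).trans (hI α)) (hsm α)

section main

variable [IsAlgClosed k] [Smooth (Y ↘ Spec (CommRingCat.of k))]
  (L : Y.Modules) (hL : PicF.IsInvertible L) {m : ℕ}
  (s : Fin m → (Coh.structureModule Y ⟶ L)) (f : Coh.structureModule Y ⟶ L)
  (hjet : ∀ p : Y, IsClosed ({p} : Set Y) → ∀ l : ↥(L.presheaf.stalk p), ∃ c : Fin m → k,
    (L.presheaf.germ ⊤ p trivial)
        (PicF2.secVal L
          (∑ i : Fin m, Formal.smulMod k (Coh.structureModule Y) (c i) ≫ s i) ⊤) - l ∈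
      (IsLocalRing.maximalIdeal ↥(Y.presheaf.stalk p)) ^ 2 •
        (⊤ : Submodule ↥(Y.presheaf.stalk p) ↥(L.presheaf.stalk p)))

include hL hjet in
/-- Bertini with jets near a point -/
theorem local_bertini (y : Y) :
    ∃ (U : Y.Opens) (hU : IsAffineOpen U), y ∈ U ∧ ∃ q : MvPolynomial (Fin m) k, q ≠ 0 ∧
      ∀ c : Fin m → k, MvPolynomial.eval c q ≠ 0 → ∃ h : Γ(Y, U),
        (PicF2.zeroScheme L
          (f + ∑ i : Fin m, Formal.smulMod k (Coh.structureModule Y) (c i) ≫ s i)).ideal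
            ⟨U, hU⟩ = Ideal.span {h} ∧
        Algebra.Smooth k (Γ(Y, U) ⧸ Ideal.span {h}) := by
  classical
  obtain ⟨W, hyW, e₀, he₀⟩ := exists_isFreeGen_of_isInvertible hL y
  obtain ⟨U, hU, hyU, hUW, I, _, _, b, cc, hb⟩ := exists_chart_nhds k Y y W hyW
  set e : Γ(L, U) := L.presheaf.map (homOfLE hUW).op e₀ with he_def
  have he : IsFreeGen L U e := he₀.res hUW
  have hbij : Function.Bijective (fun r : Γ(Y, U) => r • e) := by
    have h1 := he U le_rfl
    have h2 : L.presheaf.map (homOfLE (le_refl U)).op e = e := mres_self L le_rfl e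
    rw [h2] at h1
    exact h1
  have hg : ∀ t, ∃ g : Γ(Y, U), sval L (s t) U = g • e := fun t =>
    let ⟨g, hg⟩ := hbij.2 (sval L (s t) U); ⟨g, hg.symm⟩
  choose g hg using hg
  obtain ⟨f0, hf0⟩ : ∃ f0 : Γ(Y, U), sval L f U = f0 • e :=
    let ⟨g, hg⟩ := hbij.2 (sval L f U); ⟨g, hg.symm⟩
  haveI : Algebra.Smooth k Γ(Y, U) := smooth_sections k Y hU
  obtain ⟨q, hq0, hq⟩ := affine_jet_bertini k Γ(Y, U) b cc hb g f0
    (fun 𝔪 h𝔪 h => jets_chart k L hU e he s g hg hjet 𝔪 h𝔪 h)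
  refine ⟨U, hU, hyU, q, hq0, fun c hc => ⟨lc f0 g c, ?_, hq c hc⟩⟩
  refine zeroScheme_ideal_chart L hL _ hU e he _ ?_
  rw [sval_add, sval_lincomb k L e s g hg c, hf0, ← add_smul]
  rfl

include hL hjet in
theorem global_bertini [QuasiCompact (Y ↘ Spec (CommRingCat.of k))] :
    ∃ q : MvPolynomial (Fin m) k, q ≠ 0 ∧ ∀ c : Fin m → k, MvPolynomial.eval c q ≠ 0 →
      Smooth ((PicF2.zeroScheme L
        (f + ∑ i : Fin m, Formal.smulMod k (Coh.structureModule Y) (c i) ≫ s i)).subschemeι ≫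
        (Y ↘ Spec (CommRingCat.of k))) := by
  classical
  haveI : CompactSpace Y :=
    QuasiCompact.compactSpace_of_compactSpace (Y ↘ Spec (CommRingCat.of k))
  choose U hU hyU q hq0 hq using local_bertini k L hL s f hjet
  obtain ⟨t, ht⟩ := isCompact_univ.elim_finite_subcover (fun y : Y => ((U y : Y.Opens) : Set Y))
    (fun y => (U y).isOpen) (fun y _ => Set.mem_iUnion.mpr ⟨y, hyU y⟩)
  refine ⟨∏ y ∈ t, q y, Finset.prod_ne_zero_iff.mpr fun y _ => hq0 y, fun c hc => ?_⟩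
  rw [map_prod] at hc
  have hcy : ∀ y ∈ t, MvPolynomial.eval c (q y) ≠ 0 := fun y hy =>
    Finset.prod_ne_zero_iff.mp hc y hy
  have hex := fun α : {y // y ∈ t} => hq α.1 c (hcy α.1 α.2)
  choose h hI hsm using hex
  refine smooth_subscheme k _ (fun α : {y // y ∈ t} => U α.1) (fun α => hU α.1) ?_ h hI hsm
  intro y
  have := ht (Set.mem_univ y)
  rw [Set.mem_iUnion₂] at this
  obtain ⟨y', hy't, hy'⟩ := this
  exact ⟨⟨y', hy't⟩, hy'⟩

end main

end Groth.Agent.H36.Jet
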