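import Mathlib
import Groth.Agent.H36.JetScheme
import Groth.Agent.H36.BpfIncidence

/-!
# Bertini in characteristic zero for a base point free linear system on a smooth scheme
-/

set_option autoImplicit false
set_option linter.unusedSectionVars false
set_option linter.unusedVariables false
set_option linter.style.haveILetI false

universe u

open CategoryTheory CategoryTheory.Limits AlgebraicGeometry TopologicalSpace Opposite
open Groth.Agent.H8 Groth.Agent.H18 Groth.Agent.H54.ZeroIdeal
open Groth.Agent.H36.Jet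

namespace Groth.Agent.H36.Bpf

variable (k : Type u) [Field k] {Y : Scheme.{u}} [Y.Over (Spec (CommRingCat.of k))]

attribute [local instance] Groth.Agent.H36.Jet.algU

section main

variable [IsAlgClosed k] [CharZero k] [Smooth (Y ↘ Spec (CommRingCat.of k))]
  (L : Y.Modules) (hL : PicF.IsInvertible L) {m : ℕ}
  (s : Fin m → (Coh.structureModule Y ⟶ L))
  (hgen : ⨆ i : Fin m, PicF2.zeroScheme L (s i) = ⊤)

include hL hgen in
/-- Bertini for a base point free linear system near a point -/
theorem local_bertini_bpf (y : Y) :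
    ∃ (U : Y.Opens) (hU : IsAffineOpen U), y ∈ U ∧ ∃ q : MvPolynomial (Fin m) k, q ≠ 0 ∧
      ∀ c : Fin m → k, MvPolynomial.eval c q ≠ 0 → ∃ h : Γ(Y, U),
        (PicF2.zeroScheme L
          (∑ i : Fin m, Formal.smulMod k (Coh.structureModule Y) (c i) ≫ s i)).ideal
            ⟨U, hU⟩ = Ideal.span {h} ∧
        Algebra.Smooth k (Γ(Y, U) ⧸ Ideal.span {h}) := by
  classical
  obtain ⟨W, hyW, e₀, he₀⟩ := exists_isFreeGen_of_isInvertible hL y
  obtain ⟨U, hU, hyU, hUW⟩ := exists_isAffineOpen_mem_and_subset (x := y) (U := W) hyW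
  set e : Γ(L, U) := L.presheaf.map (homOfLE hUW).op e₀ with he_def
  have he : IsFreeGen L U e := he₀.res hUW
  have hbij : Function.Bijective (fun r : Γ(Y, U) => r • e) := by
    have h1 := he U le_rfl
    have h2 : L.presheaf.map (homOfLE (le_refl U)).op e = e := mres_self L le_rfl e
    rw [h2] at h1
    exact h1
  have hg : ∀ t, ∃ g : Γ(Y, U), sval L (s t) U = g • e := fun t =>
    let ⟨g, hg⟩ := hbij.2 (sval L (s t) U); ⟨g, hg.symm⟩
  choose g hg using hg
  haveI : Algebra.Smooth k Γ(Y, U) := smooth_sections k Y hU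
  have hideal : ∀ t, (PicF2.zeroScheme L (s t)).ideal ⟨U, hU⟩ = Ideal.span {g t} := fun t =>
    zeroScheme_ideal_chart L hL (s t) hU e he (g t) (hg t)
  have hspan : Ideal.span (Set.range g) = ⊤ := by
    have h1 := congrArg (fun Z : Y.IdealSheafData => Z.ideal ⟨U, hU⟩) hgen
    simp only [Scheme.IdealSheafData.ideal_iSup, iSup_apply, Scheme.IdealSheafData.ideal_top,
      Pi.top_apply] at h1
    rw [← h1, ← Set.iUnion_singleton_eq_range, Ideal.span_iUnion]
    exact iSup_congr fun t => (hideal t).symm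
  obtain ⟨q, hq0, hq⟩ := affine_bpf_bertini k Γ(Y, U) g hspan
  refine ⟨U, hU, hyU, q, hq0, fun c hc =>
    ⟨∑ t, algebraMap k Γ(Y, U) (c t) * g t, ?_, hq c hc⟩⟩
  refine zeroScheme_ideal_chart L hL _ hU e he _ ?_
  rw [sval_lincomb k L e s g hg c]

include hL hgen in
/-- **Bertini in characteristic zero** for a base point free linear system -/
theorem global_bertini_bpf [QuasiCompact (Y ↘ Spec (CommRingCat.of k))] :
    ∃ q : MvPolynomial (Fin m) k, q ≠ 0 ∧ ∀ c : Fin m → k, MvPolynomial.eval c q ≠ 0 →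
      Smooth ((PicF2.zeroScheme L
        (∑ i : Fin m, Formal.smulMod k (Coh.structureModule Y) (c i) ≫ s i)).subschemeι ≫
        (Y ↘ Spec (CommRingCat.of k))) := by
  classical
  haveI : CompactSpace Y :=
    QuasiCompact.compactSpace_of_compactSpace (Y ↘ Spec (CommRingCat.of k))
  choose U hU hyU q hq0 hq using local_bertini_bpf k L hL s hgen
  obtain ⟨t, ht⟩ := isCompact_univ.elim_finite_subcover (fun y : Y => ((U y : Y.Opens) : Set Y))
    (fun y => (U y).isOpen) (fun y _ => Set.mem_iUnion.mpr ⟨y, hyU y⟩)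
  refine ⟨∏ y ∈ t, q y, Finset.prod_ne_zero_iff.mpr fun y _ => hq0 y, fun c hc => ?_⟩
  rw [map_prod] at hc
  have hcy : ∀ y ∈ t, MvPolynomial.eval c (q y) ≠ 0 := fun y hy =>
    Finset.prod_ne_zero_iff.mp hc y hy
  have hex := fun α : {y // y ∈ t} => hq α.1 c (hcy α.1 α.2)
  choose h hI hsm using hex
  refine smooth_subscheme k _ (fun α : {y // y ∈ t} => U α.1) (fun α => hU α.1) ?_ h hI hsm
  intro y
  have := ht (Set.mem_univ y)
  rw [Set.mem_iUnion₂] at this
  obtain ⟨y', hy't, hy'⟩ := this
  exact ⟨⟨y', hy't⟩, hy'⟩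

end main

end Groth.Agent.H36.Bpf
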