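import Mathlib

set_option autoImplicit false
universe u

namespace Groth.Agent.H36.CHR

variable {A : Type*} [CommRing A] {G : Type*} [Group G] [MulSemiringAction G A]

/-- evaluation `y ↦ (τ ↦ τ • y)` as a monoid homomorphism -/
def ev : A →* (G → A) where
  toFun y := fun τ => τ • y
  map_one' := by
    funext τ
    simp
  map_mul' x y := by
    funext τ
    simp [smul_mul']

variable (A G) in
/-- the functions `τ ↦ ∑ X_i τ(Y_i)` -/
def Rep : Subalgebra A (G → A) := Algebra.adjoin A (Set.range (ev (A := A) (G := G)))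

theorem Rep_eq_span : Subalgebra.toSubmodule (Rep A G) =
    Submodule.span A (Set.range (ev (A := A) (G := G))) := by
  unfold Rep
  rw [Algebra.adjoin_eq_span]
  congr 1
  have : Set.range (ev (A := A) (G := G)) =
      ((MonoidHom.mrange (ev (A := A) (G := G)) : Submonoid (G → A)) : Set (G → A)) := by
    simp
  rw [this, Submonoid.closure_eq]

theorem exists_finsupp_of_mem_Rep {F : G → A} (hF : F ∈ Rep A G) :
    ∃ c : A →₀ A, ∀ τ : G, (c.sum fun y x => x * τ • y) = F τ := by
  have h1 : F ∈ Subalgebra.toSubmodule (Rep A G) := hF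
  rw [Rep_eq_span, Finsupp.mem_span_range_iff_exists_finsupp] at h1
  obtain ⟨c, hc⟩ := h1
  refine ⟨c, fun τ => ?_⟩
  rw [← hc, Finsupp.sum, Finsupp.sum, Finset.sum_apply]
  rfl

theorem ev_mem_Rep (y : A) : ev (A := A) (G := G) y ∈ Rep A G :=
  Algebra.subset_adjoin (Set.mem_range_self y)

theorem const_mem_Rep (c : A) : (fun _ : G => c) ∈ Rep A G := by
  have : (fun _ : G => c) = algebraMap A (G → A) c := by
    funext τ
    simp
  rw [this]
  exact Subalgebra.algebraMap_mem _ c

section inv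

set_option linter.unusedSectionVars false
set_option linter.style.haveILetI false

variable {A : Type*} [CommRing A] {G : Type*} [Group G] [MulSemiringAction G A]
  {B : Type*} [CommRing B] [Algebra B A] [Finite G] [SMulCommClass G B A]
  [Algebra.IsInvariant B A G]

theorem exists_notMem_mem_span (P : Ideal B) [P.IsPrime]
    (hin : ∀ Q : Ideal A, Q.IsPrime → Q.comap (algebraMap B A) = P → Q.inertia G = ⊥)
    (σ : G) (hσ : σ ≠ 1) :
    ∃ s : B, s ∉ P ∧ algebraMap B A s ∈ Ideal.span (Set.range fun a : A => σ • a - a) := by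
  by_contra hcon
  push Not at hcon
  haveI : Algebra.IsIntegral B A := Algebra.IsInvariant.isIntegral B A G
  have hle : (Ideal.span (Set.range fun a : A => σ • a - a)).comap (algebraMap B A) ≤ P := by
    intro s hs
    by_contra hsP
    exact hcon s hsP hs
  obtain ⟨Q, hQJ, hQ, hQP⟩ := Ideal.exists_ideal_over_prime_of_isIntegral P _ hle
  have h1 := hin Q hQ hQP
  have h2 : σ ∈ Q.inertia G := by
    intro x
    exact hQJ (Ideal.subset_span ⟨x, rfl⟩)
  rw [h1, Subgroup.mem_bot] at h2
  exact hσ h2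

/-- the function `f_σ` -/
theorem exists_fsigma (P : Ideal B) [P.IsPrime]
    (hin : ∀ Q : Ideal A, Q.IsPrime → Q.comap (algebraMap B A) = P → Q.inertia G = ⊥)
    (σ : G) (hσ : σ ≠ 1) :
    ∃ s : B, s ∉ P ∧ ∃ F ∈ Rep A G, F 1 = algebraMap B A s ∧ F σ = 0 := by
  obtain ⟨s, hsP, hs⟩ := exists_notMem_mem_span P hin σ hσ
  rw [Finsupp.mem_ideal_span_range_iff_exists_finsupp] at hs
  obtain ⟨d, hd⟩ := hs
  refine ⟨s, hsP, fun τ => d.sum fun a x => x * (σ • a - τ • a), ?_, ?_, ?_⟩
  · have : (fun τ : G => d.sum fun a x => x * (σ • a - τ • a)) =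
        d.sum fun a x => (fun _ : G => x * σ • a) - x • ev (G := G) a := by
      funext τ
      rw [Finsupp.sum, Finsupp.sum, Finset.sum_apply]
      refine Finset.sum_congr rfl fun a _ => ?_
      simp [ev, mul_sub]
    rw [this]
    refine Subalgebra.sum_mem _ fun a _ => ?_
    exact Subalgebra.sub_mem _ (const_mem_Rep _) (Subalgebra.smul_mem _ (ev_mem_Rep a) _)
  · simp only [one_smul]
    exact hd
  · simp


open Classical in
/-- the Chase–Harrison–Rosenberg separating function -/
theorem exists_delta (P : Ideal B) [P.IsPrime]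
    (hin : ∀ Q : Ideal A, Q.IsPrime → Q.comap (algebraMap B A) = P → Q.inertia G = ⊥) :
    ∃ s : B, s ∉ P ∧ ∃ c : A →₀ A, ∀ τ : G,
      (c.sum fun y x => x * τ • y) = if τ = 1 then algebraMap B A s else 0 := by
  cases nonempty_fintype G
  have h := fun (σ : {σ : G // σ ≠ 1}) => exists_fsigma P hin σ.1 σ.2
  choose s hsP F hF hF1 hFσ using h
  let s' : G → B := fun σ => if h : σ ≠ 1 then s ⟨σ, h⟩ else 1
  let F' : G → (G → A) := fun σ => if h : σ ≠ 1 then F ⟨σ, h⟩ else 1
  have hs' : ∀ σ, s' σ ∉ P := by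
    intro σ
    by_cases h : σ ≠ 1
    · simp only [s', dif_pos h]
      exact hsP _
    · simp only [s', dif_neg h]
      exact P.one_notMem
  have hF' : ∀ σ, F' σ ∈ Rep A G := by
    intro σ
    by_cases h : σ ≠ 1
    · simp only [F', dif_pos h]
      exact hF _
    · simp only [F', dif_neg h]
      exact Subalgebra.one_mem _
  have hF'1 : ∀ σ, F' σ 1 = algebraMap B A (s' σ) := by
    intro σ
    by_cases h : σ ≠ 1
    · simp only [F', s', dif_pos h]
      exact hF1 _
    · simp only [F', s', dif_neg h]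
      simp
  have hF'σ : ∀ σ, σ ≠ 1 → F' σ σ = 0 := by
    intro σ h
    simp only [F', dif_pos h]
    exact hFσ _
  refine ⟨∏ σ, s' σ, ?_, ?_⟩
  · intro hmem
    obtain ⟨σ, -, hσ⟩ := (Ideal.IsPrime.prod_mem_iff).mp hmem
    exact hs' σ hσ
  · have hprod : (∏ σ, F' σ) ∈ Rep A G := Subalgebra.prod_mem _ fun σ _ => hF' σ
    obtain ⟨c, hc⟩ := exists_finsupp_of_mem_Rep hprod
    refine ⟨c, fun τ => ?_⟩
    rw [hc τ, Finset.prod_apply]
    split_ifs with hτ
    · subst hτ
      rw [map_prod]
      exact Finset.prod_congr rfl fun σ _ => hF'1 σ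
    · exact Finset.prod_eq_zero (Finset.mem_univ τ) (hF'σ τ hτ)


end inv

end Groth.Agent.H36.CHR
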