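import Groth.Agent.H36.CHR
import Groth.Agent.Lead.RegularFlatDescent
import Groth.Agent.Lead.RegularLocalization

set_option autoImplicit false
set_option linter.unusedSectionVars false
set_option linter.style.haveILetI false
universe u v

namespace Groth.Agent.H36.CHR

section trace

variable {A : Type u} [CommRing A] {G : Type*} [Group G] [MulSemiringAction G A]
  {B : Type v} [CommRing B] [Algebra B A] [SMulCommClass G B A]
  [Algebra.IsInvariant B A G]

/-- the trace `a ↦ ∑ τ • a` as a `B`-linear endomorphism of `A` -/
noncomputable def trA [Fintype G] : A →ₗ[B] A :=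
  ∑ τ : G, (MulSemiringAction.toAlgHom B A τ).toLinearMap

theorem trA_apply [Fintype G] (a : A) : trA (G := G) (B := B) a = ∑ τ : G, τ • a := by
  simp [trA]

theorem trA_mem_range [Fintype G] (a : A) :
    trA (G := G) (B := B) a ∈ LinearMap.range (Algebra.linearMap B A) := by
  obtain ⟨b, hb⟩ := Algebra.IsInvariant.isInvariant (A := B) (B := A) (G := G)
    (trA (G := G) (B := B) a) (by
      intro σ
      rw [trA_apply, Finset.smul_sum]
      exact Fintype.sum_equiv (Equiv.mulLeft σ) _ _ (fun τ => by simp [mul_smul]))
  exact ⟨b, hb⟩

/-- the trace with values in `B` -/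
noncomputable def trB [Fintype G] (hinj : Function.Injective (algebraMap B A)) : A →ₗ[B] B :=
  (LinearEquiv.ofInjective (Algebra.linearMap B A) hinj).symm.toLinearMap ∘ₗ
    (trA (G := G) (B := B)).codRestrict (LinearMap.range (Algebra.linearMap B A)) trA_mem_range

theorem algebraMap_trB [Fintype G] (hinj : Function.Injective (algebraMap B A)) (a : A) :
    algebraMap B A (trB (G := G) hinj a) = ∑ τ : G, τ • a := by
  rw [← trA_apply (B := B)]
  unfold trB
  simp only [LinearMap.coe_comp, LinearEquiv.coe_coe, Function.comp_apply]
  have h1 : ∀ z : LinearMap.range (Algebra.linearMap B A),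
      (Algebra.linearMap B A) ((LinearEquiv.ofInjective (Algebra.linearMap B A) hinj).symm z)
        = z.1 := by
    intro z
    rw [← LinearEquiv.ofInjective_apply (h := hinj), LinearEquiv.apply_symm_apply]
  exact h1 _

open Classical in
/-- Chase–Harrison–Rosenberg: locally at a prime with trivial inertia upstairs, `A` is
"almost" a retract of a finite free module over the invariants. -/
theorem exists_retract [Finite G] (hinj : Function.Injective (algebraMap B A))
    (P : Ideal B) [P.IsPrime]
    (hin : ∀ Q : Ideal A, Q.IsPrime → Q.comap (algebraMap B A) = P → Q.inertia G = ⊥) :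
    ∃ s : B, s ∉ P ∧ ∃ (ι₀ : Type u) (_ : Fintype ι₀) (i : A →ₗ[B] (ι₀ → B))
      (r : (ι₀ → B) →ₗ[B] A), r ∘ₗ i = s • LinearMap.id := by
  cases nonempty_fintype G
  obtain ⟨s, hsP, c, hc⟩ := exists_delta (G := G) P hin
  refine ⟨s, hsP, ↥c.support, inferInstance,
    LinearMap.pi fun y => trB (G := G) hinj ∘ₗ LinearMap.mulLeft B (y : A),
    Fintype.linearCombination B (fun y : c.support => c (y : A)), ?_⟩
  ext a
  simp only [LinearMap.coe_comp, Function.comp_apply, Fintype.linearCombination_apply,
    LinearMap.pi_apply, LinearMap.mulLeft_apply, LinearMap.smul_apply, LinearMap.id_coe, id_eq]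
  have h1 : ∀ y : c.support, trB (G := G) hinj ((y : A) * a) • c (y : A) =
      c (y : A) * ∑ τ : G, τ • ((y : A) * a) := by
    intro y
    rw [Algebra.smul_def, algebraMap_trB, mul_comm]
  rw [Finset.sum_congr rfl fun y _ => h1 y]
  rw [Finset.sum_coe_sort c.support (fun y => c y * ∑ τ : G, τ • (y * a))]
  simp only [Finset.mul_sum, smul_mul']
  rw [Finset.sum_comm]
  have h2 : ∀ τ : G, ∑ y ∈ c.support, c y * (τ • y * τ • a) =
      (if τ = 1 then algebraMap B A s else 0) * τ • a := by
    intro τ
    rw [← hc τ, Finsupp.sum, Finset.sum_mul]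
    refine Finset.sum_congr rfl fun y _ => ?_
    ring
  rw [Finset.sum_congr rfl fun τ _ => h2 τ]
  simp [Algebra.smul_def]

end trace

/-- a localization of an "almost retract" of a flat module is flat -/
theorem flat_of_retract_localized {R : Type*} [CommRing R] (S : Submonoid R)
    {M : Type*} [AddCommGroup M] [Module R M] {F : Type*} [AddCommGroup F] [Module R F]
    [Module.Flat R F] (s : R) (hs : s ∈ S)
    (i : M →ₗ[R] F) (r : F →ₗ[R] M) (hri : r ∘ₗ i = s • LinearMap.id)
    {M' : Type*} [AddCommGroup M'] [Module R M'] (f : M →ₗ[R] M') [IsLocalizedModule S f] :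
    Module.Flat R M' := by
  let g := LocalizedModule.mkLinearMap S F
  haveI : Module.Flat R (LocalizedModule S F) :=
    (Module.flat_iff_of_isLocalization (Localization S) S (LocalizedModule S F)).mp inferInstance
  let i' := IsLocalizedModule.map S f g i
  let r' := IsLocalizedModule.map S g f r
  have h1 : r' ∘ₗ i' = s • LinearMap.id := by
    rw [← IsLocalizedModule.map_comp' S f g f i r, hri, map_smul, IsLocalizedModule.map_id]
  have hu := IsLocalizedModule.map_units f ⟨s, hs⟩
  obtain ⟨u, hu⟩ := hu
  have h2 : (↑u⁻¹ : Module.End R M') ∘ₗ (r' ∘ₗ i') = LinearMap.id := by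
    rw [h1]
    ext x
    have : (↑u⁻¹ : Module.End R M') ((u : Module.End R M') x) = x := by
      rw [← Module.End.mul_apply, Units.inv_mul, Module.End.one_apply]
    rw [hu] at this
    simpa using this
  exact Module.Flat.of_retract i' ((↑u⁻¹ : Module.End R M') ∘ₗ r') (by rw [LinearMap.comp_assoc, h2])

/-- transfer flatness from the localization at the image of `P.primeCompl` to a prime above. -/
theorem flat_atPrime_of_flat {B A : Type*} [CommRing B] [CommRing A] [Algebra B A]
    (P : Ideal B) [P.IsPrime] (Q : Ideal A) [Q.IsPrime] (hQ : Q.comap (algebraMap B A) = P)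
    (hflat : Module.Flat B (Localization (Algebra.algebraMapSubmonoid A P.primeCompl))) :
    Module.Flat B (Localization.AtPrime Q) := by
  have hle : Algebra.algebraMapSubmonoid A P.primeCompl ≤ Q.primeCompl := by
    rintro _ ⟨b, hb, rfl⟩
    intro hmem
    apply hb
    rw [← hQ]
    exact hmem
  letI := IsLocalization.localizationAlgebraOfSubmonoidLe
    (Localization (Algebra.algebraMapSubmonoid A P.primeCompl)) (Localization.AtPrime Q)
    (Algebra.algebraMapSubmonoid A P.primeCompl) Q.primeCompl hle
  haveI : IsScalarTower A (Localization (Algebra.algebraMapSubmonoid A P.primeCompl))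
      (Localization.AtPrime Q) :=
    IsLocalization.localization_isScalarTower_of_submonoid_le _ _ _ _ hle
  haveI : IsLocalization (Q.primeCompl.map (algebraMap A
      (Localization (Algebra.algebraMapSubmonoid A P.primeCompl)))) (Localization.AtPrime Q) :=
    IsLocalization.isLocalization_of_submonoid_le _ _ _ _ hle
  haveI : Module.Flat (Localization (Algebra.algebraMapSubmonoid A P.primeCompl))
      (Localization.AtPrime Q) :=
    IsLocalization.flat _ (Q.primeCompl.map (algebraMap A
      (Localization (Algebra.algebraMapSubmonoid A P.primeCompl))))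
  haveI : IsScalarTower B (Localization (Algebra.algebraMapSubmonoid A P.primeCompl))
      (Localization.AtPrime Q) := by
    apply IsScalarTower.of_algebraMap_eq'
    rw [IsScalarTower.algebraMap_eq B A (Localization.AtPrime Q),
      IsScalarTower.algebraMap_eq B A (Localization (Algebra.algebraMapSubmonoid A P.primeCompl)),
      ← RingHom.comp_assoc,
      ← IsScalarTower.algebraMap_eq A (Localization (Algebra.algebraMapSubmonoid A P.primeCompl))
        (Localization.AtPrime Q)]
  exact Module.Flat.trans B (Localization (Algebra.algebraMapSubmonoid A P.primeCompl))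
    (Localization.AtPrime Q)

section main

variable {A : Type u} [CommRing A] {G : Type*} [Group G] [MulSemiringAction G A]
  {B : Type u} [CommRing B] [Algebra B A] [SMulCommClass G B A]
  [Algebra.IsInvariant B A G]

/-- flatness of the local ring upstairs over the local ring of the invariants at a prime
with trivial inertia -/
theorem flat_atPrime [Finite G] (hinj : Function.Injective (algebraMap B A))
    (P : Ideal B) [P.IsPrime]
    (hin : ∀ Q : Ideal A, Q.IsPrime → Q.comap (algebraMap B A) = P → Q.inertia G = ⊥)
    (Q : Ideal A) [Q.IsPrime] (hQ : Q.comap (algebraMap B A) = P) :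
    Module.Flat B (Localization.AtPrime Q) := by
  obtain ⟨s, hsP, ι₀, _, i, r, hri⟩ := exists_retract (G := G) hinj P hin
  refine flat_atPrime_of_flat P Q hQ ?_
  exact flat_of_retract_localized P.primeCompl s hsP i r hri
    (IsScalarTower.toAlgHom B A
      (Localization (Algebra.algebraMapSubmonoid A P.primeCompl))).toLinearMap

/-- regularity of the local rings of the ring of invariants at primes with trivial inertia
upstairs (the quotient map is étale there) -/
theorem isRegularLocalRing_atPrime [Finite G] (hinj : Function.Injective (algebraMap B A))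
    (P : Ideal B) [P.IsPrime]
    (hin : ∀ Q : Ideal A, Q.IsPrime → Q.comap (algebraMap B A) = P → Q.inertia G = ⊥)
    (Q : Ideal A) [Q.IsPrime] (hQ : Q.comap (algebraMap B A) = P)
    [IsRegularLocalRing (Localization.AtPrime Q)] :
    IsRegularLocalRing (Localization.AtPrime P) := by
  have hflatB := flat_atPrime (G := G) hinj P hin Q hQ
  haveI : Q.LiesOver P := ⟨hQ.symm⟩
  letI := Localization.AtPrime.algebraOfLiesOver P Q
  haveI : Module.Flat (Localization.AtPrime P) (Localization.AtPrime Q) :=
    (Module.flat_iff_of_isLocalization (Localization.AtPrime P) P.primeCompl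
      (Localization.AtPrime Q)).mpr hflatB
  haveI : IsLocalHom (algebraMap (Localization.AtPrime P) (Localization.AtPrime Q)) := by
    rw [RingHom.algebraMap_toAlgebra]
    exact Localization.isLocalHom_localRingHom P Q (algebraMap B A) Ideal.LiesOver.over
  haveI : Module.FaithfullyFlat (Localization.AtPrime P) (Localization.AtPrime Q) :=
    Module.FaithfullyFlat.of_flat_of_isLocalHom
  haveI : IsNoetherianRing (Localization.AtPrime P) := by
    apply Submodule.IsNoetherian.of_isNoetherian_tensorProduct_of_faithfullyFlat
      (A := Localization.AtPrime Q)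
    exact isNoetherian_of_linearEquiv
      (TensorProduct.AlgebraTensorModule.rid (Localization.AtPrime P) (Localization.AtPrime Q)
        (Localization.AtPrime Q)).symm
  exact Groth.Agent.Lead.RLR.isRegularLocalRing_of_flat (Localization.AtPrime P)
    (Localization.AtPrime Q)

end main

end Groth.Agent.H36.CHR
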