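import Mathlib
import Groth.Agent.Lead.RegularLocal3

set_option autoImplicit false
universe u

namespace Groth.Agent.H36.GradedUnit

open DirectSum

variable {R : Type u} [CommRing R] (𝒜 : ℤ → AddSubgroup R) [GradedRing 𝒜]

/-- the inverse of a homogeneous unit is homogeneous -/
theorem inv_mem {n : ℤ} (tu : Rˣ) (ht : (tu : R) ∈ 𝒜 n) : ((tu⁻¹ : Rˣ) : R) ∈ 𝒜 (-n) := by
  classical
  have h1 : ((decompose 𝒜 ((tu : R) * ((tu⁻¹ : Rˣ) : R)) (n + (-n)) : 𝒜 (n + -n)) : R) =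
      (tu : R) * ((decompose 𝒜 ((tu⁻¹ : Rˣ) : R) (-n) : 𝒜 (-n)) : R) :=
    coe_decompose_mul_add_of_left_mem 𝒜 ht
  have h2 : (tu : R) * ((tu⁻¹ : Rˣ) : R) = 1 := by simp
  rw [h2] at h1
  have h3 : ((decompose 𝒜 (1 : R) (n + (-n)) : 𝒜 (n + -n)) : R) = 1 := by
    have h0 : n + -n = 0 := by omega
    rw [h0]
    exact decompose_of_mem_same 𝒜 (SetLike.one_mem_graded 𝒜)
  rw [h3] at h1
  have h4 : ((tu⁻¹ : Rˣ) : R) = ((decompose 𝒜 ((tu⁻¹ : Rˣ) : R) (-n) : 𝒜 (-n)) : R) := by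
    have : ((tu⁻¹ : Rˣ) : R) = ((tu⁻¹ : Rˣ) : R) * ((tu : R) *
        ((decompose 𝒜 ((tu⁻¹ : Rˣ) : R) (-n) : 𝒜 (-n)) : R)) := by
      rw [← h1, mul_one]
    rw [← mul_assoc] at this
    simpa using this
  rw [h4]
  exact (decompose 𝒜 ((tu⁻¹ : Rˣ) : R) (-n)).2

theorem zpow_mem {n : ℤ} (tu : Rˣ) (ht : (tu : R) ∈ 𝒜 n) (k : ℤ) :
    ((tu ^ k : Rˣ) : R) ∈ 𝒜 (k * n) := by
  have hnat : ∀ (m : ℕ) (v : Rˣ) (d : ℤ), (v : R) ∈ 𝒜 d → ((v ^ m : Rˣ) : R) ∈ 𝒜 (m * d) := by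
    intro m v d hv
    have := SetLike.pow_mem_graded (A := 𝒜) m hv
    simpa [smul_eq_mul] using this
  obtain ⟨m, rfl | rfl⟩ := Int.eq_nat_or_neg k
  · simpa using hnat m tu n ht
  · have h1 := hnat m tu⁻¹ (-n) (inv_mem 𝒜 tu ht)
    have h2 : (tu⁻¹ ^ m : Rˣ) = tu ^ (-(m : ℤ)) := by simp
    rw [h2] at h1
    convert h1 using 2
    ring

/-- projection to the degree zero subring -/
noncomputable def pr0 : R →+ SetLike.GradeZero.subring 𝒜 where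
  toFun r := ⟨(decompose 𝒜 r 0 : 𝒜 0), (decompose 𝒜 r 0).2⟩
  map_zero' := by
    apply Subtype.ext
    simp
  map_add' a b := by
    apply Subtype.ext
    rw [decompose_add, DirectSum.add_apply]
    rfl

theorem pr0_of_mem {x : R} (hx : x ∈ 𝒜 0) : pr0 𝒜 x = ⟨x, hx⟩ := by
  apply Subtype.ext
  exact decompose_of_mem_same 𝒜 hx

/-- the unit `1 + ε` of the dual numbers -/
noncomputable def uEps (κ : Type*) [CommRing κ] : (DualNumber κ)ˣ where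
  val := 1 + DualNumber.eps
  inv := 1 - DualNumber.eps
  val_inv := by
    have := DualNumber.eps_mul_eps (R := κ)
    linear_combination -this
  inv_val := by
    have := DualNumber.eps_mul_eps (R := κ)
    linear_combination -this

theorem fst_uEps_zpow (κ : Type*) [CommRing κ] (k : ℤ) :
    TrivSqZeroExt.fst ((uEps κ ^ k : (DualNumber κ)ˣ) : DualNumber κ) = 1 := by
  have h1 : TrivSqZeroExt.fst ((uEps κ : (DualNumber κ)ˣ) : DualNumber κ) = 1 := by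
    simp [uEps]
  have h2 : Units.map (TrivSqZeroExt.fstHom κ κ κ : DualNumber κ →* κ) (uEps κ) = 1 := by
    apply Units.ext
    simpa using h1
  have h3 : Units.map (TrivSqZeroExt.fstHom κ κ κ : DualNumber κ →* κ) (uEps κ ^ k) = 1 := by
    rw [map_zpow, h2, one_zpow]
  have h4 : TrivSqZeroExt.fst ((uEps κ ^ k : (DualNumber κ)ˣ) : DualNumber κ) =
      ((Units.map (TrivSqZeroExt.fstHom κ κ κ : DualNumber κ →* κ) (uEps κ ^ k) : κˣ) : κ) := rfl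
  rw [h4, h3]
  rfl


section main

set_option linter.unusedSectionVars false

variable {R : Type u} [CommRing R] (𝒜 : ℤ → AddSubgroup R) [GradedRing 𝒜]
  [IsLocalRing (SetLike.GradeZero.subring 𝒜)] (N : ℕ) (tu : Rˣ)

/-- the residue field of the degree zero part -/
abbrev Kap : Type u := IsLocalRing.ResidueField (SetLike.GradeZero.subring 𝒜)

open Classical in
/-- components of the ring homomorphism to the dual numbers -/
noncomputable def fcomp (i : ℤ) : 𝒜 i →+ DualNumber (Kap 𝒜) :=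
  if (N : ℤ) ∣ i then
    (AddMonoidHom.mulRight ((uEps (Kap 𝒜) ^ (i / N) : (DualNumber (Kap 𝒜))ˣ) : DualNumber (Kap 𝒜))).comp
      ((algebraMap (Kap 𝒜) (DualNumber (Kap 𝒜))).toAddMonoidHom.comp
        ((IsLocalRing.residue (SetLike.GradeZero.subring 𝒜)).toAddMonoidHom.comp
          ((pr0 𝒜).comp ((AddMonoidHom.mulRight ((tu ^ (-(i / N)) : Rˣ) : R)).comp
            (𝒜 i).subtype))))
  else 0

variable {N} {tu}

theorem mul_zpow_mem (ht : (tu : R) ∈ 𝒜 N) {i : ℤ} (hi : (N : ℤ) ∣ i) {a : R} (ha : a ∈ 𝒜 i) :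
    a * ((tu ^ (-(i / N)) : Rˣ) : R) ∈ 𝒜 0 := by
  have h1 := zpow_mem 𝒜 tu ht (-(i / N))
  have h2 := SetLike.mul_mem_graded ha h1
  have h3 : i + -(i / ↑N) * ↑N = 0 := by
    rw [neg_mul, Int.ediv_mul_cancel hi]
    omega
  rwa [h3] at h2

theorem fcomp_of_dvd (ht : (tu : R) ∈ 𝒜 N) {i : ℤ} (hi : (N : ℤ) ∣ i) (a : 𝒜 i) :
    fcomp 𝒜 N tu i a = algebraMap (Kap 𝒜) (DualNumber (Kap 𝒜))
      (IsLocalRing.residue (SetLike.GradeZero.subring 𝒜)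
        ⟨(a : R) * ((tu ^ (-(i / N)) : Rˣ) : R), mul_zpow_mem 𝒜 ht hi a.2⟩) *
      ((uEps (Kap 𝒜) ^ (i / N) : (DualNumber (Kap 𝒜))ˣ) : DualNumber (Kap 𝒜)) := by
  unfold fcomp
  rw [if_pos hi]
  simp only [AddMonoidHom.coe_comp, Function.comp_apply, AddMonoidHom.coe_mulRight,
    RingHom.toAddMonoidHom_eq_coe, AddMonoidHom.coe_coe, AddSubgroup.coe_subtype]
  rw [pr0_of_mem 𝒜 (mul_zpow_mem 𝒜 ht hi a.2)]

theorem fcomp_of_not_dvd {i : ℤ} (hi : ¬ (N : ℤ) ∣ i) (a : 𝒜 i) :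
    fcomp 𝒜 N tu i a = 0 := by
  unfold fcomp
  rw [if_neg hi]
  rfl

/-- products of complementary non-divisible degrees land in the maximal ideal -/
theorem residue_mul_eq_zero (ht : (tu : R) ∈ 𝒜 N)
    (hnu : ∀ i : ℤ, ¬ (N : ℤ) ∣ i → ∀ s ∈ 𝒜 i, ¬ IsUnit s)
    {i j : ℤ} (hi : ¬ (N : ℤ) ∣ i) (hij : (N : ℤ) ∣ i + j) {a b : R} (ha : a ∈ 𝒜 i) (hb : b ∈ 𝒜 j) :
    IsLocalRing.residue (SetLike.GradeZero.subring 𝒜)
      ⟨(a * b) * ((tu ^ (-((i + j) / N)) : Rˣ) : R),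
        mul_zpow_mem 𝒜 ht hij (SetLike.mul_mem_graded ha hb)⟩ = 0 := by
  rw [IsLocalRing.residue_eq_zero_iff]
  intro hunit
  have h1 : IsUnit ((a * b) * ((tu ^ (-((i + j) / N)) : Rˣ) : R)) :=
    hunit.map (SetLike.GradeZero.subring 𝒜).subtype
  rw [mul_assoc] at h1
  exact hnu i hi a ha (isUnit_of_mul_isUnit_left h1)

theorem fcomp_one (ht : (tu : R) ∈ 𝒜 N) :
    fcomp 𝒜 N tu 0 ⟨1, SetLike.one_mem_graded 𝒜⟩ = 1 := by
  rw [fcomp_of_dvd 𝒜 ht (dvd_zero _)]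
  have h1 : (⟨(1 : R) * ((tu ^ (-((0 : ℤ) / N)) : Rˣ) : R), mul_zpow_mem 𝒜 ht (dvd_zero _)
      (SetLike.one_mem_graded 𝒜)⟩ : SetLike.GradeZero.subring 𝒜) = 1 := by
    apply Subtype.ext
    simp
  rw [h1]
  simp

theorem fcomp_mul (ht : (tu : R) ∈ 𝒜 N)
    (hnu : ∀ i : ℤ, ¬ (N : ℤ) ∣ i → ∀ s ∈ 𝒜 i, ¬ IsUnit s)
    {i j : ℤ} {a b : R} (ha : a ∈ 𝒜 i) (hb : b ∈ 𝒜 j) :
    fcomp 𝒜 N tu (i + j) ⟨a * b, SetLike.mul_mem_graded ha hb⟩ =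
      fcomp 𝒜 N tu i ⟨a, ha⟩ * fcomp 𝒜 N tu j ⟨b, hb⟩ := by
  by_cases hi : (N : ℤ) ∣ i
  · by_cases hj : (N : ℤ) ∣ j
    · have hij : (N : ℤ) ∣ i + j := dvd_add hi hj
      rw [fcomp_of_dvd 𝒜 ht hij, fcomp_of_dvd 𝒜 ht hi, fcomp_of_dvd 𝒜 ht hj]
      have hdiv : (i + j) / (N : ℤ) = i / N + j / N := Int.add_ediv_of_dvd_left hi
      have h1 : (⟨(a * b) * ((tu ^ (-((i + j) / N)) : Rˣ) : R),
          mul_zpow_mem 𝒜 ht hij (SetLike.mul_mem_graded ha hb)⟩ : SetLike.GradeZero.subring 𝒜) =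
          ⟨a * ((tu ^ (-(i / N)) : Rˣ) : R), mul_zpow_mem 𝒜 ht hi ha⟩ *
          ⟨b * ((tu ^ (-(j / N)) : Rˣ) : R), mul_zpow_mem 𝒜 ht hj hb⟩ := by
        apply Subtype.ext
        simp only [Subring.coe_mul]
        rw [hdiv, neg_add, zpow_add, Units.val_mul]
        ring
      have h2 : ((uEps (Kap 𝒜) ^ ((i + j) / (N : ℤ)) : (DualNumber (Kap 𝒜))ˣ) : DualNumber (Kap 𝒜)) =
          ((uEps (Kap 𝒜) ^ (i / (N : ℤ)) : (DualNumber (Kap 𝒜))ˣ) : DualNumber (Kap 𝒜)) *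
          ((uEps (Kap 𝒜) ^ (j / (N : ℤ)) : (DualNumber (Kap 𝒜))ˣ) : DualNumber (Kap 𝒜)) := by
        rw [hdiv, zpow_add, Units.val_mul]
      rw [h1, h2, map_mul, map_mul]
      ring
    · have hij : ¬ (N : ℤ) ∣ i + j := fun h => hj ((dvd_add_right hi).mp h)
      rw [fcomp_of_not_dvd 𝒜 hij, fcomp_of_not_dvd 𝒜 hj, mul_zero]
  · rw [fcomp_of_not_dvd 𝒜 hi, zero_mul]
    by_cases hij : (N : ℤ) ∣ i + j
    · rw [fcomp_of_dvd 𝒜 ht hij]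
      rw [residue_mul_eq_zero 𝒜 ht hnu hi hij ha hb, map_zero, zero_mul]
    · rw [fcomp_of_not_dvd 𝒜 hij]

/-- the ring homomorphism to the dual numbers of the residue field -/
noncomputable def Phi (ht : (tu : R) ∈ 𝒜 N)
    (hnu : ∀ i : ℤ, ¬ (N : ℤ) ∣ i → ∀ s ∈ 𝒜 i, ¬ IsUnit s) : R →+* DualNumber (Kap 𝒜) :=
  (DirectSum.toSemiring (A := fun i => 𝒜 i) (fcomp 𝒜 N tu) (fcomp_one 𝒜 ht)
    (fun ai aj => fcomp_mul 𝒜 ht hnu ai.2 aj.2)).comp (decomposeRingEquiv 𝒜).toRingHom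

theorem Phi_of_mem (ht : (tu : R) ∈ 𝒜 N)
    (hnu : ∀ i : ℤ, ¬ (N : ℤ) ∣ i → ∀ s ∈ 𝒜 i, ¬ IsUnit s) {i : ℤ} {a : R} (ha : a ∈ 𝒜 i) :
    Phi 𝒜 ht hnu a = fcomp 𝒜 N tu i ⟨a, ha⟩ := by
  unfold Phi
  simp only [RingEquiv.toRingHom_eq_coe, RingHom.coe_comp, RingHom.coe_coe, Function.comp_apply]
  have : decomposeRingEquiv 𝒜 a = DirectSum.of (fun i => 𝒜 i) i ⟨a, ha⟩ := decompose_of_mem 𝒜 ha
  rw [this, DirectSum.toSemiring_of]


end main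

section main2

set_option linter.unusedSectionVars false

variable {R : Type u} [CommRing R] (𝒜 : ℤ → AddSubgroup R) [GradedRing 𝒜]
  [IsLocalRing (SetLike.GradeZero.subring 𝒜)] {N : ℕ} {tu : Rˣ}
  (ht : (tu : R) ∈ 𝒜 N) (hnu : ∀ i : ℤ, ¬ (N : ℤ) ∣ i → ∀ s ∈ 𝒜 i, ¬ IsUnit s)

theorem Phi_deg0 (s : SetLike.GradeZero.subring 𝒜) :
    Phi 𝒜 ht hnu (s : R) = algebraMap (Kap 𝒜) (DualNumber (Kap 𝒜))
      (IsLocalRing.residue (SetLike.GradeZero.subring 𝒜) s) := by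
  have hs : (s : R) ∈ 𝒜 0 := s.2
  rw [Phi_of_mem 𝒜 ht hnu hs, fcomp_of_dvd 𝒜 ht (dvd_zero _)]
  have h1 : (⟨(s : R) * ((tu ^ (-((0 : ℤ) / N)) : Rˣ) : R), mul_zpow_mem 𝒜 ht (dvd_zero _) hs⟩ :
      SetLike.GradeZero.subring 𝒜) = s := by
    apply Subtype.ext
    simp
  rw [h1]
  simp

theorem Phi_of_dvd {i : ℤ} (hi : (N : ℤ) ∣ i) {a : R} (ha : a ∈ 𝒜 i) :
    Phi 𝒜 ht hnu a = algebraMap (Kap 𝒜) (DualNumber (Kap 𝒜))
      (IsLocalRing.residue (SetLike.GradeZero.subring 𝒜)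
        ⟨a * ((tu ^ (-(i / N)) : Rˣ) : R), mul_zpow_mem 𝒜 ht hi ha⟩) *
      ((uEps (Kap 𝒜) ^ (i / N) : (DualNumber (Kap 𝒜))ˣ) : DualNumber (Kap 𝒜)) := by
  rw [Phi_of_mem 𝒜 ht hnu ha, fcomp_of_dvd 𝒜 ht hi]

theorem Phi_of_not_dvd {i : ℤ} (hi : ¬ (N : ℤ) ∣ i) {a : R} (ha : a ∈ 𝒜 i) :
    Phi 𝒜 ht hnu a = 0 := by
  rw [Phi_of_mem 𝒜 ht hnu ha, fcomp_of_not_dvd 𝒜 hi]

theorem Phi_t (hN : 0 < N) : Phi 𝒜 ht hnu (tu : R) = ((uEps (Kap 𝒜) : (DualNumber (Kap 𝒜))ˣ) : DualNumber (Kap 𝒜)) := by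
  rw [Phi_of_dvd 𝒜 ht hnu (dvd_refl _) ht]
  have hNN : (N : ℤ) / N = 1 := Int.ediv_self (by exact_mod_cast hN.ne')
  have h1 : (⟨(tu : R) * ((tu ^ (-((N : ℤ) / N)) : Rˣ) : R), mul_zpow_mem 𝒜 ht (dvd_refl _) ht⟩ :
      SetLike.GradeZero.subring 𝒜) = 1 := by
    apply Subtype.ext
    show (tu : R) * ((tu ^ (-((N : ℤ) / N)) : Rˣ) : R) = 1
    simp [hNN]
  rw [h1, hNN]
  simp

/-- the augmentation to the residue field -/
noncomputable def eps : R →+* Kap 𝒜 :=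
  (TrivSqZeroExt.fstHom (Kap 𝒜) (Kap 𝒜) (Kap 𝒜) : DualNumber (Kap 𝒜) →+* Kap 𝒜).comp (Phi 𝒜 ht hnu)

/-- the tangent functional -/
noncomputable def Dm (r : R) : Kap 𝒜 := TrivSqZeroExt.snd (Phi 𝒜 ht hnu r)

theorem eps_apply (r : R) : eps 𝒜 ht hnu r = TrivSqZeroExt.fst (Phi 𝒜 ht hnu r) := rfl

theorem eps_deg0 (s : SetLike.GradeZero.subring 𝒜) :
    eps 𝒜 ht hnu (s : R) = IsLocalRing.residue (SetLike.GradeZero.subring 𝒜) s := by
  rw [eps_apply, Phi_deg0, TrivSqZeroExt.algebraMap_eq_inl]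
  simp

theorem eps_surjective : Function.Surjective (eps 𝒜 ht hnu) := by
  intro x
  obtain ⟨s, rfl⟩ := IsLocalRing.residue_surjective x
  exact ⟨s, eps_deg0 𝒜 ht hnu s⟩

theorem Dm_add (a b : R) : Dm 𝒜 ht hnu (a + b) = Dm 𝒜 ht hnu a + Dm 𝒜 ht hnu b := by
  unfold Dm
  rw [map_add, TrivSqZeroExt.snd_add]

theorem Dm_mul (a b : R) : Dm 𝒜 ht hnu (a * b) =
    eps 𝒜 ht hnu a * Dm 𝒜 ht hnu b + Dm 𝒜 ht hnu a * eps 𝒜 ht hnu b := by
  simp only [Dm, eps_apply, map_mul, TrivSqZeroExt.snd_mul, smul_eq_mul, MulOpposite.smul_eq_mul_unop,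
    MulOpposite.unop_op]

theorem eps_t (hN : 0 < N) : eps 𝒜 ht hnu (tu : R) = 1 := by
  rw [eps_apply, Phi_t 𝒜 ht hnu hN]
  simp [uEps]

theorem Dm_t (hN : 0 < N) : Dm 𝒜 ht hnu (tu : R) = 1 := by
  rw [Dm, Phi_t 𝒜 ht hnu hN]
  simp [uEps]

theorem Dm_one : Dm 𝒜 ht hnu (1 : R) = 0 := by
  simp [Dm]


/-- the maximal ideal at which we localize -/
noncomputable def Mx : Ideal R := RingHom.ker (eps 𝒜 ht hnu)

theorem mem_Mx (r : R) : r ∈ Mx 𝒜 ht hnu ↔ eps 𝒜 ht hnu r = 0 := RingHom.mem_ker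

instance Mx_isMaximal : (Mx 𝒜 ht hnu).IsMaximal :=
  RingHom.ker_isMaximal_of_surjective _ (eps_surjective 𝒜 ht hnu)

theorem Dm_eq_zero_of_mem_sq {y : R} (hy : y ∈ Mx 𝒜 ht hnu ^ 2) : Dm 𝒜 ht hnu y = 0 := by
  rw [pow_two] at hy
  refine Submodule.mul_induction_on hy ?_ ?_
  · intro a ha b hb
    rw [Dm_mul, (mem_Mx 𝒜 ht hnu a).mp ha, (mem_Mx 𝒜 ht hnu b).mp hb]
    simp
  · intro a b ha hb
    rw [Dm_add, ha, hb, add_zero]

theorem sub_one_mem (hN : 0 < N) : (tu : R) - 1 ∈ Mx 𝒜 ht hnu := by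
  rw [mem_Mx, map_sub, eps_t 𝒜 ht hnu hN, map_one, sub_self]

theorem Dm_sub_one (hN : 0 < N) : Dm 𝒜 ht hnu ((tu : R) - 1) = 1 := by
  have h1 := Dm_add 𝒜 ht hnu ((tu : R) - 1) 1
  rw [sub_add_cancel, Dm_t 𝒜 ht hnu hN, Dm_one, add_zero] at h1
  exact h1.symm

theorem mul_sub_one_notMem_sq (hN : 0 < N) {s : R} (hs : s ∉ Mx 𝒜 ht hnu) :
    s * ((tu : R) - 1) ∉ Mx 𝒜 ht hnu ^ 2 := by
  intro h
  have h1 := Dm_eq_zero_of_mem_sq 𝒜 ht hnu h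
  rw [Dm_mul, Dm_sub_one 𝒜 ht hnu hN, (mem_Mx 𝒜 ht hnu _).mp (sub_one_mem 𝒜 ht hnu hN), mul_one,
    mul_zero, add_zero] at h1
  exact hs ((mem_Mx 𝒜 ht hnu s).mpr h1)

theorem algebraMap_sub_one_notMem_sq (hN : 0 < N) :
    algebraMap R (Localization.AtPrime (Mx 𝒜 ht hnu)) ((tu : R) - 1) ∉
      IsLocalRing.maximalIdeal (Localization.AtPrime (Mx 𝒜 ht hnu)) ^ 2 := by
  rw [← Localization.AtPrime.map_eq_maximalIdeal, ← Ideal.map_pow]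
  intro h
  rw [IsLocalization.mem_map_algebraMap_iff (Mx 𝒜 ht hnu).primeCompl] at h
  obtain ⟨⟨⟨a, ha⟩, ⟨s, hs⟩⟩, h1⟩ := h
  simp only at h1
  rw [← map_mul, IsLocalization.eq_iff_exists (Mx 𝒜 ht hnu).primeCompl] at h1
  obtain ⟨⟨c, hc⟩, h2⟩ := h1
  simp only at h2
  have h3 : (c * s) * ((tu : R) - 1) ∈ Mx 𝒜 ht hnu ^ 2 := by
    have : (c * s) * ((tu : R) - 1) = c * a := by
      rw [← h2]
      ring
    rw [this]
    exact Ideal.mul_mem_left _ _ ha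
  refine mul_sub_one_notMem_sq 𝒜 ht hnu hN ?_ h3
  exact (Mx 𝒜 ht hnu).primeCompl.mul_mem hc hs

theorem algebraMap_sub_one_mem (hN : 0 < N) :
    algebraMap R (Localization.AtPrime (Mx 𝒜 ht hnu)) ((tu : R) - 1) ∈
      IsLocalRing.maximalIdeal (Localization.AtPrime (Mx 𝒜 ht hnu)) := by
  rw [← Localization.AtPrime.map_eq_maximalIdeal]
  exact Ideal.mem_map_of_mem _ (sub_one_mem 𝒜 ht hnu hN)


/-- the map from the degree zero part to the quotient -/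
noncomputable def phi0 (tu : Rˣ) : SetLike.GradeZero.subring 𝒜 →+* R ⧸ Ideal.span {(tu : R) - 1} :=
  (Ideal.Quotient.mk (Ideal.span {(tu : R) - 1})).comp (SetLike.GradeZero.subring 𝒜).subtype

theorem mk_zpow (k : ℤ) :
    Ideal.Quotient.mk (Ideal.span {(tu : R) - 1}) ((tu ^ k : Rˣ) : R) = 1 := by
  have h1 : Ideal.Quotient.mk (Ideal.span {(tu : R) - 1}) (tu : R) = 1 := by
    rw [← sub_eq_zero, ← map_one (Ideal.Quotient.mk (Ideal.span {(tu : R) - 1})), ← map_sub,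
      Ideal.Quotient.eq_zero_iff_mem]
    exact Ideal.mem_span_singleton_self _
  have h2 : Units.map (Ideal.Quotient.mk (Ideal.span {(tu : R) - 1})).toMonoidHom tu = 1 := by
    apply Units.ext
    simpa using h1
  have h3 : Units.map (Ideal.Quotient.mk (Ideal.span {(tu : R) - 1})).toMonoidHom (tu ^ k) = 1 := by
    rw [map_zpow, h2, one_zpow]
  have h4 : Ideal.Quotient.mk (Ideal.span {(tu : R) - 1}) ((tu ^ k : Rˣ) : R) =
      ((Units.map (Ideal.Quotient.mk (Ideal.span {(tu : R) - 1})).toMonoidHom (tu ^ k) : (R ⧸ _)ˣ) :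
        R ⧸ Ideal.span {(tu : R) - 1}) := rfl
  rw [h4, h3]
  rfl

theorem pow_mul_zpow_mem (ht : (tu : R) ∈ 𝒜 N) {i : ℤ} {a : R} (ha : a ∈ 𝒜 i) :
    a ^ N * ((tu ^ (-i) : Rˣ) : R) ∈ 𝒜 0 := by
  have h1 := SetLike.pow_mem_graded (A := 𝒜) N ha
  have h2 := zpow_mem 𝒜 tu ht (-i)
  have h3 := SetLike.mul_mem_graded h1 h2
  have h4 : N • i + -i * (N : ℤ) = 0 := by
    rw [nsmul_eq_mul]
    ring
  rwa [h4] at h3

theorem mk_pow_eq (ht : (tu : R) ∈ 𝒜 N) {i : ℤ} {a : R} (ha : a ∈ 𝒜 i) :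
    (Ideal.Quotient.mk (Ideal.span {(tu : R) - 1}) a) ^ N =
      phi0 𝒜 tu ⟨a ^ N * ((tu ^ (-i) : Rˣ) : R), pow_mul_zpow_mem 𝒜 ht ha⟩ := by
  unfold phi0
  simp only [RingHom.coe_comp, Function.comp_apply, Subring.coe_subtype, map_mul, map_pow]
  rw [mk_zpow, mul_one]

theorem phi0_isIntegral (ht : (tu : R) ∈ 𝒜 N) (hN : 0 < N) : (phi0 𝒜 tu).IsIntegral := by
  intro c
  obtain ⟨r, rfl⟩ := Ideal.Quotient.mk_surjective c
  induction r using DirectSum.Decomposition.inductionOn 𝒜 with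
  | zero =>
    rw [map_zero]
    exact (phi0 𝒜 tu).isIntegralElem_zero
  | @homogeneous i a =>
    refine ⟨Polynomial.X ^ N - Polynomial.C ⟨(a : R) ^ N * ((tu ^ (-i) : Rˣ) : R),
      pow_mul_zpow_mem 𝒜 ht a.2⟩, Polynomial.monic_X_pow_sub_C _ hN.ne', ?_⟩
    rw [Polynomial.eval₂_sub, Polynomial.eval₂_pow, Polynomial.eval₂_X, Polynomial.eval₂_C,
      mk_pow_eq 𝒜 ht a.2, sub_self]
  | add m m' hm hm' =>
    rw [map_add]
    exact RingHom.IsIntegralElem.add _ hm hm'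


theorem comap_phi0_eq (ht : (tu : R) ∈ 𝒜 N) (hN : 0 < N) (𝔫 : Ideal (R ⧸ Ideal.span {(tu : R) - 1})) [𝔫.IsMaximal] :
    𝔫.comap (phi0 𝒜 tu) = IsLocalRing.maximalIdeal (SetLike.GradeZero.subring 𝒜) := by
  have := Ideal.isMaximal_comap_of_isIntegral_of_isMaximal' (phi0 𝒜 tu)
    (phi0_isIntegral 𝒜 ht hN) 𝔫
  exact IsLocalRing.eq_maximalIdeal this

theorem exists_deg0_approx (hN : 0 < N) (𝔫 : Ideal (R ⧸ Ideal.span {(tu : R) - 1})) [𝔫.IsMaximal]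
    (r : R) : ∃ s : SetLike.GradeZero.subring 𝒜,
      Ideal.Quotient.mk (Ideal.span {(tu : R) - 1}) r - phi0 𝒜 tu s ∈ 𝔫 ∧
      eps 𝒜 ht hnu r = IsLocalRing.residue (SetLike.GradeZero.subring 𝒜) s := by
  induction r using DirectSum.Decomposition.inductionOn 𝒜 with
  | zero =>
    exact ⟨0, by simp, by simp⟩
  | @homogeneous i a =>
    by_cases hi : (N : ℤ) ∣ i
    · refine ⟨⟨(a : R) * ((tu ^ (-(i / N)) : Rˣ) : R), mul_zpow_mem 𝒜 ht hi a.2⟩, ?_, ?_⟩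
      · have : Ideal.Quotient.mk (Ideal.span {(tu : R) - 1}) (a : R) -
            phi0 𝒜 tu ⟨(a : R) * ((tu ^ (-(i / N)) : Rˣ) : R), mul_zpow_mem 𝒜 ht hi a.2⟩ = 0 := by
          unfold phi0
          simp only [RingHom.coe_comp, Function.comp_apply, Subring.coe_subtype, map_mul]
          rw [mk_zpow, mul_one, sub_self]
        rw [this]
        exact zero_mem _
      · rw [eps_apply, Phi_of_dvd 𝒜 ht hnu hi a.2, TrivSqZeroExt.fst_mul, fst_uEps_zpow, mul_one,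
          TrivSqZeroExt.algebraMap_eq_inl, TrivSqZeroExt.fst_inl]
    · refine ⟨0, ?_, ?_⟩
      · rw [map_zero, sub_zero]
        apply Ideal.IsPrime.mem_of_pow_mem (Ideal.IsMaximal.isPrime' 𝔫) N
        rw [mk_pow_eq 𝒜 ht a.2, ← Ideal.mem_comap, comap_phi0_eq 𝒜 ht hN 𝔫]
        intro hunit
        have h1 : IsUnit ((a : R) ^ N * ((tu ^ (-i) : Rˣ) : R)) :=
          hunit.map (SetLike.GradeZero.subring 𝒜).subtype
        have h2 : IsUnit ((a : R) ^ N) := isUnit_of_mul_isUnit_left h1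
        exact hnu i hi a a.2 ((isUnit_pow_iff hN.ne').mp h2)
      · rw [eps_apply, Phi_of_not_dvd 𝒜 ht hnu hi a.2]
        simp
  | add m m' hm hm' =>
    obtain ⟨s, hs1, hs2⟩ := hm
    obtain ⟨s', hs1', hs2'⟩ := hm'
    refine ⟨s + s', ?_, ?_⟩
    · have : Ideal.Quotient.mk (Ideal.span {(tu : R) - 1}) (m + m') - phi0 𝒜 tu (s + s') =
          (Ideal.Quotient.mk (Ideal.span {(tu : R) - 1}) m - phi0 𝒜 tu s) +
          (Ideal.Quotient.mk (Ideal.span {(tu : R) - 1}) m' - phi0 𝒜 tu s') := by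
        rw [map_add, map_add]
        ring
      rw [this]
      exact add_mem hs1 hs1'
    · rw [map_add, map_add, hs2, hs2']

theorem isUnit_mk_of_notMem (hN : 0 < N) {r : R} (hr : r ∉ Mx 𝒜 ht hnu) :
    IsUnit (Ideal.Quotient.mk (Ideal.span {(tu : R) - 1}) r) := by
  by_contra hnon
  obtain ⟨𝔫, h𝔫, hmem⟩ := exists_max_ideal_of_mem_nonunits hnon
  obtain ⟨s, hs1, hs2⟩ := exists_deg0_approx 𝒜 ht hnu hN 𝔫 r
  have h1 : phi0 𝒜 tu s ∈ 𝔫 := by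
    have := sub_mem hmem hs1
    simpa using this
  have h2 : s ∈ IsLocalRing.maximalIdeal (SetLike.GradeZero.subring 𝒜) := by
    rw [← comap_phi0_eq 𝒜 ht hN 𝔫]
    exact h1
  rw [← IsLocalRing.residue_eq_zero_iff] at h2
  rw [h2] at hs2
  exact hr ((mem_Mx 𝒜 ht hnu r).mpr hs2)


theorem isRegularLocalRing_quotient (hN : 0 < N)
    (hreg : IsRegularLocalRing (Localization.AtPrime (Mx 𝒜 ht hnu))) :
    IsRegularLocalRing (R ⧸ Ideal.span {(tu : R) - 1}) := by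
  classical
  set M := Mx 𝒜 ht hnu with hM
  set S := Localization.AtPrime M with hS
  set x : S := algebraMap R S ((tu : R) - 1) with hx
  obtain ⟨tf, hcard, hspan⟩ := Groth.Agent.Lead.RLR.exists_finset_span_insert S x
    (algebraMap_sub_one_mem 𝒜 ht hnu hN) (algebraMap_sub_one_notMem_sq 𝒜 ht hnu hN)
  have h1 : IsRegularLocalRing (S ⧸ Ideal.span {x}) :=
    (Groth.Agent.Lead.RLR.quotient_regular S x tf hspan (le_of_eq hcard)).1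
  set I : Ideal R := Ideal.span {(tu : R) - 1} with hI
  have hmap : I.map (algebraMap R S) = Ideal.span {x} := by
    rw [hI, Ideal.map_span, Set.image_singleton]
  have hunits : Algebra.algebraMapSubmonoid (R ⧸ I) M.primeCompl ≤ IsUnit.submonoid (R ⧸ I) := by
    rintro _ ⟨r, hr, rfl⟩
    exact isUnit_mk_of_notMem 𝒜 ht hnu hN hr
  let e1 : (R ⧸ I) ≃ₐ[R ⧸ I] (S ⧸ I.map (algebraMap R S)) :=
    IsLocalization.atUnits (R ⧸ I) (Algebra.algebraMapSubmonoid (R ⧸ I) M.primeCompl) hunits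
  let e2 : (S ⧸ I.map (algebraMap R S)) ≃+* (S ⧸ Ideal.span {x}) := Ideal.quotEquivOfEq hmap
  exact IsRegularLocalRing.of_ringEquiv (e1.toRingEquiv.trans e2).symm


end main2

end Groth.Agent.H36.GradedUnit

namespace Groth.Agent.H36.GradedUnit

variable {R : Type u} [CommRing R] (𝒜 : ℤ → AddSubgroup R) [GradedRing 𝒜]

/-- no homogeneous units in degrees strictly between `0` and `N` implies none in degrees not
divisible by `N`, when there is a homogeneous unit of degree `N`. -/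
theorem no_units_of_min {N : ℕ} (hN : 0 < N) {tu : Rˣ} (ht : (tu : R) ∈ 𝒜 N)
    (hmin : ∀ (n : ℤ), 0 < n → n < (N : ℤ) → ∀ s ∈ 𝒜 n, ¬ IsUnit s) :
    ∀ i : ℤ, ¬ (N : ℤ) ∣ i → ∀ s ∈ 𝒜 i, ¬ IsUnit s := by
  intro i hi s hs hunit
  have hNz : (N : ℤ) ≠ 0 := by exact_mod_cast hN.ne'
  have hNpos : (0 : ℤ) < N := by exact_mod_cast hN
  have h1 := zpow_mem 𝒜 tu ht (-(i / N))
  have h2 := SetLike.mul_mem_graded hs h1
  have h3 : i + -(i / (N : ℤ)) * N = i % N := by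
    have := Int.emod_add_mul_ediv i N
    linarith
  rw [h3] at h2
  have hpos : 0 < i % (N : ℤ) := by
    have h4 := Int.emod_nonneg i hNz
    rcases h4.lt_or_eq with h5 | h5
    · exact h5
    · exact absurd (Int.dvd_of_emod_eq_zero h5.symm) hi
  have hlt : i % (N : ℤ) < N := Int.emod_lt_of_pos i hNpos
  exact hmin _ hpos hlt _ h2 (hunit.mul (Units.isUnit _))

end Groth.Agent.H36.GradedUnit
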