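import Mathlib
import Groth.Agent.Lead.RegularLocalization

/-!
# Regularity of Laurent polynomial rings over regular local rings
-/

set_option autoImplicit false
universe u

namespace Groth.Agent.H36.RegularLaurent

open Polynomial LaurentPolynomial

/-- a regular local ring is a regular ring (Serre) -/
theorem isRegularRing_of_isRegularLocalRing (C : Type u) [CommRing C] [IsRegularLocalRing C] :
    IsRegularRing C := by
  rw [isRegularRing_iff]
  intro p hp
  exact Groth.Agent.Lead.RLR.isRegularLocalRing_localization C p

/-- a localization of a regular ring is regular -/
theorem isRegularRing_of_isLocalization {A : Type u} [CommRing A] [IsRegularRing A]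
    (M : Submonoid A) (S : Type u) [CommRing S] [Algebra A S] [IsLocalization M S] :
    IsRegularRing S := by
  haveI : IsNoetherianRing S := IsLocalization.isNoetherianRing M S inferInstance
  rw [isRegularRing_iff]
  intro q hq
  haveI : IsLocalization.AtPrime (Localization.AtPrime q) (q.comap (algebraMap A S)) :=
    IsLocalization.isLocalization_isLocalization_atPrime_isLocalization M (Localization.AtPrime q) q
  let e : Localization.AtPrime (q.comap (algebraMap A S)) ≃ₐ[A] Localization.AtPrime q :=
    IsLocalization.algEquiv (q.comap (algebraMap A S)).primeCompl _ _
  exact IsRegularLocalRing.of_ringEquiv e.toRingEquiv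

/-- Laurent polynomials over a regular ring form a regular ring -/
theorem isRegularRing_laurent (C : Type u) [CommRing C] [IsRegularRing C] :
    IsRegularRing C[T;T⁻¹] :=
  isRegularRing_of_isLocalization (Submonoid.powers (X : C[X])) C[T;T⁻¹]

end Groth.Agent.H36.RegularLaurent
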