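import Groth.Agent.H36.GradedTwist
import Groth.Agent.H36.GradedUnit
import Groth.Agent.H36.RegularLaurent

set_option autoImplicit false
set_option linter.unusedSectionVars false
universe u

namespace Groth.Agent.H36.GradedRoot

open Polynomial Groth.Agent.H36.GradedTwist
open scoped LaurentPolynomial

variable {R : Type u} [CommRing R] (𝒜 : ℤ → AddSubgroup R) [GradedRing 𝒜] {N : ℕ} (tu : Rˣ)

/-- the unit `T` of the Laurent polynomial ring -/
noncomputable def Tu (C' : Type*) [CommRing C'] : (C'[T;T⁻¹])ˣ where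
  val := LaurentPolynomial.T 1
  inv := LaurentPolynomial.T (-1)
  val_inv := by rw [← LaurentPolynomial.T_add]; simp
  inv_val := by rw [← LaurentPolynomial.T_add]; simp

theorem Tu_zpow (C' : Type*) [CommRing C'] (i : ℤ) : ((Tu C' ^ i : (C'[T;T⁻¹])ˣ) : C'[T;T⁻¹]) = LaurentPolynomial.T i := by
  obtain ⟨n, rfl | rfl⟩ := Int.eq_nat_or_neg i
  · rw [zpow_natCast, Units.val_pow_eq_pow_val]
    show (LaurentPolynomial.T 1 : C'[T;T⁻¹]) ^ n = LaurentPolynomial.T n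
    rw [LaurentPolynomial.T_pow, mul_one]
  · rw [zpow_neg, zpow_natCast, ← inv_pow, Units.val_pow_eq_pow_val]
    show (LaurentPolynomial.T (-1) : C'[T;T⁻¹]) ^ n = LaurentPolynomial.T (-n)
    rw [LaurentPolynomial.T_pow]
    congr 1
    ring

/-- the root as a unit of `R[U]/(U^N - t)` -/
noncomputable def Uu (hN : 0 < N) : (AdjoinRoot (X ^ N - Polynomial.C (tu : R)))ˣ where
  val := AdjoinRoot.root _
  inv := AdjoinRoot.root _ ^ (N - 1) * AdjoinRoot.of _ ((tu⁻¹ : Rˣ) : R)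
  val_inv := by
    have h1 := AdjoinRoot.eval₂_root (X ^ N - Polynomial.C (tu : R))
    rw [Polynomial.eval₂_sub, Polynomial.eval₂_pow, Polynomial.eval₂_X, Polynomial.eval₂_C, sub_eq_zero] at h1
    rw [← mul_assoc, ← pow_succ', Nat.sub_add_cancel hN, h1, ← map_mul]
    simp
  inv_val := by
    have h1 := AdjoinRoot.eval₂_root (X ^ N - Polynomial.C (tu : R))
    rw [Polynomial.eval₂_sub, Polynomial.eval₂_pow, Polynomial.eval₂_X, Polynomial.eval₂_C, sub_eq_zero] at h1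
    rw [mul_comm, ← mul_assoc, ← pow_succ', Nat.sub_add_cancel hN, h1, ← map_mul]
    simp

theorem Uu_pow (hN : 0 < N) :
    ((Uu tu hN ^ (N : ℤ) : (AdjoinRoot (X ^ N - Polynomial.C (tu : R)))ˣ) : AdjoinRoot (X ^ N - Polynomial.C (tu : R))) =
      AdjoinRoot.of _ (tu : R) := by
  have h1 := AdjoinRoot.eval₂_root (X ^ N - Polynomial.C (tu : R))
  rw [Polynomial.eval₂_sub, Polynomial.eval₂_pow, Polynomial.eval₂_X, Polynomial.eval₂_C, sub_eq_zero] at h1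
  rw [zpow_natCast, Units.val_pow_eq_pow_val]
  exact h1

/-- the map `R[U]/(U^N - t) → (R/(t-1))[T;T⁻¹]` -/
noncomputable def Psi (ht : (tu : R) ∈ 𝒜 N) :
    AdjoinRoot (X ^ N - Polynomial.C (tu : R)) →+* (R ⧸ Ideal.span {(tu : R) - 1})[T;T⁻¹] :=
  AdjoinRoot.lift
    (twist 𝒜 ((LaurentPolynomial.C).comp (Ideal.Quotient.mk (Ideal.span {(tu : R) - 1}))) (Tu _))
    (LaurentPolynomial.T 1) (by
      rw [Polynomial.eval₂_sub, Polynomial.eval₂_pow, Polynomial.eval₂_X, Polynomial.eval₂_C, twist_of_mem 𝒜 _ _ ht, Tu_zpow, LaurentPolynomial.T_pow, mul_one]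
      have h1 : Ideal.Quotient.mk (Ideal.span {(tu : R) - 1}) (tu : R) = 1 := by
        rw [← sub_eq_zero, ← map_one (Ideal.Quotient.mk (Ideal.span {(tu : R) - 1})), ← map_sub,
          Ideal.Quotient.eq_zero_iff_mem]
        exact Ideal.mem_span_singleton_self _
      simp [h1])

/-- the map `R/(t-1) → R[U]/(U^N - t)` -/
noncomputable def theta0 (hN : 0 < N) (ht : (tu : R) ∈ 𝒜 N) :
    (R ⧸ Ideal.span {(tu : R) - 1}) →+* AdjoinRoot (X ^ N - Polynomial.C (tu : R)) :=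
  Ideal.Quotient.lift _ (twist 𝒜 (AdjoinRoot.of _) (Uu tu hN)⁻¹) (by
    intro a ha
    rw [Ideal.mem_span_singleton] at ha
    obtain ⟨c, rfl⟩ := ha
    rw [map_mul, map_sub, map_one, twist_of_mem 𝒜 _ _ ht, inv_zpow, ← Uu_pow tu hN,
      ← Units.val_mul, mul_inv_cancel, Units.val_one, sub_self, zero_mul])

/-- the map `(R/(t-1))[T;T⁻¹] → R[U]/(U^N - t)` -/
noncomputable def Theta (hN : 0 < N) (ht : (tu : R) ∈ 𝒜 N) :
    (R ⧸ Ideal.span {(tu : R) - 1})[T;T⁻¹] →+* AdjoinRoot (X ^ N - Polynomial.C (tu : R)) :=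
  LaurentPolynomial.eval₂ (theta0 𝒜 tu hN ht) (Uu tu hN)

theorem Psi_of (ht : (tu : R) ∈ 𝒜 N) (r : R) :
    Psi 𝒜 tu ht (AdjoinRoot.of _ r) =
      twist 𝒜 ((LaurentPolynomial.C).comp (Ideal.Quotient.mk (Ideal.span {(tu : R) - 1}))) (Tu _) r := by
  unfold Psi
  rw [AdjoinRoot.lift_of]

theorem Psi_root (ht : (tu : R) ∈ 𝒜 N) :
    Psi 𝒜 tu ht (AdjoinRoot.root _) = LaurentPolynomial.T 1 := by
  unfold Psi
  rw [AdjoinRoot.lift_root]

theorem Psi_Uu_zpow (hN : 0 < N) (ht : (tu : R) ∈ 𝒜 N) (i : ℤ) :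
    Psi 𝒜 tu ht ((Uu tu hN ^ i : (AdjoinRoot (X ^ N - Polynomial.C (tu : R)))ˣ) :
      AdjoinRoot (X ^ N - Polynomial.C (tu : R))) = LaurentPolynomial.T i := by
  have h1 : Units.map (Psi 𝒜 tu ht).toMonoidHom (Uu tu hN) = Tu _ := by
    apply Units.ext
    exact Psi_root 𝒜 tu ht
  have h2 : Psi 𝒜 tu ht ((Uu tu hN ^ i : (AdjoinRoot (X ^ N - Polynomial.C (tu : R)))ˣ) :
      AdjoinRoot (X ^ N - Polynomial.C (tu : R))) =
      ((Units.map (Psi 𝒜 tu ht).toMonoidHom (Uu tu hN ^ i) : _ˣ) : (R ⧸ Ideal.span {(tu : R) - 1})[T;T⁻¹]) := rfl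
  rw [h2, map_zpow, h1, Tu_zpow]

theorem Theta_Psi (hN : 0 < N) (ht : (tu : R) ∈ 𝒜 N) :
    (Theta 𝒜 tu hN ht).comp (Psi 𝒜 tu ht) = RingHom.id _ := by
  have hof : ((Theta 𝒜 tu hN ht).comp (Psi 𝒜 tu ht)).comp (AdjoinRoot.of _) = AdjoinRoot.of _ := by
    apply ringHom_ext_homogeneous 𝒜
    intro i a ha
    simp only [RingHom.coe_comp, Function.comp_apply]
    rw [Psi_of, twist_of_mem 𝒜 _ _ ha, Tu_zpow]
    unfold Theta
    simp only [RingHom.coe_comp, Function.comp_apply]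
    rw [LaurentPolynomial.eval₂_C_mul_T]
    unfold theta0
    rw [Ideal.Quotient.lift_mk, twist_of_mem 𝒜 _ _ ha, mul_assoc, ← Units.val_mul, inv_zpow,
      inv_mul_cancel, Units.val_one, mul_one]
  apply Ideal.Quotient.ringHom_ext
  apply Polynomial.ringHom_ext
  · intro r
    have := congrArg (fun f => f r) hof
    exact this
  · show Theta 𝒜 tu hN ht (Psi 𝒜 tu ht (AdjoinRoot.root _)) = AdjoinRoot.root _
    rw [Psi_root]
    unfold Theta
    rw [LaurentPolynomial.eval₂_T]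
    simp
    rfl

theorem Psi_Theta (hN : 0 < N) (ht : (tu : R) ∈ 𝒜 N) :
    (Psi 𝒜 tu ht).comp (Theta 𝒜 tu hN ht) = RingHom.id _ := by
  have hmk : ((Psi 𝒜 tu ht).comp (theta0 𝒜 tu hN ht)).comp
      (Ideal.Quotient.mk (Ideal.span {(tu : R) - 1})) =
      (LaurentPolynomial.C).comp (Ideal.Quotient.mk (Ideal.span {(tu : R) - 1})) := by
    apply ringHom_ext_homogeneous 𝒜
    intro i a ha
    simp only [RingHom.coe_comp, Function.comp_apply]
    unfold theta0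
    rw [Ideal.Quotient.lift_mk, twist_of_mem 𝒜 _ _ ha, map_mul, Psi_of, twist_of_mem 𝒜 _ _ ha,
      inv_zpow, ← zpow_neg, Psi_Uu_zpow, Tu_zpow, mul_assoc, ← LaurentPolynomial.T_add]
    simp
  refine RingHom.ext fun y => ?_
  simp only [RingHom.coe_comp, Function.comp_apply, RingHom.id_apply]
  induction y using LaurentPolynomial.induction_on' with
  | add p q hp hq => rw [map_add, map_add, hp, hq]
  | C_mul_T n c =>
    obtain ⟨r, rfl⟩ := Ideal.Quotient.mk_surjective c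
    unfold Theta
    rw [LaurentPolynomial.eval₂_C_mul_T, map_mul, Psi_Uu_zpow]
    have := congrArg (fun f => f r) hmk
    simp only [RingHom.coe_comp, Function.comp_apply] at this
    rw [this]

/-- the isomorphism `R[U]/(U^N - t) ≃ (R/(t-1))[T;T⁻¹]` -/
noncomputable def equivLaurent (hN : 0 < N) (ht : (tu : R) ∈ 𝒜 N) :
    AdjoinRoot (X ^ N - Polynomial.C (tu : R)) ≃+* (R ⧸ Ideal.span {(tu : R) - 1})[T;T⁻¹] :=
  RingEquiv.ofRingHom (Psi 𝒜 tu ht) (Theta 𝒜 tu hN ht) (Psi_Theta 𝒜 tu hN ht) (Theta_Psi 𝒜 tu hN ht)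


/-- the product condition excludes homogeneous units in degrees strictly between `0` and `N` -/
theorem no_units_of_prod [IsLocalRing (SetLike.GradeZero.subring 𝒜)] (ht : (tu : R) ∈ 𝒜 N)
    (hm : ∀ (i j : ℤ), 0 < i → 0 < j → i + j = (N : ℤ) → ∀ a ∈ 𝒜 i, ∀ b ∈ 𝒜 j,
      ∃ c : SetLike.GradeZero.subring 𝒜, c ∈ IsLocalRing.maximalIdeal (SetLike.GradeZero.subring 𝒜) ∧
        a * b = (c : R) * (tu : R)) :
    ∀ (n : ℤ), 0 < n → n < (N : ℤ) → ∀ s ∈ 𝒜 n, ¬ IsUnit s := by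
  intro n hn0 hnN s hs hunit
  obtain ⟨su, rfl⟩ := hunit
  have h1 : ((su⁻¹ : Rˣ) : R) ∈ 𝒜 (-n) := Groth.Agent.H36.GradedUnit.inv_mem 𝒜 su hs
  have h2 : ((su⁻¹ : Rˣ) : R) * (tu : R) ∈ 𝒜 (-n + N) := SetLike.mul_mem_graded h1 ht
  obtain ⟨c, hc, hc2⟩ := hm n (-n + N) hn0 (by omega) (by omega) _ hs _ h2
  rw [← mul_assoc, ← Units.val_mul, mul_inv_cancel, Units.val_one, one_mul] at hc2
  have h3 : (c : R) = 1 := by
    have := congrArg (fun z => z * ((tu⁻¹ : Rˣ) : R)) hc2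
    simp only [mul_assoc, ← Units.val_mul, mul_inv_cancel, Units.val_one, mul_one] at this
    exact this.symm
  have h4 : c = 1 := Subtype.ext h3
  rw [h4] at hc
  exact (Ideal.ne_top_iff_one _).mp (IsLocalRing.maximalIdeal.isMaximal _).ne_top hc

/-- `R[U]/(U^N - t)` is a regular ring -/
theorem isRegularRing_adjoinRoot [IsLocalRing (SetLike.GradeZero.subring 𝒜)] (hN : 0 < N)
    (ht : (tu : R) ∈ 𝒜 N)
    (hreg : ∀ (p : Ideal R) [p.IsPrime], IsRegularLocalRing (Localization.AtPrime p))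
    (hmin : ∀ (n : ℤ), 0 < n → n < (N : ℤ) → ∀ s ∈ 𝒜 n, ¬ IsUnit s) :
    IsRegularRing (AdjoinRoot (X ^ N - Polynomial.C (tu : R))) := by
  have hnu := Groth.Agent.H36.GradedUnit.no_units_of_min 𝒜 hN ht hmin
  haveI : IsRegularLocalRing (R ⧸ Ideal.span {(tu : R) - 1}) :=
    Groth.Agent.H36.GradedUnit.isRegularLocalRing_quotient 𝒜 ht hnu hN
      (hreg (Groth.Agent.H36.GradedUnit.Mx 𝒜 ht hnu))
  haveI : IsRegularRing (R ⧸ Ideal.span {(tu : R) - 1}) :=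
    Groth.Agent.H36.RegularLaurent.isRegularRing_of_isRegularLocalRing _
  haveI : IsRegularRing (R ⧸ Ideal.span {(tu : R) - 1})[T;T⁻¹] :=
    Groth.Agent.H36.RegularLaurent.isRegularRing_laurent _
  exact IsRegularRing.of_ringEquiv (equivLaurent 𝒜 tu hN ht).symm

end Groth.Agent.H36.GradedRoot
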