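import Mathlib
import Groth.Agent.H36.GradedRoot
import Groth.Agent.H13.GenReg
import Groth.Agent.H23.RegSmooth2

/-!
# The affine cone away from `x_j = 0` is a Laurent polynomial ring over the slice `x_j = 1`

For an ideal `I` of `k[x_l]` spanned by homogeneous polynomials,
`(k[x]/I)[1/x_j] ≃ (k[x]/(I + (x_j - 1)))[T;T⁻¹]`.
-/

set_option autoImplicit false
set_option linter.unusedSectionVars false
set_option linter.unusedVariables false
set_option linter.style.haveILetI false

universe u v

namespace Groth.Agent.H36.Cone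

open MvPolynomial
open scoped LaurentPolynomial
open Groth.Agent.H36.GradedRoot (Tu Tu_zpow)

section Scale

variable {k : Type*} [CommRing k] {σ : Type*} {R : Type*} [CommRing R] [Algebra k R]

/-- scaling all the variables of a homogeneous polynomial -/
theorem aeval_mul_pow_of_isHomogeneous (a : σ → R) (w : R) {p : MvPolynomial σ k} {d : ℕ}
    (hp : p.IsHomogeneous d) :
    aeval (fun l => a l * w) p = aeval a p * w ^ d := by
  classical
  rw [aeval_def, aeval_def, eval₂_eq, eval₂_eq, Finset.sum_mul]
  refine Finset.sum_congr rfl fun m hm => ?_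
  have hdeg : ∑ i ∈ m.support, m i = d := by
    have h1 := hp (mem_support_iff.mp hm)
    rw [← h1, Finsupp.weight_apply, Finsupp.sum]
    simp
  rw [mul_assoc]
  congr 1
  rw [← hdeg, ← Finset.prod_pow_eq_pow_sum, ← Finset.prod_mul_distrib]
  refine Finset.prod_congr rfl fun i _ => ?_
  rw [mul_pow]

/-- `aeval` at the images of the variables under a `k`-linear ring hom is that ring hom -/
theorem aeval_eq_of_ringHom (φ : MvPolynomial σ k →+* R)
    (hφ : ∀ c, φ (C c) = algebraMap k R c) (p : MvPolynomial σ k) :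
    aeval (fun l => φ (X l)) p = φ p := by
  have h : ((aeval (fun l => φ (X l)) : MvPolynomial σ k →ₐ[k] R) : MvPolynomial σ k →+* R) = φ := by
    apply MvPolynomial.ringHom_ext
    · intro c
      rw [hφ]
      simp
    · intro l
      simp
  exact RingHom.congr_fun h p

/-- a scaled evaluation kills an ideal spanned by homogeneous polynomials killed by the
unscaled evaluation -/
theorem aeval_scale_eq_zero (s : Set (MvPolynomial σ k)) (hs : ∀ p ∈ s, ∃ d, p.IsHomogeneous d)
    (a : σ → R) (w : R) (ha : ∀ p ∈ s, aeval a p = 0) :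
    ∀ p ∈ Ideal.span s, aeval (fun l => a l * w) p = 0 := by
  have h : Ideal.span s ≤
      RingHom.ker ((aeval (fun l => a l * w) : MvPolynomial σ k →ₐ[k] R) : MvPolynomial σ k →+* R) := by
    rw [Ideal.span_le]
    intro p hp
    obtain ⟨d, hd⟩ := hs p hp
    rw [SetLike.mem_coe, RingHom.mem_ker]
    change aeval (fun l => a l * w) p = 0
    rw [aeval_mul_pow_of_isHomogeneous a w hd, ha p hp, zero_mul]
  intro p hp
  exact RingHom.mem_ker.mp (h hp)

end Scale

section Iso

variable {k : Type u} [Field k] {σ : Type v} (s : Set (MvPolynomial σ k)) (j : σ)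

/-- the ideal of the slice `x_j = 1` of the cone of `s` -/
noncomputable abbrev sliceIdeal : Ideal (MvPolynomial σ k) := Ideal.span s ⊔ Ideal.span {X j - 1}

theorem mk_X_eq_one : Ideal.Quotient.mk (sliceIdeal s j) (X j) = 1 := by
  rw [← sub_eq_zero, ← map_one (Ideal.Quotient.mk (sliceIdeal s j)), ← map_sub,
    Ideal.Quotient.eq_zero_iff_mem]
  exact Ideal.mem_sup_right (Ideal.mem_span_singleton_self _)

/-- `x_l ↦ [x_l] T` -/
noncomputable def psi0 : MvPolynomial σ k →ₐ[k] (MvPolynomial σ k ⧸ sliceIdeal s j)[T;T⁻¹] :=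
  aeval (fun l => LaurentPolynomial.C (Ideal.Quotient.mk (sliceIdeal s j) (X l)) *
    LaurentPolynomial.T 1)

theorem psi0_X (l : σ) : psi0 s j (X l) =
    LaurentPolynomial.C (Ideal.Quotient.mk (sliceIdeal s j) (X l)) * LaurentPolynomial.T 1 := by
  unfold psi0
  rw [aeval_X]

theorem psi0_C (c : k) : psi0 s j (C c) =
    LaurentPolynomial.C (Ideal.Quotient.mk (sliceIdeal s j) (C c)) := by
  unfold psi0
  rw [aeval_C]
  rfl

variable (hs : ∀ p ∈ s, ∃ d, p.IsHomogeneous d)

include hs in
theorem psi0_eq_zero (p : MvPolynomial σ k) (hp : p ∈ Ideal.span s) : psi0 s j p = 0 := by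
  unfold psi0
  refine aeval_scale_eq_zero s hs
    (fun l => LaurentPolynomial.C (Ideal.Quotient.mk (sliceIdeal s j) (X l)))
    (LaurentPolynomial.T 1) ?_ p hp
  intro q hq
  have h0 : ∀ c : k, ((LaurentPolynomial.C).comp (Ideal.Quotient.mk (sliceIdeal s j)) :
      MvPolynomial σ k →+* (MvPolynomial σ k ⧸ sliceIdeal s j)[T;T⁻¹]) (C c) =
      algebraMap k (MvPolynomial σ k ⧸ sliceIdeal s j)[T;T⁻¹] c := fun c => rfl
  have h1 := aeval_eq_of_ringHom (R := (MvPolynomial σ k ⧸ sliceIdeal s j)[T;T⁻¹])
    ((LaurentPolynomial.C).comp (Ideal.Quotient.mk (sliceIdeal s j)) :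
      MvPolynomial σ k →+* (MvPolynomial σ k ⧸ sliceIdeal s j)[T;T⁻¹]) h0 q
  simp only [RingHom.coe_comp, Function.comp_apply] at h1
  rw [h1]
  have h2 : Ideal.Quotient.mk (sliceIdeal s j) q = 0 :=
    Ideal.Quotient.eq_zero_iff_mem.mpr (Ideal.mem_sup_left (Ideal.subset_span hq))
  rw [h2, map_zero]

/-- the map on the cone -/
noncomputable def psi1 :
    (MvPolynomial σ k ⧸ Ideal.span s) →+* (MvPolynomial σ k ⧸ sliceIdeal s j)[T;T⁻¹] :=
  Ideal.Quotient.lift (Ideal.span s) (psi0 s j).toRingHom
    (fun p hp => by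
      change psi0 s j p = 0
      exact psi0_eq_zero s j hs p hp)

theorem psi1_mk (p : MvPolynomial σ k) :
    psi1 s j hs (Ideal.Quotient.mk (Ideal.span s) p) = psi0 s j p := by
  unfold psi1
  rw [Ideal.Quotient.lift_mk]
  rfl

theorem psi1_xj : psi1 s j hs (Ideal.Quotient.mk (Ideal.span s) (X j)) = LaurentPolynomial.T 1 := by
  rw [psi1_mk, psi0_X, mk_X_eq_one, map_one, one_mul]

theorem isUnit_psi1_xj : IsUnit (psi1 s j hs (Ideal.Quotient.mk (Ideal.span s) (X j))) := by
  rw [psi1_xj]
  exact LaurentPolynomial.isUnit_T 1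

/-- the map on the localized cone -/
noncomputable def psi : Localization.Away (Ideal.Quotient.mk (Ideal.span s) (X j)) →+*
    (MvPolynomial σ k ⧸ sliceIdeal s j)[T;T⁻¹] :=
  IsLocalization.Away.lift (S := Localization.Away (Ideal.Quotient.mk (Ideal.span s) (X j)))
    (P := (MvPolynomial σ k ⧸ sliceIdeal s j)[T;T⁻¹])
    (Ideal.Quotient.mk (Ideal.span s) (X j)) (g := psi1 s j hs) (isUnit_psi1_xj s j hs)

theorem psi_algebraMap (a : MvPolynomial σ k ⧸ Ideal.span s) :
    psi s j hs (algebraMap _ _ a) = psi1 s j hs a := by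
  unfold psi
  rw [IsLocalization.Away.lift_eq]

/-- the unit `x_j` of the localized cone -/
noncomputable def xu : (Localization.Away (Ideal.Quotient.mk (Ideal.span s) (X j)))ˣ :=
  (IsLocalization.Away.algebraMap_isUnit (S := Localization.Away (Ideal.Quotient.mk (Ideal.span s) (X j)))
    (Ideal.Quotient.mk (Ideal.span s) (X j))).unit

theorem xu_val : ((xu s j : (Localization.Away (Ideal.Quotient.mk (Ideal.span s) (X j)))ˣ) :
    Localization.Away (Ideal.Quotient.mk (Ideal.span s) (X j))) =
    algebraMap _ _ (Ideal.Quotient.mk (Ideal.span s) (X j)) :=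
  IsUnit.unit_spec _

/-- `x_l ↦ x_l / x_j` -/
noncomputable def theta0 :
    MvPolynomial σ k →ₐ[k] Localization.Away (Ideal.Quotient.mk (Ideal.span s) (X j)) :=
  aeval (fun l => algebraMap (MvPolynomial σ k ⧸ Ideal.span s) _
      (Ideal.Quotient.mk (Ideal.span s) (X l)) *
    (((xu s j)⁻¹ : (Localization.Away (Ideal.Quotient.mk (Ideal.span s) (X j)))ˣ) :
      Localization.Away (Ideal.Quotient.mk (Ideal.span s) (X j))))

theorem theta0_X (l : σ) : theta0 s j (X l) =
    algebraMap (MvPolynomial σ k ⧸ Ideal.span s) _ (Ideal.Quotient.mk (Ideal.span s) (X l)) *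
    (((xu s j)⁻¹ : (Localization.Away (Ideal.Quotient.mk (Ideal.span s) (X j)))ˣ) :
      Localization.Away (Ideal.Quotient.mk (Ideal.span s) (X j))) := by
  unfold theta0
  rw [aeval_X]

theorem theta0_C (c : k) : theta0 s j (C c) =
    algebraMap (MvPolynomial σ k ⧸ Ideal.span s) _ (Ideal.Quotient.mk (Ideal.span s) (C c)) := by
  unfold theta0
  rw [aeval_C, IsScalarTower.algebraMap_apply k (MvPolynomial σ k ⧸ Ideal.span s)]
  rfl

include hs in
theorem theta0_eq_zero (p : MvPolynomial σ k) (hp : p ∈ sliceIdeal s j) : theta0 s j p = 0 := by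
  have h : sliceIdeal s j ≤
      RingHom.ker (theta0 s j).toRingHom := by
    refine sup_le ?_ ?_
    · intro q hq
      rw [RingHom.mem_ker]
      change theta0 s j q = 0
      unfold theta0
      refine aeval_scale_eq_zero s hs
        (fun l => algebraMap (MvPolynomial σ k ⧸ Ideal.span s)
          (Localization.Away (Ideal.Quotient.mk (Ideal.span s) (X j)))
          (Ideal.Quotient.mk (Ideal.span s) (X l)))
        (((xu s j)⁻¹ : (Localization.Away (Ideal.Quotient.mk (Ideal.span s) (X j)))ˣ) :
          Localization.Away (Ideal.Quotient.mk (Ideal.span s) (X j))) ?_ q hq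
      intro q' hq'
      have h1 := aeval_eq_of_ringHom
        (R := Localization.Away (Ideal.Quotient.mk (Ideal.span s) (X j)))
        ((algebraMap (MvPolynomial σ k ⧸ Ideal.span s)
          (Localization.Away (Ideal.Quotient.mk (Ideal.span s) (X j)))).comp
          (Ideal.Quotient.mk (Ideal.span s)) : MvPolynomial σ k →+* _) (fun c => by
            simp only [RingHom.coe_comp, Function.comp_apply]
            rw [IsScalarTower.algebraMap_apply k (MvPolynomial σ k ⧸ Ideal.span s)]
            rfl) q'
      simp only [RingHom.coe_comp, Function.comp_apply] at h1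
      rw [h1]
      have h2 : Ideal.Quotient.mk (Ideal.span s) q' = 0 :=
        Ideal.Quotient.eq_zero_iff_mem.mpr (Ideal.subset_span hq')
      rw [h2, map_zero]
    · rw [Ideal.span_le, Set.singleton_subset_iff, SetLike.mem_coe, RingHom.mem_ker]
      change theta0 s j (X j - 1) = 0
      rw [map_sub, map_one, theta0_X, ← xu_val, ← Units.val_mul, mul_inv_cancel, Units.val_one,
        sub_self]
  exact RingHom.mem_ker.mp (h hp)

/-- the map on the slice -/
noncomputable def theta1 : (MvPolynomial σ k ⧸ sliceIdeal s j) →+*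
    Localization.Away (Ideal.Quotient.mk (Ideal.span s) (X j)) :=
  Ideal.Quotient.lift (sliceIdeal s j) (theta0 s j).toRingHom
    (fun p hp => by
      change theta0 s j p = 0
      exact theta0_eq_zero s j hs p hp)

theorem theta1_mk (p : MvPolynomial σ k) :
    theta1 s j hs (Ideal.Quotient.mk (sliceIdeal s j) p) = theta0 s j p := by
  unfold theta1
  rw [Ideal.Quotient.lift_mk]
  rfl

/-- the inverse map -/
noncomputable def theta : (MvPolynomial σ k ⧸ sliceIdeal s j)[T;T⁻¹] →+*
    Localization.Away (Ideal.Quotient.mk (Ideal.span s) (X j)) :=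
  LaurentPolynomial.eval₂ (theta1 s j hs) (xu s j)

theorem psi_xu_zpow (i : ℤ) :
    psi s j hs ((xu s j ^ i : (Localization.Away (Ideal.Quotient.mk (Ideal.span s) (X j)))ˣ) :
      Localization.Away (Ideal.Quotient.mk (Ideal.span s) (X j))) = LaurentPolynomial.T i := by
  have h1 : Units.map (psi s j hs).toMonoidHom (xu s j) = Tu _ := by
    apply Units.ext
    change psi s j hs (xu s j : Localization.Away _) = LaurentPolynomial.T 1
    rw [xu_val, psi_algebraMap, psi1_xj]
  have h2 : psi s j hs ((xu s j ^ i : (Localization.Away (Ideal.Quotient.mk (Ideal.span s) (X j)))ˣ) :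
      Localization.Away (Ideal.Quotient.mk (Ideal.span s) (X j))) =
      ((Units.map (psi s j hs).toMonoidHom (xu s j ^ i) : _ˣ) :
        (MvPolynomial σ k ⧸ sliceIdeal s j)[T;T⁻¹]) := rfl
  rw [h2, map_zpow, h1, Tu_zpow]

theorem theta_psi : (theta s j hs).comp (psi s j hs) = RingHom.id _ := by
  apply IsLocalization.ringHom_ext (Submonoid.powers (Ideal.Quotient.mk (Ideal.span s) (X j)))
  apply Ideal.Quotient.ringHom_ext
  apply MvPolynomial.ringHom_ext
  · intro c
    simp only [RingHom.coe_comp, Function.comp_apply, RingHom.id_apply]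
    rw [psi_algebraMap, psi1_mk, psi0_C]
    unfold theta
    rw [LaurentPolynomial.eval₂_C, theta1_mk, theta0_C]
  · intro l
    simp only [RingHom.coe_comp, Function.comp_apply, RingHom.id_apply]
    rw [psi_algebraMap, psi1_mk, psi0_X]
    unfold theta
    rw [LaurentPolynomial.eval₂_C_mul_T, theta1_mk, theta0_X, zpow_one, mul_assoc,
      ← Units.val_mul, inv_mul_cancel, Units.val_one, mul_one]

theorem psi_theta : (psi s j hs).comp (theta s j hs) = RingHom.id _ := by
  have hmk : ((psi s j hs).comp (theta1 s j hs)).comp (Ideal.Quotient.mk (sliceIdeal s j)) =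
      (LaurentPolynomial.C).comp (Ideal.Quotient.mk (sliceIdeal s j)) := by
    apply MvPolynomial.ringHom_ext
    · intro c
      simp only [RingHom.coe_comp, Function.comp_apply]
      rw [theta1_mk, theta0_C, psi_algebraMap, psi1_mk, psi0_C]
    · intro l
      simp only [RingHom.coe_comp, Function.comp_apply]
      rw [theta1_mk, theta0_X, map_mul, psi_algebraMap, psi1_mk, psi0_X]
      have h1 := psi_xu_zpow s j hs (-1)
      rw [zpow_neg, zpow_one] at h1
      rw [h1, mul_assoc, ← LaurentPolynomial.T_add]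
      simp
  refine RingHom.ext fun y => ?_
  simp only [RingHom.coe_comp, Function.comp_apply, RingHom.id_apply]
  induction y using LaurentPolynomial.induction_on' with
  | add p q hp hq => rw [map_add, map_add, hp, hq]
  | C_mul_T n c =>
    obtain ⟨r, rfl⟩ := Ideal.Quotient.mk_surjective c
    unfold theta
    rw [LaurentPolynomial.eval₂_C_mul_T, map_mul, psi_xu_zpow]
    have := RingHom.congr_fun hmk r
    simp only [RingHom.coe_comp, Function.comp_apply] at this
    rw [this]

/-- the localized cone is the Laurent polynomial ring over the slice -/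
noncomputable def equivLaurent : Localization.Away (Ideal.Quotient.mk (Ideal.span s) (X j)) ≃+*
    (MvPolynomial σ k ⧸ sliceIdeal s j)[T;T⁻¹] :=
  RingEquiv.ofRingHom (psi s j hs) (theta s j hs) (psi_theta s j hs) (theta_psi s j hs)

include hs in
/-- if the slice `x_j = 1` is a regular ring, the cone is regular at all primes not containing
`x_j` -/
theorem regular_of_slice [IsRegularRing (MvPolynomial σ k ⧸ sliceIdeal s j)]
    (Q : Ideal (MvPolynomial σ k ⧸ Ideal.span s)) [Q.IsPrime]
    (hQ : Ideal.Quotient.mk (Ideal.span s) (X j) ∉ Q) :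
    IsRegularLocalRing (Localization.AtPrime Q) := by
  haveI : IsRegularRing (MvPolynomial σ k ⧸ sliceIdeal s j)[T;T⁻¹] :=
    Groth.Agent.H36.RegularLaurent.isRegularRing_laurent _
  haveI : IsRegularRing (Localization.Away (Ideal.Quotient.mk (Ideal.span s) (X j))) :=
    IsRegularRing.of_ringEquiv (R := (MvPolynomial σ k ⧸ sliceIdeal s j)[T;T⁻¹])
      (R' := Localization.Away (Ideal.Quotient.mk (Ideal.span s) (X j))) (equivLaurent s j hs).symm
  exact Groth.Agent.H13.GenReg.isRegularLocalRing_of_away _
    (Ideal.Quotient.mk (Ideal.span s) (X j)) Q hQ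

end Iso

end Groth.Agent.H36.Cone
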