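import Mathlib
import Groth.Agent.H36.JetAffine

/-!
# Bertini with jets for a smooth affine algebra (no global coordinate chart)
-/

set_option autoImplicit false
set_option linter.unusedSectionVars false
set_option linter.unusedVariables false
set_option linter.style.haveILetI false

namespace Groth.Agent.H36.Jet

universe u

open MvPolynomial KaehlerDifferential

/-- the image of `lc` under an algebra map -/
theorem algebraMap_lc {k T S : Type u} [Field k] [CommRing T] [Algebra k T] [CommRing S]
    [Algebra T S] [Algebra k S] [IsScalarTower k T S] {m : ℕ} (f0 : T) (g : Fin m → T)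
    (c : Fin m → k) :
    algebraMap T S (lc f0 g c) = lc (algebraMap T S f0) (fun t => algebraMap T S (g t)) c := by
  unfold lc
  rw [map_add, map_sum]
  congr 1
  refine Finset.sum_congr rfl fun t _ => ?_
  rw [map_mul, ← IsScalarTower.algebraMap_apply]

/-- separation of 1-jets at all closed points passes to a principal localization -/
theorem jets_localization (k T S : Type u) [Field k] [IsAlgClosed k] [CommRing T] [Algebra k T]
    [Algebra.FiniteType k T] [CommRing S] [Algebra T S] [Algebra k S] [IsScalarTower k T S]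
    (F : T) [IsLocalization.Away F S] {m : ℕ} (g : Fin m → T)
    (hjet : ∀ 𝔪 : Ideal T, 𝔪.IsMaximal → ∀ h : T, ∃ c : Fin m → k,
      (∑ t : Fin m, algebraMap k T (c t) * g t) - h ∈ 𝔪 ^ 2)
    (𝔪' : Ideal S) (h𝔪' : 𝔪'.IsMaximal) (h' : S) :
    ∃ c : Fin m → k,
      (∑ t : Fin m, algebraMap k S (c t) * algebraMap T S (g t)) - h' ∈ 𝔪' ^ 2 := by
  haveI : Algebra.FiniteType T S := IsLocalization.finiteType_of_monoid_fg (.powers F) S
  haveI : Algebra.FiniteType k S := Algebra.FiniteType.trans (S := T) inferInstance inferInstance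
  obtain ⟨ε', hε'⟩ := exists_algHom_ker_eq k S 𝔪' h𝔪'
  let ε : T →ₐ[k] k := ε'.comp (IsScalarTower.toAlgHom k T S)
  have hεsurj : Function.Surjective (ε : T →+* k) := fun c => ⟨algebraMap k T c, by
    change ε (algebraMap k T c) = c
    rw [AlgHom.commutes]
    rfl⟩
  have h𝔪 : (RingHom.ker (ε : T →+* k)).IsMaximal := RingHom.ker_isMaximal_of_surjective _ hεsurj
  set 𝔪 : Ideal T := RingHom.ker (ε : T →+* k) with h𝔪def
  have hmap : ∀ x ∈ 𝔪, algebraMap T S x ∈ 𝔪' := by
    intro x hx
    rw [← hε', RingHom.mem_ker]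
    exact hx
  have hmap2 : ∀ x ∈ 𝔪 ^ 2, algebraMap T S x ∈ 𝔪' ^ 2 := by
    intro x hx
    have h1 : (𝔪 ^ 2).map (algebraMap T S) ≤ 𝔪' ^ 2 := by
      rw [Ideal.map_pow]
      exact Ideal.pow_right_mono (Ideal.map_le_iff_le_comap.mpr hmap) 2
    exact h1 (Ideal.mem_map_of_mem _ hx)
  obtain ⟨⟨a, s⟩, has⟩ := IsLocalization.surj (Submonoid.powers F) h'
  change h' * algebraMap T S (s : T) = algebraMap T S a at has
  have hsunit : IsUnit (algebraMap T S (s : T)) := IsLocalization.map_units S s
  have hv : ε (s : T) ≠ 0 := by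
    intro h0
    have h1 : algebraMap T S (s : T) ∈ 𝔪' := hmap _ h0
    exact h𝔪'.ne_top (Ideal.eq_top_of_isUnit_mem _ h1 hsunit)
  set v : k := ε (s : T) with hvdef
  set u : T := algebraMap k T v⁻¹ with hudef
  have hus : u * (s : T) - 1 ∈ 𝔪 := by
    rw [h𝔪def, RingHom.mem_ker]
    change ε (u * (s : T) - 1) = 0
    rw [map_sub, map_mul, map_one, hudef, AlgHom.commutes, ← hvdef]
    change v⁻¹ * v - 1 = 0
    rw [inv_mul_cancel₀ hv, sub_self]
  obtain ⟨w, hwdef⟩ : ∃ w : T, w = u * (2 - u * (s : T)) := ⟨_, rfl⟩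
  have hws : 1 - w * (s : T) ∈ 𝔪 ^ 2 := by
    have h1 : 1 - w * (s : T) = (u * (s : T) - 1) * (u * (s : T) - 1) := by
      rw [hwdef]; ring
    rw [h1, pow_two]
    exact Ideal.mul_mem_mul hus hus
  obtain ⟨c, hc⟩ := hjet 𝔪 h𝔪 (w * a)
  refine ⟨c, ?_⟩
  have e1 : (∑ t : Fin m, algebraMap k S (c t) * algebraMap T S (g t)) - h' =
      algebraMap T S ((∑ t : Fin m, algebraMap k T (c t) * g t) - w * a) -
        h' * algebraMap T S (1 - w * (s : T)) := by
    have e2 : ∀ t, algebraMap T S (algebraMap k T (c t) * g t) =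
        algebraMap k S (c t) * algebraMap T S (g t) := by
      intro t
      rw [map_mul, ← IsScalarTower.algebraMap_apply]
    have hA : algebraMap T S ((∑ t : Fin m, algebraMap k T (c t) * g t) - w * a) =
        (∑ t : Fin m, algebraMap k S (c t) * algebraMap T S (g t)) -
          algebraMap T S w * algebraMap T S a := by
      rw [map_sub, map_sum, map_mul, Finset.sum_congr rfl fun t _ => e2 t]
    have hB : algebraMap T S (1 - w * (s : T)) =
        1 - algebraMap T S w * algebraMap T S (s : T) := by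
      rw [map_sub, map_one, map_mul]
    rw [hA, hB, ← has]
    ring
  rw [e1]
  exact Ideal.sub_mem _ (hmap2 _ hc) (Ideal.mul_mem_left _ _ (hmap2 _ hws))

/-- Bertini with jets on a coordinate chart `D(F)` of a smooth affine algebra -/
theorem chart_step (k T : Type u) [Field k] [IsAlgClosed k] [CommRing T] [Algebra k T]
    [Algebra.FiniteType k T] {n : ℕ} (x : Fin n → T) {m : ℕ} (g : Fin m → T) (f0 : T)
    (hjet : ∀ 𝔪 : Ideal T, 𝔪.IsMaximal → ∀ h : T, ∃ c : Fin m → k,
      (∑ t : Fin m, algebraMap k T (c t) * g t) - h ∈ 𝔪 ^ 2)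
    (F : T) (hF : Groth.Agent.H36.BertiniSm.ChartProp k x F) :
    ∃ q : MvPolynomial (Fin m) k, q ≠ 0 ∧ ∀ c : Fin m → k, eval c q ≠ 0 →
      Algebra.Smooth k
        (Localization.Away (Ideal.Quotient.mk (Ideal.span {lc f0 g c}) F)) := by
  classical
  obtain ⟨S, _, _, _, _, _, _, I, b, hb⟩ := hF
  haveI : Algebra.FinitePresentation k T :=
    Algebra.FinitePresentation.of_finiteType.mp inferInstance
  haveI : Algebra.FinitePresentation T S := IsLocalization.Away.finitePresentation F
  haveI : Algebra.FinitePresentation k S := Algebra.FinitePresentation.trans k T S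
  obtain ⟨q, hq0, hq⟩ := affine_jet_bertini k S b (fun i => algebraMap T S (x i)) hb
    (fun t => algebraMap T S (g t)) (algebraMap T S f0)
    (fun 𝔪' h𝔪' h' => jets_localization k T S F g hjet 𝔪' h𝔪' h')
  refine ⟨q, hq0, fun c hc => ?_⟩
  have hsm := hq c hc
  set h : T := lc f0 g c with hh
  rw [← algebraMap_lc f0 g c] at hsm
  have hJ : (Ideal.span {h}).map (algebraMap T S) = Ideal.span {algebraMap T S h} := by
    rw [Ideal.map_span, Set.image_singleton]
  rw [← hJ] at hsm
  have inst : IsLocalization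
      (Algebra.algebraMapSubmonoid (T ⧸ Ideal.span {h}) (Submonoid.powers F))
      (S ⧸ (Ideal.span {h}).map (algebraMap T S)) := inferInstance
  have hsub : Algebra.algebraMapSubmonoid (T ⧸ Ideal.span {h}) (Submonoid.powers F) =
      Submonoid.powers (Ideal.Quotient.mk (Ideal.span {h}) F) := by
    unfold Algebra.algebraMapSubmonoid
    rw [Submonoid.map_powers]
    rfl
  rw [hsub] at inst
  haveI : IsLocalization.Away (Ideal.Quotient.mk (Ideal.span {h}) F)
      (S ⧸ (Ideal.span {h}).map (algebraMap T S)) := inst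
  haveI i2 : IsScalarTower k (T ⧸ Ideal.span {h})
      (S ⧸ (Ideal.span {h}).map (algebraMap T S)) := by
    refine IsScalarTower.of_algebraMap_eq fun c => ?_
    rw [IsScalarTower.algebraMap_apply k T (T ⧸ Ideal.span {h}), Ideal.Quotient.algebraMap_eq]
    rw [IsScalarTower.algebraMap_apply k S (S ⧸ (Ideal.span {h}).map (algebraMap T S))]
    rw [IsScalarTower.algebraMap_apply k T S]
    rfl
  let e : Localization.Away (Ideal.Quotient.mk (Ideal.span {h}) F) ≃ₐ[T ⧸ Ideal.span {h}]
      (S ⧸ (Ideal.span {h}).map (algebraMap T S)) :=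
    IsLocalization.algEquiv (Submonoid.powers (Ideal.Quotient.mk (Ideal.span {h}) F)) _ _
  haveI := hsm
  exact Algebra.Smooth.of_equiv (e.restrictScalars k).symm

/-- Bertini with jets for a smooth affine algebra over an algebraically closed field: if the
linear system separates 1-jets at every closed point then its general member cuts out a smooth
subscheme. -/
theorem affine_jet_bertini_smooth (k T : Type u) [Field k] [IsAlgClosed k] [CommRing T]
    [Algebra k T] [Algebra.Smooth k T] {m : ℕ} (g : Fin m → T) (f0 : T)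
    (hjet : ∀ 𝔪 : Ideal T, 𝔪.IsMaximal → ∀ h : T, ∃ c : Fin m → k,
      (∑ t : Fin m, algebraMap k T (c t) * g t) - h ∈ 𝔪 ^ 2) :
    ∃ q : MvPolynomial (Fin m) k, q ≠ 0 ∧ ∀ c : Fin m → k, eval c q ≠ 0 →
      Algebra.Smooth k (T ⧸ Ideal.span {lc f0 g c}) := by
  classical
  haveI : Algebra.FiniteType k T := inferInstance
  obtain ⟨n, f, hf⟩ := Algebra.FiniteType.iff_quotient_mvPolynomial''.mp
    (inferInstance : Algebra.FiniteType k T)
  let x : Fin n → T := fun i => f (MvPolynomial.X i)
  have hfx : (MvPolynomial.aeval x : MvPolynomial (Fin n) k →ₐ[k] T) = f := by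
    apply MvPolynomial.algHom_ext
    intro i
    rw [MvPolynomial.aeval_X]
  have hx : Function.Surjective (MvPolynomial.aeval x : MvPolynomial (Fin n) k →ₐ[k] T) := by
    rw [hfx]
    exact hf
  haveI : Algebra.Smooth k (Localization.Away (1 : T)) := by
    haveI : Algebra.Smooth T (Localization.Away (1 : T)) :=
      ⟨Algebra.FormallySmooth.of_isLocalization (.powers (1 : T)),
        IsLocalization.Away.finitePresentation 1⟩
    exact Algebra.Smooth.comp k T _
  -- the charts cover
  let Sig : Set T := {F | Groth.Agent.H36.BertiniSm.ChartProp k x F}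
  have hSig : Ideal.span Sig = ⊤ := by
    by_contra hne
    obtain ⟨M, hM, hle⟩ := Ideal.exists_le_maximal _ hne
    haveI := hM.isPrime
    obtain ⟨F, hFM, hF⟩ := Groth.Agent.H36.BertiniSm.exists_chart k x hx (1 : T) M
      (fun h1 => hM.ne_top ((Ideal.eq_top_iff_one _).mpr h1))
    exact hFM (hle (Ideal.subset_span hF))
  obtain ⟨s, hsSig, hs⟩ := (Ideal.span_eq_top_iff_finite Sig).mp hSig
  have hstep := fun F : T => fun hF : F ∈ Sig => chart_step k T x g f0 hjet F hF
  choose! q hq0 hq using hstep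
  refine ⟨∏ F ∈ s, q F, Finset.prod_ne_zero_iff.mpr fun F hF => hq0 F (hsSig hF), fun c hc => ?_⟩
  rw [map_prod] at hc
  have hcF : ∀ F ∈ s, eval c (q F) ≠ 0 := fun F hF => Finset.prod_ne_zero_iff.mp hc F hF
  set h : T := lc f0 g c with hh
  rw [← RingHom.smooth_algebraMap]
  let s' : Set (T ⧸ Ideal.span {h}) := (Ideal.Quotient.mk (Ideal.span {h})) '' (s : Set T)
  have hs' : Ideal.span s' = ⊤ := by
    rw [← Ideal.map_span, hs, Ideal.map_top]
  refine RingHom.Smooth.ofLocalizationSpanTarget (algebraMap k (T ⧸ Ideal.span {h})) s' hs' ?_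
  rintro ⟨_, ⟨F, hF, rfl⟩⟩
  have := hq F (hsSig hF) c (hcF F hF)
  rw [← RingHom.smooth_algebraMap] at this
  convert this using 1
  exact (IsScalarTower.algebraMap_eq k (T ⧸ Ideal.span {h}) _).symm

end Groth.Agent.H36.Jet
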