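import Mathlib
import Groth.Agent.H36.JetAffineB
import Groth.Agent.H36.ConeSlice
import Groth.Agent.H36.BertiniSmC
import Groth.Agent.H56.JacCot
import Groth.Agent.H54.Catenary
import Groth.Agent.H29.CINormal

/-!
# The inductive step for nonsingular complete intersections of prescribed degrees
-/

set_option autoImplicit false
set_option linter.unusedSectionVars false
set_option linter.unusedVariables false
set_option linter.style.haveILetI false

universe u

namespace Groth.Agent.H36.CI

open MvPolynomial Groth.Agent.H36.Cone Groth.Agent.H36.Jet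

variable (k : Type u) [Field k] (N : ℕ)

/-- the monomials `x_a^{d-1} x_b` -/
noncomputable def G (d : ℕ) (t : Fin (N * N)) : MvPolynomial (Fin N) k :=
  X (finProdFinEquiv.symm t).1 ^ (d - 1) * X (finProdFinEquiv.symm t).2

theorem G_apply (d : ℕ) (a b : Fin N) :
    G k N d (finProdFinEquiv (a, b)) = X a ^ (d - 1) * X b := by
  unfold G
  rw [Equiv.symm_apply_apply]

theorem G_isHomogeneous (d : ℕ) (hd : 0 < d) (t : Fin (N * N)) : (G k N d t).IsHomogeneous d := by
  have h := (isHomogeneous_X_pow (R := k) (finProdFinEquiv.symm t).1 (d - 1)).mul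
    (isHomogeneous_X k (finProdFinEquiv.symm t).2)
  rwa [Nat.sub_add_cancel hd] at h

/-- the member of the linear system with coefficients `c` -/
noncomputable def Fc (d : ℕ) (c : Fin (N * N) → k) : MvPolynomial (Fin N) k :=
  ∑ t, C (c t) * G k N d t

theorem Fc_isHomogeneous (d : ℕ) (hd : 0 < d) (c : Fin (N * N) → k) :
    (Fc k N d c).IsHomogeneous d := by
  unfold Fc
  refine IsHomogeneous.sum _ _ _ fun t _ => ?_
  have h := (isHomogeneous_C (Fin N) (c t)).mul (G_isHomogeneous k N d hd t)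
  rwa [zero_add] at h

/-- the linear system separates `1`-jets at every closed point of a slice `x_j = 1` -/
theorem jets_slice [IsAlgClosed k] (K : Ideal (MvPolynomial (Fin N) k)) (j : Fin N)
    (hK : (X j - 1 : MvPolynomial (Fin N) k) ∈ K) (d : ℕ) (hd : 0 < d)
    (𝔪 : Ideal (MvPolynomial (Fin N) k ⧸ K)) (h𝔪 : 𝔪.IsMaximal)
    (h : MvPolynomial (Fin N) k ⧸ K) :
    ∃ c : Fin (N * N) → k,
      (∑ t, algebraMap k (MvPolynomial (Fin N) k ⧸ K) (c t) *
        Ideal.Quotient.mk K (G k N d t)) - h ∈ 𝔪 ^ 2 := by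
  classical
  haveI : Algebra.FiniteType k (MvPolynomial (Fin N) k ⧸ K) :=
    Algebra.FiniteType.of_surjective (Ideal.Quotient.mkₐ k K) (Ideal.Quotient.mkₐ_surjective k K)
  obtain ⟨ε, hε⟩ := exists_algHom_ker_eq k (MvPolynomial (Fin N) k ⧸ K) 𝔪 h𝔪
  set π := Ideal.Quotient.mk K with hπ
  let a : Fin N → k := fun l => ε (π (X l))
  have hεπ : ∀ p : MvPolynomial (Fin N) k, ε (π p) = eval a p := by
    have h1 : ((ε : (MvPolynomial (Fin N) k ⧸ K) →+* k).comp π) = eval a := by
      apply MvPolynomial.ringHom_ext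
      · intro c
        simp only [RingHom.coe_comp, Function.comp_apply, eval_C]
        change ε (algebraMap k _ c) = c
        rw [AlgHom.commutes]
        rfl
      · intro l
        simp only [RingHom.coe_comp, Function.comp_apply, eval_X]
        rfl
    intro p
    exact RingHom.congr_fun h1 p
  have hNN : ∀ p ∈ Groth.Agent.H56.JacCot.NN a, π p ∈ 𝔪 := by
    intro p hp
    rw [← hε, RingHom.mem_ker]
    change ε (π p) = 0
    rw [hεπ, Groth.Agent.H56.JacCot.eval_eq_zero_of_mem_NN a hp]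
  have hsq : ∀ p ∈ Groth.Agent.H56.JacCot.NN a ^ 2, π p ∈ 𝔪 ^ 2 := by
    intro p hp
    have h1 : (Groth.Agent.H56.JacCot.NN a ^ 2).map π ≤ 𝔪 ^ 2 := by
      rw [Ideal.map_pow]
      exact Ideal.pow_right_mono (Ideal.map_le_iff_le_comap.mpr hNN) 2
    exact h1 (Ideal.mem_map_of_mem _ hp)
  have hxj : π (X j) = 1 := by
    rw [← sub_eq_zero, ← map_one π, ← map_sub, hπ, Ideal.Quotient.eq_zero_iff_mem]
    exact hK
  let W : Submodule k (MvPolynomial (Fin N) k ⧸ K) :=
    Submodule.span k (Set.range fun t => π (G k N d t)) ⊔ (𝔪 ^ 2).restrictScalars k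
  have hgW : ∀ t, π (G k N d t) ∈ W := fun t =>
    Submodule.mem_sup_left (Submodule.subset_span ⟨t, rfl⟩)
  have h1W : (1 : MvPolynomial (Fin N) k ⧸ K) ∈ W := by
    have h1 := hgW (finProdFinEquiv (j, j))
    rw [G_apply, map_mul, map_pow, hxj, one_pow, one_mul] at h1
    exact h1
  have hxW : ∀ l, π (X l) ∈ W := by
    intro l
    have h1 := hgW (finProdFinEquiv (j, l))
    rw [G_apply, map_mul, map_pow, hxj, one_pow, one_mul] at h1
    exact h1
  have hCW : ∀ (c : k) (w : MvPolynomial (Fin N) k ⧸ K), w ∈ W → π (C c) * w ∈ W := by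
    intro c w hw
    have h1 : π (C c) * w = c • w := (Algebra.smul_def c w).symm
    rw [h1]
    exact W.smul_mem c hw
  have hpW : ∀ p : MvPolynomial (Fin N) k, π p ∈ W := by
    intro p
    rw [Groth.Agent.H56.JacCot.taylor a p, map_add, map_add, map_sum]
    refine W.add_mem (W.add_mem ?_ (W.sum_mem fun l _ => ?_)) ?_
    · have h1 := hCW (eval a p) 1 h1W
      rwa [mul_one] at h1
    · rw [map_mul]
      refine hCW _ _ ?_
      unfold Groth.Agent.H56.JacCot.tt
      rw [map_sub]
      refine W.sub_mem (hxW l) ?_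
      have h1 := hCW (a l) 1 h1W
      rwa [mul_one] at h1
    · exact Submodule.mem_sup_right (hsq _ (Groth.Agent.H56.JacCot.rem_mem a p))
  obtain ⟨p, rfl⟩ := Ideal.Quotient.mk_surjective h
  obtain ⟨y, hy, z, hz, hyz⟩ := Submodule.mem_sup.mp (hpW p)
  obtain ⟨c, hc⟩ := (Submodule.mem_span_range_iff_exists_fun k).mp hy
  refine ⟨c, ?_⟩
  have h1 : (∑ t, algebraMap k (MvPolynomial (Fin N) k ⧸ K) (c t) *
      Ideal.Quotient.mk K (G k N d t)) = y := by
    rw [← hc]
    refine Finset.sum_congr rfl fun t _ => ?_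
    exact (Algebra.smul_def (c t) (π (G k N d t))).symm
  rw [h1]
  change y - π p ∈ 𝔪 ^ 2
  rw [← hyz, sub_add_cancel_left]
  exact (𝔪 ^ 2).neg_mem hz

/-- transport of smoothness along an equality of ideals -/
theorem smooth_quotient_of_eq {A : Type*} [CommRing A] [Algebra k A] (I J : Ideal A) (h : I = J)
    [Algebra.Smooth k (A ⧸ I)] : Algebra.Smooth k (A ⧸ J) := by
  subst h
  infer_instance

/-- the slice `x_j = 1` of affine space is smooth -/
theorem smooth_slice_empty (j : Fin N) :
    Algebra.Smooth k (MvPolynomial (Fin N) k ⧸ sliceIdeal (∅ : Set (MvPolynomial (Fin N) k)) j) := by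
  classical
  have hJ : sliceIdeal (∅ : Set (MvPolynomial (Fin N) k)) j = Ideal.span {X j - 1} := by
    unfold sliceIdeal
    rw [Ideal.span_empty, bot_sup_eq]
  haveI : Nontrivial (MvPolynomial (Fin N) k ⧸ sliceIdeal (∅ : Set (MvPolynomial (Fin N) k)) j) := by
    rw [Ideal.Quotient.nontrivial_iff, hJ]
    intro htop
    have h1 : Ideal.span {(X j - 1 : MvPolynomial (Fin N) k)} ≤
        RingHom.ker (eval (fun _ : Fin N => (1 : k))) := by
      rw [Ideal.span_le, Set.singleton_subset_iff, SetLike.mem_coe, RingHom.mem_ker]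
      simp
    rw [htop] at h1
    have h2 : (1 : MvPolynomial (Fin N) k) ∈ RingHom.ker (eval (fun _ : Fin N => (1 : k))) :=
      h1 Submodule.mem_top
    rw [RingHom.mem_ker, map_one] at h2
    exact one_ne_zero h2
  have hu : IsUnit ((KaehlerDifferential.mvPolynomialBasis k (Fin N)).repr
      (KaehlerDifferential.D k (MvPolynomial (Fin N) k) (X j - 1)) j) := by
    rw [map_sub, Derivation.map_one_eq_zero, sub_zero,
      ← KaehlerDifferential.mvPolynomialBasis_apply, Module.Basis.repr_self,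
      Finsupp.single_eq_same]
    exact isUnit_one
  have h1 := Groth.Agent.H36.BertiniSm.isStandardSmoothOfRelativeDimension_quotient k
    (MvPolynomial (Fin N) k) (KaehlerDifferential.mvPolynomialBasis k (Fin N)) X
    (fun i => KaehlerDifferential.mvPolynomialBasis_apply k (Fin N) i) (X j - 1) j hu
    (sliceIdeal (∅ : Set (MvPolynomial (Fin N) k)) j) hJ
  haveI := h1.isStandardSmooth
  infer_instance

/-- the inductive step: the general member of the linear system cuts a smooth slice in a smooth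
slice -/
theorem slice_step [IsAlgClosed k] (s : Set (MvPolynomial (Fin N) k)) (j : Fin N)
    [Algebra.Smooth k (MvPolynomial (Fin N) k ⧸ sliceIdeal s j)] (d : ℕ) (hd : 0 < d) :
    ∃ q : MvPolynomial (Fin (N * N)) k, q ≠ 0 ∧ ∀ c : Fin (N * N) → k, eval c q ≠ 0 →
      Algebra.Smooth k (MvPolynomial (Fin N) k ⧸ sliceIdeal (insert (Fc k N d c) s) j) := by
  have hK : (X j - 1 : MvPolynomial (Fin N) k) ∈ sliceIdeal s j :=
    Ideal.mem_sup_right (Ideal.mem_span_singleton_self _)
  obtain ⟨q, hq0, hq⟩ := affine_jet_bertini_smooth k (MvPolynomial (Fin N) k ⧸ sliceIdeal s j)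
    (fun t => Ideal.Quotient.mk (sliceIdeal s j) (G k N d t)) 0
    (fun 𝔪 h𝔪 h => jets_slice k N (sliceIdeal s j) j hK d hd 𝔪 h𝔪 h)
  refine ⟨q, hq0, fun c hc => ?_⟩
  have hsm := hq c hc
  have hlc : lc 0 (fun t => Ideal.Quotient.mk (sliceIdeal s j) (G k N d t)) c =
      Ideal.Quotient.mk (sliceIdeal s j) (Fc k N d c) := by
    unfold lc Fc
    rw [zero_add, map_sum]
    refine Finset.sum_congr rfl fun t _ => ?_
    rw [map_mul]
    rfl
  rw [hlc] at hsm
  have hmap : (Ideal.span {Fc k N d c}).map (Ideal.Quotient.mkₐ k (sliceIdeal s j)) =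
      Ideal.span {Ideal.Quotient.mk (sliceIdeal s j) (Fc k N d c)} := by
    rw [Ideal.map_span, Set.image_singleton]
    rfl
  haveI : Algebra.Smooth k ((MvPolynomial (Fin N) k ⧸ sliceIdeal s j) ⧸
      (Ideal.span {Fc k N d c}).map (Ideal.Quotient.mkₐ k (sliceIdeal s j))) := by
    rw [hmap]
    exact hsm
  haveI : Algebra.Smooth k (MvPolynomial (Fin N) k ⧸ sliceIdeal s j ⊔ Ideal.span {Fc k N d c}) :=
    Algebra.Smooth.of_equiv (A := (MvPolynomial (Fin N) k ⧸ sliceIdeal s j) ⧸
      (Ideal.span {Fc k N d c}).map (Ideal.Quotient.mkₐ k (sliceIdeal s j)))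
      (B := MvPolynomial (Fin N) k ⧸ sliceIdeal s j ⊔ Ideal.span {Fc k N d c})
      (DoubleQuot.quotQuotEquivQuotSupₐ k (sliceIdeal s j) (Ideal.span {Fc k N d c}))
  refine smooth_quotient_of_eq k (sliceIdeal s j ⊔ Ideal.span {Fc k N d c}) _ ?_
  unfold sliceIdeal
  rw [Ideal.span_insert]
  exact (sup_comm _ _).trans (sup_assoc _ _ _).symm

/-- a general member of the linear system avoids a prime ideal of small height -/
theorem exists_poly_notMem (I : Ideal (MvPolynomial (Fin N) k)) [I.IsPrime]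
    (hI : I.height < (N : ℕ∞)) (d : ℕ) (hd : 0 < d) :
    ∃ q : MvPolynomial (Fin (N * N)) k, q ≠ 0 ∧ ∀ c : Fin (N * N) → k, eval c q ≠ 0 →
      Fc k N d c ∉ I := by
  classical
  -- some variable is not in `I`
  obtain ⟨a, ha⟩ : ∃ a : Fin N, (X a : MvPolynomial (Fin N) k) ∉ I := by
    by_contra hall
    push Not at hall
    have hle : MvPolynomial.idealOfVars (Fin N) k ≤ I := by
      rw [MvPolynomial.idealOfVars, Ideal.span_le]
      rintro _ ⟨i, rfl⟩
      exact hall i
    haveI : (MvPolynomial.idealOfVars (Fin N) k).IsMaximal :=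
      Groth.Agent.H29.CINormal.idealOfVars_isMaximal k (Fin N)
    have h1 := Ideal.height_mono hle
    rw [Groth.Agent.H54.height_of_isMaximal_mvPolynomial k N _] at h1
    exact absurd (lt_of_le_of_lt h1 hI) (lt_irrefl _)
  set t0 : Fin (N * N) := finProdFinEquiv (a, a) with ht0
  have hG0 : G k N d t0 ∉ I := by
    rw [ht0, G_apply, ← pow_succ, Nat.sub_add_cancel hd]
    exact fun h => ha (Ideal.IsPrime.mem_of_pow_mem ‹_› d h)
  have hv : Ideal.Quotient.mk I (G k N d t0) ≠ 0 := by
    rw [Ne, Ideal.Quotient.eq_zero_iff_mem]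
    exact hG0
  obtain ⟨μ, hμ⟩ := Module.Projective.exists_dual_ne_zero k hv
  let q : MvPolynomial (Fin (N * N)) k := ∑ t, C (μ (Ideal.Quotient.mk I (G k N d t))) * X t
  have hq : ∀ c : Fin (N * N) → k, eval c q = μ (Ideal.Quotient.mk I (Fc k N d c)) := by
    intro c
    unfold Fc
    rw [map_sum, map_sum, map_sum]
    refine Finset.sum_congr rfl fun t _ => ?_
    rw [map_mul, eval_C, eval_X, map_mul]
    have h1 : Ideal.Quotient.mk I (C (c t)) * Ideal.Quotient.mk I (G k N d t) =
        c t • Ideal.Quotient.mk I (G k N d t) :=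
      (Algebra.smul_def (c t) (Ideal.Quotient.mk I (G k N d t))).symm
    rw [h1, map_smul, smul_eq_mul, mul_comm]
  refine ⟨q, ?_, fun c hc hmem => ?_⟩
  · intro hq0
    have h1 := hq (Pi.single t0 1)
    rw [hq0, map_zero] at h1
    have h2 : Fc k N d (Pi.single t0 1) = G k N d t0 := by
      unfold Fc
      rw [Finset.sum_eq_single t0]
      · rw [Pi.single_eq_same, map_one, one_mul]
      · intro t _ ht
        rw [Pi.single_eq_of_ne ht, map_zero, zero_mul]
      · intro h
        exact absurd (Finset.mem_univ t0) h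
    rw [h2] at h1
    exact hμ h1.symm
  · rw [hq c, Ideal.Quotient.eq_zero_iff_mem.mpr hmem, map_zero] at hc
    exact hc rfl

end Groth.Agent.H36.CI
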