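import Mathlib
import Groth.Agent.H36.CIStep
import Groth.Agent.S10918
import Groth.Agent.H14.RegularNormal
import Groth.Agent.H23.RegSmooth2

/-!
# Nonsingular complete intersections of prescribed degrees
-/

set_option autoImplicit false
set_option linter.unusedSectionVars false
set_option linter.unusedVariables false
set_option linter.style.haveILetI false

universe u

namespace Groth.Agent.H36.CI

open MvPolynomial Groth.Agent.H36.Cone

variable (k : Type u) [Field k] (n : ℕ)

/-- the cone is regular away from the vertex if all the slices are smooth -/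
theorem regular_of_smooth_slice [IsAlgClosed k] (s : Set (MvPolynomial (Fin (n + 1)) k))
    (hs : ∀ p ∈ s, ∃ d, p.IsHomogeneous d)
    (hsm : ∀ j, Algebra.Smooth k (MvPolynomial (Fin (n + 1)) k ⧸ sliceIdeal s j))
    (Q : Ideal (MvPolynomial (Fin (n + 1)) k ⧸ Ideal.span s)) [Q.IsPrime]
    (hQ : ∃ j, Ideal.Quotient.mk (Ideal.span s) (X j) ∉ Q) :
    IsRegularLocalRing (Localization.AtPrime Q) := by
  obtain ⟨j, hj⟩ := hQ
  haveI := hsm j
  haveI : Algebra.FiniteType k (MvPolynomial (Fin (n + 1)) k ⧸ sliceIdeal s j) :=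
    Algebra.FiniteType.of_surjective (Ideal.Quotient.mkₐ k _) (Ideal.Quotient.mkₐ_surjective k _)
  haveI : IsRegularRing (MvPolynomial (Fin (n + 1)) k ⧸ sliceIdeal s j) :=
    (Groth.Agent.H23.RegSmooth.isRegularRing_iff_smooth k _).mpr inferInstance
  exact regular_of_slice s j hs Q hj

theorem span_range_ne_top {r : ℕ} (f : Fin r → MvPolynomial (Fin (n + 1)) k) (d : Fin r → ℕ)
    (hf : ∀ i, (f i).IsHomogeneous (d i)) (hd : ∀ i, 0 < d i) :
    Ideal.span (Set.range f) ≠ ⊤ := by
  have hle : Ideal.span (Set.range f) ≤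
      RingHom.ker (constantCoeff : MvPolynomial (Fin (n + 1)) k →+* k) := by
    rw [Ideal.span_le]
    rintro _ ⟨i, rfl⟩
    rw [SetLike.mem_coe, RingHom.mem_ker, constantCoeff_eq]
    exact (hf i).coeff_eq_zero (by
      rw [map_zero]
      exact (hd i).ne)
  intro htop
  rw [htop] at hle
  have h1 : (1 : MvPolynomial (Fin (n + 1)) k) ∈
      RingHom.ker (constantCoeff : MvPolynomial (Fin (n + 1)) k →+* k) := hle Submodule.mem_top
  rw [RingHom.mem_ker, map_one] at h1
  exact one_ne_zero h1

theorem height_span_range_le {r : ℕ} (f : Fin r → MvPolynomial (Fin (n + 1)) k)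
    (hne : Ideal.span (Set.range f) ≠ ⊤) : (Ideal.span (Set.range f)).height ≤ r := by
  refine (Ideal.height_le_spanFinrank _ hne).trans ?_
  refine (Submodule.spanFinrank_span_le_encard _).trans ?_
  rw [← Set.image_univ]
  refine (Set.encard_image_le f Set.univ).trans ?_
  rw [Set.encard_univ, ENat.card_eq_coe_fintype_card, Fintype.card_fin]

/-- the invariant of the induction -/
def Good (r : ℕ) (d : Fin r → ℕ) (f : Fin r → MvPolynomial (Fin (n + 1)) k) : Prop :=
  (∀ i, (f i).IsHomogeneous (d i)) ∧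
  (∀ i j, Algebra.Smooth k (MvPolynomial (Fin (n + 1)) k ⧸ sliceIdeal {f i} j)) ∧
  (∀ j, Algebra.Smooth k (MvPolynomial (Fin (n + 1)) k ⧸ sliceIdeal (Set.range f) j)) ∧
  IsDomain (MvPolynomial (Fin (n + 1)) k ⧸ Ideal.span (Set.range f)) ∧
  (Ideal.span (Set.range f)).height = r

theorem exists_good [IsAlgClosed k] : ∀ r : ℕ, r < n → ∀ d : Fin r → ℕ, (∀ i, 0 < d i) →
    ∃ f : Fin r → MvPolynomial (Fin (n + 1)) k, Good k n r d f := by
  classical
  intro r
  induction r with
  | zero =>
    intro _ d _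
    have hrange : Set.range (fun i : Fin 0 => (i.elim0 : MvPolynomial (Fin (n + 1)) k)) = ∅ :=
      Set.range_eq_empty _
    refine ⟨fun i => i.elim0, fun i => i.elim0, fun i => i.elim0, fun j => ?_, ?_, ?_⟩
    · rw [hrange]
      exact smooth_slice_empty k (n + 1) j
    · rw [hrange, Ideal.span_empty]
      exact (Ideal.Quotient.isDomain_iff_prime _).mpr Ideal.isPrime_bot
    · rw [hrange, Ideal.span_empty, Ideal.height_bot]
      rfl
  | succ r ih =>
    intro hr d hd
    obtain ⟨f, hf1, hf2, hf3, hf4, hf5⟩ := ih (by omega) (fun i => d i.castSucc) (fun i => hd _)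
    obtain ⟨I, hIdef⟩ : ∃ I : Ideal (MvPolynomial (Fin (n + 1)) k), I = Ideal.span (Set.range f) :=
      ⟨_, rfl⟩
    rw [← hIdef] at hf4 hf5
    haveI hIprime : I.IsPrime := (Ideal.Quotient.isDomain_iff_prime I).mp hf4
    obtain ⟨dl, hdldef⟩ : ∃ dl : ℕ, dl = d (Fin.last r) := ⟨_, rfl⟩
    have hdl : 0 < dl := hdldef ▸ hd _
    have h2 : ∀ j : Fin (n + 1), ∃ q : MvPolynomial (Fin ((n + 1) * (n + 1))) k, q ≠ 0 ∧
        ∀ c : Fin ((n + 1) * (n + 1)) → k, eval c q ≠ 0 →
          Algebra.Smooth k (MvPolynomial (Fin (n + 1)) k ⧸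
            sliceIdeal (insert (Fc k (n + 1) dl c) (∅ : Set (MvPolynomial (Fin (n + 1)) k))) j) := by
      intro j
      haveI := smooth_slice_empty k (n + 1) j
      exact slice_step k (n + 1) ∅ j dl hdl
    have h3 : ∀ j : Fin (n + 1), ∃ q : MvPolynomial (Fin ((n + 1) * (n + 1))) k, q ≠ 0 ∧
        ∀ c : Fin ((n + 1) * (n + 1)) → k, eval c q ≠ 0 →
          Algebra.Smooth k (MvPolynomial (Fin (n + 1)) k ⧸
            sliceIdeal (insert (Fc k (n + 1) dl c) (Set.range f)) j) := by
      intro j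
      haveI := hf3 j
      exact slice_step k (n + 1) (Set.range f) j dl hdl
    choose q2 hq2 hq2' using h2
    choose q3 hq3 hq3' using h3
    obtain ⟨q5, hq5, hq5'⟩ := exists_poly_notMem k (n + 1) I (by
      rw [hf5]
      exact_mod_cast (by omega : r < n + 1)) dl hdl
    have hQ : (∏ j, q2 j) * (∏ j, q3 j) * q5 ≠ 0 :=
      mul_ne_zero (mul_ne_zero (Finset.prod_ne_zero_iff.mpr fun j _ => hq2 j)
        (Finset.prod_ne_zero_iff.mpr fun j _ => hq3 j)) hq5
    obtain ⟨c, hc⟩ : ∃ c : Fin ((n + 1) * (n + 1)) → k,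
        eval c ((∏ j, q2 j) * (∏ j, q3 j) * q5) ≠ 0 := by
      by_contra hall
      push Not at hall
      exact hQ (MvPolynomial.funext fun x => by rw [hall x, map_zero])
    rw [map_mul, map_mul, map_prod, map_prod] at hc
    have hc2 : ∀ j, eval c (q2 j) ≠ 0 := fun j =>
      Finset.prod_ne_zero_iff.mp (left_ne_zero_of_mul (left_ne_zero_of_mul hc)) j (Finset.mem_univ j)
    have hc3 : ∀ j, eval c (q3 j) ≠ 0 := fun j =>
      Finset.prod_ne_zero_iff.mp (right_ne_zero_of_mul (left_ne_zero_of_mul hc)) j (Finset.mem_univ j)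
    have hc5 : eval c q5 ≠ 0 := right_ne_zero_of_mul hc
    obtain ⟨F, hFdef⟩ : ∃ F : MvPolynomial (Fin (n + 1)) k, F = Fc k (n + 1) dl c := ⟨_, rfl⟩
    have hFhom : F.IsHomogeneous dl := hFdef ▸ Fc_isHomogeneous k (n + 1) dl hdl c
    have hFI : F ∉ I := hFdef ▸ hq5' c hc5
    obtain ⟨f', hf'def⟩ : ∃ f' : Fin (r + 1) → MvPolynomial (Fin (n + 1)) k,
        f' = Fin.snoc (α := fun _ => MvPolynomial (Fin (n + 1)) k) f F := ⟨_, rfl⟩
    have hlast : f' (Fin.last r) = F := by rw [hf'def, Fin.snoc_last]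
    have hcast : ∀ i : Fin r, f' i.castSucc = f i := fun i => by rw [hf'def, Fin.snoc_castSucc]
    have hrange : Set.range f' = insert F (Set.range f) := by
      rw [hf'def]
      exact Fin.range_snoc f F
    have hhom : ∀ i, (f' i).IsHomogeneous (d i) := by
      intro i
      induction i using Fin.lastCases with
      | last =>
        rw [hlast, ← hdldef]
        exact hFhom
      | cast i =>
        rw [hcast]
        exact hf1 i
    have hsm3 : ∀ j, Algebra.Smooth k (MvPolynomial (Fin (n + 1)) k ⧸ sliceIdeal (Set.range f') j) := by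
      intro j
      rw [hrange, hFdef]
      exact hq3' j c (hc3 j)
    have hspan : Ideal.span (Set.range f') = I ⊔ Ideal.span {F} := by
      rw [hrange, Ideal.span_insert, sup_comm, hIdef]
    have hne : Ideal.span (Set.range f') ≠ ⊤ := span_range_ne_top k n f' d hhom hd
    have hheight : (Ideal.span (Set.range f')).height = ((r + 1 : ℕ) : ℕ∞) := by
      apply le_antisymm
      · exact height_span_range_le k n f' hne
      · rw [hspan]
        have hlt : I < I ⊔ Ideal.span {F} :=
          lt_of_le_of_ne le_sup_left (fun h => hFI (by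
            rw [h]
            exact Ideal.mem_sup_right (Ideal.mem_span_singleton_self F)))
        have h1 := Ideal.height_strict_mono_of_isPrime hlt
        rw [hf5] at h1
        push_cast
        exact Order.add_one_le_of_lt h1
    refine ⟨f', hhom, ?_, hsm3, ?_, hheight⟩
    · intro i j
      induction i using Fin.lastCases with
      | last =>
        rw [hlast, hFdef]
        have h1 := hq2' j c (hc2 j)
        rwa [insert_empty_eq] at h1
      | cast i =>
        rw [hcast]
        exact hf2 i j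
    · have hs' : ∀ p ∈ Set.range f', ∃ d, p.IsHomogeneous d := by
        rintro _ ⟨i, rfl⟩
        exact ⟨d i, hhom i⟩
      exact (Groth.Agent.S10918.result k n (r + 1) hr f' d hhom hd hheight (fun Q _ hQ => by
        haveI := regular_of_smooth_slice k n _ hs' hsm3 Q hQ
        exact ⟨Groth.Agent.Lead.RLR.isDomain (Localization.AtPrime Q),
          Groth.Agent.H14.isIntegrallyClosed_of_isRegularLocalRing (Localization.AtPrime Q)⟩)).1

/-- nonsingular complete intersections of prescribed degrees exist -/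
theorem exists_ci [IsAlgClosed k] (r : ℕ) (hr : r < n) (d : Fin r → ℕ) (hd : ∀ i, 0 < d i) :
    ∃ f : Fin r → MvPolynomial (Fin (n + 1)) k,
      (∀ i, (f i).IsHomogeneous (d i)) ∧
      (∀ (i : Fin r) (Q : Ideal (MvPolynomial (Fin (n + 1)) k ⧸ Ideal.span {f i})) [Q.IsPrime],
        (∃ j, Ideal.Quotient.mk (Ideal.span {f i}) (MvPolynomial.X j) ∉ Q) →
          IsRegularLocalRing (Localization.AtPrime Q)) ∧
      IsDomain (MvPolynomial (Fin (n + 1)) k ⧸ Ideal.span (Set.range f)) ∧
      (Ideal.span (Set.range f)).height = r ∧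
      ∀ (Q : Ideal (MvPolynomial (Fin (n + 1)) k ⧸ Ideal.span (Set.range f))) [Q.IsPrime],
        (∃ j, Ideal.Quotient.mk (Ideal.span (Set.range f)) (MvPolynomial.X j) ∉ Q) →
          IsRegularLocalRing (Localization.AtPrime Q) := by
  obtain ⟨f, hf1, hf2, hf3, hf4, hf5⟩ := exists_good k n r hr d hd
  refine ⟨f, hf1, ?_, hf4, hf5, ?_⟩
  · intro i Q _ hQ
    refine regular_of_smooth_slice k n {f i} ?_ (hf2 i) Q hQ
    intro p hp
    rw [Set.mem_singleton_iff] at hp
    exact ⟨d i, hp ▸ hf1 i⟩
  · intro Q _ hQ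
    refine regular_of_smooth_slice k n (Set.range f) ?_ hf3 Q hQ
    rintro _ ⟨i, rfl⟩
    exact ⟨d i, hf1 i⟩

end Groth.Agent.H36.CI
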