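import Mathlib

/-!
Extensions of valuation rings `A ⊆ B` with finite extension of fraction fields `K ⊆ L`:
products of representatives of distinct classes of the value group of `B` modulo that of `A`
with lifts of residues independent over the residue field of `A` are linearly independent
over `K`.
-/

set_option autoImplicit false
universe u

namespace Groth.Agent.H36

open IsLocalRing

section

variable (A B K L : Type u) [CommRing A] [IsDomain A] [ValuationRing A] [CommRing B] [IsDomain B]
  [ValuationRing B] [Field K] [Field L] [Algebra A K] [IsFractionRing A K] [Algebra B L]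
  [IsFractionRing B L] [Algebra A B] [Algebra K L] [Algebra A L] [IsScalarTower A K L]
  [IsScalarTower A B L]

theorem valB_integers : (ValuationRing.valuation B L).Integers B where
  hom_inj := IsFractionRing.injective B L
  map_le_one x := (Valuation.mem_integer_iff _ _).mp
    ((ValuationRing.mem_integer_iff B L _).mpr ⟨x, rfl⟩)
  exists_of_le_one := fun r hr =>
    (ValuationRing.mem_integer_iff B L r).mp ((Valuation.mem_integer_iff _ _).mpr hr)

omit [IsDomain A] [ValuationRing A] [IsDomain B] [ValuationRing B] [IsFractionRing A K]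
  [IsFractionRing B L] in
theorem algebraMap_comm (c : A) :
    algebraMap K L (algebraMap A K c) = algebraMap B L (algebraMap A B c) := by
  rw [← IsScalarTower.algebraMap_apply, ← IsScalarTower.algebraMap_apply]

variable [IsLocalHom (algebraMap A B)]

/-- `B ∩ K = A` -/
theorem exists_of_val_le_one (a : K)
    (h : ValuationRing.valuation B L (algebraMap K L a) ≤ 1) : ∃ c : A, algebraMap A K c = a := by
  rcases ValuationRing.isInteger_or_isInteger A a with ⟨c, hc⟩ | ⟨c, hc⟩
  · exact ⟨c, hc⟩
  · by_cases ha : a = 0
    · exact ⟨0, by rw [ha, map_zero]⟩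
    by_cases hcu : IsUnit c
    · obtain ⟨d, hd⟩ := hcu.exists_right_inv
      refine ⟨d, ?_⟩
      have : algebraMap A K c * algebraMap A K d = 1 := by rw [← map_mul, hd, map_one]
      rw [hc] at this
      field_simp at this
      exact this
    · exfalso
      have hcB : ¬ IsUnit (algebraMap A B c) := fun hu => hcu (IsLocalHom.map_nonunit c hu)
      have hv := valB_integers B L
      have h1 : ValuationRing.valuation B L (algebraMap B L (algebraMap A B c)) ≠ 1 :=
        fun h1 => hcB (hv.isUnit_iff_valuation_eq_one.mpr h1)
      have h2 : ValuationRing.valuation B L (algebraMap B L (algebraMap A B c)) < 1 :=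
        lt_of_le_of_ne (hv.map_le_one _) h1
      rw [← algebraMap_comm A B K L, hc, map_inv₀, map_inv₀] at h2
      have h3 : ValuationRing.valuation B L (algebraMap K L a) ≠ 0 := by
        rw [Valuation.ne_zero_iff]
        exact fun h0 => ha ((injective_iff_map_eq_zero (algebraMap K L)).mp
          (algebraMap K L).injective a h0)
      have h4 : 1 < ValuationRing.valuation B L (algebraMap K L a) := by
        rw [← inv_lt_one₀ (zero_lt_iff.mpr h3)]
        exact h2
      exact absurd h (not_le.mpr h4)


theorem residue_smul_residue (c : A) (b : B) :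
    (residue A c) • (residue B b) = residue B (algebraMap A B c * b) := by
  rw [Algebra.smul_def, ResidueField.algebraMap_residue, ← map_mul]

/-- the valuation of a `K`-linear combination of elements of `B` whose residues are linearly
independent is the maximum of the valuations of the coefficients -/
theorem val_sum_eq {ι : Type*} [Fintype ι] (b : ι → B)
    (hb : LinearIndependent (ResidueField A) (fun i => residue B (b i))) (a : ι → K) (i₀ : ι)
    (hi₀ : ∀ i, ValuationRing.valuation B L (algebraMap K L (a i)) ≤
      ValuationRing.valuation B L (algebraMap K L (a i₀))) (h0 : a i₀ ≠ 0) :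
    ValuationRing.valuation B L (∑ i, algebraMap K L (a i) * algebraMap B L (b i)) =
      ValuationRing.valuation B L (algebraMap K L (a i₀)) := by
  classical
  have hv := valB_integers B L
  have hne : ValuationRing.valuation B L (algebraMap K L (a i₀)) ≠ 0 := by
    rw [Valuation.ne_zero_iff]
    exact fun h => h0 ((injective_iff_map_eq_zero (algebraMap K L)).mp
      (algebraMap K L).injective _ h)
  have hc : ∀ i, ∃ c : A, algebraMap A K c = a i / a i₀ := by
    intro i
    apply exists_of_val_le_one A B K L
    rw [map_div₀, map_div₀]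
    exact div_le_one_of_le₀ (hi₀ i) zero_le
  choose c hc using hc
  have hci₀ : c i₀ = 1 := by
    apply IsFractionRing.injective A K
    rw [hc, div_self h0, map_one]
  let β : B := ∑ i, algebraMap A B (c i) * b i
  have hβ : IsUnit β := by
    rw [← residue_ne_zero_iff_isUnit]
    intro h
    have h1 : ∑ i, (residue A (c i)) • (residue B (b i)) = 0 := by
      rw [← h, map_sum]
      exact Finset.sum_congr rfl (fun i _ => residue_smul_residue A B (c i) (b i))
    have h2 := Fintype.linearIndependent_iff.mp hb (fun i => residue A (c i)) h1 i₀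
    rw [hci₀, map_one] at h2
    exact one_ne_zero h2
  have hsum : ∑ i, algebraMap K L (a i) * algebraMap B L (b i) =
      algebraMap K L (a i₀) * algebraMap B L β := by
    rw [map_sum, Finset.mul_sum]
    apply Finset.sum_congr rfl
    intro i _
    rw [map_mul, ← algebraMap_comm A B K L, hc, ← mul_assoc, ← map_mul,
      mul_div_cancel₀ _ h0]
  rw [hsum, map_mul, hv.isUnit_iff_valuation_eq_one.mp hβ, mul_one]


/-- the main linear independence statement -/
theorem linearIndependent_mul {e' f' : ℕ} (x : Fin e' → L)
    (hx : ∀ j l, j ≠ l → ∀ a : K, a ≠ 0 → ValuationRing.valuation B L (x j) ≠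
      ValuationRing.valuation B L (algebraMap K L a) * ValuationRing.valuation B L (x l))
    (hx0 : ∀ j, x j ≠ 0)
    (b : Fin f' → B) (hb : LinearIndependent (ResidueField A) (fun i => residue B (b i))) :
    LinearIndependent K (fun p : Fin e' × Fin f' => algebraMap B L (b p.2) * x p.1) := by
  classical
  set v := ValuationRing.valuation B L with hvdef
  rw [Fintype.linearIndependent_iff]
  intro g hg
  by_contra hcon
  push Not at hcon
  obtain ⟨⟨j₁, i₁⟩, hp⟩ := hcon
  let w : Fin e' → L := fun j => ∑ i, algebraMap K L (g (j, i)) * algebraMap B L (b i)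
  let y : Fin e' → L := fun j => w j * x j
  have hsum : ∑ j, y j = 0 := by
    rw [← hg, Fintype.sum_prod_type]
    apply Finset.sum_congr rfl
    intro j _
    simp only [y, w, Finset.sum_mul]
    apply Finset.sum_congr rfl
    intro i _
    rw [Algebra.smul_def]
    ring
  -- valuations of the `y j`
  have hy : ∀ j, (∀ i, g (j, i) = 0) ∨
      ∃ a : K, a ≠ 0 ∧ v (y j) = v (algebraMap K L a) * v (x j) := by
    intro j
    by_cases hj : ∀ i, g (j, i) = 0
    · exact Or.inl hj
    · right
      push Not at hj
      obtain ⟨i', hi'⟩ := hj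
      obtain ⟨i₀, -, hi₀⟩ := Finset.exists_max_image Finset.univ
        (fun i => v (algebraMap K L (g (j, i)))) ⟨i', Finset.mem_univ _⟩
      have hne : g (j, i₀) ≠ 0 := by
        intro h0
        have h1 := hi₀ i' (Finset.mem_univ _)
        rw [h0, map_zero, map_zero, le_zero_iff, Valuation.zero_iff] at h1
        exact hi' ((injective_iff_map_eq_zero (algebraMap K L)).mp
          (algebraMap K L).injective _ h1)
      refine ⟨g (j, i₀), hne, ?_⟩
      show v (w j * x j) = _
      rw [map_mul]
      congr 1
      exact val_sum_eq A B K L b hb (fun i => g (j, i)) i₀ (fun i => hi₀ i (Finset.mem_univ _)) hne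
  have hy0 : ∀ j, (∀ i, g (j, i) = 0) → y j = 0 := by
    intro j hj
    simp [y, w, hj]
  obtain ⟨j₀, -, hj₀⟩ := Finset.exists_max_image Finset.univ (fun j => v (y j))
    ⟨j₁, Finset.mem_univ _⟩
  have hj₁ : v (y j₁) ≠ 0 := by
    rcases hy j₁ with h | ⟨a, ha, hva⟩
    · exact absurd (h i₁) hp
    · rw [hva]
      apply mul_ne_zero
      · rw [Valuation.ne_zero_iff]
        exact fun h => ha ((injective_iff_map_eq_zero (algebraMap K L)).mp
          (algebraMap K L).injective _ h)
      · rw [Valuation.ne_zero_iff]; exact hx0 j₁
  have hj₀ne : v (y j₀) ≠ 0 := by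
    intro h0
    have := hj₀ j₁ (Finset.mem_univ _)
    rw [h0, le_zero_iff] at this
    exact hj₁ this
  have hlt : ∀ j ∈ Finset.univ \ {j₀}, v (y j) < v (y j₀) := by
    intro j hj
    have hjne : j ≠ j₀ := by
      simpa using hj
    refine lt_of_le_of_ne (hj₀ j (Finset.mem_univ _)) ?_
    intro heq
    rcases hy j with h | ⟨a, ha, hva⟩
    · rw [hy0 j h, map_zero] at heq
      exact hj₀ne heq.symm
    · rcases hy j₀ with h' | ⟨a', ha', hva'⟩
      · rw [hy0 j₀ h', map_zero] at hj₀ne
        exact hj₀ne rfl
      · rw [hva, hva'] at heq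
        have hvane : v (algebraMap K L a) ≠ 0 := by
          rw [Valuation.ne_zero_iff]
          exact fun h => ha ((injective_iff_map_eq_zero (algebraMap K L)).mp
            (algebraMap K L).injective _ h)
        apply hx j j₀ hjne (a' / a) (div_ne_zero ha' ha)
        rw [map_div₀, map_div₀, div_mul_eq_mul_div, ← heq, mul_comm, mul_div_assoc,
          div_self hvane, mul_one]
  have := Valuation.map_sum_eq_of_lt v (Finset.mem_univ j₀) hlt
  rw [hsum, map_zero] at this
  exact hj₀ne this.symm


/-- the image of the units of `B` in `Lˣ` -/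
abbrev unitsB (B L : Type u) [CommRing B] [Field L] [Algebra B L] : Subgroup Lˣ :=
  (Units.map (algebraMap B L).toMonoidHom).range

/-- the value group of `A` inside that of `B` -/
abbrev valGroupA (B K L : Type u) [CommRing B] [Field K] [Field L] [Algebra B L] [Algebra K L] :
    Subgroup (Lˣ ⧸ unitsB B L) :=
  ((QuotientGroup.mk' (unitsB B L)).comp (Units.map (algebraMap K L).toMonoidHom)).range

omit [IsDomain A] [ValuationRing A] [IsFractionRing A K] [Algebra A L] [IsScalarTower A K L]
  [IsScalarTower A B L] [IsLocalHom (algebraMap A B)] [Algebra A K] [Algebra A B] in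
/-- elements of `Lˣ` whose valuations differ by the valuation of an element of `Kˣ` have the same
class in the quotient of the value group of `B` by that of `A` -/
theorem cls_eq_of_val_eq (x₁ x₂ : Lˣ) (a : K) (ha : a ≠ 0)
    (h : ValuationRing.valuation B L (x₁ : L) =
      ValuationRing.valuation B L (algebraMap K L a) * ValuationRing.valuation B L (x₂ : L)) :
    (QuotientGroup.mk (QuotientGroup.mk x₁ : Lˣ ⧸ unitsB B L) :
      (Lˣ ⧸ unitsB B L) ⧸ valGroupA B K L) =
      QuotientGroup.mk (QuotientGroup.mk x₂ : Lˣ ⧸ unitsB B L) := by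
  rw [← map_mul] at h
  obtain ⟨u, hu⟩ := Quotient.exact' h
  simp only [Units.smul_def, Algebra.smul_def] at hu
  rw [eq_comm, QuotientGroup.eq]
  let a' : Kˣ := Units.mk0 a ha
  refine ⟨a', ?_⟩
  simp only [MonoidHom.coe_comp, QuotientGroup.coe_mk', Function.comp_apply]
  rw [← QuotientGroup.mk_inv, ← QuotientGroup.mk_mul, QuotientGroup.eq]
  refine ⟨u, ?_⟩
  apply Units.ext
  have hx₂ : (x₂ : L) ≠ 0 := x₂.ne_zero
  have ha' : algebraMap K L a ≠ 0 := fun h0 => ha ((injective_iff_map_eq_zero (algebraMap K L)).mp
    (algebraMap K L).injective _ h0)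
  simp only [Units.coe_map, MonoidHom.coe_coe, RingHom.toMonoidHom_eq_coe, Units.val_mul,
    Units.val_inv_eq_inv_val, a', Units.val_mk0]
  rw [← hu]
  field_simp

/-- the basic inequality: distinct classes of the value group times independent residues -/
theorem card_mul_card_le [FiniteDimensional K L] {e' f' : ℕ}
    (q : Fin e' → (Lˣ ⧸ unitsB B L) ⧸ valGroupA B K L) (hq : Function.Injective q)
    (b : Fin f' → B) (hb : LinearIndependent (ResidueField A) (fun i => residue B (b i))) :
    e' * f' ≤ Module.finrank K L := by
  have hsurj : ∀ j, ∃ x : Lˣ, (QuotientGroup.mk (QuotientGroup.mk x : Lˣ ⧸ unitsB B L) :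
      (Lˣ ⧸ unitsB B L) ⧸ valGroupA B K L) = q j := by
    intro j
    obtain ⟨y, hy⟩ := QuotientGroup.mk_surjective (q j)
    obtain ⟨x, rfl⟩ := QuotientGroup.mk_surjective y
    exact ⟨x, hy⟩
  choose x hx using hsurj
  have hli := linearIndependent_mul A B K L (fun j => (x j : L)) (by
    intro j l hjl a ha heq
    apply hjl
    apply hq
    rw [← hx j, ← hx l]
    exact cls_eq_of_val_eq B K L (x j) (x l) a ha heq) (fun j => (x j).ne_zero) b hb
  have := hli.fintype_card_le_finrank
  simpa using this

end

end Groth.Agent.H36
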