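import Mathlib
import Groth.Agent.H36.ValRingExt

/-!
Extensions of discrete valuation rings: ramification index in terms of uniformizers and the
valuation of the bigger ring.
-/

set_option autoImplicit false
universe u

namespace Groth.Agent.H36

open IsLocalRing

section

variable (A B K L : Type u) [CommRing A] [IsDomain A] [IsDiscreteValuationRing A] [CommRing B]
  [IsDomain B] [IsDiscreteValuationRing B] [Field K] [Field L] [Algebra A K] [IsFractionRing A K]
  [Algebra B L] [IsFractionRing B L] [Algebra A B] [Algebra K L] [Algebra A L]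
  [IsScalarTower A K L] [IsScalarTower A B L]

/-- uniformizers and the ramification index -/
theorem exists_uniformizers (hinj : Function.Injective (algebraMap A B)) :
    ∃ (ϖA : A) (ϖB : B) (u : Bˣ), Irreducible ϖA ∧ Irreducible ϖB ∧
      algebraMap A B ϖA = u * ϖB ^ Ideal.ramificationIdx' (maximalIdeal A) (maximalIdeal B) := by
  obtain ⟨ϖA, hA⟩ := IsDiscreteValuationRing.exists_irreducible A
  obtain ⟨ϖB, hB⟩ := IsDiscreteValuationRing.exists_irreducible B
  have hne : algebraMap A B ϖA ≠ 0 := by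
    intro h0
    exact hA.ne_zero ((injective_iff_map_eq_zero (algebraMap A B)).mp hinj _ h0)
  obtain ⟨k, u, hu⟩ := IsDiscreteValuationRing.eq_unit_mul_pow_irreducible hne hB
  refine ⟨ϖA, ϖB, u, hA, hB, ?_⟩
  have hmap : Ideal.map (algebraMap A B) (maximalIdeal A) = maximalIdeal B ^ k := by
    rw [hA.maximalIdeal_eq, hB.maximalIdeal_eq, Ideal.map_span, Set.image_singleton, hu,
      Ideal.span_singleton_pow]
    exact Ideal.span_singleton_eq_span_singleton.mpr
      ⟨u⁻¹, by rw [mul_comm, ← mul_assoc, Units.inv_mul, one_mul]⟩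
  have hidx : Ideal.ramificationIdx' (maximalIdeal A) (maximalIdeal B) = k := by
    apply Ideal.ramificationIdx'_spec
    · rw [hmap]
    · rw [hmap, hB.maximalIdeal_eq, Ideal.span_singleton_pow, Ideal.span_singleton_pow,
        Ideal.span_singleton_le_span_singleton]
      rintro ⟨c, hc⟩
      rw [pow_succ, mul_assoc] at hc
      have h1 : ϖB ^ k * 1 = ϖB ^ k * (ϖB * c) := by rw [mul_one]; exact hc
      have h2 := mul_left_cancel₀ (pow_ne_zero k hB.ne_zero) h1
      exact hB.not_isUnit (IsUnit.of_mul_eq_one _ h2.symm)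
  rw [hidx, hu]

variable [IsLocalHom (algebraMap A B)]

/-- the valuation (for `B`) of nonzero elements of `K` is a power of `t ^ e` -/
theorem val_algebraMap_eq_pow (ϖA : A) (ϖB : B) (u : Bˣ) (hA : Irreducible ϖA) (e : ℕ)
    (hu : algebraMap A B ϖA = u * ϖB ^ e) (a : K) (ha : a ≠ 0) :
    ∃ m₁ m₂ : ℕ, ValuationRing.valuation B L (algebraMap K L a) *
        (ValuationRing.valuation B L (algebraMap B L ϖB)) ^ (e * m₂) =
      (ValuationRing.valuation B L (algebraMap B L ϖB)) ^ (e * m₁) := by
  have hv := valB_integers B L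
  have key : ∀ c : A, c ≠ 0 → ∃ m : ℕ,
      ValuationRing.valuation B L (algebraMap K L (algebraMap A K c)) =
        (ValuationRing.valuation B L (algebraMap B L ϖB)) ^ (e * m) := by
    intro c hc
    obtain ⟨m, w, hw⟩ := IsDiscreteValuationRing.eq_unit_mul_pow_irreducible hc hA
    refine ⟨m, ?_⟩
    rw [algebraMap_comm A B K L, hw, map_mul, map_pow, hu, map_mul, map_mul, map_pow, map_pow,
      map_mul, map_mul, map_pow]
    have h1 : ValuationRing.valuation B L (algebraMap B L (algebraMap A B (w : A))) = 1 :=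
      hv.isUnit_iff_valuation_eq_one.mp ((w.isUnit).map (algebraMap A B))
    have h2 : ValuationRing.valuation B L (algebraMap B L (u : B)) = 1 :=
      hv.isUnit_iff_valuation_eq_one.mp u.isUnit
    rw [h1, h2, one_mul, one_mul, map_pow, ← pow_mul]
  obtain ⟨c₁, c₂, hc₂, rfl⟩ := IsFractionRing.div_surjective (A := A) a
  have hc₂0 : c₂ ≠ 0 := nonZeroDivisors.ne_zero hc₂
  have hc₁0 : c₁ ≠ 0 := by
    rintro rfl
    simp at ha
  obtain ⟨m₁, h₁⟩ := key c₁ hc₁0
  obtain ⟨m₂, h₂⟩ := key c₂ hc₂0
  refine ⟨m₁, m₂, ?_⟩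
  rw [map_div₀, map_div₀, h₁, h₂]
  have : (ValuationRing.valuation B L (algebraMap B L ϖB)) ^ (e * m₂) ≠ 0 := by
    rw [← h₂, Valuation.ne_zero_iff]
    intro h0
    have h3 := (injective_iff_map_eq_zero (algebraMap K L)).mp (algebraMap K L).injective _ h0
    exact hc₂0 ((injective_iff_map_eq_zero (algebraMap A K)).mp (IsFractionRing.injective A K) _ h3)
  rw [div_mul_cancel₀ _ this]

end

end Groth.Agent.H36
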