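import Mathlib
import Groth.Agent.H13.CompleteNagata
import Groth.Agent.H27.OlivierIntLocal
import Groth.Agent.H9.Chevalley

/-!
# Finite DVR quotients of complete reduced local rings (EGA IV 7.?)

A reduced complete Noetherian local ring which is not a field has, for every `n`, finitely many
finite local homomorphisms to discrete valuation rings whose kernels intersect inside `𝔪 ^ n`.
-/

set_option autoImplicit false
set_option linter.style.haveILetI false
set_option linter.unusedSectionVars false
universe u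
open IsLocalRing

namespace Groth.Agent.H36.DVRQuot


/-- in a domain, a prime strictly below a prime of height at most one is zero -/
theorem eq_bot_of_lt_of_height_le_one {D : Type*} [CommRing D] [IsDomain D] {P Q : Ideal D}
    [P.IsPrime] [Q.IsPrime] (hP : P.height ≤ 1) (hQP : Q < P) : Q = ⊥ := by
  have h1 : P.height ≤ ((1 : ℕ) : ℕ∞) := by simpa using hP
  have h2 := (Ideal.height_le_iff.mp h1) Q inferInstance hQP
  have h3 : Q.height = 0 := by
    have : Q.height < 1 := by simpa using h2
    exact Order.lt_one_iff.mp this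
  exact Ideal.height_eq_zero_iff_eq_bot.mp h3

/-- **Lemma A.** In a Noetherian local domain, if some nonzero element of the maximal ideal lies
in every nonzero prime, then every nonzero prime is the maximal ideal. -/
theorem eq_maximalIdeal_of_forall_mem {D : Type*} [CommRing D] [IsDomain D] [IsNoetherianRing D]
    [IsLocalRing D] (x : D) (hx0 : x ≠ 0) (hxm : x ∈ maximalIdeal D)
    (H : ∀ P : Ideal D, P.IsPrime → P ≠ ⊥ → x ∈ P) :
    ∀ P : Ideal D, P.IsPrime → P ≠ ⊥ → P = maximalIdeal D := by
  classical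
  have hfin : (Ideal.span {x}).minimalPrimes.Finite :=
    Ideal.finite_minimalPrimes_of_isNoetherianRing D _
  have hxle : Ideal.span {x} ≤ maximalIdeal D := by
    rw [Ideal.span_singleton_le_iff_mem]; exact hxm
  -- the maximal ideal is minimal over `x`
  have hmem : maximalIdeal D ∈ (Ideal.span {x}).minimalPrimes := by
    by_contra hnot
    have hnsub : ¬ ((maximalIdeal D : Set D) ⊆ ⋃ P ∈ (hfin.toFinset : Set (Ideal D)), (P : Set D)) := by
      intro hsub
      rw [Ideal.subset_union_prime (f := fun P : Ideal D => P) ⊥ ⊥ (fun P hP _ _ =>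
        (hfin.mem_toFinset.mp hP).1.1)] at hsub
      obtain ⟨P, hP, hmP⟩ := hsub
      have hPmin := hfin.mem_toFinset.mp hP
      have hPp : P.IsPrime := hPmin.1.1
      have : P = maximalIdeal D :=
        le_antisymm (IsLocalRing.le_maximalIdeal hPp.ne_top) hmP
      exact hnot (this ▸ hPmin)
    obtain ⟨y, hym, hy⟩ := Set.not_subset.mp hnsub
    have hyP : ∀ P ∈ (Ideal.span {x}).minimalPrimes, y ∉ P := by
      intro P hP hyP
      apply hy
      simp only [Set.mem_iUnion]
      exact ⟨P, by simpa using hP, hyP⟩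
    obtain ⟨P₀, hP₀, -⟩ := Ideal.exists_minimalPrimes_le hxle
    have hy0 : y ≠ 0 := by
      rintro rfl
      exact hyP P₀ hP₀ (Ideal.zero_mem _)
    have hyle : Ideal.span {y} ≤ maximalIdeal D := by
      rw [Ideal.span_singleton_le_iff_mem]; exact hym
    obtain ⟨P', hP', -⟩ := Ideal.exists_minimalPrimes_le hyle
    haveI hP'p : P'.IsPrime := hP'.1.1
    have hyP' : y ∈ P' := hP'.1.2 (Ideal.mem_span_singleton_self y)
    have hht : P'.height ≤ 1 :=
      Ideal.height_le_one_of_isPrincipal_of_mem_minimalPrimes _ P' hP'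
    have hP'ne : P' ≠ ⊥ := by
      rintro rfl
      exact hy0 (by simpa using hyP')
    have hxP' : x ∈ P' := H P' hP'p hP'ne
    have hxle' : Ideal.span {x} ≤ P' := by
      rw [Ideal.span_singleton_le_iff_mem]; exact hxP'
    obtain ⟨Pi, hPi, hPile⟩ := Ideal.exists_minimalPrimes_le hxle'
    haveI : Pi.IsPrime := hPi.1.1
    have hPine : Pi ≠ ⊥ := by
      rintro rfl
      have : x ∈ (⊥ : Ideal D) := hPi.1.2 (Ideal.mem_span_singleton_self x)
      exact hx0 (by simpa using this)
    rcases hPile.lt_or_eq with hlt | heq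
    · exact hPine (eq_bot_of_lt_of_height_le_one hht hlt)
    · exact hyP Pi hPi (heq ▸ hyP')
  have hht : (maximalIdeal D).height ≤ 1 :=
    Ideal.height_le_one_of_isPrincipal_of_mem_minimalPrimes _ _ hmem
  intro P hP hPne
  haveI := hP
  rcases (IsLocalRing.le_maximalIdeal hP.ne_top).lt_or_eq with hlt | heq
  · exact absurd (eq_bot_of_lt_of_height_le_one hht hlt) hPne
  · exact heq

/-- **Step 1.** In a Noetherian local ring which has a non-maximal prime, every non-nilpotent
element avoids a prime `p` of coheight one. -/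
theorem exists_dimOne_prime_notMem (A : Type*) [CommRing A] [IsNoetherianRing A] [IsLocalRing A]
    (hne : ∃ p : Ideal A, p.IsPrime ∧ p ≠ maximalIdeal A) (x : A) (hx : ¬ IsNilpotent x) :
    ∃ p : Ideal A, p.IsPrime ∧ x ∉ p ∧ p ≠ maximalIdeal A ∧
      ∀ P : Ideal A, P.IsPrime → p < P → P = maximalIdeal A := by
  classical
  let S : Set (Ideal A) := {p | p.IsPrime ∧ x ∉ p ∧ p ≠ maximalIdeal A}
  have hSne : S.Nonempty := by
    by_cases hxm : x ∈ maximalIdeal A
    · rw [nilpotent_iff_mem_prime] at hx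
      push Not at hx
      obtain ⟨J, hJ, hxJ⟩ := hx
      exact ⟨J, hJ, hxJ, fun h => hxJ (h ▸ hxm)⟩
    · obtain ⟨p, hp, hpm⟩ := hne
      exact ⟨p, hp, fun h => hxm (IsLocalRing.le_maximalIdeal hp.ne_top h), hpm⟩
  obtain ⟨p, ⟨hpp, hxp, hpm⟩, hmax⟩ :=
    (set_has_maximal_iff_noetherian (R := A) (M := A)).mpr inferInstance S hSne
  haveI := hpp
  refine ⟨p, hpp, hxp, hpm, ?_⟩
  have key : ∀ P : Ideal A, P.IsPrime → p < P → x ∈ P ∨ P = maximalIdeal A := by
    intro P hP hlt
    by_contra hcon
    push Not at hcon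
    exact hmax P ⟨hP, hcon.1, hcon.2⟩ hlt
  by_cases hxm : x ∈ maximalIdeal A
  · -- pass to the quotient domain
    let D := A ⧸ p
    let f : A →+* D := Ideal.Quotient.mk p
    have hf : Function.Surjective f := Ideal.Quotient.mk_surjective
    haveI : IsLocalRing D := IsLocalRing.of_surjective' f hf
    haveI : IsLocalHom f := IsLocalHom.of_surjective f hf
    have hker : RingHom.ker f = p := Ideal.mk_ker
    have hfx0 : f x ≠ 0 := by
      rw [Ne, ← RingHom.mem_ker, hker]; exact hxp
    have hfxm : f x ∈ maximalIdeal D := by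
      rw [← IsLocalRing.maximalIdeal_comap f] at hxm
      exact hxm
    have H : ∀ Pb : Ideal D, Pb.IsPrime → Pb ≠ ⊥ → f x ∈ Pb := by
      intro Pb hPb hPbne
      haveI := hPb
      have hP : (Pb.comap f).IsPrime := Ideal.comap_isPrime f Pb
      have hle : p ≤ Pb.comap f := by
        intro a ha
        have h0 : f a = 0 := Ideal.Quotient.eq_zero_iff_mem.mpr ha
        rw [Ideal.mem_comap, h0]
        exact Ideal.zero_mem _
      have hlt : p < Pb.comap f := by
        refine lt_of_le_of_ne hle fun heq => hPbne ?_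
        rw [← Ideal.map_comap_of_surjective f hf Pb, ← heq, Ideal.map_eq_bot_iff_le_ker, hker]
      rcases key _ hP hlt with h | h
      · exact h
      · have : x ∈ Pb.comap f := h ▸ hxm
        exact this
    have hA := eq_maximalIdeal_of_forall_mem (f x) hfx0 hfxm H
    intro P hP hlt
    haveI := hP
    have hkerle : RingHom.ker f ≤ P := hker.le.trans hlt.le
    have hPb : (P.map f).IsPrime := Ideal.map_isPrime_of_surjective hf hkerle
    have hPbne : P.map f ≠ ⊥ := by
      rw [Ne, Ideal.map_eq_bot_iff_le_ker, hker]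
      exact not_le_of_gt hlt
    have h1 := hA _ hPb hPbne
    have h2 := Ideal.comap_map_of_surjective f hf P
    rw [h1, IsLocalRing.maximalIdeal_comap f] at h2
    rw [h2]
    have : Ideal.comap f ⊥ = p := by rw [← RingHom.ker_eq_comap_bot, hker]
    rw [this, sup_eq_left.mpr hlt.le]
  · intro P hP hlt
    rcases key P hP hlt with h | h
    · exact absurd (IsLocalRing.le_maximalIdeal hP.ne_top h) hxm
    · exact h



/-- data of a finite local homomorphism to a discrete valuation ring -/
structure DVRData (A : Type u) [CommRing A] where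
  V : Type u
  [cr : CommRing V]
  [dom : IsDomain V]
  [dvr : IsDiscreteValuationRing V]
  φ : A →+* V
  loc : IsLocalHom φ
  fin : φ.Finite

attribute [instance] DVRData.cr DVRData.dom DVRData.dvr

theorem henselianLocalRing_of_complete (R : Type*) [CommRing R] [IsLocalRing R]
    [IsAdicComplete (maximalIdeal R) R] : HenselianLocalRing R where
  is_henselian f hf a₀ h₁ h₂ :=
    HenselianRing.is_henselian (I := maximalIdeal R) f hf a₀ h₁ (h₂.map _)

variable (A : Type u) [CommRing A] [IsNoetherianRing A] [IsLocalRing A]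
  [IsAdicComplete (maximalIdeal A) A]

/-- **Step 2.** A prime of coheight one in a complete Noetherian local ring is the kernel of a
finite local homomorphism to a discrete valuation ring. -/
theorem exists_dvrData (p : Ideal A) (hpp : p.IsPrime) (hpm : p ≠ maximalIdeal A)
    (hcov : ∀ P : Ideal A, P.IsPrime → p < P → P = maximalIdeal A) :
    ∃ d : DVRData A, RingHom.ker d.φ = p := by
  classical
  haveI := hpp
  let D := A ⧸ p
  let f : A →+* D := Ideal.Quotient.mk p
  have hf : Function.Surjective f := Ideal.Quotient.mk_surjective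
  haveI : IsLocalRing D := IsLocalRing.of_surjective' f hf
  haveI hfloc : IsLocalHom f := IsLocalHom.of_surjective f hf
  haveI : IsAdicComplete (maximalIdeal D) D := Groth.Agent.H26.ComplQuot.isAdicComplete_quotient p
  haveI : HenselianLocalRing D := henselianLocalRing_of_complete D
  have hker : RingHom.ker f = p := Ideal.mk_ker
  -- D has dimension at most one and is not a field
  have hDnf : ¬ IsField D := by
    intro h
    have : p.IsMaximal := Ideal.Quotient.maximal_of_isField p h
    exact hpm (IsLocalRing.eq_maximalIdeal this)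
  haveI : Ring.DimensionLEOne D := by
    refine ⟨fun {P} hPne hP => ?_⟩
    haveI := hP
    have hPc : (P.comap f).IsPrime := Ideal.comap_isPrime f P
    have hle : p ≤ P.comap f := by
      intro a ha
      have h0 : f a = 0 := Ideal.Quotient.eq_zero_iff_mem.mpr ha
      rw [Ideal.mem_comap, h0]
      exact Ideal.zero_mem _
    have hlt : p < P.comap f := by
      refine lt_of_le_of_ne hle fun heq => hPne ?_
      rw [← Ideal.map_comap_of_surjective f hf P, ← heq, Ideal.map_eq_bot_iff_le_ker, hker]
    have h1 := hcov _ hPc hlt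
    have h2 : P = maximalIdeal D := by
      rw [← Ideal.map_comap_of_surjective f hf P, h1,
        IsLocalRing.map_maximalIdeal_of_surjective f hf]
    rw [h2]
    infer_instance
  let K := FractionRing D
  let V := integralClosure D K
  have hN2 : CAlg.IsN2 D := Groth.Agent.H13.CompleteNagata.isN2_of_complete_local_domain D
  haveI hfinV : Module.Finite D V := hN2 K inferInstance
  haveI : IsNoetherianRing V := IsNoetherianRing.of_finite D V
  haveI : IsLocalRing V := Groth.Agent.H27.Olivier.isLocalRing_of_isIntegral_of_isDomain D V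
  haveI : IsIntegrallyClosed V := integralClosure.isIntegrallyClosedOfFiniteExtension K
  have hinjV : Function.Injective (algebraMap D V) := by
    intro a b hab
    have := congrArg (fun v : V => (v : K)) hab
    exact IsFractionRing.injective D K this
  have hVnf : ¬ IsField V := by
    intro h
    exact hDnf (isField_of_isIntegral_of_isField hinjV h)
  have hded : IsDedekindDomain V := { }
  haveI hdvr : IsDiscreteValuationRing V :=
    ((IsDiscreteValuationRing.TFAE V hVnf).out 2 0).mp hded
  haveI : FaithfulSMul D V := (faithfulSMul_iff_algebraMap_injective D V).mpr hinjV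
  refine ⟨{ V := V, φ := (algebraMap D V).comp f, loc := ?_, fin := ?_ }, ?_⟩
  · haveI : IsLocalHom (algebraMap D V) := inferInstance
    exact RingHom.isLocalHom_comp _ _
  · exact RingHom.Finite.comp (RingHom.finite_algebraMap.mpr hfinV) (RingHom.Finite.of_surjective f hf)
  · change RingHom.ker ((algebraMap D V).comp f) = p
    rw [← RingHom.comap_ker, (RingHom.injective_iff_ker_eq_bot _).mp hinjV, ← RingHom.ker_eq_comap_bot,
      hker]



section Step3

variable {A : Type u} [CommRing A] [IsNoetherianRing A] [IsLocalRing A]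

theorem mem_finsetInf {s : Finset (Ideal A)} {x : A} :
    x ∈ (⨅ p ∈ s, (p : Ideal A)) ↔ ∀ p ∈ s, x ∈ p := by
  simp only [Submodule.mem_iInf]

/-- **Step 3.** In a complete Noetherian local ring, if a family `PP` of prime ideals has zero
intersection then some finite subfamily has intersection inside `𝔪 ^ n`. -/
theorem exists_finset_inf_le [IsAdicComplete (maximalIdeal A) A] (PP : Set (Ideal A))
    (hprime : ∀ p ∈ PP, p.IsPrime) (hbot : ∀ x : A, (∀ p ∈ PP, x ∈ p) → x = 0) (n : ℕ) :
    ∃ s : Finset (Ideal A), (↑s ⊆ PP) ∧ (⨅ p ∈ s, (p : Ideal A)) ≤ maximalIdeal A ^ n := by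
  classical
  -- stage-wise minimal finite intersections
  have hstage : ∀ j : ℕ, ∃ s : Finset (Ideal A), (↑s ⊆ PP) ∧
      ∀ s' : Finset (Ideal A), (↑s' ⊆ PP) →
        (⨅ p ∈ s, (p : Ideal A)) ≤ (⨅ p ∈ s', (p : Ideal A)) ⊔ maximalIdeal A ^ j := by
    intro j
    haveI := Groth.Agent.H9.isArtinian_quotient_maximalIdeal_pow (A := A) j
    let Q := Submodule.mkQ (maximalIdeal A ^ j)
    let SS : Set (Submodule A (A ⧸ maximalIdeal A ^ j)) :=
      {N | ∃ s : Finset (Ideal A), (↑s ⊆ PP) ∧ N = Submodule.map Q (⨅ p ∈ s, (p : Ideal A))}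
    have hne : SS.Nonempty := ⟨_, ∅, by simp, rfl⟩
    obtain ⟨N, ⟨s, hs, rfl⟩, hmin⟩ := IsArtinian.set_has_minimal SS hne
    refine ⟨s, hs, fun s' hs' => ?_⟩
    have hsub : (↑(s' ∪ s) : Set (Ideal A)) ⊆ PP := by
      intro p hp
      rcases Finset.mem_union.mp (Finset.mem_coe.mp hp) with h | h
      · exact hs' h
      · exact hs h
    have hle1 : (⨅ p ∈ s' ∪ s, (p : Ideal A)) ≤ ⨅ p ∈ s, (p : Ideal A) := by
      intro x hx
      rw [mem_finsetInf] at hx ⊢
      exact fun p hp => hx p (Finset.mem_union_right _ hp)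
    have hle2 : (⨅ p ∈ s' ∪ s, (p : Ideal A)) ≤ ⨅ p ∈ s', (p : Ideal A) := by
      intro x hx
      rw [mem_finsetInf] at hx ⊢
      exact fun p hp => hx p (Finset.mem_union_left _ hp)
    have hnlt := hmin _ ⟨s' ∪ s, hsub, rfl⟩
    have heq : Submodule.map Q (⨅ p ∈ s' ∪ s, (p : Ideal A)) =
        Submodule.map Q (⨅ p ∈ s, (p : Ideal A)) := by
      by_contra hne'
      exact hnlt (lt_of_le_of_ne (Submodule.map_mono hle1) hne')
    have h3 : Submodule.map Q (⨅ p ∈ s, (p : Ideal A)) ≤
        Submodule.map Q (⨅ p ∈ s', (p : Ideal A)) := by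
      rw [← heq]; exact Submodule.map_mono hle2
    have h4 := Submodule.comap_mono (f := Q) h3
    rw [Submodule.comap_map_mkQ, Submodule.comap_map_mkQ] at h4
    calc (⨅ p ∈ s, (p : Ideal A)) ≤ maximalIdeal A ^ j ⊔ ⨅ p ∈ s, (p : Ideal A) := le_sup_right
      _ ≤ maximalIdeal A ^ j ⊔ ⨅ p ∈ s', (p : Ideal A) := h4
      _ = (⨅ p ∈ s', (p : Ideal A)) ⊔ maximalIdeal A ^ j := sup_comm _ _
  choose s hs hmin using hstage
  let t : ℕ → Finset (Ideal A) := fun j => (Finset.range (j + 1)).biUnion s
  have ht : ∀ j, (↑(t j) : Set (Ideal A)) ⊆ PP := by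
    intro j p hp
    obtain ⟨i, -, hi⟩ := Finset.mem_biUnion.mp (Finset.mem_coe.mp hp)
    exact hs i hi
  let J : ℕ → Ideal A := fun j => ⨅ p ∈ t j, (p : Ideal A)
  have hJanti : Antitone J := by
    intro i j hij x hx
    change x ∈ ⨅ p ∈ t i, (p : Ideal A)
    change x ∈ ⨅ p ∈ t j, (p : Ideal A) at hx
    rw [mem_finsetInf] at hx ⊢
    intro p hp
    obtain ⟨l, hl, hpl⟩ := Finset.mem_biUnion.mp hp
    exact hx p (Finset.mem_biUnion.mpr ⟨l, Finset.mem_range.mpr
      (lt_of_lt_of_le (Finset.mem_range.mp hl) (Nat.succ_le_succ hij)), hpl⟩)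
  have hJle : ∀ j, J j ≤ ⨅ p ∈ s j, (p : Ideal A) := by
    intro j x hx
    change x ∈ ⨅ p ∈ t j, (p : Ideal A) at hx
    rw [mem_finsetInf] at hx ⊢
    intro p hp
    exact hx p (Finset.mem_biUnion.mpr ⟨j, Finset.mem_range.mpr (Nat.lt_succ_self j), hp⟩)
  have hJbot : ⨅ j, J j = ⊥ := by
    rw [eq_bot_iff]
    intro x hx
    rw [Submodule.mem_iInf] at hx
    rw [Submodule.mem_bot]
    apply hbot
    intro p hp
    haveI := hprime p hp
    -- x ∈ p + m^j for all j
    have hxj : ∀ j, x ∈ p ⊔ maximalIdeal A ^ j := by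
      intro j
      have h1 := hmin j {p} (by simpa using hp) (hJle j (hx j))
      simpa using h1
    -- Krull intersection in A ⧸ p
    let f : A →+* A ⧸ p := Ideal.Quotient.mk p
    have hf : Function.Surjective f := Ideal.Quotient.mk_surjective
    haveI : IsLocalRing (A ⧸ p) := IsLocalRing.of_surjective' f hf
    have hK := Ideal.iInf_pow_eq_bot_of_isLocalRing (maximalIdeal (A ⧸ p)) Ideal.IsPrime.ne_top'
    have hfx : f x ∈ ⨅ i, maximalIdeal (A ⧸ p) ^ i := by
      rw [Submodule.mem_iInf]
      intro j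
      obtain ⟨a, ha, b, hb, hab⟩ := Submodule.mem_sup.mp (hxj j)
      rw [← hab, map_add, Ideal.Quotient.eq_zero_iff_mem.mpr ha, zero_add,
        ← IsLocalRing.map_maximalIdeal_of_surjective f hf, ← Ideal.map_pow]
      exact Ideal.mem_map_of_mem f hb
    rw [hK, Submodule.mem_bot] at hfx
    exact Ideal.Quotient.eq_zero_iff_mem.mp hfx
  obtain ⟨j, hj⟩ := Groth.Agent.H9.chevalley J hJanti hJbot n
  exact ⟨t j, ht j, hj⟩


end Step3

section Main

variable (A : Type u) [CommRing A] [IsNoetherianRing A] [IsLocalRing A] [IsReduced A]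
  [IsAdicComplete (maximalIdeal A) A]

theorem main (hA : ¬ IsField A) (n : ℕ) :
    ∃ (k : ℕ) (V : Fin k → Type u) (_ : ∀ i, CommRing (V i)) (_ : ∀ i, IsDomain (V i))
      (_ : ∀ i, IsDiscreteValuationRing (V i)) (φ : ∀ i, A →+* V i),
      (∀ i, IsLocalHom (φ i) ∧ (φ i).Finite) ∧
        ⨅ i, RingHom.ker (φ i) ≤ maximalIdeal A ^ n := by
  classical
  let PP : Set (Ideal A) := {p | p.IsPrime ∧ p ≠ maximalIdeal A ∧
    ∀ P : Ideal A, P.IsPrime → p < P → P = maximalIdeal A}
  have hne : ∃ p : Ideal A, p.IsPrime ∧ p ≠ maximalIdeal A := by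
    by_contra hcon
    push Not at hcon
    apply hA
    rw [IsLocalRing.isField_iff_maximalIdeal_eq, eq_bot_iff]
    intro x hx
    have hnil : x ∈ nilradical A := by
      rw [nilradical_eq_sInf, Submodule.mem_sInf]
      intro J hJ
      rw [hcon J hJ]
      exact hx
    rw [nilradical_eq_zero] at hnil
    exact hnil
  have hbot : ∀ x : A, (∀ p ∈ PP, x ∈ p) → x = 0 := by
    intro x hx
    by_contra hx0
    have hnn : ¬ IsNilpotent x := fun h => hx0 (h.eq_zero)
    obtain ⟨p, hp1, hp2, hp3, hp4⟩ := exists_dimOne_prime_notMem A hne x hnn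
    exact hp2 (hx p ⟨hp1, hp3, hp4⟩)
  obtain ⟨s, hs, hle⟩ := exists_finset_inf_le PP (fun p hp => hp.1) hbot n
  have hd : ∀ p : s, ∃ d : DVRData A, RingHom.ker d.φ = p.1 := fun p =>
    exists_dvrData A p.1 (hs p.2).1 (hs p.2).2.1 (hs p.2).2.2
  choose d hd using hd
  let e : Fin s.card ≃ s := s.equivFin.symm
  refine ⟨s.card, fun i => (d (e i)).V, fun i => (d (e i)).cr, fun i => (d (e i)).dom,
    fun i => (d (e i)).dvr, fun i => (d (e i)).φ, fun i => ⟨(d (e i)).loc, (d (e i)).fin⟩, ?_⟩
  intro x hx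
  apply hle
  rw [mem_finsetInf]
  intro p hp
  have h1 : x ∈ RingHom.ker (d (e (e.symm ⟨p, hp⟩))).φ :=
    (Submodule.mem_iInf _).mp hx (e.symm ⟨p, hp⟩)
  rw [Equiv.apply_symm_apply, hd] at h1
  exact h1

end Main

end Groth.Agent.H36.DVRQuot
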