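import Mathlib

/-!
# Length of the cokernel of a square matrix equals the order of its determinant

`cl M` is the length of `(ι → A) ⧸ range M`.  Main results:
* `cl_mul`, `cl_reindex`, `cl_smul_one`, `cl_fromBlocks_zero₂₁` : calculus of `cl`;
* `exists_add_notMem_primes` : strengthened prime avoidance (coset form);
* `cl_eq_ord_det_of_krullDimLE` : Noetherian of dimension `≤ 1`, by fraction-free elimination;
* `cl_eq_ord_det` : any Noetherian ring (values in `ℕ∞`), via localisation at `1 + (det)`.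
-/

set_option autoImplicit false
open Module

universe u v

namespace Groth.Agent.H36.DetLength

/-- if every scalar of `S` acts on `N` like some scalar of `R`, lengths over `R` and `S` agree -/
theorem length_eq_of_smul_eq {R S N : Type*} [CommRing R] [CommRing S] [Algebra R S]
    [AddCommGroup N] [Module R N] [Module S N] [IsScalarTower R S N]
    (h : ∀ (x : S) (n : N), ∃ a : R, x • n = a • n) :
    Module.length R N = Module.length S N := by
  let e : Submodule S N ≃o Submodule R N :=
    { toFun := Submodule.restrictScalars R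
      invFun := fun P =>
        { carrier := P
          add_mem' := P.add_mem
          zero_mem' := P.zero_mem
          smul_mem' := fun x n hn => by
            obtain ⟨a, ha⟩ := h x n
            rw [ha]
            exact P.smul_mem a hn }
      left_inv := fun P => by ext; rfl
      right_inv := fun P => by ext; rfl
      map_rel_iff' := by
        intro P Q
        rfl }
  apply WithBot.coe_injective
  rw [Module.coe_length, Module.coe_length, Order.krullDim_eq_of_orderIso e]


variable {A : Type u} [CommRing A]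

section general
variable {E : Type*} [AddCommGroup E] [Module A E]

/-- additivity of the colength of the range under composition -/
theorem length_quot_range_comp (f g : E →ₗ[A] E) (hf : Function.Injective f) :
    Module.length A (E ⧸ LinearMap.range (f ∘ₗ g)) =
      Module.length A (E ⧸ LinearMap.range g) + Module.length A (E ⧸ LinearMap.range f) := by
  have h1 : LinearMap.range g ≤ (LinearMap.range (f ∘ₗ g)).comap f := by
    rintro _ ⟨y, rfl⟩
    exact ⟨y, rfl⟩
  have h2 : LinearMap.range (f ∘ₗ g) ≤ LinearMap.range f := by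
    rintro _ ⟨y, rfl⟩
    exact ⟨g y, rfl⟩
  refine Module.length_eq_add_of_exact (Submodule.mapQ _ _ f h1) (Submodule.factor h2) ?_ ?_ ?_
  · rw [← LinearMap.ker_eq_bot, LinearMap.ker_eq_bot']
    intro x hx
    obtain ⟨x, rfl⟩ := Submodule.Quotient.mk_surjective _ x
    rw [Submodule.mapQ_apply, Submodule.Quotient.mk_eq_zero] at hx
    obtain ⟨y, hy⟩ := hx
    rw [Submodule.Quotient.mk_eq_zero]
    exact ⟨y, hf hy⟩
  · exact Submodule.factor_surjective h2
  · rw [LinearMap.exact_iff]
    apply le_antisymm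
    · intro x hx
      obtain ⟨x, rfl⟩ := Submodule.Quotient.mk_surjective _ x
      have hx' : (Submodule.Quotient.mk x : E ⧸ LinearMap.range f) = 0 := hx
      rw [Submodule.Quotient.mk_eq_zero] at hx'
      obtain ⟨y, rfl⟩ := hx'
      exact ⟨Submodule.Quotient.mk y, by simp⟩
    · rintro _ ⟨x, rfl⟩
      obtain ⟨x, rfl⟩ := Submodule.Quotient.mk_surjective _ x
      rw [LinearMap.mem_ker, Submodule.mapQ_apply]
      change (Submodule.Quotient.mk (f x) : E ⧸ LinearMap.range f) = 0
      rw [Submodule.Quotient.mk_eq_zero]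
      exact ⟨x, rfl⟩

end general


/-- the multiplicative set `1 + (e)` -/
def onePlus (e : A) : Submonoid A where
  carrier := {s | ∃ a, s = 1 + e * a}
  one_mem' := ⟨0, by simp⟩
  mul_mem' := by
    rintro _ _ ⟨a, rfl⟩ ⟨b, rfl⟩
    exact ⟨a + b + e * a * b, by ring⟩

theorem mem_onePlus {e s : A} : s ∈ onePlus e ↔ ∃ a, s = 1 + e * a := Iff.rfl


section matrix
variable {ι κ : Type*} [Fintype ι] [DecidableEq ι] [Fintype κ] [DecidableEq κ]

/-- colength of the column space -/
noncomputable def cl (M : Matrix ι ι A) : ℕ∞ :=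
  Module.length A ((ι → A) ⧸ LinearMap.range M.mulVecLin)

theorem cl_mul (P Q : Matrix ι ι A) (hP : P.det ∈ nonZeroDivisors A) :
    cl (P * Q) = cl Q + cl P := by
  unfold cl
  rw [Matrix.mulVecLin_mul]
  exact length_quot_range_comp _ _ (Matrix.mulVec_injective_of_det_mem_nonZeroDivisors hP)

theorem cl_of_isUnit_det (P : Matrix ι ι A) (hP : IsUnit P.det) : cl P = 0 := by
  unfold cl
  rw [Module.length_eq_zero_iff]
  have hs : Function.Surjective P.mulVecLin := by
    rw [Matrix.coe_mulVecLin]
    exact Matrix.mulVec_surjective_iff_isUnit.mpr ((Matrix.isUnit_iff_isUnit_det P).mpr hP)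
  rw [LinearMap.range_eq_top.mpr hs]
  infer_instance

theorem cl_reindex (e : ι ≃ κ) (M : Matrix ι ι A) : cl (Matrix.reindex e e M) = cl M := by
  unfold cl
  let L : (ι → A) ≃ₗ[A] (κ → A) := LinearEquiv.funCongrLeft A A e.symm
  have hL : ∀ v : ι → A, L (M.mulVecLin v) = (Matrix.reindex e e M).mulVecLin (L v) := by
    intro v
    ext k
    simp only [L, Matrix.mulVecLin_apply, LinearEquiv.funCongrLeft_apply,
      LinearMap.funLeft_apply, Matrix.reindex_apply, Matrix.mulVec, Matrix.submatrix_apply]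
    simp only [dotProduct]
    exact (Equiv.sum_comp e.symm (fun j => M (e.symm k) j * v j)).symm
  have hr : (LinearMap.range M.mulVecLin).map (L : (ι → A) →ₗ[A] (κ → A)) =
      LinearMap.range (Matrix.reindex e e M).mulVecLin := by
    ext w
    constructor
    · rintro ⟨_, ⟨v, rfl⟩, rfl⟩
      exact ⟨L v, (hL v).symm⟩
    · rintro ⟨v, rfl⟩
      refine ⟨M.mulVecLin (L.symm v), ⟨_, rfl⟩, ?_⟩
      have := hL (L.symm v)
      simpa using this
  exact (Submodule.Quotient.equiv _ _ L hr).length_eq.symm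


theorem range_smul_one (a : A) :
    LinearMap.range (a • (1 : Matrix ι ι A)).mulVecLin =
      Submodule.pi Set.univ (fun _ : ι => (Ideal.span {a} : Submodule A A)) := by
  ext v
  simp only [LinearMap.mem_range, Matrix.mulVecLin_apply, Submodule.mem_pi, Set.mem_univ,
    forall_true_left, Matrix.smul_mulVec, Matrix.one_mulVec]
  constructor
  · rintro ⟨w, rfl⟩ i
    exact Ideal.mem_span_singleton'.mpr ⟨w i, by simp [mul_comm]⟩
  · intro h
    choose w hw using fun i => Ideal.mem_span_singleton'.mp (h i)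
    exact ⟨w, by ext i; simp [← hw i, mul_comm]⟩

theorem cl_smul_one (a : A) :
    cl (a • (1 : Matrix ι ι A)) = Fintype.card ι • Ring.ord A a := by
  unfold cl
  rw [(Submodule.quotEquivOfEq _ _ (range_smul_one (ι := ι) a)).length_eq,
    (Submodule.quotientPi _).length_eq, Module.length_pi_of_fintype]
  simp [Ring.ord]

/-- the inclusion of the first block of coordinates -/
def inlFun : (ι → A) →ₗ[A] (ι ⊕ κ → A) where
  toFun x := Sum.elim x 0
  map_add' x y := by ext (i | i) <;> simp
  map_smul' c x := by ext (i | i) <;> simp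

omit [Fintype ι] [DecidableEq ι] [Fintype κ] [DecidableEq κ] in
@[simp] theorem inlFun_apply (x : ι → A) : inlFun (κ := κ) x = Sum.elim x 0 := rfl

theorem cl_fromBlocks_zero₂₁ (P : Matrix ι ι A) (B : Matrix ι κ A) (S : Matrix κ κ A)
    (hS : S.det ∈ nonZeroDivisors A) :
    cl (Matrix.fromBlocks P B 0 S) = cl P + cl S := by
  unfold cl
  obtain ⟨M, hM⟩ : ∃ M, M = Matrix.fromBlocks P B 0 S := ⟨_, rfl⟩
  rw [← hM]
  have hSinj := Matrix.mulVec_injective_of_det_mem_nonZeroDivisors hS
  have hMv : ∀ v : ι ⊕ κ → A, M.mulVecLin v =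
      Sum.elim (P.mulVec (v ∘ Sum.inl) + B.mulVec (v ∘ Sum.inr)) (S.mulVec (v ∘ Sum.inr)) := by
    intro v
    rw [hM, Matrix.mulVecLin_apply, Matrix.fromBlocks_mulVec]
    simp
  have h1 : LinearMap.range P.mulVecLin ≤
      (LinearMap.range M.mulVecLin).comap (inlFun (κ := κ)) := by
    rintro _ ⟨x, rfl⟩
    refine ⟨Sum.elim x 0, ?_⟩
    rw [hMv]
    ext (i | i) <;> simp
  have h2 : LinearMap.range M.mulVecLin ≤
      (LinearMap.range S.mulVecLin).comap (LinearMap.funLeft A A Sum.inr) := by
    rintro _ ⟨v, rfl⟩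
    refine ⟨v ∘ Sum.inr, ?_⟩
    rw [hMv]
    ext i
    simp [LinearMap.funLeft_apply]
  refine Module.length_eq_add_of_exact (Submodule.mapQ _ _ _ h1) (Submodule.mapQ _ _ _ h2) ?_ ?_ ?_
  · rw [← LinearMap.ker_eq_bot, LinearMap.ker_eq_bot']
    intro x hx
    obtain ⟨x, rfl⟩ := Submodule.Quotient.mk_surjective _ x
    rw [Submodule.mapQ_apply, Submodule.Quotient.mk_eq_zero] at hx
    obtain ⟨v, hv⟩ := hx
    rw [hMv, inlFun_apply] at hv
    have hr : S.mulVec (v ∘ Sum.inr) = 0 := by
      ext i
      have := congrFun hv (Sum.inr i)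
      simpa using this
    have hr0 : v ∘ Sum.inr = 0 := hSinj (by rw [hr, Matrix.mulVec_zero])
    rw [Submodule.Quotient.mk_eq_zero]
    refine ⟨v ∘ Sum.inl, ?_⟩
    ext i
    have := congrFun hv (Sum.inl i)
    simpa [hr0] using this
  · intro y
    obtain ⟨y, rfl⟩ := Submodule.Quotient.mk_surjective _ y
    refine ⟨Submodule.Quotient.mk (Sum.elim 0 y), ?_⟩
    rw [Submodule.mapQ_apply]
    congr 1
  · rw [LinearMap.exact_iff]
    apply le_antisymm
    · intro x hx
      obtain ⟨v, rfl⟩ := Submodule.Quotient.mk_surjective _ x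
      rw [LinearMap.mem_ker, Submodule.mapQ_apply, Submodule.Quotient.mk_eq_zero] at hx
      obtain ⟨y, hy⟩ := hx
      refine ⟨Submodule.Quotient.mk (v ∘ Sum.inl - B.mulVec y), ?_⟩
      rw [Submodule.mapQ_apply, Submodule.Quotient.eq]
      refine ⟨Sum.elim (0 : ι → A) (-y), ?_⟩
      rw [hMv]
      have hy' : ∀ i, S.mulVec y i = v (Sum.inr i) := fun i => congrFun hy i
      ext (i | i)
      · simp [Matrix.mulVec_neg]
      · simp [Matrix.mulVec_neg, hy']
    · rintro _ ⟨x, rfl⟩
      obtain ⟨x, rfl⟩ := Submodule.Quotient.mk_surjective _ x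
      rw [LinearMap.mem_ker, Submodule.mapQ_apply, Submodule.mapQ_apply,
        Submodule.Quotient.mk_eq_zero]
      refine ⟨0, ?_⟩
      ext i
      simp [LinearMap.funLeft_apply]


end matrix

/-- strengthened prime avoidance: if `(x) + J` is contained in none of finitely many primes,
some element of the coset `x + J` avoids them all -/
theorem exists_add_notMem_primes (n : ℕ) : ∀ (S : Finset (Ideal A)), S.card = n →
    (∀ p ∈ S, p.IsPrime) → ∀ (x : A) (J : Ideal A),
    (∀ p ∈ S, ¬ (Ideal.span {x} ⊔ J ≤ p)) → ∃ y ∈ J, ∀ p ∈ S, x + y ∉ p := by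
  induction n with
  | zero =>
    intro S hS _ x J _
    rw [Finset.card_eq_zero] at hS
    subst hS
    exact ⟨0, J.zero_mem, by simp⟩
  | succ n ih =>
    intro S hS hprime x J h
    have hne : S.Nonempty := by
      rw [← Finset.card_pos]; omega
    obtain ⟨p, hpmin⟩ := S.exists_minimal hne
    have hpS : p ∈ S := hpmin.prop
    have hpp : p.IsPrime := hprime p hpS
    obtain ⟨y', hy'J, hy'⟩ := ih (S.erase p) (by rw [Finset.card_erase_of_mem hpS, hS]; rfl)
      (fun q hq => hprime q (Finset.mem_of_mem_erase hq)) x J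
      (fun q hq => h q (Finset.mem_of_mem_erase hq))
    by_cases hxp : x + y' ∈ p
    · -- J is not inside p
      have hJp : ¬ J ≤ p := by
        intro hJp
        apply h p hpS
        rw [sup_le_iff, Ideal.span_singleton_le_iff_mem]
        refine ⟨?_, hJp⟩
        have := p.sub_mem hxp (hJp hy'J)
        simpa using this
      obtain ⟨z, hzJ, hzp⟩ := SetLike.not_le_iff_exists.mp hJp
      have hq : ∀ q ∈ S.erase p, ∃ w, w ∈ q ∧ w ∉ p := by
        intro q hq
        have hqS := Finset.mem_of_mem_erase hq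
        have hqp : q ≠ p := Finset.ne_of_mem_erase hq
        have : ¬ q ≤ p := by
          intro hle
          exact hqp (le_antisymm hle (hpmin.le_of_le hqS hle))
        exact SetLike.not_le_iff_exists.mp this
      choose! w hw using hq
      refine ⟨y' + (∏ q ∈ S.erase p, w q) * z, J.add_mem hy'J (J.mul_mem_left _ hzJ), ?_⟩
      intro q hqS
      by_cases hqp : q = p
      · subst hqp
        intro hmem
        have h2 : (∏ q' ∈ S.erase q, w q') * z ∈ q := by
          have := q.sub_mem hmem hxp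
          have e : x + (y' + (∏ q' ∈ S.erase q, w q') * z) - (x + y') =
              (∏ q' ∈ S.erase q, w q') * z := by ring
          rwa [e] at this
        rcases hpp.mem_or_mem h2 with h3 | h3
        · rw [Ideal.IsPrime.prod_mem_iff] at h3
          obtain ⟨q', hq', hq'2⟩ := h3
          exact (hw q' hq').2 hq'2
        · exact hzp h3
      · have hqe : q ∈ S.erase p := Finset.mem_erase.mpr ⟨hqp, hqS⟩
        intro hmem
        apply hy' q hqe
        have h2 : (∏ q' ∈ S.erase p, w q') * z ∈ q :=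
          q.mul_mem_right _ (Ideal.mem_of_dvd q (Finset.dvd_prod_of_mem w hqe) (hw q hqe).1)
        have := q.sub_mem hmem h2
        have e : x + (y' + (∏ q' ∈ S.erase p, w q') * z) - (∏ q' ∈ S.erase p, w q') * z =
            x + y' := by ring
        rwa [e] at this
    · refine ⟨y', hy'J, ?_⟩
      intro q hqS
      by_cases hqp : q = p
      · subst hqp; exact hxp
      · exact hy' q (Finset.mem_erase.mpr ⟨hqp, hqS⟩)


section matrix2
variable {ι : Type*} [Fintype ι] [DecidableEq ι]

theorem det_updateRow_one (i₀ : ι) (c : ι → A) :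
    (Matrix.updateRow (1 : Matrix ι ι A) i₀ c).det = c i₀ := by
  rw [← Matrix.cramer_transpose_apply, Matrix.transpose_one, Matrix.cramer_one]
  rfl

theorem exists_row_op [IsNoetherianRing A] (M : Matrix ι ι A)
    (hM : M.det ∈ nonZeroDivisors A) (i₀ : ι) :
    ∃ U : Matrix ι ι A, U.det = 1 ∧ (U * M) i₀ i₀ ∈ nonZeroDivisors A := by
  classical
  let v : {j // j ≠ i₀} → A := fun j => M j i₀
  let J : Ideal A := Ideal.span (Set.range v)
  have hfin : (associatedPrimes A A).Finite := associatedPrimes.finite A A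
  have hdet : M.det ∈ Ideal.span {M i₀ i₀} ⊔ J := by
    rw [Matrix.det_eq_sum_mul_adjugate_col M i₀, Fintype.sum_eq_add_sum_subtype_ne _ i₀]
    refine Ideal.add_mem _ (Ideal.mem_sup_left
      (Ideal.mul_mem_right _ _ (Ideal.mem_span_singleton_self _))) (Ideal.mem_sup_right ?_)
    refine Ideal.sum_mem _ fun j _ => Ideal.mul_mem_right _ _ (Ideal.subset_span ⟨j, rfl⟩)
  have hnzd : ∀ a : A, (∀ p ∈ hfin.toFinset, a ∉ p) → a ∈ nonZeroDivisors A := by
    intro a ha
    by_contra hcon
    have : a ∈ (nonZeroDivisors A : Set A)ᶜ := hcon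
    rw [← biUnion_associatedPrimes_eq_compl_nonZeroDivisors] at this
    simp only [Set.mem_iUnion, SetLike.mem_coe] at this
    obtain ⟨p, hp, hap⟩ := this
    exact ha p (hfin.mem_toFinset.mpr hp) hap
  obtain ⟨y, hyJ, hy⟩ := exists_add_notMem_primes _ hfin.toFinset rfl
    (fun p hp => (hfin.mem_toFinset.mp hp).isPrime) (M i₀ i₀) J (by
      intro p hp hle
      have hp' := hfin.mem_toFinset.mp hp
      have h1 : M.det ∈ p := hle hdet
      have h2 : M.det ∈ (nonZeroDivisors A : Set A)ᶜ := by
        rw [← biUnion_associatedPrimes_eq_compl_nonZeroDivisors]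
        simp only [Set.mem_iUnion, SetLike.mem_coe]
        exact ⟨p, hp', h1⟩
      exact h2 hM)
  obtain ⟨c', hc'⟩ := Ideal.mem_span_range_iff_exists_fun.mp hyJ
  let c : ι → A := fun j => if h : j = i₀ then 1 else c' ⟨j, h⟩
  refine ⟨Matrix.updateRow 1 i₀ c, ?_, ?_⟩
  · rw [det_updateRow_one]
    simp [c]
  · have : (Matrix.updateRow 1 i₀ c * M) i₀ i₀ = M i₀ i₀ + y := by
      rw [Matrix.mul_apply, Fintype.sum_eq_add_sum_subtype_ne _ i₀, ← hc']
      congr 1
      · simp [c]
      · refine Finset.sum_congr rfl fun j _ => ?_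
        simp [c, j.2, v]
    rw [this]
    exact hnzd _ hy


end matrix2

theorem cl_eq_ord_det_aux [IsNoetherianRing A] [Ring.KrullDimLE 1 A] (n : ℕ) :
    ∀ (ι : Type v) [Fintype ι] [DecidableEq ι], Fintype.card ι = n →
      ∀ M : Matrix ι ι A, M.det ∈ nonZeroDivisors A → cl M = Ring.ord A M.det := by
  induction n with
  | zero =>
    intro ι _ _ hcard M _
    have : IsEmpty ι := Fintype.card_eq_zero_iff.mp hcard
    rw [Matrix.det_isEmpty, Ring.ord_one]
    unfold cl
    exact Module.length_eq_zero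
  | succ n ih =>
    intro ι _ _ hcard M hM
    have hpos : 0 < Fintype.card ι := by omega
    obtain ⟨i₀⟩ := Fintype.card_pos_iff.mp hpos
    obtain ⟨U, hU, ha⟩ := exists_row_op M hM i₀
    have hclM : cl (U * M) = cl M := by
      rw [cl_mul U M (by rw [hU]; exact one_mem _), cl_of_isUnit_det U (by rw [hU]; exact isUnit_one),
        add_zero]
    have hdetM : (U * M).det = M.det := by rw [Matrix.det_mul, hU, one_mul]
    obtain ⟨M₁, hM₁⟩ : ∃ M₁, M₁ = U * M := ⟨_, rfl⟩
    rw [← hM₁] at hclM hdetM ha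
    obtain ⟨a₀, ha₀⟩ : ∃ a₀, a₀ = M₁ i₀ i₀ := ⟨_, rfl⟩
    rw [← ha₀] at ha
    -- reindex
    let e : {j // j = i₀} ⊕ {j // ¬ j = i₀} ≃ ι := Equiv.sumCompl (· = i₀)
    obtain ⟨M₂, hM₂⟩ : ∃ M₂, M₂ = Matrix.reindex e.symm e.symm M₁ := ⟨_, rfl⟩
    have hclM₂ : cl M₂ = cl M := by rw [hM₂, cl_reindex, hclM]
    have hdetM₂ : M₂.det = M.det := by rw [hM₂, Matrix.det_reindex_self, hdetM]
    have hcard₁ : Fintype.card {j // j = i₀} = 1 := Fintype.card_subtype_eq i₀
    have hcard₂ : Fintype.card {j // ¬ j = i₀} = n := by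
      rw [Fintype.card_subtype_compl, hcard₁, hcard]; rfl
    have h11 : M₂.toBlocks₁₁ = a₀ • (1 : Matrix {j // j = i₀} {j // j = i₀} A) := by
      ext ⟨i, hi⟩ ⟨j, hj⟩
      subst hi
      subst hj
      simp [hM₂, Matrix.toBlocks₁₁, e, ha₀]
    obtain ⟨c, hc⟩ : ∃ c, c = M₂.toBlocks₂₁ := ⟨_, rfl⟩
    obtain ⟨r, hr⟩ : ∃ r, r = M₂.toBlocks₁₂ := ⟨_, rfl⟩
    obtain ⟨Q', hQ'⟩ : ∃ Q', Q' = M₂.toBlocks₂₂ := ⟨_, rfl⟩
    have hM₂b : M₂ = Matrix.fromBlocks (a₀ • 1) r c Q' := by
      rw [hc, hr, hQ', ← h11, Matrix.fromBlocks_toBlocks]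
    obtain ⟨L, hL⟩ : ∃ L, L = Matrix.fromBlocks (1 : Matrix {j // j = i₀} {j // j = i₀} A) 0 (-c)
        (a₀ • (1 : Matrix {j // ¬ j = i₀} {j // ¬ j = i₀} A)) := ⟨_, rfl⟩
    have hLM : L * M₂ = Matrix.fromBlocks (a₀ • 1) r 0 (a₀ • Q' - c * r) := by
      rw [hL, hM₂b, Matrix.fromBlocks_multiply]
      congr 1
      · simp
      · simp
      · simp
      · simp [sub_eq_add_neg, add_comm]
    have hdetL : L.det = a₀ ^ n := by
      rw [hL, Matrix.det_fromBlocks_zero₁₂, Matrix.det_one, one_mul, Matrix.det_smul,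
        Matrix.det_one, mul_one, hcard₂]
    have hLnzd : L.det ∈ nonZeroDivisors A := by rw [hdetL]; exact pow_mem ha n
    have hclL : cl L = n • Ring.ord A a₀ := by
      have h1 : Matrix.reindex (Equiv.sumComm _ _) (Equiv.sumComm _ _) L =
          Matrix.fromBlocks (a₀ • (1 : Matrix {j // ¬ j = i₀} {j // ¬ j = i₀} A)) (-c) 0
            (1 : Matrix {j // j = i₀} {j // j = i₀} A) := by
        rw [hL, Matrix.reindex_apply]
        exact Matrix.fromBlocks_submatrix_sum_swap_sum_swap _ _ _ _
      rw [← cl_reindex (Equiv.sumComm _ _) L, h1, cl_fromBlocks_zero₂₁ _ _ _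
        (by rw [Matrix.det_one]; exact one_mem _), cl_smul_one, hcard₂,
        cl_of_isUnit_det 1 (by rw [Matrix.det_one]; exact isUnit_one), add_zero]
    have hdet2 : a₀ * (a₀ • Q' - c * r).det = a₀ ^ n * M.det := by
      have := congrArg Matrix.det hLM
      rw [Matrix.det_mul, hdetL, hdetM₂, Matrix.det_fromBlocks_zero₂₁, Matrix.det_smul,
        Matrix.det_one, mul_one, hcard₁, pow_one] at this
      exact this.symm
    have hQnzd : (a₀ • Q' - c * r).det ∈ nonZeroDivisors A := by
      have : a₀ * (a₀ • Q' - c * r).det ∈ nonZeroDivisors A := by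
        rw [hdet2]; exact mul_mem (pow_mem ha n) hM
      exact (mul_mem_nonZeroDivisors.mp this).2
    have hclD : cl (L * M₂) = Ring.ord A a₀ + Ring.ord A (a₀ • Q' - c * r).det := by
      rw [hLM, cl_fromBlocks_zero₂₁ _ _ _ hQnzd, cl_smul_one, hcard₁, one_smul,
        ih _ hcard₂ _ hQnzd]
    have hfinal : cl M + n • Ring.ord A a₀ = n • Ring.ord A a₀ + Ring.ord A M.det := by
      rw [← hclM₂, ← hclL, ← cl_mul L M₂ hLnzd, hclD, ← Ring.ord_mul A hQnzd, hdet2,
        Ring.ord_mul A hM, Ring.ord_pow ha, hclL]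
    have hfin : n • Ring.ord A a₀ ≠ ⊤ := by
      rw [← Ring.ord_pow ha]
      exact Ring.ord_ne_top (pow_mem ha n)
    rw [add_comm] at hfinal
    exact (ENat.add_right_injective_of_ne_top hfin) hfinal


section loc
variable {ι : Type*} [Fintype ι] [DecidableEq ι]

variable (A' : Type v) [CommRing A'] [Algebra A A']

theorem cl_map_localization (e : A) [IsLocalization (onePlus e) A'] (M N : Matrix ι ι A)
    (hMN : M * N = e • (1 : Matrix ι ι A)) :
    cl (M.map (algebraMap A A')) = cl M := by
  classical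
  unfold cl
  obtain ⟨M', hM'⟩ : ∃ M', M' = M.map (algebraMap A A') := ⟨_, rfl⟩
  rw [← hM']
  obtain ⟨R, hR⟩ : ∃ R, R = LinearMap.range M.mulVecLin := ⟨_, rfl⟩
  obtain ⟨R', hR'⟩ : ∃ R', R' = LinearMap.range M'.mulVecLin := ⟨_, rfl⟩
  rw [← hR, ← hR']
  let j : (ι → A) →ₗ[A] (ι → A') := (Algebra.linearMap A A').compLeft ι
  have hj : ∀ v i, j v i = algebraMap A A' (v i) := fun v i => rfl
  -- F1
  have F1 : ∀ v, j (M.mulVec v) = M'.mulVec (j v) := by
    intro v
    ext i
    rw [hj, hM']
    change algebraMap A A' (M.mulVec v i) =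
      (M.map (algebraMap A A')).mulVec ((algebraMap A A') ∘ v) i
    exact RingHom.map_mulVec (algebraMap A A') M v i
  -- e kills the quotient by R
  have hekill : ∀ v : ι → A, e • v ∈ R := by
    intro v
    rw [hR]
    refine ⟨N.mulVec v, ?_⟩
    rw [Matrix.mulVecLin_apply, Matrix.mulVec_mulVec, hMN, Matrix.smul_mulVec, Matrix.one_mulVec]
  have hMN' : M' * N.map (algebraMap A A') = algebraMap A A' e • (1 : Matrix ι ι A') := by
    rw [hM', ← Matrix.map_mul, hMN]
    ext i k
    simp [Matrix.map_apply, Matrix.one_apply, Matrix.smul_apply]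
    split_ifs <;> simp
  have hekill' : ∀ v : ι → A', e • v ∈ R' := by
    intro v
    rw [hR']
    refine ⟨(N.map (algebraMap A A')).mulVec v, ?_⟩
    rw [Matrix.mulVecLin_apply, Matrix.mulVec_mulVec, hMN', Matrix.smul_mulVec,
      Matrix.one_mulVec]
    ext i
    simp [Algebra.smul_def]
  -- F3 : elements of `onePlus e` act trivially on the quotient
  have F3 : ∀ (s : A), s ∈ onePlus e → ∀ v : ι → A', s • v - v ∈ R' := by
    rintro _ ⟨b, rfl⟩ v
    have : (1 + e * b) • v - v = e • (b • v) := by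
      rw [add_smul, one_smul, mul_smul]; abel
    rw [this]
    exact hekill' _
  -- common denominators
  have hden : ∀ v' : ι → A', ∃ (s : A) (_ : s ∈ onePlus e) (v : ι → A), j v = s • v' := by
    intro v'
    obtain ⟨b, hb⟩ := IsLocalization.exist_integer_multiples (onePlus e) Finset.univ v'
    choose v hv using fun i => hb i (Finset.mem_univ i)
    exact ⟨b, b.2, v, by ext i; rw [hj, hv i]; rfl⟩
  -- the comparison map
  let ψ₀ : (ι → A) →ₗ[A] ((ι → A') ⧸ R') := (R'.mkQ.restrictScalars A) ∘ₗ j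
  have hψ₀ : R ≤ LinearMap.ker ψ₀ := by
    rw [hR]
    rintro _ ⟨v, rfl⟩
    rw [LinearMap.mem_ker]
    change R'.mkQ (j (M.mulVec v)) = 0
    rw [F1, Submodule.mkQ_apply, Submodule.Quotient.mk_eq_zero, hR']
    exact ⟨j v, rfl⟩
  let ψ : ((ι → A) ⧸ R) →ₗ[A] ((ι → A') ⧸ R') := R.liftQ ψ₀ hψ₀
  have hψ : ∀ v, ψ (Submodule.Quotient.mk v) = Submodule.Quotient.mk (j v) := fun v => rfl
  have hinj : Function.Injective ψ := by
    rw [← LinearMap.ker_eq_bot, LinearMap.ker_eq_bot']
    intro x hx
    obtain ⟨v, rfl⟩ := Submodule.Quotient.mk_surjective _ x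
    rw [hψ, Submodule.Quotient.mk_eq_zero, hR'] at hx
    obtain ⟨w', hw'⟩ := hx
    obtain ⟨s, hs, w, hw⟩ := hden w'
    -- j (s • v - M w) = 0
    have h0 : j (s • v - M.mulVec w) = 0 := by
      rw [map_sub, map_smul, F1, hw, ← hw', Matrix.mulVecLin_apply, Matrix.mulVec_smul]
      exact sub_self _
    have h1 : ∀ i, ∃ t : onePlus e, (t : A) * (s • v - M.mulVec w) i = 0 := by
      intro i
      have := congrFun h0 i
      rw [hj, Pi.zero_apply, IsLocalization.map_eq_zero_iff (onePlus e)] at this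
      exact this
    choose t ht using h1
    have h2 : ∀ i, ((∏ k, t k : onePlus e) : A) * (s • v - M.mulVec w) i = 0 := by
      intro i
      rw [← Finset.mul_prod_erase Finset.univ t (Finset.mem_univ i), Submonoid.coe_mul,
        mul_comm (t i : A), mul_assoc, ht i, mul_zero]
    obtain ⟨T, hT⟩ : ∃ T : onePlus e, T = ∏ k, t k := ⟨_, rfl⟩
    rw [← hT] at h2
    have h3 : ((T : A) * s) • v ∈ R := by
      have : ((T : A) * s) • v = M.mulVec ((T : A) • w) := by
        ext i
        have := h2 i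
        rw [Pi.sub_apply, mul_sub, sub_eq_zero] at this
        rw [Matrix.mulVec_smul, Pi.smul_apply, Pi.smul_apply, smul_eq_mul, smul_eq_mul, mul_assoc]
        simpa using this
      rw [this, hR]
      exact ⟨_, rfl⟩
    obtain ⟨c, hc⟩ := (onePlus e).mul_mem T.2 hs
    rw [hc, add_smul, one_smul, mul_smul] at h3
    rw [Submodule.Quotient.mk_eq_zero]
    have := R.sub_mem h3 (hekill (c • v))
    simpa using this
  have hsurj : Function.Surjective ψ := by
    intro y
    obtain ⟨v', rfl⟩ := Submodule.Quotient.mk_surjective _ y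
    obtain ⟨s, hs, v, hv⟩ := hden v'
    refine ⟨Submodule.Quotient.mk v, ?_⟩
    rw [hψ, hv, Submodule.Quotient.eq]
    exact F3 s hs v'
  rw [(LinearEquiv.ofBijective ψ ⟨hinj, hsurj⟩).length_eq]
  symm
  apply length_eq_of_smul_eq
  intro x q
  obtain ⟨a, s, rfl⟩ := IsLocalization.exists_mk'_eq (onePlus e) x
  refine ⟨a, ?_⟩
  have hs1 : ∀ y : (ι → A') ⧸ R', (s : A) • y = y := by
    intro y
    obtain ⟨v', rfl⟩ := Submodule.Quotient.mk_surjective _ y
    rw [← Submodule.Quotient.mk_smul, Submodule.Quotient.eq]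
    exact F3 s s.2 v'
  rw [← hs1 (IsLocalization.mk' A' a s • q), ← algebraMap_smul A' (s : A), smul_smul,
    IsLocalization.mk'_spec', algebraMap_smul]


theorem isUnit_one_add_mul (e : A) [IsLocalization (onePlus e) A'] (z : A') :
    IsUnit (1 + algebraMap A A' e * z) := by
  obtain ⟨a, s, rfl⟩ := IsLocalization.exists_mk'_eq (onePlus e) z
  have hs : IsUnit (algebraMap A A' (s : A)) := IsLocalization.map_units A' s
  have h1 : (1 + algebraMap A A' e * IsLocalization.mk' A' a s) * algebraMap A A' (s : A) =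
      algebraMap A A' ((s : A) + e * a) := by
    rw [add_mul, one_mul, mul_assoc, IsLocalization.mk'_spec, map_add, map_mul]
  have h2 : IsUnit (algebraMap A A' ((s : A) + e * a)) := by
    obtain ⟨b, hb⟩ := s.2
    have : (s : A) + e * a ∈ onePlus e := ⟨b + a, by rw [hb]; ring⟩
    exact IsLocalization.map_units A' (⟨_, this⟩ : onePlus e)
  rw [← h1] at h2
  exact isUnit_of_mul_isUnit_left h2

theorem mem_jacobson_localization (e : A) [IsLocalization (onePlus e) A'] :
    algebraMap A A' e ∈ Ring.jacobson A' := by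
  rw [Ring.jacobson_eq_sInf_isMaximal, Ideal.mem_sInf]
  intro m hm
  by_contra hem
  obtain ⟨y, i, hi, hyi⟩ := (hm : m.IsMaximal).exists_inv hem
  have : IsUnit i := by
    have h : i = 1 + algebraMap A A' e * (-y) := by
      rw [← hyi]; ring
    rw [h]
    exact isUnit_one_add_mul A' e _
  exact (hm : m.IsMaximal).ne_top (Ideal.eq_top_of_isUnit_mem _ hi this)

theorem krullDimLE_one_localization [IsNoetherianRing A] (e : A)
    (he : ∀ p : Ideal A, p.IsPrime → e ∈ p → p.IsMaximal) [IsLocalization (onePlus e) A'] :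
    Ring.KrullDimLE 1 A' := by
  have hN : IsNoetherianRing A' := IsLocalization.isNoetherianRing (onePlus e) A' inferInstance
  obtain ⟨e', he'⟩ : ∃ e', e' = algebraMap A A' e := ⟨_, rfl⟩
  have hmax : ∀ q : Ideal A', q.IsPrime → e' ∈ q → q.IsMaximal := by
    intro q hq heq
    have hp : (q.comap (algebraMap A A')).IsMaximal :=
      he _ (Ideal.comap_isPrime _ _) (by rw [Ideal.mem_comap, ← he']; exact heq)
    rw [Ideal.isMaximal_def]
    refine ⟨hq.ne_top, fun q₂ hlt => ?_⟩
    by_contra hne
    have h1 : q.comap (algebraMap A A') ≤ q₂.comap (algebraMap A A') := Ideal.comap_mono hlt.le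
    have h2 : q₂.comap (algebraMap A A') ≠ ⊤ := by
      intro h
      apply hne
      rw [Ideal.eq_top_iff_one] at h ⊢
      simpa using h
    have h3 := hp.eq_of_le h2 h1
    have h4 : q = q₂ := by
      rw [← IsLocalization.map_under (onePlus e) A' q, ← IsLocalization.map_under (onePlus e) A' q₂]
      exact congrArg (Ideal.map (algebraMap A A')) h3
    exact hlt.ne h4
  have h0 : Ring.KrullDimLE 0 (A' ⧸ Ideal.span {e'}) := by
    rw [Ring.krullDimLE_zero_iff]
    intro I hI
    have h1 : (I.comap (Ideal.Quotient.mk (Ideal.span {e'}))).IsMaximal := by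
      refine hmax _ (Ideal.comap_isPrime _ _) ?_
      rw [Ideal.mem_comap]
      have : Ideal.Quotient.mk (Ideal.span {e'}) e' = 0 :=
        Ideal.Quotient.eq_zero_iff_mem.mpr (Ideal.mem_span_singleton_self e')
      rw [this]
      exact I.zero_mem
    have h2 := Ideal.map_eq_top_or_isMaximal_of_surjective _
      (Ideal.Quotient.mk_surjective (I := Ideal.span {e'})) h1
    rw [Ideal.map_comap_of_surjective _ Ideal.Quotient.mk_surjective] at h2
    exact h2.resolve_left hI.ne_top
  have h1 := ringKrullDim_le_ringKrullDim_quotient_add_encard ({e'} : Set A') (by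
    rw [Set.singleton_subset_iff, he']
    exact mem_jacobson_localization A' e)
  rw [Set.encard_singleton] at h1
  rw [Ring.krullDimLE_iff]
  refine h1.trans ?_
  have h2 : ringKrullDim (A' ⧸ Ideal.span {e'}) ≤ 0 := by
    have := Ring.krullDimLE_iff.mp h0
    simpa using this
  calc ringKrullDim (A' ⧸ Ideal.span {e'}) + ((1 : ℕ∞) : WithBot ℕ∞) ≤ 0 + ((1 : ℕ∞) : WithBot ℕ∞) := by
        gcongr
    _ = ((1 : ℕ) : WithBot ℕ∞) := by simp


theorem isMaximal_of_cl_ne_top (M : Matrix ι ι A) (h : cl M ≠ ⊤) (p : Ideal A)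
    [hp : p.IsPrime] (hdp : M.det ∈ p) : p.IsMaximal := by
  classical
  obtain ⟨f, hf⟩ : ∃ f : A →+* A ⧸ p, f = Ideal.Quotient.mk p := ⟨_, rfl⟩
  have hdet : (M.map f).det = 0 := by
    have : (M.map f).det = f M.det := by
      rw [RingHom.map_det]; rfl
    rw [this, hf]
    exact Ideal.Quotient.eq_zero_iff_mem.mpr hdp
  obtain ⟨v, hv0, hv⟩ := Matrix.exists_vecMul_eq_zero_iff.mpr hdet
  -- the functional
  let lam : (ι → A) →ₗ[A] (A ⧸ p) :=
    { toFun := fun w => v ⬝ᵥ (f ∘ w)
      map_add' := fun w₁ w₂ => by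
        have : f ∘ (w₁ + w₂) = f ∘ w₁ + f ∘ w₂ := by ext i; simp
        rw [this, dotProduct_add]
      map_smul' := fun c w => by
        have : f ∘ (c • w) = f c • (f ∘ w) := by ext i; simp
        rw [this, dotProduct_smul, RingHom.id_apply, hf]
        rfl }
  have hlam : ∀ w, lam w = v ⬝ᵥ (f ∘ w) := fun w => rfl
  have hker : LinearMap.range M.mulVecLin ≤ LinearMap.ker lam := by
    rintro _ ⟨u, rfl⟩
    rw [LinearMap.mem_ker, hlam, Matrix.mulVecLin_apply]
    have : f ∘ (M.mulVec u) = (M.map f).mulVec (f ∘ u) := by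
      ext i
      exact RingHom.map_mulVec f M u i
    rw [this, Matrix.dotProduct_mulVec, hv, zero_dotProduct]
  let lamQ : ((ι → A) ⧸ LinearMap.range M.mulVecLin) →ₗ[A] (A ⧸ p) :=
    (LinearMap.range M.mulVecLin).liftQ lam hker
  obtain ⟨i₀, hi₀⟩ := Function.ne_iff.mp hv0
  rw [Pi.zero_apply] at hi₀
  -- multiplication by `v i₀`
  let mu : (A ⧸ p) →ₗ[A] (A ⧸ p) := LinearMap.mul A (A ⧸ p) (v i₀)
  have hmu : ∀ b, mu b = v i₀ * b := by
    intro b
    simp [mu]
  have hmuinj : Function.Injective mu := by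
    rw [← LinearMap.ker_eq_bot, LinearMap.ker_eq_bot']
    intro b hb
    rw [hmu] at hb
    exact (mul_eq_zero.mp hb).resolve_left hi₀
  have hle : LinearMap.range mu ≤ LinearMap.range lamQ := by
    rintro _ ⟨b, rfl⟩
    obtain ⟨a, rfl⟩ := Ideal.Quotient.mk_surjective b
    refine ⟨Submodule.Quotient.mk (Pi.single i₀ a), ?_⟩
    change lam (Pi.single i₀ a) = _
    rw [hlam, hmu]
    have : f ∘ (Pi.single i₀ a : ι → A) = Pi.single i₀ (f a) := by
      ext i
      by_cases hi : i = i₀
      · subst hi; simp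
      · simp [hi]
    rw [this, dotProduct_single, hf]
  have h1 : Module.length A (A ⧸ p) ≤ cl M := by
    calc Module.length A (A ⧸ p) = Module.length A (LinearMap.range mu) :=
          (LinearEquiv.ofInjective mu hmuinj).length_eq
      _ ≤ Module.length A (LinearMap.range lamQ) :=
          Module.length_le_of_injective (Submodule.inclusion hle)
            (Submodule.inclusion_injective hle)
      _ ≤ cl M := Module.length_le_of_surjective lamQ.rangeRestrict
            lamQ.surjective_rangeRestrict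
  have h2 : Module.length A (A ⧸ p) ≠ ⊤ := fun htop => h (top_le_iff.mp (htop ▸ h1))
  rw [Module.length_ne_top_iff, isFiniteLength_iff_isNoetherian_isArtinian] at h2
  have h3 : IsArtinianRing (A ⧸ p) := by
    have := h2.2
    exact isArtinian_of_tower A this
  exact Ideal.Quotient.maximal_of_isField p (IsArtinianRing.isField_of_isDomain (A ⧸ p))


omit [Fintype ι] [DecidableEq ι] in
theorem ord_ne_top_of_forall_isMaximal [IsNoetherianRing A] (d : A)
    (hmax : ∀ p : Ideal A, p.IsPrime → d ∈ p → p.IsMaximal) : Ring.ord A d ≠ ⊤ := by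
  have h0 : Ring.KrullDimLE 0 (A ⧸ Ideal.span {d}) := by
    rw [Ring.krullDimLE_zero_iff]
    intro I hI
    have h1 : (I.comap (Ideal.Quotient.mk (Ideal.span {d}))).IsMaximal := by
      refine hmax _ (Ideal.comap_isPrime _ _) ?_
      rw [Ideal.mem_comap]
      have : Ideal.Quotient.mk (Ideal.span {d}) d = 0 :=
        Ideal.Quotient.eq_zero_iff_mem.mpr (Ideal.mem_span_singleton_self d)
      rw [this]
      exact I.zero_mem
    have h2 := Ideal.map_eq_top_or_isMaximal_of_surjective _
      (Ideal.Quotient.mk_surjective (I := Ideal.span {d})) h1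
    rw [Ideal.map_comap_of_surjective _ Ideal.Quotient.mk_surjective] at h2
    exact h2.resolve_left hI.ne_top
  have hart : IsArtinianRing (A ⧸ Ideal.span {d}) := isArtinianRing_iff_krullDimLE_zero.mpr h0
  unfold Ring.ord
  rw [Module.length_ne_top_iff, isFiniteLength_iff_isNoetherian_isArtinian]
  exact ⟨isNoetherian_quotient (Ideal.span {d}),
    isArtinian_of_surjective_algebraMap (Ideal.Quotient.mk_surjective (I := .span {d}))⟩

omit [Fintype ι] [DecidableEq ι] in
theorem isMaximal_of_ord_ne_top (d : A) (h : Ring.ord A d ≠ ⊤) (p : Ideal A) (hp : p.IsPrime)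
    (hdp : d ∈ p) : p.IsMaximal := by
  unfold Ring.ord at h
  rw [Module.length_ne_top_iff, isFiniteLength_iff_isNoetherian_isArtinian] at h
  have hart : IsArtinianRing (A ⧸ Ideal.span {d}) := isArtinian_of_tower A h.2
  have hle : Ideal.span {d} ≤ p := by
    rw [Ideal.span_singleton_le_iff_mem]; exact hdp
  have hprime : (p.map (Ideal.Quotient.mk (Ideal.span {d}))).IsPrime :=
    Ideal.isPrime_map_quotientMk_of_isPrime hle
  have hmax : (p.map (Ideal.Quotient.mk (Ideal.span {d}))).IsMaximal :=
    IsArtinianRing.isMaximal_of_isPrime _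
  have := Ideal.comap_isMaximal_of_surjective (Ideal.Quotient.mk (Ideal.span {d}))
    Ideal.Quotient.mk_surjective (K := p.map (Ideal.Quotient.mk (Ideal.span {d})))
  rwa [Ideal.comap_map_of_surjective _ Ideal.Quotient.mk_surjective, ← RingHom.ker_eq_comap_bot,
    Ideal.mk_ker, sup_eq_left.mpr hle] at this

/-- Noetherian of dimension at most one: the colength of the column space is the order of the
determinant. -/
theorem cl_eq_ord_det_of_krullDimLE [IsNoetherianRing A] [Ring.KrullDimLE 1 A]
    (M : Matrix ι ι A) (hM : M.det ∈ nonZeroDivisors A) : cl M = Ring.ord A M.det :=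
  cl_eq_ord_det_aux _ ι rfl M hM

/-- **Main theorem**: over any Noetherian ring, the length of the cokernel of a square matrix with
non-zero-divisor determinant is the order of the determinant (in `ℕ∞`). -/
theorem cl_eq_ord_det [IsNoetherianRing A] (M : Matrix ι ι A)
    (hM : M.det ∈ nonZeroDivisors A) : cl M = Ring.ord A M.det := by
  obtain ⟨d, hd⟩ : ∃ d, d = M.det := ⟨_, rfl⟩
  rw [← hd] at hM ⊢
  by_cases htop : Ring.ord A d = ⊤
  · rw [htop]
    by_contra hne
    exact ord_ne_top_of_forall_isMaximal d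
      (fun p hp hdp => @isMaximal_of_cl_ne_top _ _ _ _ _ M hne p hp (hd ▸ hdp)) htop
  · have hmax := isMaximal_of_ord_ne_top d htop
    obtain ⟨A', _, _, _⟩ : ∃ (A' : Type u) (_ : CommRing A') (_ : Algebra A A'),
        IsLocalization (onePlus d) A' := ⟨Localization (onePlus d), inferInstance, inferInstance,
          inferInstance⟩
    have hdim : Ring.KrullDimLE 1 A' := krullDimLE_one_localization A' d hmax
    have hN : IsNoetherianRing A' :=
      IsLocalization.isNoetherianRing (onePlus d) A' inferInstance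
    have h1 : cl (M.map (algebraMap A A')) = cl M :=
      cl_map_localization A' d M M.adjugate (by rw [Matrix.mul_adjugate, hd])
    have hdet' : (M.map (algebraMap A A')).det = algebraMap A A' d := by
      rw [hd]; exact (RingHom.map_det _ _).symm
    have hnzd' : algebraMap A A' d ∈ nonZeroDivisors A' :=
      IsLocalization.nonZeroDivisors_le_comap (onePlus d) A' hM
    have h2 : cl (M.map (algebraMap A A')) = Ring.ord A' (algebraMap A A' d) := by
      rw [cl_eq_ord_det_of_krullDimLE _ (hdet' ▸ hnzd'), hdet']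
    have h3 : Ring.ord A' (algebraMap A A' d) = Ring.ord A d := by
      have e1 : cl (d • (1 : Matrix (Fin 1) (Fin 1) A)) = Ring.ord A d := by
        rw [cl_smul_one]; simp
      have e2 : cl ((algebraMap A A' d) • (1 : Matrix (Fin 1) (Fin 1) A')) =
          Ring.ord A' (algebraMap A A' d) := by
        rw [cl_smul_one]; simp
      have e3 : (d • (1 : Matrix (Fin 1) (Fin 1) A)).map (algebraMap A A') =
          algebraMap A A' d • (1 : Matrix (Fin 1) (Fin 1) A') := by
        ext i k
        simp [Matrix.map_apply, Matrix.one_apply, Matrix.smul_apply]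
        split_ifs <;> simp
      rw [← e1, ← e2, ← e3, cl_map_localization A' d _ 1 (by rw [mul_one])]
    rw [← h1, h2, h3]

/-- linear-map form on `Fin n → A` -/
theorem length_quot_range_eq_ord_det [IsNoetherianRing A] {n : ℕ}
    (φ : (Fin n → A) →ₗ[A] (Fin n → A)) (hφ : LinearMap.det φ ∈ nonZeroDivisors A) :
    Module.length A ((Fin n → A) ⧸ LinearMap.range φ) = Ring.ord A (LinearMap.det φ) := by
  have h1 : Matrix.toLin' (LinearMap.toMatrix' φ) = φ := Matrix.toLin'_toMatrix' φ
  have h2 : (LinearMap.toMatrix' φ).det = LinearMap.det φ := by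
    rw [← LinearMap.det_toLin', h1]
  have h3 := cl_eq_ord_det (LinearMap.toMatrix' φ) (by rw [h2]; exact hφ)
  unfold cl at h3
  rw [← Matrix.toLin'_apply', h1, h2] at h3
  exact h3

end loc

end Groth.Agent.H36.DetLength
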