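import Mathlib
import Groth.Agent.H36.KapDecomp

set_option autoImplicit false
universe u v w

namespace Groth.Agent.H36

section LemmaI'

theorem iSupIndep_of_disjoint_biSup_lt' {α : Type*} [CompleteLattice α] [IsModularLattice α]
    [IsCompactlyGenerated α] {ι : Type*} {T : Type*} [LinearOrder T] (f : ι → α) (r : ι → T)
    (hr : Function.Injective r)
    (h : ∀ i, Disjoint (f i) (⨆ j, ⨆ (_ : r j < r i), f j)) : iSupIndep f := by
  classical
  rw [iSupIndep_iff_supIndep]
  intro s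
  induction s using Finset.induction_on_max_value r with
  | empty => exact Finset.supIndep_empty f
  | insert a s has hle ih =>
    refine ih.insert ((h a).mono_right ?_)
    refine Finset.sup_le fun j hj => ?_
    have hlt : r j < r a := lt_of_le_of_ne (hle j hj) fun heq => has (hr heq ▸ hj)
    exact le_iSup₂_of_le j hlt le_rfl

end LemmaI'

section Devissage

variable {R : Type u} [CommRing R] {M : Type v} [AddCommGroup M] [Module R M]
  {S : Type w} [LinearOrder S] [WellFoundedLT S]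

theorem devissage_internal (Mf : S → Submodule R M) (hmono : Monotone Mf)
    (hlim : ∀ s : S, Order.IsSuccPrelimit s → Mf s = ⨆ t : {t : S // t < s}, Mf t.1)
    (htop : (⨆ s, Mf s) = ⊤)
    (C : {p : S × S // p.1 ⋖ p.2} → Submodule R M)
    (hC1 : ∀ p, Mf p.1.1 ⊓ C p = ⊥) (hC2 : ∀ p, Mf p.1.1 ⊔ C p = Mf p.1.2) :
    iSupIndep C ∧ ⨆ p, C p = ⊤ := by
  classical
  have hinj : Function.Injective (fun p : {p : S × S // p.1 ⋖ p.2} => p.1.2) := by
    rintro ⟨⟨s, t⟩, hp⟩ ⟨⟨s', t'⟩, hq⟩ h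
    simp only at h
    subst h
    have : s = s' := hp.unique_left hq
    subst this
    rfl
  let D : S → Submodule R M := fun u => ⨆ (q : {p : S × S // p.1 ⋖ p.2}) (_ : q.1.2 ≤ u), C q
  have hD_mono : ∀ u u', u ≤ u' → D u ≤ D u' := fun u u' huu' =>
    iSup₂_le fun q hq => le_iSup₂_of_le q (hq.trans huu') le_rfl
  have hC_le : ∀ q : {p : S × S // p.1 ⋖ p.2}, C q ≤ Mf q.1.2 := fun q => by
    rw [← hC2 q]; exact le_sup_right
  have hclaim : ∀ u, Mf u = D u := by
    intro u
    induction u using WellFoundedLT.induction with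
    | _ u ih =>
    apply le_antisymm
    · by_cases hu : Order.IsSuccPrelimit u
      · rw [hlim u hu]
        refine iSup_le fun t => ?_
        rw [ih t.1 t.2]
        exact hD_mono _ _ t.2.le
      · rw [Order.not_isSuccPrelimit_iff] at hu
        obtain ⟨s, hsu⟩ := hu
        have h1 := hC2 ⟨(s, u), hsu⟩
        simp only at h1
        rw [← h1, ih s hsu.lt]
        exact sup_le (hD_mono _ _ hsu.le) (le_iSup₂_of_le ⟨(s, u), hsu⟩ le_rfl le_rfl)
    · exact iSup₂_le fun q hq => (hC_le q).trans (hmono hq)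
  constructor
  · refine iSupIndep_of_disjoint_biSup_lt' C (fun p => p.1.2) hinj fun p => ?_
    have h1 : (⨆ (q : {p : S × S // p.1 ⋖ p.2}) (_ : q.1.2 < p.1.2), C q) ≤ Mf p.1.1 := by
      rw [hclaim p.1.1]
      refine iSup₂_le fun q hq => ?_
      exact le_iSup₂_of_le q (p.2.le_of_lt hq) le_rfl
    refine Disjoint.mono_right h1 ?_
    rw [disjoint_iff, inf_comm]
    exact hC1 p
  · rw [eq_top_iff, ← htop]
    refine iSup_le fun u => ?_
    rw [hclaim u]
    exact iSup₂_le fun q _ => le_iSup C q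

theorem nonempty_equiv_quotient_of_compl (A B C : Submodule R M) (h1 : A ⊓ C = ⊥)
    (h2 : A ⊔ C = B) :
    Nonempty (C ≃ₗ[R] ↥B ⧸ Submodule.comap B.subtype A) := by
  have hCB : C ≤ B := h2 ▸ le_sup_right
  let g : C →ₗ[R] ↥B ⧸ Submodule.comap B.subtype A :=
    (Submodule.comap B.subtype A).mkQ ∘ₗ Submodule.inclusion hCB
  refine ⟨LinearEquiv.ofBijective g ⟨?_, ?_⟩⟩
  · rw [← LinearMap.ker_eq_bot, LinearMap.ker_eq_bot']
    intro c hc
    have h3 : Submodule.inclusion hCB c ∈ Submodule.comap B.subtype A :=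
      (Submodule.Quotient.mk_eq_zero _).1 hc
    have h4 : (c : M) ∈ A ⊓ C := ⟨h3, c.2⟩
    rw [h1] at h4
    exact Subtype.ext ((Submodule.mem_bot R).1 h4)
  · intro y
    obtain ⟨⟨x, hx⟩, rfl⟩ := Submodule.mkQ_surjective _ y
    have hx' : x ∈ A ⊔ C := h2 ▸ hx
    obtain ⟨a, ha, c, hc, rfl⟩ := Submodule.mem_sup.1 hx'
    refine ⟨⟨c, hc⟩, ?_⟩
    change (Submodule.comap B.subtype A).mkQ _ = (Submodule.comap B.subtype A).mkQ _
    rw [Submodule.mkQ_apply, Submodule.mkQ_apply, Submodule.Quotient.eq]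
    change (c : M) - (a + c) ∈ A
    have : (c : M) - (a + c) = -a := by abel
    rw [this]
    exact A.neg_mem ha

theorem nonempty_equiv_directSum_of_devissage {M : Type u} [AddCommGroup M] [Module R M]
    {S : Type u} [LinearOrder S] [WellFoundedLT S]
    (Mf : S → Submodule R M) (hmono : Monotone Mf)
    (hlim : ∀ s : S, Order.IsSuccPrelimit s → Mf s = ⨆ t : {t : S // t < s}, Mf t.1)
    (htop : (⨆ s, Mf s) = ⊤)
    (hstep : ∀ s t : S, s ⋖ t → ∃ C : Submodule R M, Mf s ⊓ C = ⊥ ∧ Mf s ⊔ C = Mf t) :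
    Nonempty (M ≃ₗ[R] DirectSum {p : S × S // p.1 ⋖ p.2}
      fun p => ↥(Mf p.1.2) ⧸ Submodule.comap (Mf p.1.2).subtype (Mf p.1.1)) := by
  classical
  have hC : ∀ p : {p : S × S // p.1 ⋖ p.2}, ∃ C : Submodule R M,
      Mf p.1.1 ⊓ C = ⊥ ∧ Mf p.1.1 ⊔ C = Mf p.1.2 := fun p => hstep p.1.1 p.1.2 p.2
  choose C hC1 hC2 using hC
  obtain ⟨hind, hsup⟩ := devissage_internal Mf hmono hlim htop C hC1 hC2
  have hint : DirectSum.IsInternal C :=
    (DirectSum.isInternal_submodule_iff_iSupIndep_and_iSup_eq_top C).2 ⟨hind, hsup⟩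
  have hequiv := fun p => nonempty_equiv_quotient_of_compl _ _ _ (hC1 p) (hC2 p)
  exact ⟨(LinearEquiv.ofBijective (DirectSum.coeLinearMap C) hint).symm.trans
    (DFinsupp.mapRange.linearEquiv fun p => (hequiv p).some)⟩

end Devissage

end Groth.Agent.H36
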