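import Mathlib
import Groth.Prelude.Def_Found
import Groth.Agent.H36.Devissage
import Groth.Agent.H36.KapCount

set_option autoImplicit false
universe u v w

namespace Groth.Agent.H36

section DevIff

variable {R : Type u} [CommRing R]

theorem isCountablyGenerated_of_equiv {A B : Type u} [AddCommGroup A] [Module R A]
    [AddCommGroup B] [Module R B] (e : A ≃ₗ[R] B) (h : CAlg.IsCountablyGenerated R A) :
    CAlg.IsCountablyGenerated R B := by
  obtain ⟨s, hs, hspan⟩ := h
  refine ⟨e '' s, hs.image _, ?_⟩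
  have := Submodule.map_span (e : A →ₗ[R] B) s
  rw [hspan, Submodule.map_top, LinearEquiv.range] at this
  exact this.symm

variable {M : Type u} [AddCommGroup M] [Module R M]

theorem exists_devissage_of_internal (ι : Type u) (N : ι → Submodule R M)
    (hind : iSupIndep N) (hsup : ⨆ i, N i = ⊤) (hc : ∀ i, CAlg.IsCountablyGenerated R (N i)) :
    ∃ (S : Type u) (_ : LinearOrder S) (_ : WellFoundedLT S) (Mf : S → Submodule R M),
      Monotone Mf ∧
      (∀ s : S, Order.IsSuccPrelimit s → Mf s = ⨆ t : {t : S // t < s}, Mf t.1) ∧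
      (⨆ s, Mf s) = ⊤ ∧
      (∀ s t : S, s ⋖ t → ∃ C : Submodule R M, Mf s ⊓ C = ⊥ ∧ Mf s ⊔ C = Mf t ∧
        CAlg.IsCountablyGenerated R (↥(Mf t) ⧸ Submodule.comap (Mf t).subtype (Mf s))) := by
  classical
  obtain ⟨_, _⟩ := exists_wellFoundedLT (α := ι)
  let Mf : WithTop ι → Submodule R M := fun s => ⨆ (i : ι) (_ : (i : WithTop ι) < s), N i
  have hmono : Monotone Mf := fun s t hst =>
    iSup₂_le fun i hi => le_iSup₂_of_le i (hi.trans_le hst) le_rfl
  refine ⟨WithTop ι, inferInstance, inferInstance, Mf, hmono, ?_, ?_, ?_⟩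
  · intro s hs
    apply le_antisymm
    · refine iSup₂_le fun i hi => ?_
      obtain ⟨t, hit, hts⟩ := (not_covBy_iff hi).1 (hs _)
      exact le_trans (le_iSup₂_of_le i hit le_rfl) (le_iSup (fun t : {t : WithTop ι // t < s} => Mf t.1) ⟨t, hts⟩)
    · exact iSup_le fun t => hmono t.2.le
  · rw [eq_top_iff, ← hsup]
    refine iSup_le fun i => ?_
    exact le_trans (le_iSup₂_of_le i (WithTop.coe_lt_top i) le_rfl) (le_iSup Mf ⊤)
  · intro s t hst
    obtain ⟨i, rfl⟩ : ∃ i : ι, s = (i : WithTop ι) := by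
      have : s ≠ ⊤ := ne_top_of_lt hst.lt
      exact ⟨s.untop this, (WithTop.coe_untop s this).symm⟩
    have h1 : Mf (i : WithTop ι) ⊓ N i = ⊥ := by
      rw [← disjoint_iff, disjoint_comm]
      have := hind.disjoint_biSup (x := i) (y := {j : ι | j < i}) (by simp)
      refine this.mono_right ?_
      refine iSup₂_le fun j hj => ?_
      exact le_iSup₂_of_le j (WithTop.coe_lt_coe.1 hj) le_rfl
    have h2 : Mf (i : WithTop ι) ⊔ N i = Mf t := by
      apply le_antisymm
      · refine sup_le (hmono hst.le) ?_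
        exact le_iSup₂_of_le i hst.lt le_rfl
      · refine iSup₂_le fun j hj => ?_
        have hji : (j : WithTop ι) ≤ (i : WithTop ι) := hst.le_of_lt hj
        rcases (WithTop.coe_le_coe.1 hji).lt_or_eq with hlt | heq
        · exact le_sup_of_le_left (le_iSup₂_of_le j (WithTop.coe_lt_coe.2 hlt) le_rfl)
        · subst heq
          exact le_sup_right
    refine ⟨N i, h1, h2, ?_⟩
    obtain ⟨e⟩ := nonempty_equiv_quotient_of_compl _ _ _ h1 h2
    exact isCountablyGenerated_of_equiv e (hc i)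

theorem exists_internal_of_devissage (S : Type u) [LinearOrder S] [WellFoundedLT S]
    (Mf : S → Submodule R M) (hmono : Monotone Mf)
    (hlim : ∀ s : S, Order.IsSuccPrelimit s → Mf s = ⨆ t : {t : S // t < s}, Mf t.1)
    (htop : (⨆ s, Mf s) = ⊤)
    (hstep : ∀ s t : S, s ⋖ t → ∃ C : Submodule R M, Mf s ⊓ C = ⊥ ∧ Mf s ⊔ C = Mf t ∧
        CAlg.IsCountablyGenerated R (↥(Mf t) ⧸ Submodule.comap (Mf t).subtype (Mf s))) :
    ∃ (ι : Type u) (N : ι → Submodule R M), iSupIndep N ∧ ⨆ i, N i = ⊤ ∧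
      ∀ i, CAlg.IsCountablyGenerated R (N i) := by
  classical
  have hC : ∀ p : {p : S × S // p.1 ⋖ p.2}, ∃ C : Submodule R M,
      Mf p.1.1 ⊓ C = ⊥ ∧ Mf p.1.1 ⊔ C = Mf p.1.2 ∧
      CAlg.IsCountablyGenerated R
        (↥(Mf p.1.2) ⧸ Submodule.comap (Mf p.1.2).subtype (Mf p.1.1)) :=
    fun p => hstep p.1.1 p.1.2 p.2
  choose C hC1 hC2 hC3 using hC
  obtain ⟨hind, hsup⟩ := devissage_internal Mf hmono hlim htop C hC1 hC2
  refine ⟨{p : S × S // p.1 ⋖ p.2}, C, hind, hsup, fun p => ?_⟩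
  obtain ⟨e⟩ := nonempty_equiv_quotient_of_compl _ _ _ (hC1 p) (hC2 p)
  exact isCountablyGenerated_of_equiv e.symm (hC3 p)

end DevIff

end Groth.Agent.H36
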