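import Mathlib

set_option autoImplicit false

namespace Groth.Agent.H36.EakinNagata

variable {B : Type*} [CommRing B] {M : Type*} [AddCommGroup M] [Module B M]

/-- If `M` is finitely generated, `P ≤ N₀`, the conductors `N₀ : M` and `P : M` agree and
`M ⧸ N₀` is Noetherian, then `M ⧸ P` is Noetherian. -/
lemma isNoetherian_quotient_of_colon_le [Module.Finite B M] (P N₀ : Submodule B M)
    (hcol : N₀.colon (⊤ : Set M) ≤ P.colon (⊤ : Set M)) [IsNoetherian B (M ⧸ N₀)] :
    IsNoetherian B (M ⧸ P) := by
  obtain ⟨n, m, hm⟩ := Module.Finite.exists_fin (R := B) (M := M)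
  set 𝔞 : Ideal B := P.colon (⊤ : Set M) with h𝔞
  -- `B ⧸ 𝔞` is a Noetherian `B`-module
  let φ : B →ₗ[B] (Fin n → M ⧸ N₀) :=
    LinearMap.pi (fun i => LinearMap.toSpanSingleton B (M ⧸ N₀) (N₀.mkQ (m i)))
  have hker : LinearMap.ker φ ≤ 𝔞 := by
    intro b hb
    apply hcol
    rw [Submodule.mem_colon]
    intro x _
    have hx : x ∈ Submodule.span B (Set.range m) := by rw [hm]; trivial
    clear * - hx hb
    induction hx using Submodule.span_induction with
    | mem y hy =>
      obtain ⟨i, rfl⟩ := hy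
      have := congrFun (LinearMap.mem_ker.1 hb) i
      simp only [φ, LinearMap.pi_apply, LinearMap.toSpanSingleton_apply, Pi.zero_apply] at this
      rw [← map_smul, Submodule.mkQ_apply, Submodule.Quotient.mk_eq_zero] at this
      exact this
    | zero => simp
    | add y z _ _ hy hz => rw [smul_add]; exact add_mem hy hz
    | smul r y _ hy => rw [smul_comm]; exact N₀.smul_mem r hy
  have h1 : IsNoetherian B (B ⧸ LinearMap.ker φ) :=
    isNoetherian_of_linearEquiv (LinearMap.quotKerEquivRange φ).symm
  have h2 : IsNoetherian B (B ⧸ 𝔞) :=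
    isNoetherian_of_surjective (Submodule.mapQ (LinearMap.ker φ) 𝔞 LinearMap.id hker)
      (by
        rw [LinearMap.range_eq_top]
        intro x
        obtain ⟨b, rfl⟩ := Submodule.Quotient.mk_surjective _ x
        exact ⟨Submodule.Quotient.mk b, rfl⟩)
  -- `M ⧸ P` is a quotient of `(B ⧸ 𝔞)^n`
  have hle : ∀ i, 𝔞 ≤ LinearMap.ker (LinearMap.toSpanSingleton B (M ⧸ P) (P.mkQ (m i))) := by
    intro i b hb
    rw [LinearMap.mem_ker, LinearMap.toSpanSingleton_apply, ← map_smul, Submodule.mkQ_apply,
      Submodule.Quotient.mk_eq_zero]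
    exact Submodule.mem_colon.1 hb (m i) trivial
  let ℓ : ∀ i : Fin n, (B ⧸ 𝔞) →ₗ[B] M ⧸ P := fun i =>
    Submodule.liftQ 𝔞 (LinearMap.toSpanSingleton B (M ⧸ P) (P.mkQ (m i))) (hle i)
  let ψ : (Fin n → B ⧸ 𝔞) →ₗ[B] M ⧸ P := LinearMap.lsum B (fun _ => B ⧸ 𝔞) B ℓ
  refine isNoetherian_of_surjective ψ ?_
  rw [LinearMap.range_eq_top]
  intro x
  obtain ⟨y, rfl⟩ := Submodule.Quotient.mk_surjective _ x
  have hy : y ∈ Submodule.span B (Set.range m) := by rw [hm]; trivial
  obtain ⟨c, rfl⟩ := (Submodule.mem_span_range_iff_exists_fun B).1 hy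
  refine ⟨fun i => Submodule.Quotient.mk (c i), ?_⟩
  simp only [ψ, LinearMap.lsum_apply, LinearMap.sum_apply, LinearMap.comp_apply,
    LinearMap.proj_apply, ℓ]
  rw [← Submodule.mkQ_apply, map_sum]
  refine Finset.sum_congr rfl (fun i _ => ?_)
  rw [Submodule.liftQ_apply, LinearMap.toSpanSingleton_apply, map_smul]

/-- `b ∈ N : M` iff `b • M ≤ N`. -/
lemma mem_colon_top_iff (N : Submodule B M) (b : B) :
    b ∈ N.colon (⊤ : Set M) ↔ (Ideal.span {b} : Ideal B) • (⊤ : Submodule B M) ≤ N := by
  rw [Submodule.ideal_span_singleton_smul, Submodule.mem_colon]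
  constructor
  · rintro h _ ⟨x, hx, rfl⟩
    exact h x hx
  · intro h x hx
    exact h ⟨x, hx, rfl⟩

lemma fg_span_singleton_smul_top [Module.Finite B M] (b : B) :
    ((Ideal.span {b} : Ideal B) • (⊤ : Submodule B M)).FG := by
  rw [Submodule.ideal_span_singleton_smul]
  exact (Module.Finite.fg_top (R := B) (M := M)).map (DistribSMul.toLinearMap B M b)

/-- **Formanek's theorem** (the key to Eakin–Nagata): a finitely generated module whose
submodules of the form `I • ⊤` satisfy the maximal condition is Noetherian. -/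
theorem isNoetherian_of_smul_top_acc [Module.Finite B M]
    (hacc : ∀ S : Set (Ideal B), S.Nonempty → ∃ I ∈ S, ∀ J ∈ S,
      I • (⊤ : Submodule B M) ≤ J • (⊤ : Submodule B M) →
        J • (⊤ : Submodule B M) = I • (⊤ : Submodule B M)) :
    IsNoetherian B M := by
  by_contra hM
  let 𝒮 : Set (Ideal B) := {I | ¬ IsNoetherian B (M ⧸ (I • ⊤ : Submodule B M))}
  have hne : 𝒮.Nonempty := by
    refine ⟨⊥, fun h => hM ?_⟩
    exact isNoetherian_of_linearEquiv
      (Submodule.quotEquivOfEqBot ((⊥ : Ideal B) • (⊤ : Submodule B M)) (Submodule.bot_smul _))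
  obtain ⟨I, hI, hmax⟩ := hacc 𝒮 hne
  set P : Submodule B M := I • ⊤ with hP
  have hQ : ∀ b : B, b ∉ P.colon (⊤ : Set M) →
      IsNoetherian B (M ⧸ ((I ⊔ Ideal.span {b}) • ⊤ : Submodule B M)) := by
    intro b hb
    by_contra hcon
    have h1 := hmax (I ⊔ Ideal.span {b}) hcon (Submodule.smul_mono_left le_sup_left)
    apply hb
    rw [mem_colon_top_iff, ← h1]
    exact Submodule.smul_mono_left le_sup_right
  -- Zorn
  let Γ : Set (Submodule B M) := {N | P ≤ N ∧ N.colon (⊤ : Set M) ≤ P.colon (⊤ : Set M)}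
  obtain ⟨N₀, hPN₀, hN₀max⟩ := zorn_le_nonempty₀ Γ (by
    intro c hc hchain y hy
    refine ⟨sSup c, ⟨(hc hy).1.trans (le_sSup hy), ?_⟩, fun z hz => le_sSup hz⟩
    intro b hb
    rw [mem_colon_top_iff] at hb
    have hcomp := (Submodule.fg_iff_compact _).1 (fg_span_singleton_smul_top (M := M) b)
    rw [CompleteLattice.isCompactElement_iff_le_of_directed_sSup_le] at hcomp
    obtain ⟨N, hN, hle⟩ := hcomp c ⟨y, hy⟩ hchain.directedOn hb
    exact (hc hN).2 ((mem_colon_top_iff N b).2 hle)) P ⟨le_rfl, le_rfl⟩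
  by_cases hN₀ : IsNoetherian B (M ⧸ N₀)
  · exact hI (isNoetherian_quotient_of_colon_le P N₀ hN₀max.prop.2)
  · apply hN₀
    rw [isNoetherian_def]
    intro K
    set N' : Submodule B M := K.comap N₀.mkQ with hN'
    have hK : K = N'.map N₀.mkQ :=
      (Submodule.map_comap_eq_of_surjective (Submodule.mkQ_surjective N₀) K).symm
    have hN₀N' : N₀ ≤ N' := by
      intro x hx
      rw [hN', Submodule.mem_comap, Submodule.mkQ_apply, (Submodule.Quotient.mk_eq_zero N₀).2 hx]
      exact K.zero_mem
    by_cases hle : N' ≤ N₀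
    · have : K = ⊥ := by
        rw [hK, eq_bot_iff]
        refine (Submodule.map_mono hle).trans ?_
        rw [Submodule.map_le_iff_le_comap, Submodule.comap_bot, Submodule.ker_mkQ]
      rw [this]
      exact Submodule.fg_bot
    · -- `N'` is not in `Γ`
      have hnot : N' ∉ Γ := fun h => hle (hN₀max.le_of_ge h hN₀N')
      have hPN' : P ≤ N' := hPN₀.trans hN₀N'
      have : ¬ N'.colon (⊤ : Set M) ≤ P.colon (⊤ : Set M) := fun h => hnot ⟨hPN', h⟩
      obtain ⟨b, hbN', hbP⟩ := Set.not_subset.1 this
      have hnoeth := hQ b hbP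
      set Kb : Submodule B M := (Ideal.span {b} : Ideal B) • ⊤ with hKb
      have hKbN' : Kb ≤ N' := (mem_colon_top_iff N' b).1 hbN'
      set P' : Submodule B M := (I ⊔ Ideal.span {b}) • ⊤ with hP'
      have hP'eq : P' = P ⊔ Kb := Submodule.sup_smul _ _ _
      have hP'N' : P' ≤ N' := by rw [hP'eq]; exact sup_le hPN' hKbN'
      -- a finitely generated `F ≤ N'` with the same image mod `P'`
      have hfg : (N'.map P'.mkQ).FG := IsNoetherian.noetherian _
      obtain ⟨F, hFN', hFfg, hFmap⟩ : ∃ F : Submodule B M, F ≤ N' ∧ F.FG ∧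
          F.map P'.mkQ = N'.map P'.mkQ := by
        obtain ⟨T, hT⟩ := hfg
        have hTmem : ∀ t ∈ T, ∃ x ∈ N', P'.mkQ x = t := by
          intro t ht
          have : t ∈ N'.map P'.mkQ := by rw [← hT]; exact Submodule.subset_span ht
          exact this
        choose! g hg using hTmem
        classical
        refine ⟨Submodule.span B (T.image g), ?_, ⟨T.image g, rfl⟩, ?_⟩
        · rw [Submodule.span_le]
          intro x hx
          rw [Finset.coe_image] at hx
          obtain ⟨t, ht, rfl⟩ := hx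
          exact (hg t ht).1
        · rw [Submodule.map_span, ← hT, Finset.coe_image, Set.image_image]
          congr 1
          ext t
          constructor
          · rintro ⟨s, hs, rfl⟩
            change P'.mkQ (g s) ∈ _
            rw [(hg s hs).2]; exact hs
          · intro ht
            exact ⟨t, ht, (hg t ht).2⟩
      have hN'le : N' ≤ F ⊔ P' := by
        intro x hx
        have : P'.mkQ x ∈ F.map P'.mkQ := by rw [hFmap]; exact ⟨x, hx, rfl⟩
        obtain ⟨y, hy, hyx⟩ := this
        have hxy : x - y ∈ P' := by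
          rw [← Submodule.Quotient.mk_eq_zero P', Submodule.Quotient.mk_sub, sub_eq_zero]
          exact hyx.symm
        have : x = y + (x - y) := by abel
        rw [this]
        exact Submodule.add_mem_sup hy hxy
      have hKeq : K = (F ⊔ Kb).map N₀.mkQ := by
        rw [hK]
        apply le_antisymm
        · refine (Submodule.map_mono hN'le).trans ?_
          rw [hP'eq, Submodule.map_sup, Submodule.map_sup, Submodule.map_sup]
          have hPbot : P.map N₀.mkQ = ⊥ := by
            rw [eq_bot_iff, Submodule.map_le_iff_le_comap, Submodule.comap_bot, Submodule.ker_mkQ]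
            exact hPN₀
          rw [hPbot, bot_sup_eq]
        · exact Submodule.map_mono (sup_le hFN' hKbN')
      rw [hKeq]
      exact (hFfg.sup (fg_span_singleton_smul_top b)).map _

/-- **Eakin–Nagata**: if `A` is a Noetherian ring which is finite as a module over `B`, then `A`
is a Noetherian `B`-module. -/
theorem isNoetherian_of_finite {A : Type*} [CommRing A] [Algebra B A] [IsNoetherianRing A]
    [Module.Finite B A] : IsNoetherian B A := by
  apply isNoetherian_of_smul_top_acc
  intro S hS
  have hne : ((fun I : Ideal B => I.map (algebraMap B A)) '' S).Nonempty := hS.image _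
  obtain ⟨_, ⟨I, hI, rfl⟩, hmax⟩ :=
    (set_has_maximal_iff_noetherian (R := A) (M := A)).2 inferInstance _ hne
  refine ⟨I, hI, fun J hJ hle => ?_⟩
  rw [Ideal.smul_top_eq_map, Ideal.smul_top_eq_map] at hle ⊢
  have hle' : I.map (algebraMap B A) ≤ J.map (algebraMap B A) := fun x hx => hle hx
  have := hmax _ ⟨J, hJ, rfl⟩
  have heq : J.map (algebraMap B A) = I.map (algebraMap B A) := by
    by_contra hne'
    exact this (lt_of_le_of_ne hle' (Ne.symm hne'))
  rw [heq]

/-- **Eakin–Nagata**: if `B ⊆ A`, `A` is a Noetherian ring and a finite `B`-module, then `B` is a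
Noetherian ring. -/
theorem isNoetherianRing_of_finite {A : Type*} [CommRing A] [Algebra B A] [IsNoetherianRing A]
    [Module.Finite B A] (hinj : Function.Injective (algebraMap B A)) : IsNoetherianRing B := by
  have := isNoetherian_of_finite (B := B) (A := A)
  exact isNoetherian_of_injective (Algebra.linearMap B A) hinj

end Groth.Agent.H36.EakinNagata
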