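import Mathlib

/-!
# Reversed characteristic polynomials of endomorphisms of finite free modules

Multiplicativity in short exact sequences and compatibility with localization.
-/

namespace Groth.Agent.H36.FFRDet

universe u

open Module Polynomial

section blocks

variable {R : Type*} [CommRing R]
  {M₁ M₂ : Type*} [AddCommGroup M₁] [Module R M₁] [Module.Finite R M₁] [Module.Free R M₁]
  [AddCommGroup M₂] [Module R M₂] [Module.Finite R M₂] [Module.Free R M₂]

/-- characteristic polynomial of a block-triangular endomorphism of a product. -/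
theorem charpoly_of_triangular (T : Module.End R (M₁ × M₂)) (φ₁ : Module.End R M₁)
    (φ₂ : Module.End R M₂) (h1 : ∀ x, T (x, 0) = (φ₁ x, 0)) (h2 : ∀ z, (T z).2 = φ₂ z.2) :
    T.charpoly = φ₁.charpoly * φ₂.charpoly := by
  classical
  let b₁ := Module.Free.chooseBasis R M₁
  let b₂ := Module.Free.chooseBasis R M₂
  let b := b₁.prod b₂
  rw [← LinearMap.charpoly_toMatrix φ₁ b₁, ← LinearMap.charpoly_toMatrix φ₂ b₂,
    ← LinearMap.charpoly_toMatrix T b]
  have hmat : LinearMap.toMatrix b b T =
      Matrix.fromBlocks (LinearMap.toMatrix b₁ b₁ φ₁)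
        (Matrix.of fun i j => b₁.repr (T (0, b₂ j)).1 i) 0 (LinearMap.toMatrix b₂ b₂ φ₂) := by
    ext (i | i) (j | j)
    · simp [LinearMap.toMatrix_apply, b, h1]
    · simp [LinearMap.toMatrix_apply, b]
    · simp [LinearMap.toMatrix_apply, b, h1]
    · simp [LinearMap.toMatrix_apply, b, h2]
  rw [hmat, Matrix.charpoly_fromBlocks_zero₂₁]

variable {F : Type*} [AddCommGroup F] [Module R F] [Module.Finite R F] [Module.Free R F]

/-- multiplicativity of the characteristic polynomial in short exact sequences of finite free
modules. -/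
theorem charpoly_of_exact (i : M₁ →ₗ[R] F) (g : F →ₗ[R] M₂) (hi : Function.Injective i)
    (hg : Function.Surjective g) (hex : Function.Exact i g)
    (e₁ : Module.End R M₁) (eF : Module.End R F) (e₂ : Module.End R M₂)
    (h1 : ∀ x, i (e₁ x) = eF (i x)) (h2 : ∀ y, g (eF y) = e₂ (g y)) :
    eF.charpoly = e₁.charpoly * e₂.charpoly := by
  obtain ⟨l, hl⟩ := Module.projective_lifting_property g LinearMap.id hg
  obtain ⟨e, he1, he2⟩ := hex.splitSurjectiveEquiv hi ⟨l, hl⟩
  rw [← LinearEquiv.charpoly_conj e eF]
  apply charpoly_of_triangular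
  · intro x
    have hx : e.symm (x, 0) = i x := by
      rw [he1]; simp
    rw [LinearEquiv.conj_apply_apply, hx, ← h1]
    have : i (e₁ x) = e.symm (e₁ x, 0) := by rw [he1]; simp
    rw [this, LinearEquiv.apply_symm_apply]
  · intro z
    have hsnd : ∀ y, (e y).2 = g y := by
      intro y; rw [he2]; simp
    rw [LinearEquiv.conj_apply_apply, hsnd, h2, ← hsnd, LinearEquiv.apply_symm_apply]

end blocks

theorem reverse_map_of_monic {R S : Type*} [CommRing R] [CommRing S] [Nontrivial S] (f : R →+* S)
    {p : R[X]} (hp : p.Monic) : (p.map f).reverse = p.reverse.map f := by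
  rw [Polynomial.reverse, Polynomial.reverse, hp.natDegree_map, Polynomial.reflect_map]

theorem reverse_mul_of_monic {R : Type*} [CommRing R] {p q : R[X]} (hp : p.Monic) (hq : q.Monic) :
    (p * q).reverse = p.reverse * q.reverse := by
  nontriviality R
  apply Polynomial.reverse_mul
  rw [hp.leadingCoeff, hq.leadingCoeff, one_mul]
  exact one_ne_zero

section rcp

variable {R : Type*} [CommRing R]
  {M : Type*} [AddCommGroup M] [Module R M] [Module.Finite R M] [Module.Free R M]

/-- the reversed characteristic polynomial `det(1 - tψ)` as a power series. -/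
noncomputable def rcp (ψ : Module.End R M) : PowerSeries R :=
  ((ψ.charpoly.reverse : R[X]) : PowerSeries R)

theorem constantCoeff_rcp (ψ : Module.End R M) : PowerSeries.constantCoeff (rcp ψ) = 1 := by
  rw [rcp, ← PowerSeries.coeff_zero_eq_constantCoeff_apply, Polynomial.coeff_coe,
    Polynomial.coeff_zero_reverse, (LinearMap.charpoly_monic ψ).leadingCoeff]

theorem det_eq_coeff_rcp [Nontrivial R] (ψ : Module.End R M) :
    LinearMap.det ψ = (-1) ^ (finrank R M) * PowerSeries.coeff (finrank R M) (rcp ψ) := by
  rw [LinearMap.det_eq_sign_charpoly_coeff, rcp, Polynomial.coeff_coe, Polynomial.coeff_reverse,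
    LinearMap.charpoly_natDegree, Polynomial.revAt_le le_rfl, Nat.sub_self]

variable {M₁ M₂ : Type*} [AddCommGroup M₁] [Module R M₁] [Module.Finite R M₁] [Module.Free R M₁]
  [AddCommGroup M₂] [Module R M₂] [Module.Finite R M₂] [Module.Free R M₂]

theorem rcp_of_exact (i : M₁ →ₗ[R] M) (g : M →ₗ[R] M₂) (hi : Function.Injective i)
    (hg : Function.Surjective g) (hex : Function.Exact i g)
    (e₁ : Module.End R M₁) (eF : Module.End R M) (e₂ : Module.End R M₂)
    (h1 : ∀ x, i (e₁ x) = eF (i x)) (h2 : ∀ y, g (eF y) = e₂ (g y)) :
    rcp eF = rcp e₁ * rcp e₂ := by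
  rw [rcp, rcp, rcp, charpoly_of_exact i g hi hg hex e₁ eF e₂ h1 h2,
    reverse_mul_of_monic (LinearMap.charpoly_monic e₁) (LinearMap.charpoly_monic e₂),
    Polynomial.coe_mul]

end rcp

section loc

variable {A : Type*} [CommRing A] (S : Submonoid A)
  {M : Type*} [AddCommGroup M] [Module A M] [Module.Finite A M] [Module.Free A M]

instance free_localizedModule : Module.Free (Localization S) (LocalizedModule S M) :=
  Module.Free.of_basis ((Module.Free.chooseBasis A M).ofIsLocalizedModule (Localization S) S
    (LocalizedModule.mkLinearMap S M))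

theorem finrank_localizedModule [Nontrivial (Localization S)] :
    finrank (Localization S) (LocalizedModule S M) = finrank A M := by
  have : Nontrivial A := by
    by_contra h
    rw [not_nontrivial_iff_subsingleton] at h
    have : Subsingleton (Localization S) := by
      refine ⟨fun x y => ?_⟩
      obtain ⟨a, s, rfl⟩ := IsLocalization.exists_mk'_eq S x
      obtain ⟨b, t, rfl⟩ := IsLocalization.exists_mk'_eq S y
      rw [Subsingleton.elim a 0, Subsingleton.elim b 0]; simp
    exact not_subsingleton (Localization S) this
  rw [Module.finrank_eq_card_basis ((Module.Free.chooseBasis A M).ofIsLocalizedModule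
    (Localization S) S (LocalizedModule.mkLinearMap S M)),
    Module.finrank_eq_card_basis (Module.Free.chooseBasis A M)]

theorem charpoly_localizedModule_map (φ : Module.End A M) :
    (LocalizedModule.map S φ).charpoly = φ.charpoly.map (algebraMap A (Localization S)) := by
  classical
  let b := Module.Free.chooseBasis A M
  let b' := b.ofIsLocalizedModule (Localization S) S (LocalizedModule.mkLinearMap S M)
  rw [← LinearMap.charpoly_toMatrix φ b, ← LinearMap.charpoly_toMatrix (LocalizedModule.map S φ) b',
    ← Matrix.charpoly_map]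
  congr 1
  ext i j
  rw [Matrix.map_apply, LinearMap.toMatrix_apply, LinearMap.toMatrix_apply]
  have h1 : b' j = LocalizedModule.mkLinearMap S M (b j) :=
    Module.Basis.ofIsLocalizedModule_apply _ _ _ _ _
  rw [h1, LocalizedModule.mkLinearMap_apply, LocalizedModule.map_mk,
    ← LocalizedModule.mkLinearMap_apply]
  exact Module.Basis.ofIsLocalizedModule_repr_apply _ _ _ _ _ _

theorem rcp_localizedModule_map [Nontrivial (Localization S)] (φ : Module.End A M) :
    rcp (LocalizedModule.map S φ) = (rcp φ).map (algebraMap A (Localization S)) := by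
  rw [rcp, rcp, charpoly_localizedModule_map,
    reverse_map_of_monic _ (LinearMap.charpoly_monic φ), Polynomial.polynomial_map_coe]

end loc

end Groth.Agent.H36.FFRDet
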