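import Groth.Agent.H36.FFRDetSeries
import Groth.Agent.H15.FFR

namespace Groth.Agent.H36.FFRDet

universe u

open Module Polynomial TensorProduct

theorem hasFFR_of_famCyc (A : Type u) [CommRing A] : ∀ (n : ℕ) (M : Type u) [AddCommGroup M]
    [Module A M], FamCyc.HasFiniteFreeResolutionLE A n M →
    ∃ χ : ℤ, Groth.Agent.H15.FFR.HasFFR A n M χ
  | 0, M, _, _, h => ⟨(finrank A M : ℤ), h.1, h.2, rfl⟩
  | n + 1, M, _, _, h => by
    obtain ⟨k, f, hf, hK⟩ := h
    obtain ⟨χK, hχ⟩ := hasFFR_of_famCyc A n _ hK
    refine ⟨(finrank A (Fin k → A) : ℤ) - χK, Fin k → A, inferInstance, inferInstance,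
      inferInstance, inferInstance, f, hf, ?_⟩
    rw [sub_sub_cancel]
    exact hχ

/-- at a prime which is the annihilator of an element, a module with a finite free resolution
is locally free. -/
theorem free_localized_of_ann (A : Type u) [CommRing A] (n : ℕ) (M : Type u) [AddCommGroup M]
    [Module A M] (hM : FamCyc.HasFiniteFreeResolutionLE A n M) (p : Ideal A) [p.IsPrime]
    (y : A) (hy : ∀ x, x ∈ p ↔ x * y = 0) :
    Module.Free (Localization.AtPrime p) (LocalizedModule p.primeCompl M) := by
  obtain ⟨χ, hχ⟩ := hasFFR_of_famCyc A n M hM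
  have h1 := Groth.Agent.H15.FFR.HasFFR.baseChange (Localization.AtPrime p) n hχ
  have hs : algebraMap A (Localization.AtPrime p) y ≠ 0 := by
    intro h0
    rw [IsLocalization.map_eq_zero_iff p.primeCompl] at h0
    obtain ⟨m, hm⟩ := h0
    exact m.2 ((hy m).mpr hm)
  have hm : ∀ a ∈ IsLocalRing.maximalIdeal (Localization.AtPrime p),
      a * algebraMap A (Localization.AtPrime p) y = 0 := by
    intro a ha
    obtain ⟨x, s, rfl⟩ := IsLocalization.exists_mk'_eq p.primeCompl a
    rw [IsLocalization.AtPrime.mk'_mem_maximal_iff (Localization.AtPrime p) p] at ha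
    rw [mul_comm, IsLocalization.mul_mk'_eq_mk'_of_mul, mul_comm, (hy x).mp ha,
      IsLocalization.mk'_zero]
  obtain ⟨hfree, -, -⟩ := Groth.Agent.H15.FFR.HasFFR.free_of_depth_zero hs hm n h1
  have hbc : IsBaseChange (Localization.AtPrime p) (LocalizedModule.mkLinearMap p.primeCompl M) :=
    IsLocalizedModule.isBaseChange p.primeCompl (Localization.AtPrime p) _
  exact Module.Free.of_equiv hbc.equiv

/-- **Determinant of an endomorphism of a module with a finite free resolution.** -/
theorem existsUnique_det (A : Type u) [CommRing A] [IsNoetherianRing A]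
    (M : Type u) [AddCommGroup M] [Module A M] (n : ℕ)
    (hM : FamCyc.HasFiniteFreeResolutionLE A n M) (φ : M →ₗ[A] M) :
    ∃! a : A, ∀ (p : Ideal A) [p.IsPrime],
      Module.Free (Localization.AtPrime p) (LocalizedModule p.primeCompl M) →
        algebraMap A (Localization.AtPrime p) a =
          LinearMap.det (LocalizedModule.map p.primeCompl φ) := by
  have hfin : Module.Finite A M := finite_of_hasFFR A n M hM
  obtain ⟨P, r, hP, hloc⟩ := exists_series A n M φ hM
  refine ⟨(-1) ^ r.toNat * PowerSeries.coeff r.toNat P, ?_, ?_⟩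
  · intro p _ hfree
    obtain ⟨hr, hser⟩ := hloc p
    have hrn : r.toNat = finrank (Localization.AtPrime p) (LocalizedModule p.primeCompl M) := by
      rw [← hr]; simp
    rw [det_eq_coeff_rcp, ← hser, PowerSeries.coeff_map, hrn, map_mul, map_pow, map_neg, map_one]
  · intro a' ha'
    by_contra hne
    have hx : a' - (-1) ^ r.toNat * PowerSeries.coeff r.toNat P ≠ 0 := sub_ne_zero.mpr hne
    obtain ⟨Q, hQass, hQle⟩ := exists_le_isAssociatedPrime_of_isNoetherianRing A _ hx
    obtain ⟨hQprime, y, hQy⟩ := Submodule.isAssociatedPrime_iff.mp hQass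
    have hQmem : ∀ x, x ∈ Q ↔ x * y = 0 := by
      intro x
      rw [hQy, Submodule.mem_colon_singleton, Submodule.mem_bot, smul_eq_mul]
    have hfree := free_localized_of_ann A n M hM Q y hQmem
    have h1 := ha' Q hfree
    -- the witness also satisfies the property
    have h2 : algebraMap A (Localization.AtPrime Q) ((-1) ^ r.toNat * PowerSeries.coeff r.toNat P) =
        LinearMap.det (LocalizedModule.map Q.primeCompl φ) := by
      obtain ⟨hr, hser⟩ := hloc Q
      have hrn : r.toNat = finrank (Localization.AtPrime Q)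
          (LocalizedModule Q.primeCompl M) := by
        rw [← hr]; simp
      rw [det_eq_coeff_rcp, ← hser, PowerSeries.coeff_map, hrn, map_mul, map_pow, map_neg,
        map_one]
    have h3 : algebraMap A (Localization.AtPrime Q)
        (a' - (-1) ^ r.toNat * PowerSeries.coeff r.toNat P) = 0 := by
      rw [map_sub, h1, h2, sub_self]
    rw [IsLocalization.map_eq_zero_iff Q.primeCompl] at h3
    obtain ⟨m, hm⟩ := h3
    apply m.2
    apply hQle
    rw [Submodule.mem_colon_singleton, Submodule.mem_bot, smul_eq_mul]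
    exact hm

end Groth.Agent.H36.FFRDet
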