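import Groth.Agent.H36.FFRDetStep

namespace Groth.Agent.H36.FFRDet

universe u

open Module Polynomial

/-- the inductive construction of the characteristic series. -/
theorem exists_series (A : Type u) [CommRing A] : ∀ (n : ℕ) (M : Type u) [AddCommGroup M]
    [Module A M] (φ : M →ₗ[A] M), FamCyc.HasFiniteFreeResolutionLE A n M →
    ∃ (P : PowerSeries A) (r : ℤ), PowerSeries.constantCoeff P = 1 ∧
      ∀ (p : Ideal A) [p.IsPrime]
        [Module.Free (Localization.AtPrime p) (LocalizedModule p.primeCompl M)]
        [Module.Finite (Localization.AtPrime p) (LocalizedModule p.primeCompl M)],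
        (finrank (Localization.AtPrime p) (LocalizedModule p.primeCompl M) : ℤ) = r ∧
        P.map (algebraMap A (Localization.AtPrime p)) =
          rcp (LocalizedModule.map p.primeCompl φ)
  | 0, M, _, _, φ, h => by
    have := h.1
    have := h.2
    refine ⟨rcp φ, (finrank A M : ℤ), constantCoeff_rcp φ, ?_⟩
    intro p _ _ _
    refine ⟨?_, ?_⟩
    · have := finrank_localizedModule (M := M) p.primeCompl
      exact_mod_cast this
    · exact (rcp_localizedModule_map p.primeCompl φ).symm
  | n + 1, M, _, _, φ, h => by
    obtain ⟨k, f, hf, hK⟩ := h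
    obtain ⟨ψ, hψ⟩ := Module.projective_lifting_property f (φ ∘ₗ f) hf
    have hψ' : ∀ x, f (ψ x) = φ (f x) := fun x => LinearMap.congr_fun hψ x
    have hψK : ∀ x ∈ LinearMap.ker f, ψ x ∈ LinearMap.ker f := by
      intro x hx
      rw [LinearMap.mem_ker] at hx ⊢
      rw [hψ', hx, map_zero]
    obtain ⟨PK, rK, hPK, hIH⟩ := exists_series A n (LinearMap.ker f) (ψ.restrict hψK) hK
    have : Module.Finite A (LinearMap.ker f) := finite_of_hasFFR A n _ hK
    refine ⟨rcp ψ * PowerSeries.invOfUnit PK 1, (k : ℤ) - rK, ?_, ?_⟩
    · rw [map_mul, constantCoeff_rcp, PowerSeries.constantCoeff_invOfUnit]; simp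
    intro p hp _ _
    have : Nontrivial A :=
      ⟨⟨0, 1, fun h => hp.ne_top ((Ideal.eq_top_iff_one p).mpr (h ▸ p.zero_mem))⟩⟩
    obtain ⟨hfree, hrank, hmul⟩ := step_local f hf φ ψ hψ' hψK p
    obtain ⟨hrk, hser⟩ := hIH p
    refine ⟨?_, ?_⟩
    · rw [Module.finrank_fin_fun] at hrank
      have h2 : (k : ℤ) = (finrank (Localization.AtPrime p)
          (LocalizedModule p.primeCompl (LinearMap.ker f)) : ℤ) +
          (finrank (Localization.AtPrime p) (LocalizedModule p.primeCompl M) : ℤ) := by
        exact_mod_cast hrank
      rw [hrk] at h2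
      linarith
    · rw [map_mul, hmul, ← hser]
      have hinv : PowerSeries.map (algebraMap A (Localization.AtPrime p)) PK *
          PowerSeries.map (algebraMap A (Localization.AtPrime p)) (PowerSeries.invOfUnit PK 1) =
          1 := by
        rw [← map_mul, PowerSeries.mul_invOfUnit PK 1 (by simpa using hPK), map_one]
      calc PowerSeries.map (algebraMap A (Localization.AtPrime p)) PK *
            rcp (LocalizedModule.map p.primeCompl φ) *
            PowerSeries.map (algebraMap A (Localization.AtPrime p)) (PowerSeries.invOfUnit PK 1)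
          = rcp (LocalizedModule.map p.primeCompl φ) *
            (PowerSeries.map (algebraMap A (Localization.AtPrime p)) PK *
            PowerSeries.map (algebraMap A (Localization.AtPrime p))
              (PowerSeries.invOfUnit PK 1)) := by ring
        _ = rcp (LocalizedModule.map p.primeCompl φ) := by rw [hinv, mul_one]

end Groth.Agent.H36.FFRDet
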