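import Groth.Agent.H36.FFRDetBasic
import Groth.Prelude.Def_W4c1famcyclesFFR

namespace Groth.Agent.H36.FFRDet

universe u

open Module Polynomial

theorem finite_of_hasFFR (A : Type u) [CommRing A] : ∀ (n : ℕ) (M : Type u) [AddCommGroup M]
    [Module A M], FamCyc.HasFiniteFreeResolutionLE A n M → Module.Finite A M
  | 0, M, _, _, h => h.2
  | n + 1, M, _, _, h => by
    obtain ⟨k, f, hf, -⟩ := h
    exact Module.Finite.of_surjective f hf

section maps

variable {A : Type u} [CommRing A] (S : Submonoid A)
  {M N L : Type u} [AddCommGroup M] [Module A M] [AddCommGroup N] [Module A N]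
  [AddCommGroup L] [Module A L]

theorem localizedModule_map_exact (f : M →ₗ[A] N) (g : N →ₗ[A] L) (h : Function.Exact f g) :
    Function.Exact (LocalizedModule.map S f) (LocalizedModule.map S g) := by
  have := LocalizedModule.map_exact S f g h
  intro y
  have h1 := this y
  constructor
  · intro hy
    obtain ⟨x, hx⟩ := h1.mp (by
      induction y using LocalizedModule.induction_on with
      | h m s =>
        rw [LocalizedModule.map_mk] at hy
        rw [IsLocalizedModule.map_LocalizedModules]; exact hy)
    refine ⟨x, ?_⟩
    induction x using LocalizedModule.induction_on with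
    | h m s =>
      rw [LocalizedModule.map_mk]
      rw [IsLocalizedModule.map_LocalizedModules] at hx; exact hx
  · rintro ⟨x, rfl⟩
    induction x using LocalizedModule.induction_on with
    | h m s =>
      rw [LocalizedModule.map_mk, LocalizedModule.map_mk, h.apply_apply_eq_zero,
        LocalizedModule.zero_mk]

end maps

section step

variable {A : Type u} [CommRing A] {M F : Type u} [AddCommGroup M] [Module A M]
  [AddCommGroup F] [Module A F] [Module.Free A F] [Module.Finite A F]

/-- the local computation in the inductive step. -/
theorem step_local (f : F →ₗ[A] M) (hf : Function.Surjective f) (φ : M →ₗ[A] M)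
    (ψ : F →ₗ[A] F) (hψ' : ∀ x, f (ψ x) = φ (f x))
    (hψK : ∀ x ∈ LinearMap.ker f, ψ x ∈ LinearMap.ker f)
    [Module.Finite A (LinearMap.ker f)]
    (p : Ideal A) [p.IsPrime]
    [Module.Free (Localization.AtPrime p) (LocalizedModule p.primeCompl M)]
    [Module.Finite (Localization.AtPrime p) (LocalizedModule p.primeCompl M)] :
    ∃ (_ : Module.Free (Localization.AtPrime p) (LocalizedModule p.primeCompl (LinearMap.ker f))),
      finrank A F = finrank (Localization.AtPrime p)
          (LocalizedModule p.primeCompl (LinearMap.ker f)) +
        finrank (Localization.AtPrime p) (LocalizedModule p.primeCompl M) ∧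
      (rcp ψ).map (algebraMap A (Localization.AtPrime p)) =
        rcp (LocalizedModule.map p.primeCompl (ψ.restrict hψK)) *
          rcp (LocalizedModule.map p.primeCompl φ) := by
  obtain ⟨iS, hiS⟩ : ∃ iS : LocalizedModule p.primeCompl (LinearMap.ker f) →ₗ[Localization.AtPrime p]
      LocalizedModule p.primeCompl F,
      iS = LocalizedModule.map p.primeCompl (LinearMap.ker f).subtype := ⟨_, rfl⟩
  obtain ⟨gS, hgS⟩ : ∃ gS : LocalizedModule p.primeCompl F →ₗ[Localization.AtPrime p]
      LocalizedModule p.primeCompl M, gS = LocalizedModule.map p.primeCompl f := ⟨_, rfl⟩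
  have hi : Function.Injective iS :=
    hiS ▸ LocalizedModule.map_injective _ _ (Submodule.injective_subtype _)
  have hg : Function.Surjective gS := hgS ▸ LocalizedModule.map_surjective _ _ hf
  have hex : Function.Exact iS gS := by
    rw [hiS, hgS]
    exact localizedModule_map_exact _ _ _ (LinearMap.exact_subtype_ker_map f)
  obtain ⟨l, hl⟩ := Module.projective_lifting_property gS LinearMap.id hg
  obtain ⟨e, he1, he2⟩ := hex.splitSurjectiveEquiv hi ⟨l, hl⟩
  have hproj : Module.Projective (Localization.AtPrime p)
      (LocalizedModule p.primeCompl (LinearMap.ker f)) := by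
    apply Module.Projective.of_split iS (LinearMap.fst _ _ _ ∘ₗ e.toLinearMap)
    ext x
    simp only [LinearMap.coe_comp, Function.comp_apply, LinearMap.id_coe, id_eq]
    have : iS x = e.symm (x, 0) := by rw [he1]; simp
    rw [this]
    simp
  have hfree : Module.Free (Localization.AtPrime p)
      (LocalizedModule p.primeCompl (LinearMap.ker f)) := Module.free_of_flat_of_isLocalRing
  refine ⟨hfree, ?_, ?_⟩
  · have h1 := LinearEquiv.finrank_eq e
    rw [Module.finrank_prod, finrank_localizedModule p.primeCompl] at h1
    exact h1
  · rw [← rcp_localizedModule_map p.primeCompl ψ]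
    exact rcp_of_exact iS gS hi hg hex
      (LocalizedModule.map p.primeCompl (ψ.restrict hψK))
      (LocalizedModule.map p.primeCompl ψ) (LocalizedModule.map p.primeCompl φ)
      (by
        intro x
        induction x using LocalizedModule.induction_on with
        | h m s =>
          rw [hiS]
          simp only [LocalizedModule.map_mk]
          rfl)
      (by
        intro y
        induction y using LocalizedModule.induction_on with
        | h m s =>
          rw [hgS]
          simp only [LocalizedModule.map_mk, hψ'])

end step

end Groth.Agent.H36.FFRDet
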