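import Mathlib

/-!
# Fibre dimension of the differentials of a local algebra

For a Noetherian local `F`-algebra `T` with residue field `κ`:
`dim_κ (κ ⊗ Ω[T⁄F]) ≤ dim_κ (m/m²) + dim_κ Ω[κ⁄F]`.
-/

set_option autoImplicit false
set_option linter.unusedSectionVars false
universe u

namespace Groth.Agent.H36.GRRSing

open KaehlerDifferential TensorProduct IsLocalRing

variable (F T : Type u) [Field F] [CommRing T] [IsLocalRing T] [IsNoetherianRing T]
  [Algebra F T]

/-- the kernel of `κ ⊗ Ω[T⁄F] → Ω[κ⁄F]` is spanned by the differentials of generators of the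
maximal ideal -/
theorem ker_mapBaseChange_le_span (s : Set T) (hs : Ideal.span s = maximalIdeal T) :
    LinearMap.ker (mapBaseChange F T (ResidueField T)) ≤
      Submodule.span (ResidueField T)
        ((fun x : T => (1 : ResidueField T) ⊗ₜ[T] D F T x) '' s) := by
  have key : ∀ x ∈ Ideal.span s, (1 : ResidueField T) ⊗ₜ[T] D F T x ∈
      Submodule.span (ResidueField T)
        ((fun x : T => (1 : ResidueField T) ⊗ₜ[T] D F T x) '' s) := by
    intro x hxm
    induction hxm using Submodule.span_induction with
    | mem z hz => exact Submodule.subset_span ⟨z, hz, rfl⟩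
    | zero => simp
    | add a b _ _ ha hb =>
      rw [map_add, TensorProduct.tmul_add]
      exact Submodule.add_mem _ ha hb
    | smul t a ha' ha =>
      rw [smul_eq_mul, Derivation.leibniz, TensorProduct.tmul_add]
      refine Submodule.add_mem _ ?_ ?_
      · -- `1 ⊗ t • D a = residue t • (1 ⊗ D a)`
        have : (1 : ResidueField T) ⊗ₜ[T] (t • D F T a) =
            (residue T t) • ((1 : ResidueField T) ⊗ₜ[T] D F T a) := by
          rw [TensorProduct.tmul_smul, TensorProduct.smul_tmul', TensorProduct.smul_tmul',
            Algebra.smul_def, smul_eq_mul]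
          rfl
        rw [this]
        exact Submodule.smul_mem _ _ ha
      · -- `1 ⊗ a • D t = 0` as `a ∈ m`
        have ham : a ∈ maximalIdeal T := by
          rw [← hs]; exact ha'
        have : (1 : ResidueField T) ⊗ₜ[T] (a • D F T t) = 0 := by
          rw [TensorProduct.tmul_smul, TensorProduct.smul_tmul', Algebra.smul_def, mul_one]
          have h0 : algebraMap T (ResidueField T) a = 0 := by
            change residue T a = 0
            rwa [residue_eq_zero_iff]
          rw [h0, TensorProduct.zero_tmul]
        rw [this]
        exact Submodule.zero_mem _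
  intro y hy
  have hsurj : Function.Surjective (algebraMap T (ResidueField T)) := residue_surjective
  have hex := KaehlerDifferential.exact_kerCotangentToTensor_mapBaseChange F T (ResidueField T)
    hsurj
  obtain ⟨c, rfl⟩ := (hex y).mp hy
  obtain ⟨⟨x, hx⟩, rfl⟩ := Ideal.toCotangent_surjective _ c
  rw [kerCotangentToTensor_toCotangent]
  apply key
  rw [hs]
  have : x ∈ RingHom.ker (residue T) := hx
  rwa [ker_residue] at this

/-- `dim_κ (κ ⊗ Ω[T⁄F]) ≤ dim_κ (m/m²) + dim_κ Ω[κ⁄F]`. -/
theorem finrank_tensor_kaehler_le [Algebra.EssFiniteType F T] :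
    Module.finrank (ResidueField T) (ResidueField T ⊗[T] Ω[T⁄F]) ≤
      Module.finrank (ResidueField T) (CotangentSpace T) +
        Module.finrank (ResidueField T) Ω[ResidueField T⁄F] := by
  classical
  have hfg : (maximalIdeal T).FG := (isNoetherianRing_iff_ideal_fg T).mp inferInstance _
  set s : Set T := (maximalIdeal T).generators with hs
  have hsfin : s.Finite := Submodule.FG.finite_generators hfg
  have hspan : Ideal.span s = maximalIdeal T := Submodule.span_generators _
  have hcard : s.ncard = Module.finrank (ResidueField T) (CotangentSpace T) := by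
    rw [hs, Submodule.FG.generators_ncard hfg,
      spanFinrank_maximalIdeal_eq_finrank_cotangentSpace]
  have hker := ker_mapBaseChange_le_span F T s hspan
  have hsurj : Function.Surjective (mapBaseChange F T (ResidueField T)) :=
    mapBaseChange_surjective F T (ResidueField T) residue_surjective
  have hrn := LinearMap.finrank_range_add_finrank_ker (mapBaseChange F T (ResidueField T))
  rw [LinearMap.range_eq_top.mpr hsurj, finrank_top] at hrn
  rw [← hrn, add_comm]
  gcongr
  refine (Submodule.finrank_mono hker).trans ?_
  have himg : ((fun x : T => (1 : ResidueField T) ⊗ₜ[T] D F T x) '' s) =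
      ((hsfin.toFinset.image fun x : T => (1 : ResidueField T) ⊗ₜ[T] D F T x) :
        Finset (ResidueField T ⊗[T] Ω[T⁄F])) := by
    rw [Finset.coe_image, Set.Finite.coe_toFinset]
  rw [himg]
  refine (finrank_span_finset_le_card _).trans ?_
  refine Finset.card_image_le.trans ?_
  rw [← hcard, Set.ncard_eq_toFinset_card s hsfin]

end Groth.Agent.H36.GRRSing
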