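import Mathlib

/-!
# Number of generators of a localized module from a fibre dimension

* `exists_finset_span_eq_top_card_le`: Nakayama, a finite module over a local ring is generated by
  `dim_k (k ⊗ M)` elements;
* `exists_finset_span_localizedModule`: if `A → L` is a map to a field with kernel `p` and
  `dim_L (L ⊗ M) ≤ n`, then `M_p` is generated by at most `n` elements.
-/

set_option autoImplicit false
set_option linter.unusedSectionVars false
universe u

namespace Groth.Agent.H36.GRRSing

open TensorProduct IsLocalRing

/-- Nakayama: a finite module over a local ring is generated by `dim_k (k ⊗ M)` elements. -/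
theorem exists_finset_span_eq_top_card_le (R : Type u) [CommRing R] [IsLocalRing R]
    (M : Type u) [AddCommGroup M] [Module R M] [Module.Finite R M] :
    ∃ s : Finset M, s.card ≤ Module.finrank (ResidueField R) (ResidueField R ⊗[R] M) ∧
      Submodule.span R (s : Set M) = ⊤ := by
  classical
  set t : Set (ResidueField R ⊗[R] M) := Set.range fun m : M => (1 : ResidueField R) ⊗ₜ[R] m
    with ht
  have htspan : Submodule.span (ResidueField R) t = ⊤ := by
    rw [eq_top_iff]
    rintro x -
    induction x using TensorProduct.induction_on with
    | zero => exact Submodule.zero_mem _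
    | tmul c m =>
      have : c ⊗ₜ[R] m = c • ((1 : ResidueField R) ⊗ₜ[R] m) := by
        rw [TensorProduct.smul_tmul', smul_eq_mul, mul_one]
      rw [this]
      exact Submodule.smul_mem _ _ (Submodule.subset_span ⟨m, rfl⟩)
    | add x y hx hy => exact Submodule.add_mem _ hx hy
  obtain ⟨b, hbt, hbspan, hbli⟩ := exists_linearIndependent (ResidueField R) t
  rw [htspan] at hbspan
  have hbfin : b.Finite := hbli.setFinite
  have hchoose : ∀ x : b, ∃ m : M, (1 : ResidueField R) ⊗ₜ[R] m = (x : ResidueField R ⊗[R] M) :=
    fun x => hbt x.2
  choose f hf using hchoose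
  let B : Module.Basis b (ResidueField R) (ResidueField R ⊗[R] M) :=
    Module.Basis.mk hbli (by rw [Subtype.range_coe_subtype, Set.ofPred_mem_eq, hbspan])
  have hB : ∀ i, (1 : ResidueField R) ⊗ₜ[R] f i = B i := fun i => by
    rw [hf i, Module.Basis.mk_apply]
  have hspan := IsLocalRing.span_eq_top_of_tmul_eq_basis f B hB
  have : Fintype b := hbfin.fintype
  refine ⟨Finset.univ.image f, ?_, ?_⟩
  · refine Finset.card_image_le.trans ?_
    rw [Finset.card_univ, Module.finrank_eq_card_basis B]
  · rw [Finset.coe_image, Finset.coe_univ, Set.image_univ]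
    exact hspan

/-- If `A → L` is a ring map to a field with kernel `p` and `dim_L (L ⊗ M) ≤ n`, then the
localization `M_p` is generated by at most `n` elements. -/
theorem exists_finset_span_localizedModule (A : Type u) [CommRing A] (M : Type u)
    [AddCommGroup M] [Module A M] [Module.Finite A M] (p : Ideal A) [p.IsPrime]
    (L : Type u) [Field L] [Algebra A L] (hker : RingHom.ker (algebraMap A L) = p)
    (n : ℕ) (hn : Module.finrank L (L ⊗[A] M) ≤ n) :
    ∃ s : Finset (LocalizedModule p.primeCompl M), s.card ≤ n ∧
      Submodule.span (Localization.AtPrime p)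
        (s : Set (LocalizedModule p.primeCompl M)) = ⊤ := by
  classical
  have hkerm : ∀ a : A, algebraMap A L a = 0 ↔ a ∈ p := fun a => by
    rw [← hker, RingHom.mem_ker]
  -- `A_p → L`
  have hu : ∀ y : p.primeCompl, IsUnit (algebraMap A L (y : A)) := fun y =>
    IsUnit.mk0 _ fun h => y.2 ((hkerm _).mp h)
  letI algRL : Algebra (Localization.AtPrime p) L :=
    (IsLocalization.lift (M := p.primeCompl) (S := Localization.AtPrime p) hu).toAlgebra
  have hmapRL : ∀ z, algebraMap (Localization.AtPrime p) L z =
      IsLocalization.lift (M := p.primeCompl) (S := Localization.AtPrime p) hu z := fun _ => rfl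
  have : IsScalarTower A (Localization.AtPrime p) L :=
    IsScalarTower.of_algebraMap_eq fun r => by rw [hmapRL, IsLocalization.lift_eq]
  have hloc : IsLocalHom (algebraMap (Localization.AtPrime p) L) := by
    refine ⟨fun z hz => ?_⟩
    obtain ⟨a, s, rfl⟩ := IsLocalization.exists_mk'_eq p.primeCompl z
    have hne : algebraMap (Localization.AtPrime p) L (IsLocalization.mk' _ a s) ≠ 0 := hz.ne_zero
    rw [IsLocalization.AtPrime.isUnit_mk'_iff (Localization.AtPrime p) p]
    intro hap
    apply hne
    have h0 : algebraMap A L a = 0 := (hkerm a).mpr hap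
    have hspec : IsLocalization.mk' (Localization.AtPrime p) a s *
        algebraMap A (Localization.AtPrime p) (s : A) = algebraMap A (Localization.AtPrime p) a :=
      IsLocalization.mk'_spec _ a s
    have h1 := congrArg (algebraMap (Localization.AtPrime p) L) hspec
    rw [map_mul, ← IsScalarTower.algebraMap_apply, ← IsScalarTower.algebraMap_apply, h0] at h1
    exact (mul_eq_zero.mp h1).resolve_right (hu s).ne_zero
  -- `κ(p) → L`
  letI algkL : Algebra (ResidueField (Localization.AtPrime p)) L :=
    (ResidueField.lift (algebraMap (Localization.AtPrime p) L)).toAlgebra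
  have : IsScalarTower (Localization.AtPrime p) (ResidueField (Localization.AtPrime p)) L :=
    IsScalarTower.of_algebraMap_eq fun r => rfl
  -- Nakayama
  obtain ⟨s, hscard, hsspan⟩ := exists_finset_span_eq_top_card_le (Localization.AtPrime p)
    (LocalizedModule p.primeCompl M)
  refine ⟨s, hscard.trans (le_trans (le_of_eq ?_) hn), hsspan⟩
  -- comparison of dimensions
  have e1 : L ⊗[ResidueField (Localization.AtPrime p)]
      (ResidueField (Localization.AtPrime p) ⊗[Localization.AtPrime p]
        LocalizedModule p.primeCompl M) ≃ₗ[L]
      L ⊗[Localization.AtPrime p] LocalizedModule p.primeCompl M :=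
    TensorProduct.AlgebraTensorModule.cancelBaseChange (Localization.AtPrime p)
      (ResidueField (Localization.AtPrime p)) L L (LocalizedModule p.primeCompl M)
  have hbc : IsBaseChange (Localization.AtPrime p) (LocalizedModule.mkLinearMap p.primeCompl M) :=
    IsLocalizedModule.isBaseChange p.primeCompl (Localization.AtPrime p) _
  have e2 : L ⊗[Localization.AtPrime p] (Localization.AtPrime p ⊗[A] M) ≃ₗ[L]
      L ⊗[Localization.AtPrime p] LocalizedModule p.primeCompl M :=
    TensorProduct.AlgebraTensorModule.congr (LinearEquiv.refl L L) hbc.equiv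
  have e3 : L ⊗[Localization.AtPrime p] (Localization.AtPrime p ⊗[A] M) ≃ₗ[L] L ⊗[A] M :=
    TensorProduct.AlgebraTensorModule.cancelBaseChange A (Localization.AtPrime p) L L M
  rw [← (e2.symm.trans e3).finrank_eq, ← e1.finrank_eq]
  exact (Module.finrank_baseChange (R := L) (S := ResidueField (Localization.AtPrime p))
    (M' := ResidueField (Localization.AtPrime p) ⊗[Localization.AtPrime p]
      LocalizedModule p.primeCompl M)).symm

end Groth.Agent.H36.GRRSing
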