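import Mathlib
import Groth.Agent.H36.GRRSingA
import Groth.Agent.H36.GRRSingB
import Groth.Agent.H11.GenericSmoothAlg
import Groth.Agent.H11.FtDim

/-!
# Local number of generators of differentials after a perfect base field extension

Abstract form: `S` is the base change of the finite type `K`-algebra `A` to a perfect field `F`,
`q` a prime of `S` over the prime `p` of `A` with `embdim S_q ≤ ht q + 1`, `S` a domain of
dimension at most `d`.  Then `(Ω[A⁄K])_p` is generated by at most `d + 1` elements.
-/

set_option autoImplicit false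
set_option linter.unusedSectionVars false
universe u

namespace Groth.Agent.H36.GRRSing

open KaehlerDifferential TensorProduct IsLocalRing

variable {K A F S : Type u} [Field K] [CommRing A] [Algebra K A] [Algebra.FiniteType K A]
  [Field F] [PerfectField F] [Algebra K F] [CommRing S] [Algebra K S] [Algebra F S] [Algebra A S]
  [IsScalarTower K A S] [IsScalarTower K F S] [Algebra.IsPushout K F A S]
  [Algebra.FiniteType F S] [IsDomain S]

/-- the fibre of `Ω[A⁄K]` at the residue field of `q` is the fibre of `Ω[S_q⁄F]` -/
theorem finrank_fibre_eq (q : Ideal S) [q.IsPrime] :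
    Module.finrank (ResidueField (Localization.AtPrime q))
      (ResidueField (Localization.AtPrime q) ⊗[A] Ω[A⁄K]) =
    Module.finrank (ResidueField (Localization.AtPrime q))
      (ResidueField (Localization.AtPrime q) ⊗[Localization.AtPrime q]
        Ω[Localization.AtPrime q⁄F]) := by
  have e1 : ResidueField (Localization.AtPrime q) ⊗[S] (S ⊗[A] Ω[A⁄K])
      ≃ₗ[ResidueField (Localization.AtPrime q)]
      ResidueField (Localization.AtPrime q) ⊗[A] Ω[A⁄K] :=
    TensorProduct.AlgebraTensorModule.cancelBaseChange A S
      (ResidueField (Localization.AtPrime q)) (ResidueField (Localization.AtPrime q)) Ω[A⁄K]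
  have e2 : ResidueField (Localization.AtPrime q) ⊗[S] (S ⊗[A] Ω[A⁄K])
      ≃ₗ[ResidueField (Localization.AtPrime q)]
      ResidueField (Localization.AtPrime q) ⊗[S] Ω[S⁄F] :=
    TensorProduct.AlgebraTensorModule.congr (LinearEquiv.refl _ _)
      (KaehlerDifferential.tensorKaehlerEquiv K F A S)
  have e3 : ResidueField (Localization.AtPrime q) ⊗[Localization.AtPrime q]
        (Localization.AtPrime q ⊗[S] Ω[S⁄F])
      ≃ₗ[ResidueField (Localization.AtPrime q)]
      ResidueField (Localization.AtPrime q) ⊗[S] Ω[S⁄F] :=
    TensorProduct.AlgebraTensorModule.cancelBaseChange S (Localization.AtPrime q)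
      (ResidueField (Localization.AtPrime q)) (ResidueField (Localization.AtPrime q)) Ω[S⁄F]
  have e4 : ResidueField (Localization.AtPrime q) ⊗[Localization.AtPrime q]
        (Localization.AtPrime q ⊗[S] Ω[S⁄F])
      ≃ₗ[ResidueField (Localization.AtPrime q)]
      ResidueField (Localization.AtPrime q) ⊗[Localization.AtPrime q]
        Ω[Localization.AtPrime q⁄F] :=
    TensorProduct.AlgebraTensorModule.congr (LinearEquiv.refl _ _)
      (KaehlerDifferential.tensorKaehlerEquivOfFormallyEtale F S (Localization.AtPrime q))
  rw [← e1.finrank_eq, e2.finrank_eq, ← e3.finrank_eq, e4.finrank_eq]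

/-- the numerical bound at a prime of the base change -/
theorem finrank_fibre_le (K A F : Type u) {S : Type u} [Field K] [CommRing A] [Algebra K A]
    [Algebra.FiniteType K A]
    [Field F] [PerfectField F] [Algebra K F] [CommRing S] [Algebra K S] [Algebra F S]
    [Algebra A S] [IsScalarTower K A S] [IsScalarTower K F S] [Algebra.IsPushout K F A S]
    [Algebra.FiniteType F S] [IsDomain S] (q : Ideal S) [q.IsPrime] (d : ℕ) (hd : ringKrullDim S ≤ d)
    (hq : (Module.finrank (ResidueField (Localization.AtPrime q))
      (CotangentSpace (Localization.AtPrime q)) : ℕ∞) ≤ q.height + 1) :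
    Module.finrank (ResidueField (Localization.AtPrime q))
      (ResidueField (Localization.AtPrime q) ⊗[A] Ω[A⁄K]) ≤ d + 1 := by
  have : IsNoetherianRing S := Algebra.FiniteType.isNoetherianRing F S
  have : Algebra.EssFiniteType F (ResidueField (Localization.AtPrime q)) :=
    Algebra.EssFiniteType.comp F (Localization.AtPrime q) _
  rw [finrank_fibre_eq (K := K) (A := A) (F := F) q]
  refine (finrank_tensor_kaehler_le F (Localization.AtPrime q)).trans ?_
  -- the transcendence degree of the residue field
  set r : ℕ := Module.finrank (ResidueField (Localization.AtPrime q))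
    Ω[ResidueField (Localization.AtPrime q)⁄F] with hr
  have htr : Algebra.trdeg F q.ResidueField = r :=
    (Groth.Agent.H11.GenericSmoothAlg.finrank_kaehler_eq_trdeg_of_perfectField F
      (ResidueField (Localization.AtPrime q))).symm
  have hco := Groth.Agent.H11.FtDim.coheight_eq_trdeg (k := F) q r htr
  have hdim := Groth.Agent.H11.FtDim.height_add_coheight_eq F S
    (⟨q, inferInstance⟩ : PrimeSpectrum S)
  have hht : Order.height (⟨q, inferInstance⟩ : PrimeSpectrum S) = q.height := by
    exact (PrimeSpectrum.height_eq_orderHeight (⟨q, inferInstance⟩ : PrimeSpectrum S)).symm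
  rw [hco, hht] at hdim
  have h1 : ((q.height + (r : ℕ∞) : ℕ∞) : WithBot ℕ∞) ≤ ((d : ℕ∞) : WithBot ℕ∞) := by
    rw [hdim]; exact hd
  have h2 : q.height + (r : ℕ∞) ≤ (d : ℕ∞) := WithBot.coe_le_coe.mp h1
  set e : ℕ := Module.finrank (ResidueField (Localization.AtPrime q))
    (CotangentSpace (Localization.AtPrime q)) with he
  have h3 : ((e + r : ℕ) : ℕ∞) ≤ ((d + 1 : ℕ) : ℕ∞) := by
    push_cast
    calc (e : ℕ∞) + r ≤ (q.height + 1) + r := by gcongr
      _ = (q.height + r) + 1 := by ring
      _ ≤ (d : ℕ∞) + 1 := by gcongr
  exact_mod_cast h3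

/-- **Core theorem.** -/
theorem exists_finset_span_of_prime (K A F : Type u) {S : Type u} [Field K] [CommRing A]
    [Algebra K A] [Algebra.FiniteType K A]
    [Field F] [PerfectField F] [Algebra K F] [CommRing S] [Algebra K S] [Algebra F S]
    [Algebra A S] [IsScalarTower K A S] [IsScalarTower K F S] [Algebra.IsPushout K F A S]
    [Algebra.FiniteType F S] [IsDomain S] (q : Ideal S) [q.IsPrime] (p : Ideal A) [p.IsPrime]
    (hqp : q.comap (algebraMap A S) = p) (d : ℕ) (hd : ringKrullDim S ≤ d)
    (hq : (Module.finrank (ResidueField (Localization.AtPrime q))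
      (CotangentSpace (Localization.AtPrime q)) : ℕ∞) ≤ q.height + 1) :
    ∃ s : Finset (LocalizedModule p.primeCompl Ω[A⁄K]), s.card ≤ d + 1 ∧
      Submodule.span (Localization.AtPrime p)
        (s : Set (LocalizedModule p.primeCompl Ω[A⁄K])) = ⊤ := by
  have hfin : Module.Finite A Ω[A⁄K] := inferInstance
  apply exists_finset_span_localizedModule A Ω[A⁄K] p (ResidueField (Localization.AtPrime q))
    ?_ (d + 1) (finrank_fibre_le K A F q d hd hq)
  ext a
  rw [RingHom.mem_ker, ← hqp, Ideal.mem_comap,
    IsScalarTower.algebraMap_apply A S (ResidueField (Localization.AtPrime q))]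
  exact Ideal.algebraMap_residueField_eq_zero (I := q)

end Groth.Agent.H36.GRRSing
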