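import Mathlib
import Groth.Agent.H36.GRRSingC
import Groth.Agent.H49.FibreDimBC

/-!
# Differentials of an affine scheme with geometric hypersurface singularities

Final assembly for `Spec A` of finite type over a field `K`, with base change to an algebraic
closure.
-/

set_option autoImplicit false
set_option linter.unusedSectionVars false
universe u

namespace Groth.Agent.H36.GRRSing

open KaehlerDifferential TensorProduct IsLocalRing

attribute [local instance] Algebra.TensorProduct.rightAlgebra

variable {K : Type u} [Field K] {A : Type u} [CommRing A] [Algebra K A]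

/-- `K̄ ⊗ A` is integral over `A`. -/
theorem isIntegral_tensor_algebraicClosure :
    Algebra.IsIntegral A (AlgebraicClosure K ⊗[K] A) := by
  refine ⟨fun z => ?_⟩
  induction z using TensorProduct.induction_on with
  | zero => exact isIntegral_zero
  | tmul x a =>
    have hx : IsIntegral K x := Algebra.IsIntegral.isIntegral x
    have h1 : IsIntegral A (x ⊗ₜ[K] (1 : A)) := by
      have := hx.map_of_comp_eq (algebraMap K A)
        (Algebra.TensorProduct.includeLeftRingHom :
          AlgebraicClosure K →+* AlgebraicClosure K ⊗[K] A) (by
          ext c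
          simp only [RingHom.comp_apply, Algebra.TensorProduct.includeLeftRingHom_apply]
          rw [Algebra.TensorProduct.right_algebraMap_apply, Algebra.algebraMap_eq_smul_one,
            Algebra.algebraMap_eq_smul_one (A := AlgebraicClosure K), TensorProduct.smul_tmul])
      exact this
    have h2 : IsIntegral A ((1 : AlgebraicClosure K) ⊗ₜ[K] a) := by
      have : (1 : AlgebraicClosure K) ⊗ₜ[K] a =
          algebraMap A (AlgebraicClosure K ⊗[K] A) a := by
        rw [Algebra.TensorProduct.right_algebraMap_apply]
      rw [this]
      exact isIntegral_algebraMap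
    have : x ⊗ₜ[K] a = (x ⊗ₜ[K] (1 : A)) * ((1 : AlgebraicClosure K) ⊗ₜ[K] a) := by
      rw [Algebra.TensorProduct.tmul_mul_tmul, mul_one, one_mul]
    rw [this]
    exact h1.mul h2
  | add x y hx hy => exact hx.add hy

/-- **Main theorem.** -/
theorem main [Algebra.FiniteType K A] [IsDomain (AlgebraicClosure K ⊗[K] A)]
    (hhyp : ∀ (q : Ideal (AlgebraicClosure K ⊗[K] A)) [q.IsPrime],
      (Module.finrank (ResidueField (Localization.AtPrime q))
          (CotangentSpace (Localization.AtPrime q)) : ℕ∞) ≤ q.height + 1)
    (d : ℕ) (hd : ringKrullDim A = d) (p : Ideal A) [p.IsPrime] :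
    ∃ s : Finset (LocalizedModule p.primeCompl Ω[A⁄K]), s.card ≤ d + 1 ∧
      Submodule.span (Localization.AtPrime p)
        (s : Set (LocalizedModule p.primeCompl Ω[A⁄K])) = ⊤ := by
  have hint : Algebra.IsIntegral A (AlgebraicClosure K ⊗[K] A) :=
    isIntegral_tensor_algebraicClosure
  have hinj : Function.Injective (algebraMap A (AlgebraicClosure K ⊗[K] A)) :=
    Algebra.TensorProduct.includeRight_injective (algebraMap K (AlgebraicClosure K)).injective
  obtain ⟨q, -, hqprime, hqp⟩ := Ideal.exists_ideal_over_prime_of_isIntegral p
    (⊥ : Ideal (AlgebraicClosure K ⊗[K] A)) (by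
      intro a ha
      rw [Ideal.mem_comap, Ideal.mem_bot] at ha
      have : a = 0 := hinj (by rw [ha, map_zero])
      rw [this]; exact p.zero_mem)
  have hdim : ringKrullDim (AlgebraicClosure K ⊗[K] A) ≤ d := by
    rw [← hd, ← Groth.Agent.H49.FibreDimBC.ringKrullDim_tensor_field K (AlgebraicClosure K) A]
    exact le_of_eq (ringKrullDim_eq_of_ringEquiv
      (Algebra.TensorProduct.comm K (AlgebraicClosure K) A).toRingEquiv)
  exact exists_finset_span_of_prime K A (AlgebraicClosure K) q p hqp d hdim (hhyp q)

end Groth.Agent.H36.GRRSing
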