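import Groth.Agent.H36.CHRNotFlat

set_option autoImplicit false
set_option linter.unusedSectionVars false
set_option linter.unusedVariables false
set_option linter.style.haveILetI false
universe u v w

namespace Groth.Agent.H36.GalComp

open Pointwise Groth.Agent.H36.CHR

section setup

variable {R : Type u} {A : Type v} [CommRing R] [CommRing A] [Algebra R A] {H : Type*} [Group H]
  [MulSemiringAction H A] [SMulCommClass H R A]

variable (R A) in
/-- the fixed subalgebra of a subgroup -/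
abbrev Fix (U : Subgroup H) : Subalgebra R A := FixedPoints.subalgebra R A U

theorem mem_Fix {U : Subgroup H} {a : A} : a ∈ Fix R A U ↔ ∀ u ∈ U, u • a = a := by
  constructor
  · intro h u hu
    exact h ⟨u, hu⟩
  · intro h u
    exact h u.1 u.2

theorem Fix_anti {U V : Subgroup H} (h : U ≤ V) : Fix R A V ≤ Fix R A U := by
  intro a ha
  rw [mem_Fix] at ha ⊢
  exact fun u hu => ha u (h hu)

theorem smul_mem_Fix (hcomm : ∀ g h : H, g * h = h * g) {U : Subgroup H} (g : H) {a : A}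
    (ha : a ∈ Fix R A U) : g • a ∈ Fix R A U := by
  rw [mem_Fix] at ha ⊢
  intro u hu
  rw [smul_smul, hcomm, ← smul_smul, ha u hu]

/-- the action of a subgroup on the fixed subalgebra of another subgroup (commutative case) -/
@[reducible] def fixAction (hcomm : ∀ g h : H, g * h = h * g) (U Γ : Subgroup H) :
    MulSemiringAction Γ (Fix R A U) where
  smul γ s := ⟨(γ : H) • (s : A), smul_mem_Fix hcomm _ s.2⟩
  one_smul s := Subtype.ext (one_smul _ _)
  mul_smul γ γ' s := Subtype.ext (mul_smul (γ : H) (γ' : H) (s : A))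
  smul_zero γ := Subtype.ext (smul_zero _)
  smul_add γ s t := Subtype.ext (smul_add _ _ _)
  smul_one γ := Subtype.ext (smul_one _)
  smul_mul γ s t := Subtype.ext (smul_mul' _ _ _)

theorem fixAction_coe (hcomm : ∀ g h : H, g * h = h * g) (U Γ : Subgroup H) (γ : Γ)
    (s : Fix R A U) :
    letI := fixAction (R := R) (A := A) hcomm U Γ
    ((γ • s : Fix R A U) : A) = (γ : H) • (s : A) := rfl

theorem fixAction_smulCommClass (hcomm : ∀ g h : H, g * h = h * g) (U Γ : Subgroup H) :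
    letI := fixAction (R := R) (A := A) hcomm U Γ
    SMulCommClass Γ R (Fix R A U) := by
  letI := fixAction (R := R) (A := A) hcomm U Γ
  refine ⟨fun γ r s => Subtype.ext ?_⟩
  show (γ : H) • (r • (s : A)) = r • ((γ : H) • (s : A))
  exact smul_comm _ _ _

theorem fixAction_isInvariant (hcomm : ∀ g h : H, g * h = h * g) (U Γ : Subgroup H)
    (hsup : U ⊔ Γ = ⊤)
    (hfix : ∀ a : A, (∀ h : H, h • a = a) → a ∈ Set.range (algebraMap R A)) :
    letI := fixAction (R := R) (A := A) hcomm U Γ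
    Algebra.IsInvariant R (Fix R A U) Γ := by
  letI := fixAction (R := R) (A := A) hcomm U Γ
  refine ⟨fun s hs => ?_⟩
  have h1 : ∀ h : H, h • (s : A) = s := by
    have hle : U ⊔ Γ ≤ MulAction.stabilizer H (s : A) := by
      rw [sup_le_iff]
      constructor
      · intro u hu
        exact (mem_Fix.mp s.2) u hu
      · intro γ hγ
        have := congrArg Subtype.val (hs ⟨γ, hγ⟩)
        exact this
    intro h
    have : h ∈ U ⊔ Γ := by rw [hsup]; exact Subgroup.mem_top h
    exact hle this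
  obtain ⟨r, hr⟩ := hfix s h1
  exact ⟨r, Subtype.ext hr⟩


instance isInvariant_Fix (U : Subgroup H) : Algebra.IsInvariant (Fix R A U) A U :=
  ⟨fun a ha => ⟨⟨a, ha⟩, rfl⟩⟩

/-- A group element acting trivially on `A^U` modulo a prime `Q` lies in `U * I(P)` for any prime
`P` above `Q`. -/
theorem mem_of_smul_sub_mem [Finite H] (hcomm : ∀ g h : H, g * h = h * g) (U : Subgroup H)
    (Q : Ideal (Fix R A U)) [Q.IsPrime] (P : Ideal A) [P.IsPrime]
    (hPQ : P.comap (algebraMap (Fix R A U) A) = Q) (hP : P.inertia H ≤ U)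
    (τ : H) (hτ : ∀ s : Fix R A U, τ • (s : A) - s ∈ P) : τ ∈ U := by
  -- step 1
  have h1 : (τ • P).comap (algebraMap (Fix R A U) A) = P.comap (algebraMap (Fix R A U) A) := by
    ext s
    rw [Ideal.mem_comap, Ideal.mem_comap, Ideal.mem_pointwise_smul_iff_inv_smul_mem]
    have h2 := hτ ⟨τ⁻¹ • (s : A), smul_mem_Fix hcomm _ s.2⟩
    simp only [smul_inv_smul] at h2
    change τ⁻¹ • (s : A) ∈ P ↔ (s : A) ∈ P
    constructor
    · intro h
      have := P.add_mem h2 h
      simpa using this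
    · intro h
      have := P.sub_mem h h2
      simpa using this
  obtain ⟨u, hu⟩ := Algebra.IsInvariant.exists_smul_of_under_eq (Fix R A U) A U P (τ • P) h1.symm
  have hu' : τ • P = (u : H) • P := by
    rw [hu]
    ext x
    simp only [Ideal.mem_pointwise_smul_iff_inv_smul_mem]
    rfl
  -- step 2
  set τ' : H := (u : H)⁻¹ * τ with hτ'
  have hτ'P : τ' • P = P := by
    rw [hτ', mul_smul, hu', inv_smul_smul]
  have hτ's : ∀ s : Fix R A U, τ' • (s : A) - s ∈ P := by
    intro s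
    have h3 : τ' • (s : A) = τ • (s : A) := by
      rw [hτ', mul_smul]
      have := (mem_Fix.mp (smul_mem_Fix hcomm τ s.2)) (u : H)⁻¹ (U.inv_mem u.2)
      exact this
    rw [h3]
    exact hτ s
  -- step 3
  have hmap : P = P.map ((MulSemiringAction.toRingEquiv H A τ' : A ≃+* A) : A →+* A) := by
    conv_lhs => rw [← hτ'P]
    rfl
  let φ₀ : A ⧸ P ≃+* A ⧸ P := Ideal.quotientEquiv P P (MulSemiringAction.toRingEquiv H A τ') hmap
  haveI : P.LiesOver Q := ⟨hPQ.symm⟩
  let φ : (A ⧸ P) ≃ₐ[Fix R A U ⧸ Q] (A ⧸ P) := AlgEquiv.ofRingEquiv (f := φ₀) (by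
    intro x
    obtain ⟨s, rfl⟩ := Ideal.Quotient.mk_surjective x
    rw [Ideal.Quotient.algebraMap_mk_of_liesOver]
    show Ideal.Quotient.mk P (τ' • (s : A)) = Ideal.Quotient.mk P (s : A)
    rw [Ideal.Quotient.eq]
    exact hτ's s)
  -- step 4
  obtain ⟨g, hg⟩ := Ideal.Quotient.stabilizerHom_surjective U Q P φ
  have h5 : ∀ a : A, (g : U) • a - τ' • a ∈ P := by
    intro a
    have := DFunLike.congr_fun hg (Ideal.Quotient.mk P a)
    rw [Ideal.Quotient.stabilizerHom_apply] at this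
    rw [← Ideal.Quotient.eq]
    exact this
  have h6 : ((g : U) : H)⁻¹ * τ' ∈ P.inertia H := by
    intro a
    have h7 := h5 a
    have hgP0 : ((g : U) : H) • P = P := by
      have := g.2
      rw [MulAction.mem_stabilizer_iff] at this
      conv_rhs => rw [← this]
      ext x
      simp only [Ideal.mem_pointwise_smul_iff_inv_smul_mem]
      rfl
    have hgP : ((g : U) : H)⁻¹ • P = P := by
      rw [inv_smul_eq_iff]
      exact hgP0.symm
    have h8 : ((g : U) : H)⁻¹ • ((g : U) • a - τ' • a) ∈ ((g : U) : H)⁻¹ • P :=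
      Ideal.smul_mem_pointwise_smul _ _ _ h7
    rw [hgP, smul_sub] at h8
    have h9 : ((g : U) : H)⁻¹ • ((g : U) • a) = a := inv_smul_smul ((g : U) : H) a
    rw [h9, ← mul_smul] at h8
    have := P.neg_mem h8
    simpa using this
  have h10 := hP h6
  have h11 : τ = (u : H) * (((g : U) : H) * (((g : U) : H)⁻¹ * τ')) := by
    rw [hτ']
    group
  rw [h11]
  exact U.mul_mem u.2 (U.mul_mem (g : U).2 h10)

theorem mem_Fix_sup {U V : Subgroup H} {a : A} (hU : a ∈ Fix R A U) (hV : a ∈ Fix R A V) :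
    a ∈ Fix R A (U ⊔ V) := by
  rw [mem_Fix] at hU hV ⊢
  have hle : U ⊔ V ≤ MulAction.stabilizer H a := by
    rw [sup_le_iff]
    exact ⟨fun u hu => hU u hu, fun v hv => hV v hv⟩
  exact fun g hg => hle hg

theorem mem_Fix_top {a : A} (ha : a ∈ Fix R A (⊤ : Subgroup H)) (h : H) : h • a = a :=
  (mem_Fix.mp ha) h (Subgroup.mem_top h)

theorem key_identity (Γ : Subgroup H) [Fintype Γ] [DecidableEq H] (s : R) {ι : Type*} [Fintype ι]
    (c y : ι → A)
    (hc : ∀ γ ∈ Γ, ∑ i, c i * γ • y i = if γ = 1 then algebraMap R A s else 0) (a : A) :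
    ∑ i, c i * ∑ γ : Γ, (γ : H) • (y i * a) = algebraMap R A s * a := by
  simp only [Finset.mul_sum, smul_mul']
  rw [Finset.sum_comm]
  have h2 : ∀ γ : Γ, ∑ i, c i * ((γ : H) • y i * (γ : H) • a) =
      (if (γ : H) = 1 then algebraMap R A s else 0) * (γ : H) • a := by
    intro γ
    rw [← hc γ γ.2, Finset.sum_mul]
    refine Finset.sum_congr rfl fun i _ => ?_
    ring
  rw [Finset.sum_congr rfl fun γ _ => h2 γ]
  rw [Finset.sum_eq_single (1 : Γ)]
  · simp
  · intro γ _ hγ
    have : (γ : H) ≠ 1 := fun h => hγ (Subtype.ext h)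
    rw [if_neg this, zero_mul]
  · intro h
    exact absurd (Finset.mem_univ _) h

theorem tr_mem_Fix (hcomm : ∀ g h : H, g * h = h * g) (M Γ : Subgroup H) [Fintype Γ] {x : A}
    (hx : x ∈ Fix R A M) : ∑ γ : Γ, (γ : H) • x ∈ Fix R A (M ⊔ Γ) := by
  apply mem_Fix_sup
  · exact Subalgebra.sum_mem _ fun γ _ => smul_mem_Fix hcomm _ hx
  · rw [mem_Fix]
    intro γ' hγ'
    rw [Finset.smul_sum]
    exact Fintype.sum_equiv (Equiv.mulLeft (⟨γ', hγ'⟩ : Γ)) _ _ (fun γ => by simp [mul_smul])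


/-- separating elements for the action of `Γ` on `A^U` -/
theorem exists_delta_fix [Finite H] (hcomm : ∀ g h : H, g * h = h * g) (U Γ : Subgroup H)
    (hsup : U ⊔ Γ = ⊤) (hinf : U ⊓ Γ = ⊥)
    (hfix : ∀ a : A, (∀ h : H, h • a = a) → a ∈ Set.range (algebraMap R A))
    (𝔭 : Ideal R) [𝔭.IsPrime]
    (hU : ∀ P : Ideal A, P.IsPrime → P.comap (algebraMap R A) = 𝔭 → P.inertia H ≤ U)
    [DecidableEq H] :
    ∃ s : R, s ∉ 𝔭 ∧ ∃ (ι : Type v) (_ : Fintype ι) (c y : ι → A), (∀ i, c i ∈ Fix R A U) ∧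
      (∀ i, y i ∈ Fix R A U) ∧
      ∀ γ ∈ Γ, ∑ i, c i * γ • y i = if γ = 1 then algebraMap R A s else 0 := by
  classical
  letI := fixAction (R := R) (A := A) hcomm U Γ
  haveI := fixAction_smulCommClass (R := R) (A := A) hcomm U Γ
  haveI := fixAction_isInvariant (R := R) (A := A) hcomm U Γ hsup hfix
  haveI : Algebra.IsIntegral (Fix R A U) A := Algebra.IsInvariant.isIntegral (Fix R A U) A U
  have hin : ∀ Q : Ideal (Fix R A U), Q.IsPrime → Q.comap (algebraMap R (Fix R A U)) = 𝔭 →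
      Q.inertia Γ = ⊥ := by
    intro Q hQ hQ𝔭
    obtain ⟨P, -, hPp, hPQ⟩ := Ideal.exists_ideal_over_prime_of_isIntegral Q (⊥ : Ideal A) (by
      intro x hx
      have : algebraMap (Fix R A U) A x = 0 := hx
      have hx0 : x = 0 := Subtype.ext this
      rw [hx0]
      exact Q.zero_mem)
    have hP𝔭 : P.comap (algebraMap R A) = 𝔭 := by
      rw [IsScalarTower.algebraMap_eq R (Fix R A U) A, ← Ideal.comap_comap, hPQ, hQ𝔭]
    have hPU := hU P hPp hP𝔭
    rw [eq_bot_iff]
    intro γ hγ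
    have h1 : (γ : H) ∈ U := by
      apply mem_of_smul_sub_mem hcomm U Q P hPQ hPU
      intro s
      have h2 : γ • s - s ∈ Q := hγ s
      rw [← hPQ, Ideal.mem_comap] at h2
      exact h2
    have h2 : (γ : H) ∈ U ⊓ Γ := ⟨h1, γ.2⟩
    rw [hinf, Subgroup.mem_bot] at h2
    rw [Subgroup.mem_bot]
    exact Subtype.ext h2
  obtain ⟨s, hs, c, hc⟩ := exists_delta (G := Γ) 𝔭 hin
  refine ⟨s, hs, ↥c.support, inferInstance, fun i => ((c i.1 : Fix R A U) : A), fun i => (i.1 : A),
    fun i => (c i.1).2, fun i => i.1.2, ?_⟩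
  intro γ hγ
  have h1 := hc ⟨γ, hγ⟩
  have h2 := congrArg (Subtype.val : Fix R A U → A) h1
  rw [Finsupp.sum] at h2
  rw [Finset.sum_coe_sort c.support (fun y => ((c y : Fix R A U) : A) * γ • (y : A))]
  have h3 : ((∑ a ∈ c.support, c a * (⟨γ, hγ⟩ : Γ) • a : Fix R A U) : A) =
      ∑ y ∈ c.support, ((c y : Fix R A U) : A) * γ • (y : A) := by
    rw [AddSubmonoidClass.coe_finsetSum]
    rfl
  rw [← h3, h2]
  by_cases h : γ = 1
  · subst h
    simp
  · have : (⟨γ, hγ⟩ : Γ) ≠ 1 := by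
      intro h'
      exact h (congrArg Subtype.val h')
    rw [if_neg h, if_neg this]
    rfl

end setup

end Groth.Agent.H36.GalComp
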