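import Groth.Agent.H36.GalComp

set_option autoImplicit false
set_option linter.unusedSectionVars false
set_option linter.unusedVariables false
set_option linter.style.haveILetI false
universe u v w

open scoped TensorProduct

namespace Groth.Agent.H36.GalComp

open Pointwise Groth.Agent.H36.CHR

section step

variable {R : Type u} {A : Type v} [CommRing R] [CommRing A] [Algebra R A] {H : Type*} [Group H]
  [MulSemiringAction H A] [SMulCommClass H R A]

/-- local two-factor decomposition: `s • A^M ⊆ A^U * A^(M ⊔ Γ)` -/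
theorem exists_smul_mem_mul [Finite H] (hcomm : ∀ g h : H, g * h = h * g) (U Γ M : Subgroup H)
    (hsup : U ⊔ Γ = ⊤) (hinf : U ⊓ Γ = ⊥) (hMU : M ≤ U)
    (hfix : ∀ a : A, (∀ h : H, h • a = a) → a ∈ Set.range (algebraMap R A))
    (𝔭 : Ideal R) [𝔭.IsPrime]
    (hU : ∀ P : Ideal A, P.IsPrime → P.comap (algebraMap R A) = 𝔭 → P.inertia H ≤ U) :
    ∃ s : R, s ∉ 𝔭 ∧ ∀ a ∈ Fix R A M, ∃ (ι : Type v) (_ : Fintype ι) (c t : ι → A),
      (∀ i, c i ∈ Fix R A U) ∧ (∀ i, t i ∈ Fix R A (M ⊔ Γ)) ∧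
      algebraMap R A s * a = ∑ i, c i * t i := by
  classical
  cases nonempty_fintype Γ
  obtain ⟨s, hs, ι, _, c, y, hc, hy, hcy⟩ := exists_delta_fix hcomm U Γ hsup hinf hfix 𝔭 hU
  refine ⟨s, hs, fun a ha => ⟨ι, inferInstance, c, fun i => ∑ γ : Γ, (γ : H) • (y i * a), hc,
    fun i => ?_, ?_⟩⟩
  · apply tr_mem_Fix hcomm
    exact Subalgebra.mul_mem _ (Fix_anti hMU (hy i)) ha
  · exact (key_identity Γ s c y hcy a).symm

end step

section disjoint

variable {R : Type u} {A : Type v} [CommRing R] [CommRing A] [Algebra R A] {H : Type*} [Group H]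
  [MulSemiringAction H A] [SMulCommClass H R A]

theorem tr_mem_Fix' (Γ : Subgroup H) [Fintype Γ] (x : A) :
    ∑ γ : Γ, (γ : H) • x ∈ Fix R A Γ := by
  rw [mem_Fix]
  intro γ' hγ'
  rw [Finset.smul_sum]
  exact Fintype.sum_equiv (Equiv.mulLeft (⟨γ', hγ'⟩ : Γ)) _ _ (fun γ => by simp [mul_smul])

/-- the trace `x ↦ ∑ γ, γ (y x)` with values in the fixed subalgebra -/
noncomputable def trL (Γ : Subgroup H) [Fintype Γ] (y : A) : A →ₗ[R] Fix R A Γ :=
  LinearMap.codRestrict (Subalgebra.toSubmodule (Fix R A Γ))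
    (∑ γ : Γ, (MulSemiringAction.toAlgHom R A (γ : H)).toLinearMap ∘ₗ LinearMap.mulLeft R y)
    (fun x => by
      have : (∑ γ : Γ, (MulSemiringAction.toAlgHom R A (γ : H)).toLinearMap ∘ₗ
          LinearMap.mulLeft R y) x = ∑ γ : Γ, (γ : H) • (y * x) := by
        simp
      rw [this]
      exact tr_mem_Fix' (R := R) Γ _)

theorem trL_coe (Γ : Subgroup H) [Fintype Γ] (y x : A) :
    ((trL (R := R) Γ y x : Fix R A Γ) : A) = ∑ γ : Γ, (γ : H) • (y * x) := by
  unfold trL
  rw [LinearMap.codRestrict_apply]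
  simp

/-- the almost inverse of the multiplication map -/
noncomputable def Psi (U Γ : Subgroup H) [Fintype Γ] {ι : Type*} [Fintype ι] (c y : ι → A)
    (hc : ∀ i, c i ∈ Fix R A U) : A →ₗ[R] (Fix R A Γ) ⊗[R] (Fix R A U) :=
  ∑ i, (TensorProduct.mk R (Fix R A Γ) (Fix R A U)).flip ⟨c i, hc i⟩ ∘ₗ trL Γ (y i)

theorem Psi_apply (U Γ : Subgroup H) [Fintype Γ] {ι : Type*} [Fintype ι] (c y : ι → A)
    (hc : ∀ i, c i ∈ Fix R A U) (x : A) :
    Psi U Γ c y hc x = ∑ i, (trL (R := R) Γ (y i) x) ⊗ₜ[R] (⟨c i, hc i⟩ : Fix R A U) := by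
  simp [Psi]

theorem Psi_mulMap (hcomm : ∀ g h : H, g * h = h * g) (U Γ : Subgroup H) [Fintype Γ]
    [DecidableEq H] (hsup : U ⊔ Γ = ⊤)
    (hfix : ∀ a : A, (∀ h : H, h • a = a) → a ∈ Set.range (algebraMap R A))
    (s : R) {ι : Type*} [Fintype ι] (c y : ι → A)
    (hc : ∀ i, c i ∈ Fix R A U) (hy : ∀ i, y i ∈ Fix R A U)
    (hcy : ∀ γ ∈ Γ, ∑ i, c i * γ • y i = if γ = 1 then algebraMap R A s else 0)
    (z : (Fix R A Γ) ⊗[R] (Fix R A U)) :
    Psi U Γ c y hc ((Fix R A Γ).mulMap (Fix R A U) z) = s • z := by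
  induction z using TensorProduct.induction_on with
  | zero => simp
  | add z₁ z₂ h₁ h₂ => rw [map_add, map_add, h₁, h₂, smul_add]
  | tmul d b =>
    rw [Subalgebra.mulMap_tmul, Psi_apply]
    -- the traces of `y i * b` lie in `R`
    have hr : ∀ i, ∃ r : R, algebraMap R A r = ∑ γ : Γ, (γ : H) • (y i * (b : A)) := by
      intro i
      have h1 : ∑ γ : Γ, (γ : H) • (y i * (b : A)) ∈ Fix R A (U ⊔ Γ) :=
        tr_mem_Fix hcomm U Γ (Subalgebra.mul_mem _ (hy i) b.2)
      rw [hsup] at h1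
      obtain ⟨r, hr⟩ := hfix _ (mem_Fix_top h1)
      exact ⟨r, hr⟩
    choose r hr using hr
    have h2 : ∀ i, trL (R := R) Γ (y i) ((d : A) * (b : A)) = r i • d := by
      intro i
      apply Subtype.ext
      rw [trL_coe]
      have h3 : ∀ γ : Γ, (γ : H) • (y i * ((d : A) * (b : A))) =
          (d : A) * (γ : H) • (y i * (b : A)) := by
        intro γ
        have hd : (γ : H) • (d : A) = d := (mem_Fix.mp d.2) γ γ.2
        rw [show y i * ((d : A) * (b : A)) = (d : A) * (y i * (b : A)) by ring, smul_mul', hd]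
      rw [Finset.sum_congr rfl fun γ _ => h3 γ, ← Finset.mul_sum, ← hr i]
      show (d : A) * algebraMap R A (r i) = ((r i • d : Fix R A Γ) : A)
      rw [Subalgebra.coe_smul, Algebra.smul_def, mul_comm]
    simp only [h2, TensorProduct.smul_tmul]
    rw [← TensorProduct.tmul_sum]
    have h4 : ∑ i, r i • (⟨c i, hc i⟩ : Fix R A U) = s • b := by
      apply Subtype.ext
      rw [AddSubmonoidClass.coe_finsetSum]
      simp only [Subalgebra.coe_smul]
      rw [Algebra.smul_def s (b : A), ← key_identity Γ s c y hcy (b : A)]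
      refine Finset.sum_congr rfl fun i _ => ?_
      rw [Algebra.smul_def, hr i, mul_comm]
    rw [h4, TensorProduct.tmul_smul]

theorem isSMulRegular_Fix [IsDomain A] (hRA : Function.Injective (algebraMap R A))
    (Γ : Subgroup H) (s : R) (hs : s ≠ 0) : IsSMulRegular (Fix R A Γ) s := by
  intro d d' h
  apply Subtype.ext
  have h1 := congrArg (Subtype.val : Fix R A Γ → A) h
  simp only [Algebra.smul_def] at h1
  have h2 : algebraMap R A s ≠ 0 := by
    intro h0
    exact hs (hRA (h0.trans (map_zero _).symm))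
  exact mul_left_cancel₀ h2 h1

/-- the fixed subalgebras of complementary subgroups are linearly disjoint -/
theorem linearDisjoint_Fix [Finite H] [IsDomain R] [IsDomain A]
    (hRA : Function.Injective (algebraMap R A)) (hcomm : ∀ g h : H, g * h = h * g)
    (U Γ : Subgroup H) (hsup : U ⊔ Γ = ⊤) (hinf : U ⊓ Γ = ⊥)
    (hfix : ∀ a : A, (∀ h : H, h • a = a) → a ∈ Set.range (algebraMap R A))
    (hfaith : ∀ h : H, (∀ a : A, h • a = a) → h = 1) [Module.Flat R (Fix R A U)] :
    (Fix R A Γ).LinearDisjoint (Fix R A U) := by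
  classical
  cases nonempty_fintype Γ
  haveI : Algebra.IsInvariant R A H := ⟨fun a ha => hfix a ha⟩
  haveI : Algebra.IsIntegral R A := Algebra.IsInvariant.isIntegral R A H
  have hU : ∀ P : Ideal A, P.IsPrime → P.comap (algebraMap R A) = (⊥ : Ideal R) →
      P.inertia H ≤ U := by
    intro P hP hP0
    have hPbot : P = ⊥ := Ideal.eq_bot_of_comap_eq_bot hP0
    intro σ hσ
    have h1 : σ = 1 := by
      apply hfaith
      intro a
      have := hσ a
      rw [hPbot] at this
      exact sub_eq_zero.mp this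
    rw [h1]
    exact U.one_mem
  obtain ⟨s, hs, ι, _, c, y, hc, hy, hcy⟩ :=
    exists_delta_fix hcomm U Γ hsup hinf hfix (⊥ : Ideal R) hU
  have hs0 : s ≠ 0 := fun h => hs (h ▸ Ideal.zero_mem _)
  rw [Subalgebra.linearDisjoint_iff_injective, injective_iff_map_eq_zero]
  intro z hz
  have h1 := Psi_mulMap hcomm U Γ hsup hfix s c y hc hy hcy z
  have hz' : (Fix R A Γ).mulMap (Fix R A U) z = 0 := hz
  rw [hz', map_zero] at h1
  have hreg : IsSMulRegular ((Fix R A Γ) ⊗[R] (Fix R A U)) s :=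
    IsSMulRegular.rTensor (Fix R A U) (isSMulRegular_Fix hRA Γ s hs0)
  exact hreg (by simp only [smul_zero]; exact h1.symm)

end disjoint

end Groth.Agent.H36.GalComp
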