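import Groth.Agent.H36.GalComp2

set_option autoImplicit false
set_option linter.unusedSectionVars false
set_option linter.unusedVariables false
set_option linter.style.haveILetI false
universe u v w

open scoped TensorProduct

namespace Groth.Agent.H36.GalComp

open Pointwise Groth.Agent.H36.CHR

section family

variable {R : Type u} {A : Type v} [CommRing R] [CommRing A] [Algebra R A] {H : Type*} [Group H]
  [MulSemiringAction H A] [SMulCommClass H R A]
  {κ : Type*} [Fintype κ] [DecidableEq κ] (Gi : κ → Subgroup H)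

/-- the subgroup generated by the `Gi j`, `j ≠ i` -/
def Gperp (i : κ) : Subgroup H := ⨆ j ∈ (Finset.univ.erase i : Finset κ), Gi j

/-- the subgroup generated by the `Gi j`, `j ∉ J` -/
def Vout (J : Finset κ) : Subgroup H := ⨆ j, ⨆ (_ : j ∉ J), Gi j

variable (R A) in
/-- the compositum of the `A^(Gperp j)`, `j ∈ J` -/
def Ecomp (J : Finset κ) : Subalgebra R A := ⨆ j ∈ J, Fix R A (Gperp Gi j)

theorem le_Gperp {i j : κ} (h : j ≠ i) : Gi j ≤ Gperp Gi i := by
  unfold Gperp
  exact le_iSup₂_of_le j (Finset.mem_erase.mpr ⟨h, Finset.mem_univ j⟩) le_rfl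

theorem le_Vout {J : Finset κ} {j : κ} (h : j ∉ J) : Gi j ≤ Vout Gi J := by
  unfold Vout
  exact le_iSup₂_of_le j h le_rfl

theorem Vout_le_Gperp {J : Finset κ} {j₀ : κ} (h : j₀ ∈ J) : Vout Gi J ≤ Gperp Gi j₀ := by
  unfold Vout
  refine iSup₂_le fun j hj => le_Gperp Gi ?_
  rintro rfl
  exact hj h

theorem Vout_le_sup {J : Finset κ} {j₀ : κ} : Vout Gi J ≤ Vout Gi (insert j₀ J) ⊔ Gi j₀ := by
  unfold Vout
  refine iSup₂_le fun j hj => ?_
  by_cases hjj : j = j₀
  · subst hjj
    exact le_sup_right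
  · refine le_trans ?_ le_sup_left
    refine le_iSup₂_of_le j ?_ le_rfl
    rw [Finset.mem_insert]
    push Not
    exact ⟨hjj, hj⟩

theorem Fix_le_Ecomp {J : Finset κ} {j : κ} (h : j ∈ J) : Fix R A (Gperp Gi j) ≤ Ecomp R A Gi J := by
  unfold Ecomp
  exact le_iSup₂_of_le j h le_rfl

theorem Ecomp_mono {J J' : Finset κ} (h : J ⊆ J') : Ecomp R A Gi J ≤ Ecomp R A Gi J' := by
  unfold Ecomp
  exact iSup₂_le fun j hj => Fix_le_Ecomp Gi (h hj)

/-- local generation by the compositum -/
theorem exists_smul_mem_Ecomp [Finite H] (hcomm : ∀ g h : H, g * h = h * g)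
    (hsup : ∀ j, Gperp Gi j ⊔ Gi j = ⊤) (hinf : ∀ j, Gperp Gi j ⊓ Gi j = ⊥)
    (hfix : ∀ a : A, (∀ h : H, h • a = a) → a ∈ Set.range (algebraMap R A))
    (𝔭 : Ideal R) [𝔭.IsPrime] (i : κ)
    (hU : ∀ P : Ideal A, P.IsPrime → P.comap (algebraMap R A) = 𝔭 → P.inertia H ≤ Gi i)
    (J' : Finset κ) :
    ∃ s : R, s ∉ 𝔭 ∧ ∀ a ∈ Fix R A (Vout Gi (insert i J')),
      algebraMap R A s * a ∈ Ecomp R A Gi (insert i J') := by
  induction J' using Finset.induction_on with
  | empty =>
    refine ⟨1, 𝔭.one_notMem, fun a ha => ?_⟩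
    rw [map_one, one_mul]
    apply Fix_le_Ecomp Gi (Finset.mem_insert_self i ∅)
    refine Fix_anti ?_ ha
    unfold Gperp
    refine iSup₂_le fun j hj => le_Vout Gi ?_
    rw [Finset.mem_erase] at hj
    simpa using hj.1
  | insert j₀ J' hj₀ ih =>
    by_cases hji : j₀ = i
    · subst hji
      rw [Finset.insert_idem]
      exact ih
    · have hj₀' : j₀ ∉ insert i J' := by
        rw [Finset.mem_insert]
        push Not
        exact ⟨hji, hj₀⟩
      have hins : insert i (insert j₀ J') = insert j₀ (insert i J') := Finset.insert_comm _ _ _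
      rw [hins]
      obtain ⟨s₂, hs₂, ih⟩ := ih
      obtain ⟨s₁, hs₁, h1⟩ := exists_smul_mem_mul hcomm (Gperp Gi j₀) (Gi j₀)
        (Vout Gi (insert j₀ (insert i J'))) (hsup j₀) (hinf j₀)
        (Vout_le_Gperp Gi (Finset.mem_insert_self _ _)) hfix 𝔭
        (fun P hP hP𝔭 => le_trans (hU P hP hP𝔭) (le_Gperp Gi (Ne.symm hji)))
      refine ⟨s₂ * s₁, fun h => (Ideal.IsPrime.mem_or_mem inferInstance h).elim hs₂ hs₁,
        fun a ha => ?_⟩
      obtain ⟨ι, _, c, t, hc, ht, hct⟩ := h1 a ha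
      rw [map_mul, mul_assoc, hct, Finset.mul_sum]
      refine Subalgebra.sum_mem _ fun k _ => ?_
      rw [← mul_assoc, mul_comm (algebraMap R A s₂), mul_assoc]
      refine Subalgebra.mul_mem _ (Fix_le_Ecomp Gi (Finset.mem_insert_self _ _) (hc k)) ?_
      refine Ecomp_mono Gi (Finset.subset_insert _ _) (ih _ ?_)
      exact Fix_anti (Vout_le_sup Gi) (ht k)

theorem exists_smul_mem_Ecomp_univ [Finite H] (hcomm : ∀ g h : H, g * h = h * g)
    (hsup : ∀ j, Gperp Gi j ⊔ Gi j = ⊤) (hinf : ∀ j, Gperp Gi j ⊓ Gi j = ⊥)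
    (hfix : ∀ a : A, (∀ h : H, h • a = a) → a ∈ Set.range (algebraMap R A))
    (𝔭 : Ideal R) [𝔭.IsPrime] (i : κ)
    (hU : ∀ P : Ideal A, P.IsPrime → P.comap (algebraMap R A) = 𝔭 → P.inertia H ≤ Gi i) :
    ∃ s : R, s ∉ 𝔭 ∧ ∀ a : A, algebraMap R A s * a ∈ Ecomp R A Gi Finset.univ := by
  obtain ⟨s, hs, h⟩ := exists_smul_mem_Ecomp Gi hcomm hsup hinf hfix 𝔭 i hU Finset.univ
  rw [Finset.insert_eq_of_mem (Finset.mem_univ i)] at h
  refine ⟨s, hs, fun a => h a ?_⟩
  rw [mem_Fix]
  intro u hu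
  have : Vout Gi (Finset.univ : Finset κ) = ⊥ := by
    unfold Vout
    rw [eq_bot_iff]
    exact iSup₂_le fun j hj => absurd (Finset.mem_univ j) hj
  rw [this, Subgroup.mem_bot] at hu
  rw [hu, one_smul]

/-- the compositum is a free module -/
theorem free_Ecomp [Finite H] [IsDomain R] [IsDomain A]
    (hRA : Function.Injective (algebraMap R A)) (hcomm : ∀ g h : H, g * h = h * g)
    (hsup : ∀ j, Gperp Gi j ⊔ Gi j = ⊤) (hinf : ∀ j, Gperp Gi j ⊓ Gi j = ⊥)
    (hfix : ∀ a : A, (∀ h : H, h • a = a) → a ∈ Set.range (algebraMap R A))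
    (hfaith : ∀ h : H, (∀ a : A, h • a = a) → h = 1)
    (hfree : ∀ j, Module.Free R (Fix R A (Gperp Gi j))) (J : Finset κ) :
    Module.Free R (Ecomp R A Gi J) := by
  induction J using Finset.induction_on with
  | empty =>
    have : Ecomp R A Gi (∅ : Finset κ) = ⊥ := by
      unfold Ecomp
      simp
    rw [this]
    exact Module.Free.of_equiv (Algebra.botEquivOfInjective hRA).symm.toLinearEquiv
  | insert j₀ J hj₀ ih =>
    have h1 : Ecomp R A Gi (insert j₀ J) = Ecomp R A Gi J ⊔ Fix R A (Gperp Gi j₀) := by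
      unfold Ecomp
      rw [Finset.iSup_insert, sup_comm]
    rw [h1]
    haveI := hfree j₀
    haveI := ih
    have hld : (Fix R A (Gi j₀)).LinearDisjoint (Fix R A (Gperp Gi j₀)) :=
      linearDisjoint_Fix hRA hcomm (Gperp Gi j₀) (Gi j₀) (hsup j₀) (hinf j₀) hfix hfaith
    have hle : Ecomp R A Gi J ≤ Fix R A (Gi j₀) := by
      unfold Ecomp
      refine iSup₂_le fun j hj => Fix_anti (le_Gperp Gi ?_)
      rintro rfl
      exact hj₀ hj
    exact (hld.of_le_left_of_flat hle).sup_free_of_free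

end family

section ufd

variable {R : Type u} {A : Type v} [CommRing R] [CommRing A] [Algebra R A]

/-- a free subalgebra of a domain over a UFD which fills up `A` locally in codimension one is
everything -/
theorem eq_top_of_local [IsDomain R] [UniqueFactorizationMonoid R] [IsDomain A]
    (hRA : Function.Injective (algebraMap R A)) (E : Subalgebra R A) [Module.Free R E]
    (h0 : ∃ s : R, s ≠ 0 ∧ ∀ a : A, algebraMap R A s * a ∈ E)
    (hπ : ∀ π : R, Prime π → ∃ s : R, ¬ π ∣ s ∧ ∀ a : A, algebraMap R A s * a ∈ E) : E = ⊤ := by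
  haveI : Module.IsTorsionFree R A := Module.isTorsionFree_iff_algebraMap_injective.mpr hRA
  haveI : Module.Flat R (Subalgebra.toSubmodule E) :=
    inferInstanceAs (Module.Flat R E)
  rw [eq_top_iff]
  intro a _
  have key : ∀ r : R, r ≠ 0 → r • a ∈ E → a ∈ E := by
    intro r
    induction r using UniqueFactorizationMonoid.induction_on_prime with
    | h₁ => intro h; exact absurd rfl h
    | h₂ x hx =>
      intro _ hxa
      obtain ⟨u, rfl⟩ := hx
      have := E.smul_mem hxa (↑u⁻¹ : R)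
      rwa [smul_smul, Units.inv_mul, one_smul] at this
    | h₃ r p hr hp ih =>
      intro _ hpa
      obtain ⟨s, hps, hs⟩ := hπ p hp
      apply ih hr
      have hreg : ∀ a b : R, s * a = p * b → ∃ t, a = p * t := by
        intro a b hab
        have h1 : p ∣ s * a := ⟨b, hab⟩
        exact (hp.dvd_or_dvd h1).resolve_left hps
      have hxw : p • (r • a) ∈ Subalgebra.toSubmodule E := by
        rw [smul_smul]
        exact hpa
      have hyw : s • (r • a) ∈ Subalgebra.toSubmodule E := by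
        rw [smul_comm]
        apply E.smul_mem
        have := hs a
        rwa [← Algebra.smul_def] at this
      exact Groth.Agent.H36.CHRNF.mem_of_smul_mem_of_flat p s hp.ne_zero hreg
        (Subalgebra.toSubmodule E) (r • a) hxw hyw
  obtain ⟨s, hs0, hs⟩ := h0
  apply key s hs0
  have := hs a
  rwa [← Algebra.smul_def] at this

end ufd

end Groth.Agent.H36.GalComp
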