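import Groth.Agent.H36.GalComp3

set_option autoImplicit false
set_option linter.unusedSectionVars false
set_option linter.unusedVariables false
set_option linter.style.haveILetI false
universe u v w

namespace Groth.Agent.H36.GalComp

open Pointwise

section group

variable {H : Type*} [Group H] [Finite H] {κ : Type*} [Fintype κ] [DecidableEq κ]
  (Gi : κ → Subgroup H)

theorem normal_of_comm (hcomm : ∀ g h : H, g * h = h * g) (K : Subgroup H) : K.Normal :=
  ⟨fun n hn g => by rw [hcomm g n, mul_inv_cancel_right]; exact hn⟩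

theorem card_sup_le (hcomm : ∀ g h : H, g * h = h * g) (K L : Subgroup H) :
    Nat.card ↥(K ⊔ L) ≤ Nat.card K * Nat.card L := by
  haveI := normal_of_comm hcomm L
  have h1 : ((K ⊔ L : Subgroup H) : Set H) = (K : Set H) * (L : Set H) := Subgroup.mul_normal K L
  have h2 : Nat.card ↥(K ⊔ L) = Nat.card ((K : Set H) * (L : Set H) : Set H) := by
    rw [← h1]
    rfl
  rw [h2]
  exact Set.natCard_mul_le

theorem card_biSup_le (hcomm : ∀ g h : H, g * h = h * g) (p : ℕ) (hp : ∀ i, Nat.card (Gi i) = p)
    (S : Finset κ) : Nat.card ↥(⨆ j ∈ S, Gi j) ≤ p ^ S.card := by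
  induction S using Finset.induction_on with
  | empty => simp
  | insert a S ha ih =>
    rw [Finset.iSup_insert, Finset.card_insert_of_notMem ha, pow_succ']
    refine le_trans (card_sup_le hcomm _ _) ?_
    rw [hp a]
    exact Nat.mul_le_mul_left p ih

theorem gperp_props (hcomm : ∀ g h : H, g * h = h * g) (p : ℕ) [Fact p.Prime]
    (hcard : Nat.card H = p ^ Fintype.card κ) (hp : ∀ i, Nat.card (Gi i) = p)
    (hsup : (⨆ i, Gi i) = ⊤) (j : κ) :
    Gperp Gi j ⊔ Gi j = ⊤ ∧ Gperp Gi j ⊓ Gi j = ⊥ := by
  have h1 : Gperp Gi j ⊔ Gi j = ⊤ := by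
    rw [eq_top_iff, ← hsup]
    refine iSup_le fun i => ?_
    by_cases hij : i = j
    · subst hij
      exact le_sup_right
    · exact le_trans (le_Gperp Gi hij) le_sup_left
  refine ⟨h1, ?_⟩
  have h2 : Nat.card ↥(Gperp Gi j) ≤ p ^ (Fintype.card κ - 1) := by
    have := card_biSup_le Gi hcomm p hp (Finset.univ.erase j)
    rwa [Finset.card_erase_of_mem (Finset.mem_univ j), Finset.card_univ] at this
  have h3 : ¬ Gi j ≤ Gperp Gi j := by
    intro hle
    have h4 : Gperp Gi j = ⊤ := by
      rw [← h1]
      exact (sup_eq_left.mpr hle).symm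
    rw [h4, Subgroup.card_top, hcard] at h2
    have hpos : 0 < Fintype.card κ := Fintype.card_pos_iff.mpr ⟨j⟩
    have : p ^ (Fintype.card κ - 1) < p ^ Fintype.card κ :=
      Nat.pow_lt_pow_right (Fact.out : p.Prime).one_lt (by omega)
    omega
  haveI : Fact (Nat.card ↥(Gi j)).Prime := ⟨by rw [hp j]; exact Fact.out⟩
  rcases Subgroup.eq_bot_or_eq_top_of_prime_card ((Gperp Gi j).subgroupOf (Gi j)) with h | h
  · rw [Subgroup.subgroupOf_eq_bot] at h
    exact h.eq_bot
  · rw [Subgroup.subgroupOf_eq_top] at h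
    exact absurd h h3

end group

section ht

variable {R : Type u} {A : Type v} [CommRing R] [CommRing A] [Algebra R A] [IsDomain R]
  [UniqueFactorizationMonoid R] [IsDomain A] [Algebra.IsIntegral R A]

theorem height_eq_one_of_comap_eq_span (hRA : Function.Injective (algebraMap R A)) (π : R)
    (hπ : Prime π) (P : Ideal A) [P.IsPrime]
    (hP : P.comap (algebraMap R A) = Ideal.span {π}) : P.height = 1 := by
  apply le_antisymm
  · have : P.height ≤ ((1 : ℕ) : ℕ∞) := by
      rw [Ideal.height_le_iff]
      intro q hq hqP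
      have h1 : q.comap (algebraMap R A) < P.comap (algebraMap R A) :=
        Ideal.IsIntegral.comap_lt_comap hqP
      rw [hP] at h1
      have h2 : q.comap (algebraMap R A) = ⊥ := by
        by_contra hne
        obtain ⟨x, hxq, hx⟩ := Ideal.IsPrime.exists_mem_prime_of_ne_bot
          (Ideal.comap_isPrime (algebraMap R A) q) hne
        have h3 : x ∈ Ideal.span {π} := h1.le hxq
        rw [Ideal.mem_span_singleton] at h3
        obtain ⟨c, rfl⟩ := h3
        have hc : IsUnit c := (hx.irreducible.isUnit_or_isUnit rfl).resolve_left hπ.not_isUnit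
        have h4 : π ∈ q.comap (algebraMap R A) := by
          obtain ⟨u, rfl⟩ := hc
          have := Ideal.mul_mem_right (↑u⁻¹ : R) _ hxq
          rwa [mul_assoc, Units.mul_inv, mul_one] at this
        have h5 : Ideal.span {π} ≤ q.comap (algebraMap R A) :=
          (Ideal.span_singleton_le_iff_mem _).mpr h4
        exact absurd h1 (not_lt_of_ge h5)
      have h6 : q = ⊥ := Ideal.eq_bot_of_comap_eq_bot h2
      rw [h6, Ideal.height_bot]
      exact zero_lt_one
    simpa using this
  · rw [Order.one_le_iff_ne_zero, Ne, Ideal.height_eq_zero_iff_eq_bot]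
    intro hbot
    have h1 : π ∈ P.comap (algebraMap R A) := by
      rw [hP]
      exact Ideal.mem_span_singleton_self π
    rw [hbot, Ideal.mem_comap, Ideal.mem_bot] at h1
    exact hπ.ne_zero (hRA (h1.trans (map_zero _).symm))

end ht

section conj

variable {A : Type v} [CommRing A] {H : Type*} [Group H] [MulSemiringAction H A]

theorem inertia_smul_le (hcomm : ∀ g h : H, g * h = h * g) (g : H) (P : Ideal A) :
    (g • P).inertia H ≤ P.inertia H := by
  intro σ hσ x
  have h1 : σ • g • x - g • x ∈ g • P := hσ (g • x)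
  show σ • x - x ∈ P
  rw [Ideal.mem_pointwise_smul_iff_inv_smul_mem, smul_sub, inv_smul_smul, smul_smul, smul_smul,
    hcomm g⁻¹ σ, mul_assoc, inv_mul_cancel, mul_one] at h1
  exact h1

end conj

section final

/-- the main theorem: the fixed rings of the complementary subgroups generate `A` -/
theorem compositum_eq_top (p : ℕ) [Fact p.Prime] (R : Type u) [CommRing R] [IsDomain R]
    [UniqueFactorizationMonoid R] (A : Type v) [CommRing A] [IsDomain A] [Algebra R A]
    (hinj : Function.Injective (algebraMap R A))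
    (H : Type w) [Group H] [Finite H] [MulSemiringAction H A] [SMulCommClass H R A]
    [FaithfulSMul H A]
    (hfix : ∀ a : A, (∀ h : H, h • a = a) → a ∈ Set.range (algebraMap R A))
    (hcomm : ∀ g h : H, g * h = h * g)
    {κ : Type*} [Fintype κ] [DecidableEq κ] (hcard : Nat.card H = p ^ Fintype.card κ)
    (Gi : κ → Subgroup H) (hGi : ∀ i, Nat.card (Gi i) = p) (hsup : (⨆ i, Gi i) = ⊤)
    (hMR3 : ∀ P : Ideal A, P.IsPrime → P.height = 1 → P.inertia H ≠ ⊥ →
      ∃ i, P.inertia H = Gi i)
    (hMR4 : ∀ i, Module.Free R (Fix R A (Gperp Gi i))) :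
    Ecomp R A Gi Finset.univ = ⊤ := by
  classical
  by_cases hκ : IsEmpty κ
  · have h1 : Nat.card H = 1 := by
      rw [hcard, Fintype.card_eq_zero, pow_zero]
    have h2 : Subsingleton H := (Nat.card_eq_one_iff_unique.mp h1).1
    rw [eq_top_iff]
    intro a _
    obtain ⟨r, rfl⟩ := hfix a (fun h => by rw [Subsingleton.elim h 1, one_smul])
    exact Subalgebra.algebraMap_mem _ r
  rw [not_isEmpty_iff] at hκ
  obtain ⟨i₀⟩ := hκ
  haveI : Algebra.IsInvariant R A H := ⟨fun a ha => hfix a ha⟩
  haveI : Algebra.IsIntegral R A := Algebra.IsInvariant.isIntegral R A H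
  have hfaith : ∀ h : H, (∀ a : A, h • a = a) → h = 1 := by
    intro h hh
    apply FaithfulSMul.eq_of_smul_eq_smul (α := A)
    intro a
    rw [hh a, one_smul]
  have props := fun j => gperp_props Gi hcomm p hcard hGi hsup j
  haveI : Module.Free R (Ecomp R A Gi Finset.univ) :=
    free_Ecomp Gi hinj hcomm (fun j => (props j).1) (fun j => (props j).2) hfix hfaith hMR4 _
  apply eq_top_of_local hinj
  · haveI : (⊥ : Ideal R).IsPrime := Ideal.isPrime_bot
    obtain ⟨s, hs, h⟩ := exists_smul_mem_Ecomp_univ Gi hcomm (fun j => (props j).1)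
      (fun j => (props j).2) hfix (⊥ : Ideal R) i₀ (by
        intro P hP hP0
        have hPbot : P = ⊥ := Ideal.eq_bot_of_comap_eq_bot hP0
        intro σ hσ
        have h1 : σ = 1 := by
          apply hfaith
          intro a
          have := hσ a
          rw [hPbot] at this
          exact sub_eq_zero.mp this
        rw [h1]
        exact (Gi i₀).one_mem)
    exact ⟨s, fun h0 => hs (h0 ▸ Ideal.zero_mem _), h⟩
  · intro π hπ
    haveI : (Ideal.span {π} : Ideal R).IsPrime :=
      (Ideal.span_singleton_prime hπ.ne_zero).mpr hπ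
    have hi : ∃ i, ∀ P : Ideal A, P.IsPrime → P.comap (algebraMap R A) = Ideal.span {π} →
        P.inertia H ≤ Gi i := by
      by_cases hex : ∃ P : Ideal A, P.IsPrime ∧ P.comap (algebraMap R A) = Ideal.span {π} ∧
          P.inertia H ≠ ⊥
      · obtain ⟨P₀, hP₀, hP₀π, hP₀i⟩ := hex
        have hht : P₀.height = 1 := height_eq_one_of_comap_eq_span hinj π hπ P₀ hP₀π
        obtain ⟨i, hi⟩ := hMR3 P₀ hP₀ hht hP₀i
        refine ⟨i, fun P hP hPπ => ?_⟩
        obtain ⟨g, hg⟩ := Algebra.IsInvariant.exists_smul_of_under_eq R A H P₀ P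
          (hP₀π.trans hPπ.symm)
        rw [hg, ← hi]
        exact inertia_smul_le hcomm g P₀
      · push Not at hex
        refine ⟨i₀, fun P hP hPπ => ?_⟩
        rw [hex P hP hPπ]
        exact bot_le
    obtain ⟨i, hi⟩ := hi
    obtain ⟨s, hs, h⟩ := exists_smul_mem_Ecomp_univ Gi hcomm (fun j => (props j).1)
      (fun j => (props j).2) hfix (Ideal.span {π}) i hi
    refine ⟨s, fun hdvd => hs ?_, h⟩
    rw [Ideal.mem_span_singleton]
    exact hdvd

end final

end Groth.Agent.H36.GalComp
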