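import Mathlib

/-!
# Geometric irreducibility of `Spec K → Spec k` via tensor products
-/


set_option autoImplicit false
universe u

namespace Groth.Agent.H36.GeomIrrBridge

open AlgebraicGeometry CategoryTheory Limits TensorProduct

/-- Geometric irreducibility of `Spec K → Spec k` in terms of tensor products. -/
theorem geomIrr_spec_iff {k K : Type u} [Field k] [Field K] [Algebra k K] :
    GeometricallyIrreducible (Spec.map (CommRingCat.ofHom (algebraMap k K))) ↔
      ∀ (k' : Type u) [Field k'] [Algebra k k'], IrreducibleSpace (PrimeSpectrum (k' ⊗[k] K)) := by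
  rw [geometricallyIrreducible_iff, geometrically_iff_of_commRing_of_isClosedUnderIsomorphisms]
  refine forall_congr' (fun k' => forall_congr' (fun _ => forall_congr' (fun _ => ?_)))
  have e1 := (pullbackSpecIso k K k').hom.homeomorph
  have e2 := PrimeSpectrum.homeomorphOfRingEquiv (Algebra.TensorProduct.comm k K k').toRingEquiv
  constructor
  · intro h
    have h1 : IrreducibleSpace ↥(Spec (CommRingCat.of (K ⊗[k] k'))) := e1.irreducibleSpace_iff.mp h
    have h2 : IrreducibleSpace (PrimeSpectrum (K ⊗[k] k')) := h1
    exact e2.irreducibleSpace_iff.mp h2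
  · intro h
    have h2 : IrreducibleSpace (PrimeSpectrum (K ⊗[k] k')) := e2.irreducibleSpace_iff.mpr h
    have h1 : IrreducibleSpace ↥(Spec (CommRingCat.of (K ⊗[k] k'))) := h2
    exact e1.irreducibleSpace_iff.mpr h1

end Groth.Agent.H36.GeomIrrBridge
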