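import Mathlib

/-!
# Twisting a ring homomorphism out of a `ℤ`-graded ring by a unit
-/

set_option autoImplicit false
universe u v

namespace Groth.Agent.H36.GradedTwist

open DirectSum

variable {R : Type u} [CommRing R] (𝒜 : ℤ → AddSubgroup R) [GradedRing 𝒜]
  {B : Type v} [CommRing B] (ρ : R →+* B) (w : Bˣ)

/-- homogeneous components of the twisted map -/
noncomputable def twistComp (i : ℤ) : 𝒜 i →+ B :=
  (AddMonoidHom.mulRight ((w ^ i : Bˣ) : B)).comp (ρ.toAddMonoidHom.comp (𝒜 i).subtype)

theorem twistComp_apply (i : ℤ) (a : 𝒜 i) :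
    twistComp 𝒜 ρ w i a = ρ (a : R) * ((w ^ i : Bˣ) : B) := rfl

/-- the ring homomorphism `r ↦ ∑ ρ(r_i) w^i` -/
noncomputable def twist : R →+* B :=
  (DirectSum.toSemiring (A := fun i => 𝒜 i) (twistComp 𝒜 ρ w)
    (by
      rw [twistComp_apply]
      simp [SetLike.coe_gOne])
    (fun {i j} ai aj => by
      rw [twistComp_apply, twistComp_apply, twistComp_apply, SetLike.coe_gMul, map_mul, zpow_add,
        Units.val_mul]
      ring)).comp (decomposeRingEquiv 𝒜).toRingHom

theorem twist_of_mem {i : ℤ} {a : R} (ha : a ∈ 𝒜 i) :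
    twist 𝒜 ρ w a = ρ a * ((w ^ i : Bˣ) : B) := by
  unfold twist
  simp only [RingEquiv.toRingHom_eq_coe, RingHom.coe_comp, RingHom.coe_coe, Function.comp_apply]
  have : decomposeRingEquiv 𝒜 a = DirectSum.of (fun i => 𝒜 i) i ⟨a, ha⟩ := decompose_of_mem 𝒜 ha
  rw [this, DirectSum.toSemiring_of, twistComp_apply]

/-- two ring homomorphisms out of `R` agree if they agree on homogeneous elements -/
theorem ringHom_ext_homogeneous {B' : Type*} [Semiring B'] {f g : R →+* B'}
    (h : ∀ (i : ℤ) (a : R), a ∈ 𝒜 i → f a = g a) : f = g := by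
  ext r
  induction r using DirectSum.Decomposition.inductionOn 𝒜 with
  | zero => simp
  | @homogeneous i a => exact h i a a.2
  | add m m' hm hm' => rw [map_add, map_add, hm, hm']

end Groth.Agent.H36.GradedTwist
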