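import Mathlib

/-!
An upper bound for the lengths `length (R ⧸ I ^ n)` where `I` is generated by `d` elements:
`length (R ⧸ I ^ (n + 1)) ≤ multichoose (d + 1) n * length (R ⧸ I)`.
-/

set_option autoImplicit false
universe u

namespace Groth.Agent.H36

section

variable {R : Type u} [CommRing R]

/-- products of generators indexed by multisets lie in the corresponding power -/
theorem multiset_prod_mem_pow {d : ℕ} (g : Fin d → R) (m : Multiset (Fin d)) :
    (m.map g).prod ∈ (Ideal.span (Set.range g)) ^ (Multiset.card m) := by
  induction m using Multiset.induction with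
  | empty => simp
  | cons i m ih =>
    rw [Multiset.map_cons, Multiset.prod_cons, Multiset.card_cons, pow_succ']
    exact Ideal.mul_mem_mul (Ideal.subset_span ⟨i, rfl⟩) ih

/-- the `j`-th power of an ideal is generated by the monomials of degree `j` in the generators -/
theorem pow_le_span_sym {d : ℕ} (g : Fin d → R) (j : ℕ) :
    (Ideal.span (Set.range g)) ^ j ≤
      Ideal.span (Set.range (fun s : Sym (Fin d) j => ((s : Multiset (Fin d)).map g).prod)) := by
  induction j with
  | zero =>
    rw [pow_zero, Ideal.one_eq_top]
    apply le_of_eq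
    symm
    rw [Ideal.eq_top_iff_one]
    apply Ideal.subset_span
    exact ⟨Sym.nil, by simp⟩
  | succ j ih =>
    rw [pow_succ]
    refine (Ideal.mul_mono_left ih).trans ?_
    rw [Ideal.span_mul_span']
    apply Ideal.span_mono
    rintro _ ⟨a, ⟨s, rfl⟩, b, ⟨i, rfl⟩, rfl⟩
    refine ⟨i ::ₛ s, ?_⟩
    simp only [Sym.coe_cons, Multiset.map_cons, Multiset.prod_cons]
    ring

/-- a module generated by a finite family and killed by `I` has length at most the number of
generators times the length of `R ⧸ I` -/
theorem length_span_range_le {M : Type*} [AddCommGroup M] [Module R M] (I : Ideal R)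
    {ι : Type*} [Fintype ι] (v : ι → M) (hv : ∀ a ∈ I, ∀ i, a • v i = 0) :
    Module.length R (Submodule.span R (Set.range v)) ≤
      (Fintype.card ι : ℕ∞) * Module.length R (R ⧸ I) := by
  classical
  let ψ : (ι → R ⧸ I) →ₗ[R] M :=
    ∑ i, (Submodule.liftQ I (LinearMap.toSpanSingleton R M (v i)) (by
      intro a ha
      simpa [LinearMap.mem_ker] using hv a ha i)) ∘ₗ LinearMap.proj i
  have hψ : ∀ (i : ι), ψ (Pi.single i 1) = v i := by
    intro i
    simp only [ψ, LinearMap.sum_apply, LinearMap.coe_comp, Function.comp_apply,
      LinearMap.proj_apply]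
    rw [Finset.sum_eq_single i]
    · rw [Pi.single_eq_same]
      show Submodule.liftQ I (LinearMap.toSpanSingleton R M (v i)) _ (Submodule.Quotient.mk 1) = _
      rw [Submodule.liftQ_apply]
      simp
    · intro j _ hj
      rw [Pi.single_eq_of_ne hj, map_zero]
    · intro h; exact absurd (Finset.mem_univ i) h
  have hle : Submodule.span R (Set.range v) ≤ LinearMap.range ψ := by
    rw [Submodule.span_le]
    rintro _ ⟨i, rfl⟩
    exact ⟨_, hψ i⟩
  calc Module.length R (Submodule.span R (Set.range v))
      ≤ Module.length R (LinearMap.range ψ) :=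
        Module.length_le_of_injective (Submodule.inclusion hle) (Submodule.inclusion_injective hle)
    _ ≤ Module.length R (ι → R ⧸ I) :=
        Module.length_le_of_surjective ψ.rangeRestrict ψ.surjective_rangeRestrict
    _ = (Fintype.card ι : ℕ∞) * Module.length R (R ⧸ I) := by
        rw [Module.length_pi, ENat.card_eq_coe_fintype_card]

/-- the key inductive bound -/
theorem length_quotient_pow_succ_le {d : ℕ} (g : Fin d → R) (n : ℕ) :
    Module.length R (R ⧸ (Ideal.span (Set.range g)) ^ (n + 1)) ≤
      (Nat.multichoose (d + 1) n : ℕ∞) * Module.length R (R ⧸ Ideal.span (Set.range g)) := by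
  classical
  set I := Ideal.span (Set.range g) with hI
  induction n with
  | zero =>
    rw [zero_add, pow_one, Nat.multichoose_zero_right, Nat.cast_one, one_mul]
  | succ n ih =>
    have hle : I ^ (n + 1 + 1) ≤ I ^ (n + 1) := Ideal.pow_le_pow_right (Nat.le_succ _)
    let π : (R ⧸ I ^ (n + 1 + 1)) →ₗ[R] (R ⧸ I ^ (n + 1)) := Submodule.factor hle
    have hπ : Function.Surjective π := Submodule.factor_surjective hle
    have hadd := Module.length_eq_add_of_exact (LinearMap.ker π).subtype π
      (Submodule.subtype_injective _) hπ (LinearMap.exact_subtype_ker_map π)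
    -- generators of the kernel
    let v : Sym (Fin d) (n + 1) → (R ⧸ I ^ (n + 1 + 1)) :=
      fun s => Submodule.Quotient.mk (((s : Multiset (Fin d)).map g).prod)
    have hv : ∀ a ∈ I, ∀ s, a • v s = 0 := by
      intro a ha s
      show a • Submodule.Quotient.mk (((s : Multiset (Fin d)).map g).prod) = 0
      rw [← Submodule.Quotient.mk_smul, Submodule.Quotient.mk_eq_zero, smul_eq_mul,
        pow_succ' I (n + 1)]
      apply Ideal.mul_mem_mul ha
      have := multiset_prod_mem_pow g (s : Multiset (Fin d))
      rwa [Sym.card_coe] at this
    have hker : LinearMap.ker π ≤ Submodule.span R (Set.range v) := by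
      intro k hk
      obtain ⟨r, rfl⟩ := Submodule.Quotient.mk_surjective _ k
      have hr : r ∈ I ^ (n + 1) := by
        rw [LinearMap.mem_ker] at hk
        have : π (Submodule.Quotient.mk r) = Submodule.Quotient.mk r := rfl
        rw [this, Submodule.Quotient.mk_eq_zero] at hk
        exact hk
      have hr' := pow_le_span_sym g (n + 1) hr
      have hmap : Submodule.map (Submodule.mkQ (I ^ (n + 1 + 1)))
          (Ideal.span (Set.range (fun s : Sym (Fin d) (n + 1) =>
            ((s : Multiset (Fin d)).map g).prod))) = Submodule.span R (Set.range v) := by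
        rw [Ideal.span, Submodule.map_span, ← Set.range_comp]
        rfl
      rw [← hmap]
      exact ⟨r, hr', rfl⟩
    have hlenK : Module.length R (LinearMap.ker π) ≤
        (Nat.multichoose d (n + 1) : ℕ∞) * Module.length R (R ⧸ I) := by
      calc Module.length R (LinearMap.ker π)
          ≤ Module.length R (Submodule.span R (Set.range v)) :=
            Module.length_le_of_injective (Submodule.inclusion hker)
              (Submodule.inclusion_injective hker)
        _ ≤ (Fintype.card (Sym (Fin d) (n + 1)) : ℕ∞) * Module.length R (R ⧸ I) :=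
            length_span_range_le I v hv
        _ = (Nat.multichoose d (n + 1) : ℕ∞) * Module.length R (R ⧸ I) := by
            rw [Sym.card_sym_eq_multichoose, Fintype.card_fin]
    rw [hadd, Nat.multichoose_succ_succ, Nat.cast_add, add_mul]
    exact add_le_add hlenK ih

end

end Groth.Agent.H36
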