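import Groth.Agent.H36.HorrocksLattice
import Groth.Agent.H36.BassProj

/-!
# Affine Horrocks

Let `R` be a local ring and `M` a finitely generated projective `R[X]`-module with linear maps
`φ : M → R[X]^n`, `ψ : R[X]^n → M` whose composites are multiplication by monic polynomials.
Then `M` is free.
-/

namespace Groth.Agent.H36

open Polynomial IsLocalRing

section conv

variable {R : Type*} [CommRing R]

theorem coeff_mem_of_mem_smul_top (I : Ideal R) (p : R[X])
    (hp : p ∈ I • (⊤ : Submodule R R[X])) (j : ℕ) : p.coeff j ∈ I := by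
  refine Submodule.smul_induction_on hp ?_ ?_
  · intro a ha q _
    rw [Polynomial.coeff_smul, smul_eq_mul]
    exact I.mul_mem_right _ ha
  · intro x y hx hy
    rw [Polynomial.coeff_add]
    exact I.add_mem hx hy

theorem map_C_smul_le {M : Type*} [AddCommGroup M] [Module R M] [Module R[X] M]
    [IsScalarTower R R[X] M] (I : Ideal R) (P : Submodule R[X] M) (x : M)
    (hx : x ∈ (Ideal.map (C : R →+* R[X]) I) • P) : x ∈ I • P.restrictScalars R := by
  refine Submodule.smul_induction_on hx ?_ ?_
  · intro i hi p hp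
    have key : ∀ i ∈ Ideal.map (C : R →+* R[X]) I, ∀ p ∈ P, i • p ∈ I • P.restrictScalars R := by
      intro i hi
      rw [Ideal.map] at hi
      refine Submodule.span_induction ?_ ?_ ?_ ?_ hi
      · rintro _ ⟨a, ha, rfl⟩ p hp
        rw [← Polynomial.algebraMap_eq, algebraMap_smul]
        exact Submodule.smul_mem_smul ha hp
      · intro p _
        rw [zero_smul]; exact Submodule.zero_mem _
      · intro x y _ _ hx hy p hp
        rw [add_smul]; exact Submodule.add_mem _ (hx p hp) (hy p hp)
      · intro r x _ hx p hp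
        rw [smul_eq_mul, mul_comm, mul_smul]
        exact hx _ (P.smul_mem r hp)
    exact key i hi p hp
  · intro x y hx hy
    exact Submodule.add_mem _ hx hy

end conv

section affine

variable {R : Type*} [CommRing R] [IsLocalRing R]
variable {M : Type*} [AddCommGroup M] [Module R[X] M] [Module.Finite R[X] M]
  [Module.Projective R[X] M]

theorem free_of_lattice_data (n : ℕ)
    (φ : M →ₗ[R[X]] (Fin n → R[X])) (ψ : (Fin n → R[X]) →ₗ[R[X]] M)
    (f₁ f₂ : R[X]) (hf₁ : f₁.Monic) (hf₂ : f₂.Monic)
    (h₁ : ∀ m, ψ (φ m) = f₁ • m) (h₂ : ∀ v, φ (ψ v) = f₂ • v) :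
    Module.Free R[X] M := by
  classical
  let _ : Module R M := Module.compHom M (C : R →+* R[X])
  have : IsScalarTower R R[X] M := IsScalarTower.of_compHom R R[X] M
  set m := maximalIdeal R with hm
  -- `φ` is injective
  have hreg₁ : IsSMulRegular M f₁ :=
    Module.Flat.isSMulRegular_of_nonZeroDivisors hf₁.mem_nonZeroDivisors
  have hφinj : Function.Injective φ := by
    rw [← LinearMap.ker_eq_bot, LinearMap.ker_eq_bot']
    intro x hx
    have : f₁ • x = f₁ • (0 : M) := by rw [← h₁, hx, map_zero, smul_zero]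
    exact hreg₁ this
  have hψinj : Function.Injective ψ := by
    rw [← LinearMap.ker_eq_bot, LinearMap.ker_eq_bot']
    intro v hv
    have h : f₂ • v = 0 := by rw [← h₂, hv, map_zero]
    ext i : 1
    have := congrFun h i
    simp only [Pi.smul_apply, smul_eq_mul, Pi.zero_apply] at this
    exact (hf₂.mem_nonZeroDivisors |> mem_nonZeroDivisors_iff.mp).2 _ (by rwa [mul_comm] at this) |>.symm ▸ rfl
  set P : Submodule R[X] (Fin n → R[X]) := LinearMap.range φ with hP
  have hPfg : P.FG := by
    rw [hP, LinearMap.range_eq_map]; exact Submodule.FG.map _ Module.Finite.fg_top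
  have hfP : ∀ v : Fin n → R[X], f₂ • v ∈ P := fun v => ⟨ψ v, h₂ v⟩
  have hc : ∀ x ∈ P, (∀ i j, (x i).coeff j ∈ m) → x ∈ m • P.restrictScalars R := by
    rintro _ ⟨m₀, rfl⟩ hcoeff
    have hf2x : f₂ • φ m₀ ∈ m • P.restrictScalars R := by
      have := map_mem_smul_of_coeff_mem
        ((LinearMap.lsmul R[X] (Fin n → R[X]) f₂).restrictScalars R) (P.restrictScalars R) m
        (fun i j => hfP _) (φ m₀) hcoeff
      simpa using this
    set φR : M →ₗ[R] (Fin n → R[X]) := φ.restrictScalars R with hφR
    have hPR : P.restrictScalars R = (⊤ : Submodule R M).map φR := by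
      ext x
      simp [hP, hφR]
    rw [hPR, ← Submodule.map_smul''] at hf2x
    obtain ⟨y, hy, hyx⟩ := hf2x
    have hy' : y = f₂ • m₀ := hφinj (by rw [map_smul]; exact hyx)
    have hdual : ∀ l : M →ₗ[R[X]] R[X], l m₀ ∈ Ideal.map (C : R →+* R[X]) m := by
      intro l
      have h1 : (l.restrictScalars R) y ∈ m • (⊤ : Submodule R R[X]) := by
        have : (m • (⊤ : Submodule R M)).map (l.restrictScalars R) ≤ m • ⊤ := by
          rw [Submodule.map_smul'']; exact Submodule.smul_mono le_rfl le_top
        exact this ⟨y, hy, rfl⟩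
      rw [hy'] at h1
      have h2 : f₂ * l m₀ ∈ Ideal.map (C : R →+* R[X]) m := by
        rw [Ideal.mem_map_C_iff]
        intro j
        have := coeff_mem_of_mem_smul_top m _ h1 j
        simpa using this
      have hprime : (Ideal.map (C : R →+* R[X]) m).IsPrime :=
        Ideal.isPrime_map_C_of_isPrime
      refine (hprime.mem_or_mem h2).resolve_left ?_
      intro hf
      rw [Ideal.mem_map_C_iff] at hf
      have := hf f₂.natDegree
      rw [hf₂.coeff_natDegree] at this
      exact (Ideal.ne_top_iff_one m).mp (IsLocalRing.maximalIdeal.isMaximal R).ne_top this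
    have hm₀ := mem_smul_top_of_forall_dual_mem (Ideal.map (C : R →+* R[X]) m) m₀ hdual
    have : φ m₀ ∈ (Ideal.map (C : R →+* R[X]) m) • P := by
      rw [hP, LinearMap.range_eq_map, ← Submodule.map_smul'']
      exact ⟨m₀, hm₀, rfl⟩
    exact map_C_smul_le m P _ this
  obtain ⟨g, hg⟩ := exists_span_eq_of_lattice n P hPfg f₂ hf₂ hfP hc
  have hgP : ∀ i, g i ∈ P := fun i => hg ▸ Submodule.subset_span ⟨i, rfl⟩
  choose mg hmg using hgP
  set Θ : (Fin n → R[X]) →ₗ[R[X]] M := Fintype.linearCombination R[X] mg with hΘ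
  have hΘsurj : Function.Surjective Θ := by
    intro x
    have hx : φ x ∈ Submodule.span R[X] (Set.range g) := by rw [hg]; exact ⟨x, rfl⟩
    obtain ⟨a, ha⟩ := (Submodule.mem_span_range_iff_exists_fun R[X]).mp hx
    refine ⟨a, hφinj ?_⟩
    rw [← ha]
    simp [hΘ, Fintype.linearCombination_apply, map_sum, hmg]
  have := OrzechProperty.bijective_of_surjective_of_injective ψ Θ hψinj hΘsurj
  exact Module.Free.of_equiv (LinearEquiv.ofBijective Θ this)

end affine

end Groth.Agent.H36
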