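import Mathlib

/-!
# Degree-bounded complements of finite-codimension lattices in `k[X]^n`

For a field `k` and a `k[X]`-submodule `P` of `k[X]^n` containing `d • k[X]^n` for some `d ≠ 0`,
there are exponents `c i` such that the `k`-space of vectors `w` with `deg (w i) < c i` is a complement
of `P`.
-/

namespace Groth.Agent.H36

open Polynomial

/-- Vectors of polynomials whose `i`-th coordinate has degree `< c i`. -/
noncomputable def degLTPi (R : Type*) [CommRing R] {n : ℕ} (c : Fin n → ℕ) :
    Submodule R (Fin n → R[X]) :=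
  Submodule.pi Set.univ (fun i => Polynomial.degreeLT R (c i))

theorem mem_degLTPi {R : Type*} [CommRing R] {n : ℕ} {c : Fin n → ℕ} {v : Fin n → R[X]} :
    v ∈ degLTPi R c ↔ ∀ i, (v i).degree < c i := by
  simp [degLTPi, Submodule.mem_pi, Polynomial.mem_degreeLT]

/-- The linear map `v ↦ (0, v)`. -/
noncomputable def consZeroL (R : Type*) [CommRing R] (n : ℕ) :
    (Fin n → R) →ₗ[R] (Fin (n + 1) → R) where
  toFun v := Fin.cons 0 v
  map_add' v w := by
    ext i
    refine Fin.cases ?_ (fun j => ?_) i <;> simp
  map_smul' a v := by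
    ext i
    refine Fin.cases ?_ (fun j => ?_) i <;> simp

@[simp] theorem consZeroL_apply {R : Type*} [CommRing R] {n : ℕ} (v : Fin n → R) :
    consZeroL R n v = Fin.cons 0 v := rfl

theorem exists_degLT_compl (k : Type*) [Field k] :
    ∀ (n : ℕ) (P : Submodule k[X] (Fin n → k[X])) (d : k[X]), d ≠ 0 → (∀ v : Fin n → k[X], d • v ∈ P) →
      ∃ c : Fin n → ℕ, (∀ v : Fin n → k[X], ∃ w ∈ degLTPi k c, v - w ∈ P) ∧
        (∀ w ∈ degLTPi k c, w ∈ P → w = 0) := by
  intro n
  induction n with
  | zero =>
    intro P d _ _
    refine ⟨fun i => i.elim0, fun v => ⟨0, Submodule.zero_mem _, ?_⟩, fun w _ _ => ?_⟩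
    · have : v - 0 = 0 := by ext i; exact i.elim0
      rw [this]; exact Submodule.zero_mem _
    · ext i; exact i.elim0
  | succ n ih =>
    intro P d hd hP
    -- the sublattice of vectors with vanishing first coordinate
    set P' : Submodule k[X] (Fin n → k[X]) := P.comap (consZeroL k[X] n) with hP'
    have hP'd : ∀ v, d • v ∈ P' := by
      intro v
      rw [hP', Submodule.mem_comap, map_smul]
      exact hP _
    obtain ⟨c', hspan', hind'⟩ := ih P' d hd hP'd
    -- the ideal of first coordinates
    set J : Ideal k[X] := P.map (LinearMap.proj (0 : Fin (n + 1))) with hJ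
    have hdJ : d ∈ J := by
      rw [hJ, Submodule.mem_map]
      refine ⟨d • Pi.single 0 1, hP _, ?_⟩
      simp
    obtain ⟨q, hq⟩ : ∃ q, J = Ideal.span {q} := ⟨_, (Ideal.span_singleton_generator J).symm⟩
    have hq0 : q ≠ 0 := by
      rintro rfl
      rw [hq] at hdJ
      simp at hdJ
      exact hd hdJ
    have hqJ : q ∈ J := by rw [hq]; exact Ideal.mem_span_singleton_self q
    obtain ⟨vq, hvqP, hvq0⟩ : ∃ vq ∈ P, vq 0 = q := by
      rw [hJ, Submodule.mem_map] at hqJ
      obtain ⟨vq, h1, h2⟩ := hqJ
      exact ⟨vq, h1, h2⟩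
    refine ⟨Fin.cons q.natDegree c', ?_, ?_⟩
    · intro u
      set a := u 0 / q with ha
      set r := u 0 % q with hr
      have hdiv : q * a + r = u 0 := EuclideanDomain.div_add_mod (u 0) q
      obtain ⟨w', hw', hw'P⟩ := hspan' (Fin.tail (u - a • vq))
      refine ⟨Fin.cons r w', ?_, ?_⟩
      · rw [mem_degLTPi]
        intro i
        refine Fin.cases ?_ (fun j => ?_) i
        · simp only [Fin.cons_zero]
          calc r.degree < q.degree := Polynomial.degree_mod_lt _ hq0
            _ = q.natDegree := Polynomial.degree_eq_natDegree hq0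
        · simp only [Fin.cons_succ]
          exact (mem_degLTPi.mp hw') j
      · have h1 : u - Fin.cons r w' =
            a • vq + consZeroL k[X] n (Fin.tail (u - a • vq) - w') := by
          ext i
          refine Fin.cases ?_ (fun j => ?_) i
          · simp only [Pi.sub_apply, Fin.cons_zero, Pi.add_apply, Pi.smul_apply, smul_eq_mul,
              consZeroL_apply, hvq0]
            rw [← hdiv]; ring_nf
          · simp only [Pi.sub_apply, Fin.cons_succ, Pi.add_apply, Pi.smul_apply, smul_eq_mul,
              consZeroL_apply, Fin.tail]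
            ring_nf
        rw [h1]
        exact P.add_mem (P.smul_mem _ hvqP) hw'P
    · intro w hw hwP
      have hw0 : w 0 = 0 := by
        have h1 : w 0 ∈ J := by
          rw [hJ, Submodule.mem_map]
          exact ⟨w, hwP, rfl⟩
        rw [hq, Ideal.mem_span_singleton] at h1
        refine Polynomial.eq_zero_of_dvd_of_degree_lt h1 ?_
        have := (mem_degLTPi.mp hw) 0
        simp only [Fin.cons_zero] at this
        rwa [Polynomial.degree_eq_natDegree hq0]
      have hwt : w = consZeroL k[X] n (Fin.tail w) := by
        ext i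
        refine Fin.cases ?_ (fun j => ?_) i
        · simp [hw0]
        · simp [Fin.tail]
      have h2 : Fin.tail w ∈ P' := by
        rw [hP', Submodule.mem_comap, ← hwt]; exact hwP
      have h3 : Fin.tail w ∈ degLTPi k c' := by
        rw [mem_degLTPi]
        intro j
        have := (mem_degLTPi.mp hw) j.succ
        simpa [Fin.tail] using this
      have h4 := hind' _ h3 h2
      rw [hwt, h4]
      ext i
      refine Fin.cases ?_ (fun j => ?_) i <;> simp

end Groth.Agent.H36
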