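import Mathlib

/-!
# From an extended module to a Zariski cover with free restrictions
-/

namespace Groth.Agent.H36

open Polynomial TensorProduct

universe u v w

section proj

variable (R : Type u) [CommRing R] (P₀ : Type v) [AddCommGroup P₀] [Module R P₀]

/-- if `R[X] ⊗[R] P₀` is projective over `R[X]` then `P₀` is projective over `R`. -/
theorem projective_of_polynomial_tensor [Module.Projective R[X] (R[X] ⊗[R] P₀)] :
    Module.Projective R P₀ := by
  letI : Algebra R[X] R := (Polynomial.evalRingHom (0 : R)).toAlgebra
  haveI : IsScalarTower R R[X] R := IsScalarTower.of_algebraMap_eq fun a => by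
    simp [RingHom.algebraMap_toAlgebra]
  have h : Module.Projective R (R ⊗[R[X]] (R[X] ⊗[R] P₀)) := inferInstance
  exact Module.Projective.of_equiv'
    ((TensorProduct.AlgebraTensorModule.cancelBaseChange R R[X] R R P₀).trans
      (TensorProduct.lid R P₀))

/-- a finitely generated projective module is free on a finite cover by basic open sets. -/
theorem exists_cover_free [Module.Finite R P₀] [Module.Projective R P₀] :
    ∃ (n : ℕ) (g : Fin n → R), Ideal.span (Set.range g) = ⊤ ∧
      ∀ i, Module.Free (Localization.Away (g i))
        (LocalizedModule (Submonoid.powers (g i)) P₀) := by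
  set S : Set R := {r | Module.Free (Localization.Away r) (LocalizedModule (Submonoid.powers r) P₀)}
    with hS
  have htop : Ideal.span S = ⊤ := by
    by_contra hne
    obtain ⟨m, hm, hle⟩ := Ideal.exists_le_maximal _ hne
    haveI : Module.FinitePresentation R P₀ := Module.finitePresentation_of_projective R P₀
    haveI : Module.Free (Localization.AtPrime m) (LocalizedModule m.primeCompl P₀) :=
      Module.free_of_flat_of_isLocalRing
    obtain ⟨r, hr, hfree, _⟩ := Module.FinitePresentation.exists_free_localizedModule_powers
      m.primeCompl (LocalizedModule.mkLinearMap m.primeCompl P₀) (Localization.AtPrime m)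
    exact hr (hle (Ideal.subset_span hfree))
  obtain ⟨s', hs', hspan⟩ := (Ideal.span_eq_top_iff_finite S).mp htop
  refine ⟨s'.card, fun i => (s'.equivFin.symm i : R), ?_, fun i => ?_⟩
  · have : Set.range (fun i => (s'.equivFin.symm i : R)) = (s' : Set R) := by
      ext x
      constructor
      · rintro ⟨i, rfl⟩
        exact (s'.equivFin.symm i).2
      · intro hx
        exact ⟨s'.equivFin ⟨x, hx⟩, by simp⟩
    rw [this, hspan]
  · exact hs' (s'.equivFin.symm i).2

end proj

section loc

variable {R : Type u} [CommRing R] (g : R) (P₀ : Type v) [AddCommGroup P₀] [Module R P₀]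
  (P : Type w) [AddCommGroup P] [Module R[X] P]

/-- if `P ≃ R[X] ⊗ P₀` and `P₀` becomes free after inverting `g`, then `P` becomes free after
inverting `C g`. -/
theorem free_localized_of_extended
    [hfree : Module.Free (Localization.Away g) (LocalizedModule (Submonoid.powers g) P₀)]
    (E : P ≃ₗ[R[X]] R[X] ⊗[R] P₀) :
    Module.Free (Localization.Away (Polynomial.C g : R[X]))
      (LocalizedModule (Submonoid.powers (Polynomial.C g : R[X])) P) := by
  set B := Localization.Away (Polynomial.C g : R[X]) with hB
  set Rg := Localization.Away g with hRg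
  have hunit : IsUnit (algebraMap R B g) := by
    have : algebraMap R B g = algebraMap R[X] B (Polynomial.C g) := by
      rw [IsScalarTower.algebraMap_apply R R[X] B]
      rfl
    rw [this]
    exact IsLocalization.Away.algebraMap_isUnit (Polynomial.C g)
  letI : Algebra Rg B := (IsLocalization.Away.lift g hunit).toAlgebra
  haveI : IsScalarTower R Rg B := IsScalarTower.of_algebraMap_eq fun a => by
    rw [RingHom.algebraMap_toAlgebra, IsLocalization.Away.lift_eq]
  -- the base ring side
  have h5 : Module.Free Rg (Rg ⊗[R] P₀) :=
    Module.Free.of_equiv (LocalizedModule.equivTensorProduct (Submonoid.powers g) P₀)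
  have h6 : Module.Free B (B ⊗[Rg] (Rg ⊗[R] P₀)) := inferInstance
  have h4 : Module.Free B (B ⊗[R] P₀) :=
    Module.Free.of_equiv (TensorProduct.AlgebraTensorModule.cancelBaseChange R Rg B B P₀)
  have h3 : Module.Free B (B ⊗[R[X]] (R[X] ⊗[R] P₀)) :=
    Module.Free.of_equiv (TensorProduct.AlgebraTensorModule.cancelBaseChange R R[X] B B P₀).symm
  have h2 : Module.Free B (B ⊗[R[X]] P) :=
    Module.Free.of_equiv
      (TensorProduct.AlgebraTensorModule.congr (LinearEquiv.refl B B) E).symm
  exact Module.Free.of_equiv
    (LocalizedModule.equivTensorProduct (Submonoid.powers (Polynomial.C g : R[X])) P).symm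

end loc

end Groth.Agent.H36
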