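import Groth.Agent.H36.HorrocksPatch

namespace Groth.Agent.H36

open Polynomial Matrix

section descent

variable {A : Type*} [CommRing A] (M : Submonoid A) {B : Type*} [CommRing B] [Algebra A B]
  [IsLocalization M B]

attribute [local instance] Polynomial.algebra

theorem algebraMap_eq_map2 :
    (algebraMap A[X][X] B[X][X]) = map2 (algebraMap A B) := rfl

theorem exists_C_C_eq_of_mem {c : A[X][X]} (hc : c ∈ (M.map (C : A →+* A[X])).map
    (C : A[X] →+* A[X][X])) : ∃ s ∈ M, c = C (C s) := by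
  obtain ⟨c', hc', rfl⟩ := hc
  obtain ⟨s, hs, rfl⟩ := hc'
  exact ⟨s, hs, rfl⟩

/-- killing: elements vanishing at `y = 0` and after localisation are killed by some `y ↦ u y` -/
theorem exists_rho_eq_zero {ι : Type*} [Finite ι] (z : ι → A[X][X])
    (hz0 : ∀ i, ev0 (z i) = 0) (hz : ∀ i, map2 (algebraMap A B) (z i) = 0) :
    ∃ u ∈ M, ∀ i, rho u (z i) = 0 := by
  classical
  cases nonempty_fintype ι
  have : IsLocalization (M.map (C : A →+* A[X])) B[X] := Polynomial.isLocalization M B
  have : IsLocalization ((M.map (C : A →+* A[X])).map (C : A[X] →+* A[X][X])) B[X][X] :=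
    Polynomial.isLocalization (M.map (C : A →+* A[X])) B[X]
  have h1 : ∀ i, ∃ c : ((M.map (C : A →+* A[X])).map (C : A[X] →+* A[X][X])),
      (c : A[X][X]) * z i = 0 := by
    intro i
    exact (IsLocalization.map_eq_zero_iff _ B[X][X] (z i)).mp (hz i)
  choose c hc using h1
  set cc := ∏ i, c i with hcc
  obtain ⟨u, hu, hcu⟩ := exists_C_C_eq_of_mem M cc.2
  refine ⟨u, hu, fun i => ?_⟩
  have hci : (cc : A[X][X]) * z i = 0 := by
    rw [hcc, ← Finset.mul_prod_erase Finset.univ c (Finset.mem_univ i)]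
    push_cast
    rw [mul_comm ((c i : A[X][X])), mul_assoc, hc i, mul_zero]
  have hz : z i = (z i).divX * X := by
    conv_lhs => rw [← Polynomial.divX_mul_X_add (z i)]
    have : (z i).coeff 0 = 0 := by
      have := hz0 i
      rwa [ev0, Polynomial.coe_evalRingHom, ← Polynomial.coeff_zero_eq_eval_zero] at this
    rw [this, map_zero, add_zero]
  rw [hz, map_mul, rho_X, ← mul_assoc, mul_comm _ (C (C u)), ← rho_C u (C u), ← map_mul,
    ← Polynomial.divX_C_mul, ← hcu, hci]
  simp

/-- lifting: after `y ↦ s y`, elements of `B[x,y]` whose value at `y = 0` is integral are integral -/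
theorem exists_lift_rho {ι : Type*} [Finite ι] (w : ι → B[X][X]) (w₀ : ι → A[X])
    (hw : ∀ i, ev0 (w i) = (w₀ i).map (algebraMap A B)) :
    ∃ s ∈ M, ∃ w' : ι → A[X][X],
      (∀ i, map2 (algebraMap A B) (w' i) = rho (algebraMap A B s) (w i)) ∧
      ∀ i, ev0 (w' i) = w₀ i := by
  classical
  have : IsLocalization (M.map (C : A →+* A[X])) B[X] := Polynomial.isLocalization M B
  have : IsLocalization ((M.map (C : A →+* A[X])).map (C : A[X] →+* A[X][X])) B[X][X] :=
    Polynomial.isLocalization (M.map (C : A →+* A[X])) B[X]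
  obtain ⟨b, hb⟩ := IsLocalization.exist_integer_multiples_of_finite
    ((M.map (C : A →+* A[X])).map (C : A[X] →+* A[X][X])) (fun i => (w i).divX)
  obtain ⟨s, hs, hbs⟩ := exists_C_C_eq_of_mem M b.2
  choose w'' hw'' using hb
  refine ⟨s, hs, fun i => C (w₀ i) + X * rho s (w'' i), fun i => ?_, fun i => ?_⟩
  · have h1 : map2 (algebraMap A B) (w'' i) = C (C (algebraMap A B s)) * (w i).divX := by
      have := hw'' i
      rw [Algebra.smul_def, hbs] at this
      rw [← algebraMap_eq_map2, this, algebraMap_eq_map2]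
      simp
    have h2 : map2 (algebraMap A B) (rho s (w'' i)) =
        rho (algebraMap A B s) (map2 (algebraMap A B) (w'' i)) :=
      RingHom.congr_fun (map2_comp_rho (algebraMap A B) s) (w'' i)
    have h3 : (w i).coeff 0 = (w₀ i).map (algebraMap A B) := by
      rw [← hw i, ev0, Polynomial.coe_evalRingHom, ← Polynomial.coeff_zero_eq_eval_zero]
    rw [map_add, map_mul, map2_C, map2_X, h2, h1, map_mul, rho_C]
    conv_rhs => rw [← Polynomial.divX_mul_X_add (w i), map_add, map_mul, rho_X, rho_C, h3]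
    ring
  · simp

variable {r : ℕ}

theorem exists_mem_patchSet_of_local (e : Matrix (Fin r) (Fin r) A[X]) (he : e * e = e)
    (n : ℕ) (p : Matrix (Fin r) (Fin n) B[X]) (q : Matrix (Fin n) (Fin r) B[X])
    (hqp : q * p = 1) (hpq : p * q = e.map (Polynomial.mapRingHom (algebraMap A B))) :
    ∃ g ∈ M, g ∈ PatchSet e := by
  classical
  obtain ⟨l, hl⟩ : ∃ l : A →+* B, l = algebraMap A B := ⟨_, rfl⟩
  obtain ⟨eB, heB⟩ : ∃ eB, eB = e.map (Polynomial.mapRingHom l) := ⟨_, rfl⟩
  rw [← hl, ← heB] at hpq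
  have hqp' : ∀ g : B, q.map (sft g) * p.map (sft g) = 1 := by
    intro g; rw [← Matrix.map_mul, hqp, Matrix.map_one _ (map_zero _) (map_one _)]
  have hpq' : ∀ g : B, p.map (sft g) * q.map (sft g) = eB.map (sft g) := by
    intro g; rw [← Matrix.map_mul, hpq]
  obtain ⟨a₁, ha₁⟩ : ∃ a₁, a₁ = p.map (sft (0 : B)) * q.map (sft (1 : B)) := ⟨_, rfl⟩
  obtain ⟨b₁, hb₁⟩ : ∃ b₁, b₁ = p.map (sft (1 : B)) * q.map (sft (0 : B)) := ⟨_, rfl⟩
  have hmvn : IsMvN (eB.map (sft 1)) (eB.map (sft 0)) a₁ b₁ := by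
    constructor
    · calc a₁ * b₁ = p.map (sft 0) * (q.map (sft 1) * p.map (sft 1)) * q.map (sft 0) := by
            simp only [ha₁, hb₁, Matrix.mul_assoc]
        _ = _ := by rw [hqp', Matrix.mul_one, hpq']
    · calc b₁ * a₁ = p.map (sft 1) * (q.map (sft 0) * p.map (sft 0)) * q.map (sft 1) := by
            simp only [ha₁, hb₁, Matrix.mul_assoc]
        _ = _ := by rw [hqp', Matrix.mul_one, hpq']
    · calc eB.map (sft 0) * a₁
          = p.map (sft 0) * (q.map (sft 0) * p.map (sft 0)) * q.map (sft 1) := by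
            simp only [ha₁, ← hpq', Matrix.mul_assoc]
        _ = _ := by rw [hqp', Matrix.mul_one, ha₁]
    · calc a₁ * eB.map (sft 1)
          = p.map (sft 0) * (q.map (sft 1) * p.map (sft 1)) * q.map (sft 1) := by
            simp only [ha₁, ← hpq', Matrix.mul_assoc]
        _ = _ := by rw [hqp', Matrix.mul_one, ha₁]
    · calc eB.map (sft 1) * b₁
          = p.map (sft 1) * (q.map (sft 1) * p.map (sft 1)) * q.map (sft 0) := by
            simp only [hb₁, ← hpq', Matrix.mul_assoc]
        _ = _ := by rw [hqp', Matrix.mul_one, hb₁]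
    · calc b₁ * eB.map (sft 0)
          = p.map (sft 1) * (q.map (sft 0) * p.map (sft 0)) * q.map (sft 0) := by
            simp only [hb₁, ← hpq', Matrix.mul_assoc]
        _ = _ := by rw [hqp', Matrix.mul_one, hb₁]
  have hmap_id : ∀ (g : B) {k k' : ℕ} (N : Matrix (Fin k) (Fin k') B[X]),
      (N.map (sft g)).map ev0 = N := by
    intro g k k' N
    rw [matrix_map_comp, ev0_comp_sft]; ext i j; simp
  have ha₁0 : a₁.map ev0 = eB := by
    rw [ha₁, Matrix.map_mul, hmap_id, hmap_id, hpq]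
  have hb₁0 : b₁.map ev0 = eB := by
    rw [hb₁, Matrix.map_mul, hmap_id, hmap_id, hpq]
  -- lifting
  obtain ⟨s, hs, w', hw', hw'0⟩ := exists_lift_rho M
    (fun t : Bool × Fin r × Fin r => if t.1 then a₁ t.2.1 t.2.2 else b₁ t.2.1 t.2.2)
    (fun t : Bool × Fin r × Fin r => e t.2.1 t.2.2) (by
      rintro ⟨b, i, j⟩
      cases b
      · simpa [heB, hl] using congrFun (congrFun hb₁0 i) j
      · simpa [heB, hl] using congrFun (congrFun ha₁0 i) j)
  rw [← hl] at hw'
  obtain ⟨at', hat'⟩ : ∃ at' : Matrix (Fin r) (Fin r) A[X][X],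
    at' = Matrix.of fun i j => w' (true, i, j) := ⟨_, rfl⟩
  obtain ⟨bt', hbt'⟩ : ∃ bt' : Matrix (Fin r) (Fin r) A[X][X],
    bt' = Matrix.of fun i j => w' (false, i, j) := ⟨_, rfl⟩
  have hat1 : at'.map (map2 l) = a₁.map (rho (l s)) := by
    refine Matrix.ext fun i j => ?_
    simpa [hat'] using hw' (true, i, j)
  have hbt1 : bt'.map (map2 l) = b₁.map (rho (l s)) := by
    refine Matrix.ext fun i j => ?_
    simpa [hbt'] using hw' (false, i, j)
  have hat0 : at'.map ev0 = e := by
    refine Matrix.ext fun i j => ?_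
    simpa [hat'] using hw'0 (true, i, j)
  have hbt0 : bt'.map ev0 = e := by
    refine Matrix.ext fun i j => ?_
    simpa [hbt'] using hw'0 (false, i, j)
  have he_g : ∀ g : A, e.map (sft g) * e.map (sft g) = e.map (sft g) := by
    intro g; rw [← Matrix.map_mul, he]
  have he_map : ∀ g : A, (e.map (sft g)).map (map2 l) = eB.map (sft (l g)) := by
    intro g
    rw [matrix_map_comp, map2_comp_sft, ← matrix_map_comp, ← heB]
  have he_ev0 : ∀ g : A, (e.map (sft g)).map ev0 = e := by
    intro g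
    rw [matrix_map_comp, ev0_comp_sft]; ext i j; simp
  have hmvn' := hmvn.map (rho (l s))
  rw [matrix_map_comp, matrix_map_comp, rho_comp_sft, rho_comp_sft, mul_one, mul_zero] at hmvn'
  obtain ⟨a₂, ha₂⟩ : ∃ a₂, a₂ = e.map (sft 0) * at' * e.map (sft s) := ⟨_, rfl⟩
  obtain ⟨b₂, hb₂⟩ : ∃ b₂, b₂ = e.map (sft s) * bt' * e.map (sft 0) := ⟨_, rfl⟩
  have ha₂1 : a₂.map (map2 l) = a₁.map (rho (l s)) := by
    rw [ha₂, Matrix.map_mul, Matrix.map_mul, he_map, he_map, hat1, map_zero, hmvn'.ea, hmvn'.ae]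
  have hb₂1 : b₂.map (map2 l) = b₁.map (rho (l s)) := by
    rw [hb₂, Matrix.map_mul, Matrix.map_mul, he_map, he_map, hbt1, map_zero, hmvn'.eb, hmvn'.be]
  have ha₂0 : a₂.map ev0 = e := by
    rw [ha₂, Matrix.map_mul, Matrix.map_mul, he_ev0, he_ev0, hat0, he, he]
  have hb₂0 : b₂.map ev0 = e := by
    rw [hb₂, Matrix.map_mul, Matrix.map_mul, he_ev0, he_ev0, hbt0, he, he]
  -- killing
  obtain ⟨z, hz⟩ : ∃ z, z = a₂ * b₂ - e.map (sft 0) := ⟨_, rfl⟩
  obtain ⟨z', hz'⟩ : ∃ z', z' = b₂ * a₂ - e.map (sft s) := ⟨_, rfl⟩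
  have hz1 : z.map (map2 l) = 0 := by
    rw [hz, Matrix.map_sub _ (map_sub _), Matrix.map_mul, ha₂1, hb₂1, he_map, map_zero, hmvn'.ab,
      sub_self]
  have hz'1 : z'.map (map2 l) = 0 := by
    rw [hz', Matrix.map_sub _ (map_sub _), Matrix.map_mul, ha₂1, hb₂1, he_map, hmvn'.ba, sub_self]
  have hz0 : z.map ev0 = 0 := by
    rw [hz, Matrix.map_sub _ (map_sub _), Matrix.map_mul, ha₂0, hb₂0, he_ev0, he, sub_self]
  have hz'0 : z'.map ev0 = 0 := by
    rw [hz', Matrix.map_sub _ (map_sub _), Matrix.map_mul, ha₂0, hb₂0, he_ev0, he, sub_self]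
  obtain ⟨u, hu, hkill⟩ := exists_rho_eq_zero (B := B) M
    (fun t : Bool × Fin r × Fin r => if t.1 then z t.2.1 t.2.2 else z' t.2.1 t.2.2)
    (by
      rintro ⟨b, i, j⟩
      cases b
      · simpa using congrFun (congrFun hz'0 i) j
      · simpa using congrFun (congrFun hz0 i) j)
    (by
      rintro ⟨b, i, j⟩
      cases b
      · simpa [hl] using congrFun (congrFun hz'1 i) j
      · simpa [hl] using congrFun (congrFun hz1 i) j)
  have hzu : z.map (rho u) = 0 := by
    refine Matrix.ext fun i j => ?_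
    simpa using hkill (true, i, j)
  have hz'u : z'.map (rho u) = 0 := by
    refine Matrix.ext fun i j => ?_
    simpa using hkill (false, i, j)
  have he_rho : ∀ g : A, (e.map (sft g)).map (rho u) = e.map (sft (u * g)) := by
    intro g; rw [matrix_map_comp, rho_comp_sft]
  refine ⟨u * s, M.mul_mem hu hs, a₂.map (rho u), b₂.map (rho u), ?_, ?_, ?_⟩
  · constructor
    · have : (a₂ * b₂).map (rho u) = e.map (sft 0) := by
        have h := hzu
        rw [hz, Matrix.map_sub _ (map_sub _), he_rho, mul_zero, sub_eq_zero] at h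
        exact h
      rw [← Matrix.map_mul, this]
    · have : (b₂ * a₂).map (rho u) = e.map (sft (u * s)) := by
        have h := hz'u
        rw [hz', Matrix.map_sub _ (map_sub _), he_rho, sub_eq_zero] at h
        exact h
      rw [← Matrix.map_mul, this]
    · have h0 : e.map (sft 0) = (e.map (sft 0)).map (rho u) := by rw [he_rho, mul_zero]
      rw [h0, ← Matrix.map_mul, ha₂, ← Matrix.mul_assoc, ← Matrix.mul_assoc, he_g]
    · rw [← he_rho, ← Matrix.map_mul, ha₂, Matrix.mul_assoc, he_g]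
    · rw [← he_rho, ← Matrix.map_mul, hb₂, ← Matrix.mul_assoc, ← Matrix.mul_assoc, he_g]
    · have h0 : e.map (sft 0) = (e.map (sft 0)).map (rho u) := by rw [he_rho, mul_zero]
      rw [h0, ← Matrix.map_mul, hb₂, Matrix.mul_assoc, he_g]
  · rw [matrix_map_comp, ev0_comp_rho, ha₂0]
  · rw [matrix_map_comp, ev0_comp_rho, hb₂0]

end descent

/-- **Local-global principle** (matrix form): an idempotent matrix over `A[X]` whose range is free
over `A_m[X]` for every maximal ideal `m` is Murray–von Neumann equivalent to its value at `X = 0`. -/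
theorem exists_isMvN_of_local {A : Type*} [CommRing A] {r : ℕ}
    (e : Matrix (Fin r) (Fin r) A[X]) (he : e * e = e)
    (h : ∀ (m : Ideal A) [m.IsMaximal], ∃ (n : ℕ)
      (p : Matrix (Fin r) (Fin n) (Localization.AtPrime m)[X])
      (q : Matrix (Fin n) (Fin r) (Localization.AtPrime m)[X]), q * p = 1 ∧
      p * q = e.map (Polynomial.mapRingHom (algebraMap A (Localization.AtPrime m)))) :
    ∃ a b : Matrix (Fin r) (Fin r) A[X],
      IsMvN e ((e.map (Polynomial.evalRingHom 0)).map (C : A →+* A[X])) a b := by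
  have htop : patchIdeal e he = ⊤ := by
    by_contra hne
    obtain ⟨m, hm, hle⟩ := Ideal.exists_le_maximal _ hne
    obtain ⟨n, p, q, hqp, hpq⟩ := h m
    obtain ⟨g, hg, hgQ⟩ := exists_mem_patchSet_of_local m.primeCompl e he n p q hqp hpq
    exact hg (hle hgQ)
  have h1 : (1 : A) ∈ patchIdeal e he := by rw [htop]; trivial
  obtain ⟨a, b, hab, -, -⟩ := h1
  have := hab.map fin0
  rw [matrix_map_comp, matrix_map_comp, fin0_comp_sft_one, fin0_comp_sft_zero] at this
  refine ⟨a.map fin0, b.map fin0, ?_⟩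
  convert this using 1
  · refine Matrix.ext fun i j => ?_
    simp
  · rw [matrix_map_comp]

end Groth.Agent.H36
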