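import Groth.Agent.H36.HorrocksMain

/-!
# Gluing a lattice on the chart at infinity, and descent of isomorphisms along `A → A(t)`-like maps

* `glueSub`: for `a b : R` spanning the unit ideal, finitely generated projective `R`-modules
  `F F'` and maps `α β` between `R_a ⊗ F`, `R_a ⊗ F'` with composites `b`, the module glued from
  `F` over `D(a)` and `F'` over `D(b)`, realized as a submodule of `F'`.
* `equiv_of_laurent_lattice`: if `A[T;T⁻¹] ⊗ P` and `A[T;T⁻¹] ⊗ P'` are related by maps whose
  composites are multiplication by some `g ∈ 1 + X A[X]`, then `P ≃ P'`.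
-/

namespace Groth.Agent.H36

open Polynomial LaurentPolynomial TensorProduct

section general

variable {R : Type*} [CommRing R]

/-- a localization map restricted to a submodule that contains a multiple of every element is
still a localization map. -/
theorem isLocalizedModule_comp_subtype (S : Submonoid R) {M M' : Type*} [AddCommGroup M]
    [Module R M] [AddCommGroup M'] [Module R M'] (f : M →ₗ[R] M') [IsLocalizedModule S f]
    (N : Submodule R M) (h : ∀ x : M, ∃ s : S, (s : R) • x ∈ N) :
    IsLocalizedModule S (f ∘ₗ N.subtype) where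
  map_units := IsLocalizedModule.map_units f
  surj y := by
    obtain ⟨⟨x, s⟩, hx⟩ := IsLocalizedModule.surj S f y
    obtain ⟨s', hs'⟩ := h x
    refine ⟨⟨⟨(s' : R) • x, hs'⟩, s' * s⟩, ?_⟩
    simp only [LinearMap.coe_comp, Submodule.coe_subtype, Function.comp_apply, map_smul]
    rw [← hx, mul_smul]
    rfl
  exists_of_eq := by
    intro x₁ x₂ h12
    obtain ⟨c, hc⟩ := IsLocalizedModule.exists_of_eq (S := S) (f := f) h12
    exact ⟨c, Subtype.ext hc⟩

/-- an element of `R` which becomes a unit in `B` acts invertibly on every `B`-module. -/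
theorem isUnit_algebraMap_end_of_isUnit (B : Type*) [CommRing B] [Algebra R B] (M : Type*)
    [AddCommGroup M] [Module R M] [Module B M] [IsScalarTower R B M] (s : R)
    (hs : IsUnit (algebraMap R B s)) : IsUnit (algebraMap R (Module.End R M) s) := by
  rw [Module.End.isUnit_iff]
  obtain ⟨u, hu⟩ := hs
  refine Function.bijective_iff_has_inverse.mpr ⟨fun x => ((u⁻¹ : Bˣ) : B) • x, ?_, ?_⟩
  · intro x
    simp only [Module.algebraMap_end_apply]
    rw [← algebraMap_smul B s x, ← hu, smul_smul, Units.inv_mul, one_smul]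
  · intro x
    simp only [Module.algebraMap_end_apply]
    rw [← algebraMap_smul B s, ← hu, smul_smul, Units.mul_inv, one_smul]

theorem isUnit_algebraMap_end_of_mem_powers (B : Type*) [CommRing B] [Algebra R B] (M : Type*)
    [AddCommGroup M] [Module R M] [Module B M] [IsScalarTower R B M] (a : R)
    (ha : IsUnit (algebraMap R B a)) (s : Submonoid.powers a) :
    IsUnit (algebraMap R (Module.End R M) (s : R)) := by
  obtain ⟨k, hk⟩ := s.2
  refine isUnit_algebraMap_end_of_isUnit B M _ ?_
  rw [← hk, map_pow]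
  exact ha.pow k

/-- base change of a localization map at `a` along `R → B` with `a` invertible in `B` is
bijective. -/
theorem baseChange_bijective_of_isLocalizedModule (a : R) {N N' : Type*} [AddCommGroup N]
    [Module R N] [AddCommGroup N'] [Module R N'] (f : N →ₗ[R] N')
    [IsLocalizedModule (Submonoid.powers a) f] (B : Type*) [CommRing B] [Algebra R B]
    (ha : IsUnit (algebraMap R B a)) : Function.Bijective (f.baseChange B) := by
  set ℓ : N' →ₗ[R] B ⊗[R] N := IsLocalizedModule.lift (Submonoid.powers a) f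
    (TensorProduct.mk R B N 1) (isUnit_algebraMap_end_of_mem_powers B (B ⊗[R] N) a ha) with hℓ
  have hℓf : ∀ n : N, ℓ (f n) = (1 : B) ⊗ₜ[R] n := fun n => by
    rw [hℓ, IsLocalizedModule.lift_apply]; rfl
  have hcomp : ((f.baseChange B).restrictScalars R) ∘ₗ ℓ = TensorProduct.mk R B N' 1 := by
    refine IsLocalizedModule.ext (Submonoid.powers a) f
      (isUnit_algebraMap_end_of_mem_powers B (B ⊗[R] N') a ha) ?_
    refine LinearMap.ext fun n => ?_
    simp only [LinearMap.coe_comp, Function.comp_apply, LinearMap.coe_restrictScalars, hℓf,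
      LinearMap.baseChange_tmul, TensorProduct.mk_apply]
  refine Function.bijective_iff_has_inverse.mpr ⟨LinearMap.liftBaseChange B ℓ, ?_, ?_⟩
  · intro z
    induction z using TensorProduct.induction_on with
    | zero => simp
    | tmul b n =>
      rw [LinearMap.baseChange_tmul, LinearMap.liftBaseChange_tmul, hℓf, TensorProduct.smul_tmul',
        smul_eq_mul, mul_one]
    | add x y hx hy => rw [map_add, map_add, hx, hy]
  · intro w
    induction w using TensorProduct.induction_on with
    | zero => simp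
    | tmul b n' =>
      rw [LinearMap.liftBaseChange_tmul, map_smul]
      have := LinearMap.congr_fun hcomp n'
      simp only [LinearMap.coe_comp, Function.comp_apply, LinearMap.coe_restrictScalars,
        TensorProduct.mk_apply] at this
      rw [this, TensorProduct.smul_tmul', smul_eq_mul, mul_one]
    | add x y hx hy => rw [map_add, map_add, hx, hy]

/-- if `M` and a finitely generated projective `Q` have a common localization at `r`, the
canonical localization of `M` at `r` is finitely generated projective. -/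
theorem finite_projective_localizedAway_of_common (r : R) {M W Q : Type*} [AddCommGroup M]
    [Module R M] [AddCommGroup W] [Module R W] [AddCommGroup Q] [Module R Q] [Module.Finite R Q]
    [Module.Projective R Q] (f₁ : M →ₗ[R] W) (f₂ : Q →ₗ[R] W)
    [IsLocalizedModule (Submonoid.powers r) f₁] [IsLocalizedModule (Submonoid.powers r) f₂] :
    Module.Finite (Localization.Away r) (LocalizedModule (Submonoid.powers r) M) ∧
      Module.Projective (Localization.Away r) (LocalizedModule (Submonoid.powers r) M) := by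
  set e : LocalizedModule (Submonoid.powers r) M ≃ₗ[R] LocalizedModule (Submonoid.powers r) Q :=
    (IsLocalizedModule.linearEquiv (Submonoid.powers r)
      (LocalizedModule.mkLinearMap (Submonoid.powers r) M) f₁).trans
    (IsLocalizedModule.linearEquiv (Submonoid.powers r)
      (LocalizedModule.mkLinearMap (Submonoid.powers r) Q) f₂).symm with he
  set e' := e.extendScalarsOfIsLocalization (Submonoid.powers r) (Localization.Away r) with he'
  exact ⟨Module.Finite.equiv e'.symm, Module.Projective.of_equiv e'.symm⟩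

/-- finitely generated projective is local for a two-element cover. -/
theorem finite_projective_of_cover2 (a b : R) (hab : Ideal.span ({a, b} : Set R) = ⊤)
    (M : Type*) [AddCommGroup M] [Module R M]
    (ha : Module.Finite (Localization.Away a) (LocalizedModule (Submonoid.powers a) M) ∧
      Module.Projective (Localization.Away a) (LocalizedModule (Submonoid.powers a) M))
    (hb : Module.Finite (Localization.Away b) (LocalizedModule (Submonoid.powers b) M) ∧
      Module.Projective (Localization.Away b) (LocalizedModule (Submonoid.powers b) M)) :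
    Module.Finite R M ∧ Module.Projective R M := by
  have hall : ∀ r : ({a, b} : Set R),
      Module.Finite (Localization.Away r.1) (LocalizedModule (Submonoid.powers r.1) M) ∧
      Module.Projective (Localization.Away r.1) (LocalizedModule (Submonoid.powers r.1) M) := by
    rintro ⟨r, hr⟩
    rcases hr with rfl | hr
    · exact ha
    · rw [Set.mem_singleton_iff] at hr
      subst hr
      exact hb
  haveI : Module.FinitePresentation R M := by
    refine Module.FinitePresentation.of_localizationSpan _ hab fun r => ?_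
    haveI := (hall r).1
    haveI := (hall r).2
    exact Module.finitePresentation_of_projective _ _
  haveI : Module.Flat R M := by
    refine Module.flat_of_localized_span R M _ hab fun r => ?_
    haveI := (hall r).2
    exact Module.Flat.trans R (Localization.Away r.1) _
  exact ⟨inferInstance, Module.Flat.projective_of_finitePresentation⟩

end general

section glue

variable {R : Type*} [CommRing R] (a b : R) (Ra : Type*) [CommRing Ra] [Algebra R Ra]
  [IsLocalization.Away a Ra]
  {F F' : Type*} [AddCommGroup F] [Module R F] [AddCommGroup F'] [Module R F']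
  (α : Ra ⊗[R] F →ₗ[Ra] Ra ⊗[R] F') (β : Ra ⊗[R] F' →ₗ[Ra] Ra ⊗[R] F)

/-- the glued module, as a submodule of `F'`. -/
def glueSub : Submodule R F' :=
  Submodule.comap (TensorProduct.mk R Ra F' 1) (LinearMap.range (α.restrictScalars R))

variable {Ra}

theorem mem_glueSub {y : F'} : y ∈ glueSub Ra α ↔ ∃ x, α x = (1 : Ra) ⊗ₜ[R] y := by
  simp [glueSub]

variable (h1 : ∀ x, β (α x) = b • x) (h2 : ∀ y, α (β y) = b • y)
  (hreg : ∀ x : Ra ⊗[R] F, b • x = 0 → x = 0)

include h2 in
theorem smul_mem_glueSub (y : F') : b • y ∈ glueSub Ra α := by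
  rw [mem_glueSub]
  refine ⟨β ((1 : Ra) ⊗ₜ[R] y), ?_⟩
  rw [h2, TensorProduct.tmul_smul]

include h1 hreg in
theorem glue_injective : Function.Injective (α.restrictScalars R) := by
  rw [injective_iff_map_eq_zero]
  intro x hx
  apply hreg
  rw [← h1]
  have : α x = 0 := hx
  rw [this, map_zero]

/-- the localization map of the glued module at `b`. -/
noncomputable def gluePhiB : glueSub Ra α →ₗ[R] LocalizedModule (Submonoid.powers b) F' :=
  LocalizedModule.mkLinearMap (Submonoid.powers b) F' ∘ₗ (glueSub Ra α).subtype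

include h2 in
theorem gluePhiB_isLocalizedModule :
    IsLocalizedModule (Submonoid.powers b) (gluePhiB b α) := by
  refine isLocalizedModule_comp_subtype (Submonoid.powers b)
    (LocalizedModule.mkLinearMap (Submonoid.powers b) F') (glueSub Ra α) fun y => ?_
  exact ⟨⟨b, Submonoid.mem_powers b⟩, smul_mem_glueSub b α β h2 y⟩

/-- the localization map of the glued module at `a`. -/
noncomputable def gluePhiA (hinj : Function.Injective (α.restrictScalars R)) :
    glueSub Ra α →ₗ[R] Ra ⊗[R] F :=
  (LinearEquiv.ofInjective (α.restrictScalars R) hinj).symm.toLinearMap ∘ₗ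
    LinearMap.codRestrict (LinearMap.range (α.restrictScalars R))
      (TensorProduct.mk R Ra F' 1 ∘ₗ (glueSub Ra α).subtype) (fun y => y.2)

theorem alpha_gluePhiA (hinj : Function.Injective (α.restrictScalars R)) (y : glueSub Ra α) :
    α (gluePhiA α hinj y) = (1 : Ra) ⊗ₜ[R] (y : F') := by
  have : (α.restrictScalars R) (gluePhiA α hinj y) =
      ((LinearEquiv.ofInjective (α.restrictScalars R) hinj)
        ((LinearEquiv.ofInjective (α.restrictScalars R) hinj).symm
          (LinearMap.codRestrict (LinearMap.range (α.restrictScalars R))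
      (TensorProduct.mk R Ra F' 1 ∘ₗ (glueSub Ra α).subtype) (fun y => y.2) y)) : Ra ⊗[R] F') := by
    rw [LinearEquiv.ofInjective_apply]
    rfl
  rw [LinearEquiv.apply_symm_apply] at this
  exact this

theorem gluePhiA_isLocalizedModule (hinj : Function.Injective (α.restrictScalars R)) :
    IsLocalizedModule (Submonoid.powers a) (gluePhiA α hinj) where
  map_units s := isUnit_algebraMap_end_of_mem_powers Ra (Ra ⊗[R] F) a
    (IsLocalization.Away.algebraMap_isUnit a) s
  surj x := by
    obtain ⟨⟨y, s⟩, hy⟩ := IsLocalizedModule.surj (Submonoid.powers a)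
      (TensorProduct.mk R Ra F' 1) (α x)
    have hy' : α ((s : R) • x) = (1 : Ra) ⊗ₜ[R] y := by
      have : (α.restrictScalars R) ((s : R) • x) = (s : R) • (α.restrictScalars R) x :=
        map_smul _ _ _
      rw [LinearMap.restrictScalars_apply, LinearMap.restrictScalars_apply] at this
      rw [this]
      exact hy
    have hmem : y ∈ glueSub Ra α := (mem_glueSub α).mpr ⟨_, hy'⟩
    refine ⟨⟨⟨y, hmem⟩, s⟩, ?_⟩
    apply hinj
    show α (s • x) = α (gluePhiA α hinj ⟨y, hmem⟩)
    rw [alpha_gluePhiA]
    exact hy'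
  exists_of_eq := by
    intro y₁ y₂ h12
    have h3 : (1 : Ra) ⊗ₜ[R] (y₁ : F') = (1 : Ra) ⊗ₜ[R] (y₂ : F') := by
      rw [← alpha_gluePhiA α hinj y₁, ← alpha_gluePhiA α hinj y₂, h12]
    obtain ⟨c, hc⟩ := IsLocalizedModule.exists_of_eq (S := Submonoid.powers a)
      (f := TensorProduct.mk R Ra F' 1) h3
    exact ⟨c, Subtype.ext hc⟩

include h1 h2 hreg in
/-- the glued module is finitely generated projective. -/
theorem glueSub_finite_projective [Module.Finite R F] [Module.Projective R F]
    [Module.Finite R F'] [Module.Projective R F']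
    (hab : Ideal.span ({a, b} : Set R) = ⊤) :
    Module.Finite R (glueSub Ra α) ∧ Module.Projective R (glueSub Ra α) := by
  have hinj := glue_injective b α β h1 hreg
  haveI := gluePhiA_isLocalizedModule a α hinj
  haveI := gluePhiB_isLocalizedModule b α β h2
  refine finite_projective_of_cover2 a b hab _ ?_ ?_
  · exact finite_projective_localizedAway_of_common a (gluePhiA α hinj)
      (TensorProduct.mk R Ra F 1)
  · exact finite_projective_localizedAway_of_common b (gluePhiB b α)
      (LocalizedModule.mkLinearMap (Submonoid.powers b) F')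

end glue

section fiber

variable {A : Type*} [CommRing A]

/-- comparison of the fibres at `X = c`. -/
theorem fiber_equiv (c : A) (a : A[X]) (ha : IsUnit (a.eval c)) (Q₀ P₀ : Type*)
    [AddCommGroup Q₀] [Module A Q₀] [AddCommGroup P₀] [Module A P₀]
    {N W : Type*} [AddCommGroup N] [Module A[X] N] [AddCommGroup W] [Module A[X] W]
    (f₁ : N →ₗ[A[X]] W) (f₂ : A[X] ⊗[A] Q₀ →ₗ[A[X]] W)
    [IsLocalizedModule (Submonoid.powers a) f₁] [IsLocalizedModule (Submonoid.powers a) f₂]
    (E : N ≃ₗ[A[X]] A[X] ⊗[A] P₀) : Nonempty (Q₀ ≃ₗ[A] P₀) := by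
  letI : Algebra A[X] A := (Polynomial.evalRingHom c).toAlgebra
  haveI : IsScalarTower A A[X] A := IsScalarTower.of_algebraMap_eq fun r => by
    simp [RingHom.algebraMap_toAlgebra]
  have hunit : IsUnit (algebraMap A[X] A a) := ha
  let u₁ : A ⊗[A[X]] N ≃ₗ[A] A ⊗[A[X]] W :=
    LinearEquiv.ofBijective (f₁.baseChange A)
      (baseChange_bijective_of_isLocalizedModule a f₁ A hunit)
  let u₂ : A ⊗[A[X]] (A[X] ⊗[A] Q₀) ≃ₗ[A] A ⊗[A[X]] W :=
    LinearEquiv.ofBijective (f₂.baseChange A)
      (baseChange_bijective_of_isLocalizedModule a f₂ A hunit)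
  let k₁ : A ⊗[A[X]] (A[X] ⊗[A] Q₀) ≃ₗ[A] Q₀ :=
    (TensorProduct.AlgebraTensorModule.cancelBaseChange A A[X] A A Q₀).trans (TensorProduct.lid A Q₀)
  let k₂ : A ⊗[A[X]] (A[X] ⊗[A] P₀) ≃ₗ[A] P₀ :=
    (TensorProduct.AlgebraTensorModule.cancelBaseChange A A[X] A A P₀).trans (TensorProduct.lid A P₀)
  let v : A ⊗[A[X]] N ≃ₗ[A] A ⊗[A[X]] (A[X] ⊗[A] P₀) :=
    TensorProduct.AlgebraTensorModule.congr (LinearEquiv.refl A A) E
  exact ⟨k₁.symm.trans (u₂.trans (u₁.symm.trans (v.trans k₂)))⟩

end fiber

section core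

variable (A : Type*) [CommRing A]

instance laurentTower : IsScalarTower A A[X] A[T;T⁻¹] :=
  IsScalarTower.of_algebraMap_eq fun a => by
    rw [LaurentPolynomial.algebraMap_eq_toLaurent, Polynomial.algebraMap_apply,
      Algebra.algebraMap_self, RingHom.id_apply, Polynomial.toLaurent_C]
    rfl

variable {A}

theorem mem_nonZeroDivisors_of_coeff_zero (g : A[X]) (hg : g.coeff 0 = 1) :
    g ∈ nonZeroDivisors A[X] := by
  rcases subsingleton_or_nontrivial A with hA | hA
  · rw [mem_nonZeroDivisors_iff_right]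
    intro x _
    exact Subsingleton.elim _ _
  rw [mem_nonZeroDivisors_iff_right]
  intro h hh
  by_contra hne
  have h0 : g.natTrailingDegree = 0 := by
    rw [Polynomial.natTrailingDegree_eq_zero]
    right
    rw [hg]
    exact one_ne_zero
  have h1 := Polynomial.coeff_mul_natTrailingDegree_add_natTrailingDegree (p := h) (q := g)
  rw [hh, Polynomial.coeff_zero] at h1
  have h2 : g.trailingCoeff = 1 := by
    rw [Polynomial.trailingCoeff, h0, hg]
  rw [h2, mul_one] at h1
  exact hne (Polynomial.trailingCoeff_eq_zero.mp h1.symm)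

theorem toLaurent_mem_nonZeroDivisors (g : A[X]) (hg : g.coeff 0 = 1) :
    toLaurent g ∈ nonZeroDivisors A[T;T⁻¹] := by
  have := IsLocalization.map_nonZeroDivisors_le (Submonoid.powers (X : A[X])) A[T;T⁻¹]
  apply this
  exact ⟨g, mem_nonZeroDivisors_of_coeff_zero g hg, rfl⟩

variable (A) (P : Type*) [AddCommGroup P] [Module A P]

/-- `Λ ⊗[A[X]] (A[X] ⊗[A] P) ≃ Λ ⊗[A] P` -/
noncomputable def cancelL :
    A[T;T⁻¹] ⊗[A[X]] (A[X] ⊗[A] P) ≃ₗ[A[T;T⁻¹]] A[T;T⁻¹] ⊗[A] P :=
  TensorProduct.AlgebraTensorModule.cancelBaseChange A A[X] A[T;T⁻¹] A[T;T⁻¹] P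

/-- the twist `t ↦ t⁻¹` on `A[t,t⁻¹] ⊗[A] P`. -/
noncomputable def tauL : A[T;T⁻¹] ⊗[A] P →ₗ[A] A[T;T⁻¹] ⊗[A] P :=
  LinearMap.rTensor P (LaurentPolynomial.invert (R := A)).toLinearMap

theorem tauL_smul (c : A[T;T⁻¹]) (x : A[T;T⁻¹] ⊗[A] P) :
    tauL A P (c • x) = sigma A c • tauL A P x := by
  induction x using TensorProduct.induction_on with
  | zero => simp
  | tmul l p =>
    rw [TensorProduct.smul_tmul']
    simp only [tauL, LinearMap.rTensor_tmul, AlgEquiv.toLinearMap_apply, smul_eq_mul, map_mul]
    rw [TensorProduct.smul_tmul', smul_eq_mul]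
    rfl
  | add x y hx hy => rw [smul_add, map_add, hx, hy, map_add, smul_add]

theorem tauL_tauL (x : A[T;T⁻¹] ⊗[A] P) : tauL A P (tauL A P x) = x := by
  induction x using TensorProduct.induction_on with
  | zero => simp
  | tmul l p =>
    simp only [tauL, LinearMap.rTensor_tmul, AlgEquiv.toLinearMap_apply]
    rw [LaurentPolynomial.involutive_invert l]
  | add x y hx hy => rw [map_add, map_add, hx, hy]

theorem span_X_of_coeff_zero (g : A[X]) (hg : g.coeff 0 = 1) :
    Ideal.span ({X, g} : Set A[X]) = ⊤ := by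
  rw [Ideal.eq_top_iff_one]
  have h : (1 : A[X]) = g - g.divX * X := by
    have h0 := Polynomial.divX_mul_X_add g
    rw [hg, map_one] at h0
    rw [eq_sub_iff_add_eq, add_comm]
    exact h0
  rw [h]
  refine Ideal.sub_mem _ (Ideal.subset_span (by simp)) ?_
  exact Ideal.mul_mem_left _ _ (Ideal.subset_span (by simp))

end core

section main

variable {A : Type*} [CommRing A]

/-- **Descent along Laurent lattices.** If the Laurent extensions of two finitely generated
projective `A`-modules are related by maps whose composites are multiplication by a polynomial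
with constant term one, the modules are isomorphic. -/
theorem equiv_of_laurent_lattice (P P' : Type*)
    [AddCommGroup P] [Module A P] [Module.Finite A P] [Module.Projective A P]
    [AddCommGroup P'] [Module A P'] [Module.Finite A P'] [Module.Projective A P']
    (α : A[T;T⁻¹] ⊗[A] P →ₗ[A[T;T⁻¹]] A[T;T⁻¹] ⊗[A] P')
    (β : A[T;T⁻¹] ⊗[A] P' →ₗ[A[T;T⁻¹]] A[T;T⁻¹] ⊗[A] P) (g : A[X]) (hg : g.coeff 0 = 1)
    (h1 : ∀ x, β (α x) = toLaurent g • x) (h2 : ∀ y, α (β y) = toLaurent g • y) :
    Nonempty (P ≃ₗ[A] P') := by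
  let α' : A[T;T⁻¹] ⊗[A[X]] (A[X] ⊗[A] P) →ₗ[A[T;T⁻¹]] A[T;T⁻¹] ⊗[A[X]] (A[X] ⊗[A] P') :=
    (cancelL A P').symm.toLinearMap ∘ₗ α ∘ₗ (cancelL A P).toLinearMap
  let β' : A[T;T⁻¹] ⊗[A[X]] (A[X] ⊗[A] P') →ₗ[A[T;T⁻¹]] A[T;T⁻¹] ⊗[A[X]] (A[X] ⊗[A] P) :=
    (cancelL A P).symm.toLinearMap ∘ₗ β ∘ₗ (cancelL A P').toLinearMap
  have hsm : ∀ (x : A[T;T⁻¹] ⊗[A[X]] (A[X] ⊗[A] P)),
      g • x = toLaurent g • x := fun x => (algebraMap_smul A[T;T⁻¹] g x).symm
  have hsm' : ∀ (x : A[T;T⁻¹] ⊗[A[X]] (A[X] ⊗[A] P')),
      g • x = toLaurent g • x := fun x => (algebraMap_smul A[T;T⁻¹] g x).symm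
  have h1' : ∀ x, β' (α' x) = g • x := by
    intro x
    simp only [α', β', LinearMap.coe_comp, LinearEquiv.coe_coe, Function.comp_apply,
      LinearEquiv.apply_symm_apply, h1, map_smul, LinearEquiv.symm_apply_apply]
    rw [hsm]
  have h2' : ∀ y, α' (β' y) = g • y := by
    intro y
    simp only [α', β', LinearMap.coe_comp, LinearEquiv.coe_coe, Function.comp_apply,
      LinearEquiv.apply_symm_apply, h2, map_smul, LinearEquiv.symm_apply_apply]
    rw [hsm']
  have hreg : ∀ x : A[T;T⁻¹] ⊗[A[X]] (A[X] ⊗[A] P), g • x = 0 → x = 0 := by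
    intro x hx
    have hr := Module.Flat.isSMulRegular_of_nonZeroDivisors
      (M := A[T;T⁻¹] ⊗[A[X]] (A[X] ⊗[A] P)) (toLaurent_mem_nonZeroDivisors g hg)
    apply hr
    show toLaurent g • x = toLaurent g • 0
    rw [smul_zero, ← hsm, hx]
  have hab := span_X_of_coeff_zero A g hg
  obtain ⟨hfin, hproj⟩ := glueSub_finite_projective (X : A[X]) g α' β' h1' h2' hreg hab
  have hinj := glue_injective g α' β' h1' hreg
  haveI := gluePhiA_isLocalizedModule (X : A[X]) α' hinj
  haveI := gluePhiB_isLocalizedModule g α' β' h2'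
  let H : A[T;T⁻¹] ⊗[A[X]] (glueSub A[T;T⁻¹] α') ≃ₗ[A[T;T⁻¹]]
      A[T;T⁻¹] ⊗[A[X]] (A[X] ⊗[A] P) :=
    (IsLocalizedModule.isBaseChange (Submonoid.powers (X : A[X])) A[T;T⁻¹]
      (gluePhiA α' hinj)).equiv
  let e : A[T;T⁻¹] ⊗[A[X]] (glueSub A[T;T⁻¹] α') →ₛₗ[sigma A]
      A[T;T⁻¹] ⊗[A[X]] (A[X] ⊗[A] P) :=
    { toFun := fun x => (cancelL A P).symm (tauL A P (cancelL A P (H x)))
      map_add' := fun x y => by simp only [map_add]
      map_smul' := fun c x => by
        simp only [map_smul, tauL_smul] }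
  have he : Function.Bijective e := by
    refine Function.bijective_iff_has_inverse.mpr
      ⟨fun y => H.symm ((cancelL A P).symm (tauL A P (cancelL A P y))), ?_, ?_⟩
    · intro x
      show H.symm ((cancelL A P).symm (tauL A P (cancelL A P
        ((cancelL A P).symm (tauL A P (cancelL A P (H x))))))) = x
      rw [LinearEquiv.apply_symm_apply, tauL_tauL, LinearEquiv.symm_apply_apply,
        LinearEquiv.symm_apply_apply]
    · intro y
      show (cancelL A P).symm (tauL A P (cancelL A P (H (H.symm
        ((cancelL A P).symm (tauL A P (cancelL A P y))))))) = y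
      rw [LinearEquiv.apply_symm_apply, LinearEquiv.apply_symm_apply, tauL_tauL,
        LinearEquiv.symm_apply_apply]
  obtain ⟨r, e₀, ⟨E⟩⟩ := extended_of_P1 (glueSub A[T;T⁻¹] α') (A[X] ⊗[A] P) e he
  obtain ⟨k1⟩ := fiber_equiv (N := glueSub A[T;T⁻¹] α')
    (W := LocalizedModule (Submonoid.powers g) (A[X] ⊗[A] P')) (0 : A) g
    (by rw [← Polynomial.coeff_zero_eq_eval_zero, hg]; exact isUnit_one)
    P' (LinearMap.range (Matrix.toLin' e₀)) (gluePhiB g α')
    (LocalizedModule.mkLinearMap (Submonoid.powers g) (A[X] ⊗[A] P')) E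
  obtain ⟨k2⟩ := fiber_equiv (N := glueSub A[T;T⁻¹] α')
    (W := A[T;T⁻¹] ⊗[A[X]] (A[X] ⊗[A] P)) (1 : A) (X : A[X])
    (by rw [Polynomial.eval_X]; exact isUnit_one)
    P (LinearMap.range (Matrix.toLin' e₀)) (gluePhiA α' hinj)
    (TensorProduct.mk A[X] A[T;T⁻¹] (A[X] ⊗[A] P) 1) E
  exact ⟨k2.trans k1.symm⟩

end main

end Groth.Agent.H36
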