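import Groth.Agent.H36.HorrocksCompl

/-!
# Affine Horrocks, lattice form

Let `R` be a local ring and `P` a finitely generated `R[X]`-submodule of `R[X]^n` containing
`f • R[X]^n` for a monic `f`, such that `P ∩ 𝔪 R[X]^n = 𝔪 P`.  Then `P` is generated by `n` elements.
-/

namespace Groth.Agent.H36

open Polynomial IsLocalRing

section general

variable {R : Type*} [CommRing R]

/-- coefficientwise map of vectors of polynomials, as a semilinear map -/
noncomputable def mapPi {S : Type*} [CommRing S] (φ : R →+* S) (n : ℕ) :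
    (Fin n → R[X]) →ₛₗ[Polynomial.mapRingHom φ] (Fin n → S[X]) where
  toFun v i := (v i).map φ
  map_add' v w := by ext i : 1; simp
  map_smul' a v := by ext i : 1; simp

@[simp] theorem mapPi_apply {S : Type*} [CommRing S] (φ : R →+* S) (n : ℕ) (v : Fin n → R[X])
    (i : Fin n) : mapPi φ n v i = (v i).map φ := rfl

theorem pi_eq_sum_coeff_smul {n : ℕ} (v : Fin n → R[X]) :
    v = ∑ i, ∑ j ∈ (v i).support, (v i).coeff j • (Pi.single i (X ^ j) : Fin n → R[X]) := by
  classical
  ext l : 1
  simp only [Finset.sum_apply, Pi.smul_apply, Pi.single_apply]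
  rw [Finset.sum_eq_single l]
  · simp only [if_true]
    conv_lhs => rw [Polynomial.as_sum_support (v l)]
    refine Finset.sum_congr rfl fun j _ => ?_
    rw [Polynomial.smul_X_eq_monomial]
  · intro i _ hil
    simp [Ne.symm hil]
  · simp

theorem map_mem_smul_of_coeff_mem {n : ℕ} {M' : Type*} [AddCommGroup M'] [Module R M']
    (L : (Fin n → R[X]) →ₗ[R] M') (Q : Submodule R M') (I : Ideal R)
    (hL : ∀ i j, L (Pi.single i (X ^ j)) ∈ Q) (v : Fin n → R[X])
    (hv : ∀ i j, (v i).coeff j ∈ I) : L v ∈ I • Q := by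
  rw [pi_eq_sum_coeff_smul v, map_sum]
  refine Submodule.sum_mem _ fun i _ => ?_
  rw [map_sum]
  refine Submodule.sum_mem _ fun j _ => ?_
  rw [map_smul]
  exact Submodule.smul_mem_smul (hv i j) (hL i j)

theorem degLTPi_fg (n : ℕ) (c : Fin n → ℕ) : (degLTPi R c).FG := by
  classical
  refine Submodule.fg_pi fun i => ?_
  rw [Polynomial.degreeLT_eq_span_X_pow]
  exact Submodule.fg_span (Finset.finite_toSet _)

/-- division with remainder by a monic polynomial, coordinatewise -/
theorem exists_degLT_sub_smul {n : ℕ} (f : R[X]) (hf : f.Monic) [Nontrivial R]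
    (v : Fin n → R[X]) :
    ∃ w ∈ degLTPi R (fun _ : Fin n => f.natDegree), ∃ u : Fin n → R[X], v = w + f • u := by
  refine ⟨fun i => v i %ₘ f, ?_, fun i => v i /ₘ f, ?_⟩
  · rw [mem_degLTPi]
    intro i
    calc (v i %ₘ f).degree < f.degree := Polynomial.degree_modByMonic_lt _ hf
      _ = f.natDegree := Polynomial.degree_eq_natDegree hf.ne_zero
  · ext i : 1
    simp only [Pi.add_apply, Pi.smul_apply, smul_eq_mul]
    exact (Polynomial.modByMonic_add_div (v i) f).symm

end general

end Groth.Agent.H36

namespace Groth.Agent.H36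

open Polynomial IsLocalRing

section lattice

variable {R : Type*} [CommRing R] [IsLocalRing R]

/-- Step: a degree-bounded complement of the reduction lifts to a complement modulo `P`. -/
theorem lattice_step3 (n : ℕ) (P : Submodule R[X] (Fin n → R[X]))
    (f : R[X]) (hf : f.Monic) (hfP : ∀ v : Fin n → R[X], f • v ∈ P)
    (c : Fin n → ℕ)
    (hspan : ∀ v : Fin n → (ResidueField R)[X], ∃ w ∈ degLTPi (ResidueField R) c,
      ∃ p ∈ P, v - w = mapPi (residue R) n p) :
    ∀ v : Fin n → R[X], ∃ w ∈ degLTPi R c, v - w ∈ P := by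
  classical
  set m := maximalIdeal R with hm
  set PR := P.restrictScalars R with hPR
  set Wd := degLTPi R (fun _ : Fin n => f.natDegree) with hWd
  set Wc := degLTPi R c with hWc
  -- everything is `Wd + P`
  have htop : (⊤ : Submodule R (Fin n → R[X])) ≤ Wd ⊔ PR := by
    intro v _
    obtain ⟨w, hw, u, rfl⟩ := exists_degLT_sub_smul f hf v
    exact Submodule.add_mem_sup hw (hfP u)
  -- Nakayama
  have hle : Wd ≤ Wc ⊔ PR := by
    refine Submodule.le_of_le_smul_of_le_jacobson_bot (I := m) (degLTPi_fg n _)
      (IsLocalRing.maximalIdeal_le_jacobson _) ?_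
    intro v _
    obtain ⟨wbar, hwbar, p, hp, hvw⟩ := hspan (mapPi (residue R) n v)
    -- lift wbar
    have hlift : ∃ w ∈ Wc, mapPi (residue R) n w = wbar := by
      have : ∀ i, ∃ q : R[X], q.map (residue R) = wbar i ∧ q.degree = (wbar i).degree := by
        intro i
        have hmem : wbar i ∈ Polynomial.lifts (residue R) := by
          rw [Polynomial.mem_lifts]
          exact Polynomial.map_surjective _ IsLocalRing.residue_surjective _
        exact Polynomial.exists_degree_eq_of_mem_lifts hmem
      choose q hq1 hq2 using this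
      refine ⟨q, ?_, ?_⟩
      · rw [hWc, mem_degLTPi]
        intro i
        rw [hq2]
        exact (mem_degLTPi.mp hwbar) i
      · ext i : 1
        simp [hq1]
    obtain ⟨w, hw, rfl⟩ := hlift
    -- `u = v - w - p` has coefficients in `m`
    set u := v - w - p with hu
    have hu0 : mapPi (residue R) n u = 0 := by
      rw [hu, map_sub, map_sub, hvw, sub_self]
    have hucoeff : ∀ i j, (u i).coeff j ∈ m := by
      intro i j
      have := congrFun hu0 i
      simp only [mapPi_apply, Pi.zero_apply] at this
      have := congrArg (fun q => q.coeff j) this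
      simp only [Polynomial.coeff_map, Polynomial.coeff_zero] at this
      rwa [IsLocalRing.residue_eq_zero_iff] at this
    have hutop : u ∈ m • (⊤ : Submodule R (Fin n → R[X])) := by
      have := map_mem_smul_of_coeff_mem (LinearMap.id) (⊤ : Submodule R (Fin n → R[X])) m
        (fun _ _ => Submodule.mem_top) u hucoeff
      simpa using this
    have hu2 : u ∈ (Wc ⊔ PR) ⊔ m • Wd := by
      have h1 : m • (⊤ : Submodule R (Fin n → R[X])) ≤ m • (Wd ⊔ PR) :=
        Submodule.smul_mono le_rfl htop
      have h2 := h1 hutop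
      rw [Submodule.smul_sup] at h2
      have h3 : m • Wd ⊔ m • PR ≤ (Wc ⊔ PR) ⊔ m • Wd :=
        sup_le le_sup_right (le_trans Submodule.smul_le_right (le_trans le_sup_right le_sup_left))
      exact h3 h2
    have hv : v = u + (w + p) := by rw [hu]; abel
    rw [hv]
    refine Submodule.add_mem _ hu2 ?_
    exact Submodule.mem_sup_left (Submodule.add_mem_sup hw hp)
  intro v
  have hv : v ∈ Wc ⊔ PR := by
    have := htop (Submodule.mem_top (x := v))
    exact (sup_le hle le_sup_right) this
  obtain ⟨w, hw, p, hp, rfl⟩ := Submodule.mem_sup.mp hv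
  refine ⟨w, hw, ?_⟩
  have : w + p - w = p := by abel
  rw [this]
  exact hp

end lattice

end Groth.Agent.H36

namespace Groth.Agent.H36

open Polynomial IsLocalRing

section step5

variable {R : Type*} [CommRing R]

/-- an `R`-submodule of an `R[X]`-module which is stable under `X` is stable under `R[X]` -/
theorem smul_mem_of_X_smul_mem {M : Type*} [AddCommGroup M] [Module R M] [Module R[X] M]
    [IsScalarTower R R[X] M] (S : Submodule R M) (hX : ∀ s ∈ S, (X : R[X]) • s ∈ S)
    (p : R[X]) : ∀ s ∈ S, p • s ∈ S := by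
  induction p using Polynomial.induction_on with
  | C a =>
    intro s hs
    rw [← Polynomial.algebraMap_eq, algebraMap_smul]
    exact S.smul_mem a hs
  | add p q hp hq =>
    intro s hs
    rw [add_smul]
    exact S.add_mem (hp s hs) (hq s hs)
  | monomial k a ih =>
    intro s hs
    have : (C a * X ^ (k + 1) : R[X]) • s = (X : R[X]) • ((C a * X ^ k : R[X]) • s) := by
      rw [smul_smul]; congr 1; ring
    rw [this]
    exact hX _ (ih s hs)

theorem lattice_step5 (n : ℕ) (c : Fin n → ℕ) (wv : Fin n → (Fin n → R[X]))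
    (hwv : ∀ i, wv i ∈ degLTPi R c) (v : Fin n → R[X]) :
    ∃ w ∈ degLTPi R c, v - w ∈ Submodule.span R[X]
      (Set.range fun i : Fin n => (Pi.single i (X ^ c i) : Fin n → R[X]) - wv i) := by
  classical
  set g : Fin n → (Fin n → R[X]) := fun i => (Pi.single i (X ^ c i) : Fin n → R[X]) - wv i with hg
  set P₀ := Submodule.span R[X] (Set.range g) with hP₀
  set Wc := degLTPi R c with hWc
  set S : Submodule R (Fin n → R[X]) := Wc ⊔ P₀.restrictScalars R with hS
  have hgP : ∀ i, g i ∈ P₀ := fun i => Submodule.subset_span ⟨i, rfl⟩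
  have hsingle : ∀ i, (Pi.single i (X ^ c i) : Fin n → R[X]) ∈ S := by
    intro i
    have : (Pi.single i (X ^ c i) : Fin n → R[X]) = wv i + g i := by
      simp only [hg]; abel
    rw [this]
    exact Submodule.add_mem_sup (hwv i) (hgP i)
  -- stability under `X`
  have hXW : ∀ w ∈ Wc, (X : R[X]) • w ∈ S := by
    intro w hw
    set a : Fin n → R := fun i => (X * w i).coeff (c i) with ha
    set r : Fin n → R[X] := fun i => X * w i - C (a i) * X ^ c i with hr
    have hrW : r ∈ Wc := by
      rw [hWc, mem_degLTPi]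
      intro i
      rw [Polynomial.degree_lt_iff_coeff_zero]
      intro m hm
      have hwi : (w i).degree < c i := (mem_degLTPi.mp hw) i
      rcases eq_or_lt_of_le hm with h | h
      · subst h
        simp [hr, ha]
      · have h1 : (X * w i).coeff m = 0 := by
          obtain ⟨m', rfl⟩ : ∃ m', m = m' + 1 := ⟨m - 1, by omega⟩
          rw [Polynomial.coeff_X_mul]
          refine Polynomial.coeff_eq_zero_of_degree_lt (lt_of_lt_of_le hwi ?_)
          exact_mod_cast (by omega : c i ≤ m')
        have h2 : (C (a i) * X ^ c i).coeff m = 0 := by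
          rw [Polynomial.coeff_C_mul_X_pow]
          simp [ne_of_gt h]
        simp [hr, h1, h2]
    have hdecomp : (X : R[X]) • w = r + ∑ i, a i • (Pi.single i (X ^ c i) : Fin n → R[X]) := by
      ext l : 1
      simp only [Pi.smul_apply, smul_eq_mul, Pi.add_apply, Finset.sum_apply, Pi.single_apply]
      rw [Finset.sum_eq_single l]
      · simp [hr, Polynomial.smul_eq_C_mul]
      · intro i _ hil
        simp [Ne.symm hil]
      · simp
    rw [hdecomp]
    refine S.add_mem (Submodule.mem_sup_left hrW) (Submodule.sum_mem _ fun i _ => ?_)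
    exact S.smul_mem _ (hsingle i)
  have hXS : ∀ s ∈ S, (X : R[X]) • s ∈ S := by
    intro s hs
    obtain ⟨w, hw, p, hp, rfl⟩ := Submodule.mem_sup.mp hs
    rw [smul_add]
    refine S.add_mem (hXW w hw) (Submodule.mem_sup_right ?_)
    exact P₀.smul_mem _ hp
  have hbasis : ∀ i, (Pi.single i 1 : Fin n → R[X]) ∈ S := by
    intro i
    rcases Nat.eq_zero_or_pos (c i) with h | h
    · have := hsingle i
      rwa [h, pow_zero] at this
    · refine Submodule.mem_sup_left ?_
      rw [hWc, mem_degLTPi]
      intro l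
      by_cases hl : l = i
      · subst hl
        simp only [Pi.single_eq_same]
        calc (1 : R[X]).degree ≤ 0 := Polynomial.degree_one_le
          _ < c l := by exact_mod_cast h
      · simp only [Pi.single_eq_of_ne hl, Polynomial.degree_zero]
        exact WithBot.bot_lt_coe _
  have hall : v ∈ S := by
    have hv : v = ∑ i, v i • (Pi.single i 1 : Fin n → R[X]) := by
      ext l : 1
      simp [Finset.sum_apply, Pi.single_apply]
    rw [hv]
    exact Submodule.sum_mem _ fun i _ => smul_mem_of_X_smul_mem S hXS (v i) _ (hbasis i)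
  obtain ⟨w, hw, p, hp, rfl⟩ := Submodule.mem_sup.mp hall
  refine ⟨w, hw, ?_⟩
  have : w + p - w = p := by abel
  rw [this]
  exact hp

end step5

end Groth.Agent.H36

namespace Groth.Agent.H36

open Polynomial IsLocalRing

section main

variable {R : Type*} [CommRing R] [IsLocalRing R]

/-- **Affine Horrocks, lattice form.** -/
theorem exists_span_eq_of_lattice (n : ℕ)
    (P : Submodule R[X] (Fin n → R[X])) (hfg : P.FG)
    (f : R[X]) (hf : f.Monic) (hfP : ∀ v : Fin n → R[X], f • v ∈ P)
    (hc : ∀ x ∈ P, (∀ i j, (x i).coeff j ∈ maximalIdeal R) →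
      x ∈ maximalIdeal R • P.restrictScalars R) :
    ∃ g : Fin n → (Fin n → R[X]), Submodule.span R[X] (Set.range g) = P := by
  classical
  set k := ResidueField R with hk
  set m := maximalIdeal R with hm
  have : RingHomSurjective (mapRingHom (residue R)) :=
    ⟨Polynomial.map_surjective _ residue_surjective⟩
  set red := mapPi (residue R) n with hred
  set Pbar : Submodule k[X] (Fin n → k[X]) := P.map red with hPbar
  have hfbar : f.map (residue R) ≠ 0 := (hf.map _).ne_zero
  have hPbar' : ∀ v : Fin n → k[X], (f.map (residue R)) • v ∈ Pbar := by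
    intro v
    have : ∃ v' : Fin n → R[X], red v' = v := by
      choose q hq using fun i => Polynomial.map_surjective (residue R) residue_surjective (v i)
      exact ⟨q, by ext i : 1; simp [hred, hq]⟩
    obtain ⟨v', rfl⟩ := this
    refine ⟨f • v', hfP v', ?_⟩
    rw [map_smulₛₗ]; rfl
  obtain ⟨c, hspan, hind⟩ := exists_degLT_compl k n Pbar _ hfbar hPbar'
  have h3 := lattice_step3 n P f hf hfP c (by
    intro v
    obtain ⟨w, hw, hvw⟩ := hspan v
    obtain ⟨p, hp, hpe⟩ := hvw
    exact ⟨w, hw, p, hp, hpe.symm⟩)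
  choose wv hwv hgP using fun i => h3 (Pi.single i (X ^ c i))
  set g : Fin n → (Fin n → R[X]) :=
    fun i => (Pi.single i (X ^ c i) : Fin n → R[X]) - wv i with hg
  set P₀ := Submodule.span R[X] (Set.range g) with hP₀
  have hP₀P : P₀ ≤ P := Submodule.span_le.mpr (by rintro _ ⟨i, rfl⟩; exact hgP i)
  have h5 := lattice_step5 n c wv hwv
  refine ⟨g, le_antisymm hP₀P ?_⟩
  -- step 7
  have h7 : P.restrictScalars R ≤ P₀.restrictScalars R ⊔ m • P.restrictScalars R := by
    intro x hx
    obtain ⟨w, hw, hxw⟩ := h5 x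
    have hwP : w ∈ P := by
      have : w = x - (x - w) := by abel
      rw [this]; exact P.sub_mem hx (hP₀P hxw)
    have hredw : red w = 0 := by
      apply hind
      · rw [mem_degLTPi]; intro i
        exact lt_of_le_of_lt (Polynomial.degree_map_le) ((mem_degLTPi.mp hw) i)
      · exact ⟨w, hwP, rfl⟩
    have hcoeff : ∀ i j, (w i).coeff j ∈ m := by
      intro i j
      have := congrFun hredw i
      simp only [hred, mapPi_apply, Pi.zero_apply] at this
      have := congrArg (fun q => q.coeff j) this
      simp only [Polynomial.coeff_map, Polynomial.coeff_zero] at this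
      rwa [IsLocalRing.residue_eq_zero_iff] at this
    have := hc w hwP hcoeff
    have hx' : x = (x - w) + w := by abel
    rw [hx']
    exact Submodule.add_mem_sup hxw this
  -- step 6: a monic polynomial killing the quotient by `P₀`
  have : Module.Finite R (degLTPi R c) := Module.Finite.iff_fg.mpr (degLTPi_fg n c)
  have hfin : Module.Finite R ((Fin n → R[X]) ⧸ P₀) := by
    refine Module.Finite.of_surjective ((P₀.mkQ.restrictScalars R) ∘ₗ (degLTPi R c).subtype) ?_
    intro q
    obtain ⟨v, rfl⟩ := P₀.mkQ_surjective q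
    obtain ⟨w, hw, hvw⟩ := h5 v
    refine ⟨⟨w, hw⟩, ?_⟩
    simp only [LinearMap.coe_comp, Function.comp_apply, Submodule.subtype_apply,
      LinearMap.coe_restrictScalars, Submodule.mkQ_apply]
    exact ((Submodule.Quotient.eq P₀).mpr hvw).symm
  obtain ⟨χ, hχm, hχ⟩ := LinearMap.exists_monic_and_aeval_eq_zero R
    ((Algebra.lsmul R R ((Fin n → R[X]) ⧸ P₀)) (X : R[X]))
  have hχP₀ : ∀ v : Fin n → R[X], χ • v ∈ P₀ := by
    intro v
    rw [Polynomial.aeval_algHom_apply, Polynomial.aeval_X_left] at hχ
    have := LinearMap.congr_fun hχ (P₀.mkQ v)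
    simp only [Algebra.lsmul_coe, Submodule.mkQ_apply, LinearMap.zero_apply] at this
    rw [← Submodule.Quotient.mk_smul] at this
    exact (Submodule.Quotient.mk_eq_zero P₀).mp this
  by_cases hχ1 : χ = 1
  · intro x _
    have := hχP₀ x
    rwa [hχ1, one_smul] at this
  obtain ⟨sP, hsP⟩ := hfg
  set d := χ.natDegree with hd
  set T : Submodule R (Fin n → R[X]) := Submodule.span R
    ((fun pq : ℕ × (Fin n → R[X]) => (X ^ pq.1 : R[X]) • pq.2) ''
      ((Finset.range d ×ˢ sP : Finset (ℕ × (Fin n → R[X]))) : Set (ℕ × (Fin n → R[X])))) with hT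
  have hTfg : T.FG := Submodule.fg_span (Set.Finite.image _ (Finset.finite_toSet _))
  have hsPP : ∀ q ∈ sP, q ∈ P := fun q hq => hsP ▸ Submodule.subset_span hq
  have hTP : T ≤ P.restrictScalars R := by
    rw [hT, Submodule.span_le]
    rintro _ ⟨⟨j, q⟩, hjq, rfl⟩
    simp only [Finset.coe_product, Set.mem_prod, Finset.mem_coe] at hjq
    exact P.smul_mem _ (hsPP q hjq.2)
  have hPT : P.restrictScalars R ≤ P₀.restrictScalars R ⊔ T := by
    intro x hx
    have hx' : x ∈ Submodule.span R[X] (sP : Set (Fin n → R[X])) := by rw [hsP]; exact hx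
    obtain ⟨a, -, ha⟩ := Submodule.mem_span_finset.mp hx'
    rw [← ha]
    refine Submodule.sum_mem _ fun q hq => ?_
    have hsplit : a q • q = (a q /ₘ χ) • (χ • q) + (a q %ₘ χ) • q := by
      rw [smul_smul, ← add_smul]; congr 1
      rw [mul_comm, add_comm]; exact (Polynomial.modByMonic_add_div _ χ).symm
    rw [hsplit]
    refine Submodule.add_mem_sup (P₀.smul_mem _ (hχP₀ q)) ?_
    have hdeg : (a q %ₘ χ).natDegree < d := Polynomial.natDegree_modByMonic_lt _ hχm hχ1
    rw [Polynomial.as_sum_range' (a q %ₘ χ) d hdeg, Finset.sum_smul]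
    refine Submodule.sum_mem _ fun j hj => ?_
    rw [← Polynomial.smul_X_eq_monomial, smul_assoc]
    refine T.smul_mem _ (Submodule.subset_span ⟨(j, q), ?_, rfl⟩)
    simp only [Finset.coe_product, Set.mem_prod, Finset.mem_coe]
    exact ⟨hj, hq⟩
  have hTP₀ : T ≤ P₀.restrictScalars R := by
    refine Submodule.le_of_le_smul_of_le_jacobson_bot (I := m) hTfg
      (IsLocalRing.maximalIdeal_le_jacobson _) ?_
    intro x hx
    have h1 := h7 (hTP hx)
    have h2 : m • P.restrictScalars R ≤ P₀.restrictScalars R ⊔ m • T := by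
      calc m • P.restrictScalars R ≤ m • (P₀.restrictScalars R ⊔ T) :=
            Submodule.smul_mono le_rfl hPT
        _ = m • P₀.restrictScalars R ⊔ m • T := Submodule.smul_sup _ _ _
        _ ≤ P₀.restrictScalars R ⊔ m • T := sup_le_sup_right Submodule.smul_le_right _
    exact (sup_le le_sup_left h2) h1
  intro x hx
  have := hPT hx
  exact (sup_le le_rfl hTP₀) this

end main

end Groth.Agent.H36
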