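import Groth.Agent.H36.HorrocksDescent

/-!
# From modules to idempotent matrices and back
-/

namespace Groth.Agent.H36

open Polynomial Matrix TensorProduct

section dual

variable (S : Type*) [CommRing S] (M : Type*) [AddCommGroup M] [Module S M]

theorem exists_dualBasis [Module.Finite S M] [Module.Projective S M] :
    ∃ (r : ℕ) (b : Fin r → M) (ι : Fin r → (M →ₗ[S] S)), ∀ m, ∑ j, ι j m • b j = m := by
  classical
  obtain ⟨r, f, hf⟩ := Module.Finite.exists_fin' S M
  obtain ⟨h, hh⟩ := Module.projective_lifting_property f LinearMap.id hf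
  refine ⟨r, fun j => f (Pi.single j 1), fun j => LinearMap.proj j ∘ₗ h, fun m => ?_⟩
  have h1 : f (h m) = m := LinearMap.congr_fun hh m
  conv_rhs => rw [← h1]
  have h2 : h m = ∑ j, (h m) j • (Pi.single j 1 : Fin r → S) := by
    ext l
    simp [Finset.sum_apply, Pi.single_apply]
  conv_rhs => rw [h2, map_sum]
  refine Finset.sum_congr rfl fun j _ => ?_
  rw [map_smul]
  rfl

variable {S M}

/-- the idempotent matrix of a dual basis -/
def dualMatrix {r : ℕ} (b : Fin r → M) (ι : Fin r → (M →ₗ[S] S)) : Matrix (Fin r) (Fin r) S :=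
  Matrix.of fun i j => ι i (b j)

theorem dualMatrix_mul_self {r : ℕ} (b : Fin r → M) (ι : Fin r → (M →ₗ[S] S))
    (h : ∀ m, ∑ j, ι j m • b j = m) : dualMatrix b ι * dualMatrix b ι = dualMatrix b ι := by
  refine Matrix.ext fun i k => ?_
  simp only [dualMatrix, Matrix.mul_apply, Matrix.of_apply]
  conv_rhs => rw [← h (b k), map_sum]
  refine Finset.sum_congr rfl fun j _ => ?_
  rw [map_smul, smul_eq_mul, mul_comm]

/-- local freeness gives a factorisation of the base-changed idempotent -/
theorem exists_factor_of_free {r : ℕ} (b : Fin r → M) (ι : Fin r → (M →ₗ[S] S))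
    (h : ∀ m, ∑ j, ι j m • b j = m) (B : Type*) [CommRing B] [Nontrivial B] [Algebra S B]
    [Module.Finite S M] [Module.Free B (B ⊗[S] M)] :
    ∃ (n : ℕ) (p : Matrix (Fin r) (Fin n) B) (q : Matrix (Fin n) (Fin r) B), q * p = 1 ∧
      p * q = (dualMatrix b ι).map (algebraMap S B) := by
  classical
  set β := Module.finBasis B (B ⊗[S] M) with hβ
  set n := Module.finrank B (B ⊗[S] M) with hn
  set ιt : Fin r → (B ⊗[S] M →ₗ[B] B) :=
    fun i => LinearMap.liftBaseChange B ((Algebra.linearMap S B) ∘ₗ ι i) with hιt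
  have hιt1 : ∀ i (c : B) (m : M), ιt i (c ⊗ₜ m) = c * algebraMap S B (ι i m) := by
    intro i c m; simp [hιt]
  have hid : ∀ x : B ⊗[S] M, ∑ i, ιt i x • ((1 : B) ⊗ₜ[S] b i) = x := by
    intro x
    induction x using TensorProduct.induction_on with
    | zero => simp
    | add x y hx hy => simp only [map_add, add_smul, Finset.sum_add_distrib, hx, hy]
    | tmul c m =>
      simp only [hιt1]
      have : ∀ i, (c * algebraMap S B (ι i m)) • ((1 : B) ⊗ₜ[S] b i) = c ⊗ₜ[S] (ι i m • b i) := by
        intro i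
        rw [TensorProduct.smul_tmul', smul_eq_mul, mul_one, mul_comm, ← Algebra.smul_def,
          TensorProduct.smul_tmul]
      simp only [this, ← TensorProduct.tmul_sum, h m]
  refine ⟨n, Matrix.of fun i l => ιt i (β l), Matrix.of fun l j => β.repr ((1 : B) ⊗ₜ[S] b j) l,
    ?_, ?_⟩
  · refine Matrix.ext fun l l' => ?_
    simp only [Matrix.mul_apply, Matrix.of_apply, Matrix.one_apply]
    have h1 := hid (β l')
    have h2 := congrArg (fun x => β.repr x l) h1
    simp only [map_sum, map_smul, Finsupp.coe_finsetSum, Finsupp.coe_smul, Finset.sum_apply,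
      Pi.smul_apply, smul_eq_mul, Module.Basis.repr_self, Finsupp.single_apply] at h2
    have h3 : (if l' = l then (1 : B) else 0) = if l = l' then 1 else 0 := by
      simp only [eq_comm]
    rw [← h3, ← h2]
    refine Finset.sum_congr rfl fun i _ => ?_
    rw [mul_comm]
  · refine Matrix.ext fun i j => ?_
    simp only [Matrix.mul_apply, Matrix.of_apply, Matrix.map_apply, dualMatrix]
    have h1 : ιt i ((1 : B) ⊗ₜ[S] b j) = algebraMap S B (ι i (b j)) := by
      rw [hιt1, one_mul]
    rw [← h1]
    conv_rhs => rw [← β.sum_repr ((1 : B) ⊗ₜ[S] b j), map_sum]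
    refine Finset.sum_congr rfl fun l _ => ?_
    rw [map_smul, smul_eq_mul, mul_comm]

end dual

end Groth.Agent.H36

namespace Groth.Agent.H36

open Polynomial Matrix TensorProduct

section extended

variable {A : Type*} [CommRing A] {M : Type*} [AddCommGroup M] [Module A[X] M]

theorem nonempty_equiv_of_isMvN {r : ℕ} (b : Fin r → M) (ι : Fin r → (M →ₗ[A[X]] A[X]))
    (h : ∀ m, ∑ j, ι j m • b j = m) (e₀ : Matrix (Fin r) (Fin r) A)
    (a' b' : Matrix (Fin r) (Fin r) A[X])
    (hab : IsMvN (dualMatrix b ι) (e₀.map (C : A →+* A[X])) a' b') :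
    Nonempty (M ≃ₗ[A[X]] (A[X] ⊗[A] (LinearMap.range (Matrix.toLin' e₀)))) := by
  classical
  -- `e₀` is idempotent
  have he₀C : e₀.map (C : A →+* A[X]) * e₀.map (C : A →+* A[X]) = e₀.map (C : A →+* A[X]) := by
    calc e₀.map (C : A →+* A[X]) * e₀.map (C : A →+* A[X])
        = e₀.map (C : A →+* A[X]) * (a' * b') := by rw [hab.ab]
      _ = (e₀.map (C : A →+* A[X]) * a') * b' := by rw [Matrix.mul_assoc]
      _ = a' * b' := by rw [hab.ea]
      _ = e₀.map (C : A →+* A[X]) := hab.ab
  have he₀ : e₀ * e₀ = e₀ := by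
    rw [← Matrix.map_mul] at he₀C
    refine Matrix.ext fun i j => ?_
    have := congrFun (congrFun he₀C i) j
    simpa using this
  set P := LinearMap.range (Matrix.toLin' e₀) with hP
  have hPfix : ∀ v : P, e₀ *ᵥ (v : Fin r → A) = v := by
    rintro ⟨_, w, rfl⟩
    simp only [Matrix.toLin'_apply, Matrix.mulVec_mulVec, he₀]
  set col : Fin r → P := fun j => ⟨Matrix.toLin' e₀ (Pi.single j 1), ⟨_, rfl⟩⟩ with hcol
  have hcol_apply : ∀ i j, ((col j : P) : Fin r → A) i = e₀ i j := by
    intro i j
    simp [hcol, Matrix.toLin'_apply]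
  have hsumcol : ∀ v : P, ∑ j, (v : Fin r → A) j • col j = v := by
    intro v
    apply Subtype.ext
    rw [Submodule.coe_sum]
    funext i
    simp only [Submodule.coe_smul, Finset.sum_apply, Pi.smul_apply, hcol_apply, smul_eq_mul]
    have := congrFun (hPfix v) i
    rw [Matrix.mulVec, dotProduct] at this
    rw [← this]
    exact Finset.sum_congr rfl fun j _ => mul_comm _ _
  -- the maps `K` and `J`
  set K : (Fin r → A[X]) →ₗ[A[X]] A[X] ⊗[A] P :=
    ∑ j, (LinearMap.proj j : (Fin r → A[X]) →ₗ[A[X]] A[X]).smulRight ((1 : A[X]) ⊗ₜ[A] col j)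
    with hK
  have hK_apply : ∀ w : Fin r → A[X], K w = ∑ j, w j ⊗ₜ[A] col j := by
    intro w
    simp only [hK, LinearMap.sum_apply, LinearMap.smulRight_apply, LinearMap.proj_apply,
      TensorProduct.smul_tmul', smul_eq_mul, mul_one]
  set jP : P →ₗ[A] (Fin r → A[X]) :=
    LinearMap.pi fun i => (Algebra.linearMap A A[X]) ∘ₗ (LinearMap.proj i) ∘ₗ P.subtype with hjP
  have hjP_apply : ∀ (v : P) i, jP v i = C ((v : Fin r → A) i) := by
    intro v i
    simp [hjP, Polynomial.algebraMap_eq]
  set J : A[X] ⊗[A] P →ₗ[A[X]] (Fin r → A[X]) := LinearMap.liftBaseChange A[X] jP with hJ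
  have hJK : ∀ w : Fin r → A[X], J (K w) = (e₀.map (C : A →+* A[X])) *ᵥ w := by
    intro w
    rw [hK_apply, map_sum]
    funext i
    simp only [hJ, LinearMap.liftBaseChange_tmul, Finset.sum_apply, Pi.smul_apply, hjP_apply,
      hcol_apply, smul_eq_mul, Matrix.mulVec, dotProduct, Matrix.map_apply]
    exact Finset.sum_congr rfl fun j _ => mul_comm _ _
  have hKJ : ∀ x : A[X] ⊗[A] P, K (J x) = x := by
    intro x
    induction x using TensorProduct.induction_on with
    | zero => simp
    | add x y hx hy => rw [map_add, map_add, hx, hy]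
    | tmul p v =>
      rw [hJ, LinearMap.liftBaseChange_tmul, map_smul, hK_apply]
      simp only [hjP_apply]
      have : ∀ j, C ((v : Fin r → A) j) ⊗ₜ[A] col j
          = (1 : A[X]) ⊗ₜ[A] ((v : Fin r → A) j • col j) := by
        intro j
        rw [← TensorProduct.smul_tmul, ← Polynomial.algebraMap_eq, Algebra.smul_def, mul_one]
      simp only [this, ← TensorProduct.tmul_sum, hsumcol, TensorProduct.smul_tmul', smul_eq_mul,
        mul_one]
  -- the maps between `M` and `A[X]^r`
  set ιvec : M →ₗ[A[X]] (Fin r → A[X]) := LinearMap.pi ι with hιvec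
  set bcomb : (Fin r → A[X]) →ₗ[A[X]] M := Fintype.linearCombination A[X] b with hbcomb
  have hbι : ∀ m, bcomb (ιvec m) = m := by
    intro m
    simp only [hbcomb, hιvec, Fintype.linearCombination_apply, LinearMap.pi_apply]
    exact h m
  have hιb : ∀ w, ιvec (bcomb w) = (dualMatrix b ι) *ᵥ w := by
    intro w
    funext i
    simp only [hbcomb, hιvec, Fintype.linearCombination_apply, LinearMap.pi_apply, map_sum,
      map_smul, smul_eq_mul, Matrix.mulVec, dotProduct, dualMatrix, Matrix.of_apply]
    exact Finset.sum_congr rfl fun j _ => mul_comm _ _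
  set F : M →ₗ[A[X]] A[X] ⊗[A] P := K ∘ₗ (Matrix.toLin' a') ∘ₗ ιvec with hF
  set G : A[X] ⊗[A] P →ₗ[A[X]] M := bcomb ∘ₗ (Matrix.toLin' b') ∘ₗ J with hG
  refine ⟨LinearEquiv.ofLinearMap F G ?_ ?_⟩
  · ext x
    simp only [hF, hG, LinearMap.coe_comp, Function.comp_apply, Matrix.toLin'_apply,
      LinearMap.id_coe, id_eq, hιb, Matrix.mulVec_mulVec, hab.ae, hab.ab,
      TensorProduct.AlgebraTensorModule.curry_apply, LinearMap.restrictScalars_comp,
      TensorProduct.curry_apply, LinearMap.coe_restrictScalars]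
    rw [hab.eb, hab.ab, ← hJK, hKJ, hKJ]
  · ext m
    simp only [hF, hG, LinearMap.coe_comp, Function.comp_apply, Matrix.toLin'_apply,
      LinearMap.id_coe, id_eq, hJK, Matrix.mulVec_mulVec, hab.be, hab.ba]
    rw [hab.ea, hab.ba, ← hιb, hbι, hbι]

end extended

end Groth.Agent.H36

namespace Groth.Agent.H36

open Polynomial Matrix TensorProduct

section patching

attribute [local instance] Polynomial.algebra

/-- **Quillen patching** for finitely generated projective modules which are locally free: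
if `A_m[X] ⊗ M` is free for every maximal ideal `m` of `A`, then `M` is extended from `A`. -/
theorem extended_of_locally_free {A : Type*} [CommRing A] (M : Type*) [AddCommGroup M]
    [Module A[X] M] [Module.Finite A[X] M] [Module.Projective A[X] M]
    (h : ∀ (m : Ideal A) [m.IsMaximal],
      Module.Free (Localization.AtPrime m)[X] ((Localization.AtPrime m)[X] ⊗[A[X]] M)) :
    ∃ (r : ℕ) (e₀ : Matrix (Fin r) (Fin r) A),
      Nonempty (M ≃ₗ[A[X]] (A[X] ⊗[A] (LinearMap.range (Matrix.toLin' e₀)))) := by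
  obtain ⟨r, b, ι, hbι⟩ := exists_dualBasis A[X] M
  have he := dualMatrix_mul_self b ι hbι
  obtain ⟨a', b', hab⟩ := exists_isMvN_of_local (dualMatrix b ι) he (fun m _ => by
    haveI := h m
    exact exists_factor_of_free b ι hbι (Localization.AtPrime m)[X])
  exact ⟨r, _, nonempty_equiv_of_isMvN b ι hbι _ a' b' hab⟩

end patching

end Groth.Agent.H36
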