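import Groth.Agent.H36.HorrocksP1
import Groth.Agent.H36.HorrocksAffine
import Groth.Agent.H36.HorrocksModule

/-!
# Horrocks–Quillen: a finitely generated projective `A[X]`-module which extends to the projective
line over `A` is extended from `A`.
-/

namespace Groth.Agent.H36

open Polynomial LaurentPolynomial TensorProduct

section

attribute [local instance] Polynomial.algebra

/-- local Horrocks after base change: lattice data over `A[X]` with leading coefficient outside
the maximal ideal `m` make `A_m[X] ⊗ M` free. -/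
theorem free_localization_of_lattice {A : Type*} [CommRing A] (M : Type*) [AddCommGroup M]
    [Module A[X] M] [Module.Finite A[X] M] [Module.Projective A[X] M]
    (m : Ideal A) [m.IsPrime] (n : ℕ) (φ : M →ₗ[A[X]] (Fin n → A[X]))
    (ψ : (Fin n → A[X]) →ₗ[A[X]] M) (d : A[X])
    (h1 : ∀ x, ψ (φ x) = d • x) (h2 : ∀ v, φ (ψ v) = d • v) (hd : d.leadingCoeff ∉ m) :
    Module.Free (Localization.AtPrime m)[X] ((Localization.AtPrime m)[X] ⊗[A[X]] M) := by
  set B := Localization.AtPrime m with hB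
  have hu : IsUnit (algebraMap A B d.leadingCoeff) :=
    IsLocalization.map_units B (⟨d.leadingCoeff, hd⟩ : m.primeCompl)
  obtain ⟨u, hu'⟩ := hu
  set dB : B[X] := d.map (algebraMap A B) with hdB
  have hdBalg : algebraMap A[X] B[X] d = dB := rfl
  have hlead : dB.leadingCoeff = (u : B) := by
    rw [hdB, Polynomial.leadingCoeff_map_of_leadingCoeff_ne_zero, hu']
    rw [← hu']; exact u.ne_zero
  set f : B[X] := Polynomial.C ((u⁻¹ : Bˣ) : B) * dB with hf
  have hfm : f.Monic := by
    apply Polynomial.monic_C_mul_of_mul_leadingCoeff_eq_one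
    rw [hlead]; exact u.inv_mul
  have key : ∃ (φB : B[X] ⊗[A[X]] M →ₗ[B[X]] (Fin n → B[X]))
      (ψB : (Fin n → B[X]) →ₗ[B[X]] B[X] ⊗[A[X]] M),
      (∀ y, ψB (φB y) = f • y) ∧ (∀ v, φB (ψB v) = f • v) := by
    refine ⟨alphaL B[X] φ, (Polynomial.C ((u⁻¹ : Bˣ) : B) : B[X]) • betaL B[X] ψ, ?_, ?_⟩
    · intro y
      rw [LinearMap.smul_apply, betaL_alphaL B[X] φ ψ d h1, hdBalg, smul_smul]
    · intro v
      rw [LinearMap.smul_apply, map_smul, alphaL_betaL B[X] φ ψ d h2, hdBalg, smul_smul]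
  obtain ⟨φB, ψB, hφψ, hψφ⟩ := key
  refine free_of_lattice_data (R := B) (M := B[X] ⊗[A[X]] M) n φB ψB f f hfm hfm ?_ ?_
  · exact hφψ
  · exact hψφ

/-- **Horrocks–Quillen.** -/
theorem extended_of_P1 {A : Type*} [CommRing A] (M N : Type*) [AddCommGroup M]
    [Module A[X] M] [Module.Finite A[X] M] [Module.Projective A[X] M]
    [AddCommGroup N] [Module A[X] N] [Module.Finite A[X] N] [Module.Projective A[X] N]
    (e : (A[T;T⁻¹] ⊗[A[X]] M) →ₛₗ[sigma A] (A[T;T⁻¹] ⊗[A[X]] N)) (he : Function.Bijective e) :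
    ∃ (r : ℕ) (e₀ : Matrix (Fin r) (Fin r) A),
      Nonempty (M ≃ₗ[A[X]] (A[X] ⊗[A] (LinearMap.range (Matrix.toLin' e₀)))) := by
  refine extended_of_locally_free M fun m _ => ?_
  obtain ⟨n, φ, ψ, d, h1, h2, hd⟩ := exists_lattice_of_P1 M N e he m
  exact free_localization_of_lattice M m n φ ψ d h1 h2 hd

end

end Groth.Agent.H36
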