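import Groth.Agent.H36.HorrocksGlue

/-!
# Isomorphisms over the localization at monic polynomials descend
-/

namespace Groth.Agent.H36

open Polynomial LaurentPolynomial TensorProduct

section spread

/-- an isomorphism of localizations of finitely presented modules comes from a pair of maps whose
composites are multiplication by an element of the submonoid. -/
theorem exists_lattice_of_localization_equiv {S : Type*} [CommRing S] (T : Submonoid S)
    (ST : Type*) [CommRing ST] [Algebra S ST] [IsLocalization T ST]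
    {F F' : Type*} [AddCommGroup F] [Module S F] [Module.FinitePresentation S F]
    [AddCommGroup F'] [Module S F'] [Module.FinitePresentation S F']
    (Φ : ST ⊗[S] F ≃ₗ[ST] ST ⊗[S] F') :
    ∃ (a : F →ₗ[S] F') (b : F' →ₗ[S] F) (t : S), t ∈ T ∧ (∀ x, b (a x) = t • x) ∧
      (∀ y, a (b y) = t • y) := by
  set loc : F →ₗ[S] ST ⊗[S] F := TensorProduct.mk S ST F 1 with hloc
  set loc' : F' →ₗ[S] ST ⊗[S] F' := TensorProduct.mk S ST F' 1 with hloc'
  obtain ⟨a₀, s₀, h₀⟩ := Module.FinitePresentation.exists_lift_of_isLocalizedModule T loc'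
    ((Φ.toLinearMap.restrictScalars S) ∘ₗ loc)
  obtain ⟨b₀, s₁, h₁⟩ := Module.FinitePresentation.exists_lift_of_isLocalizedModule T loc
    ((Φ.symm.toLinearMap.restrictScalars S) ∘ₗ loc')
  have h₀' : ∀ x, loc' (a₀ x) = (s₀ : S) • Φ (loc x) := fun x => by
    have := LinearMap.congr_fun h₀ x
    simpa [Submonoid.smul_def] using this
  have h₁' : ∀ y, loc (b₀ y) = (s₁ : S) • Φ.symm (loc' y) := fun y => by
    have := LinearMap.congr_fun h₁ y
    simpa [Submonoid.smul_def] using this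
  have hΦS : ∀ (s : S) z, Φ (s • z) = s • Φ z := fun s z => by
    rw [← algebraMap_smul ST s z, map_smul, algebraMap_smul]
  have hΦS' : ∀ (s : S) z, Φ.symm (s • z) = s • Φ.symm z := fun s z => by
    rw [← algebraMap_smul ST s z, map_smul, algebraMap_smul]
  have H₁ : loc ∘ₗ (b₀ ∘ₗ a₀) = loc ∘ₗ (((s₁ : S) * (s₀ : S)) • LinearMap.id) := by
    refine LinearMap.ext fun x => ?_
    simp only [LinearMap.coe_comp, Function.comp_apply, LinearMap.smul_apply, LinearMap.id_coe,
      id_eq]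
    rw [h₁', h₀', hΦS', LinearEquiv.symm_apply_apply, map_smul, mul_smul]
  obtain ⟨s₂, hs₂⟩ := Module.Finite.exists_smul_of_comp_eq_of_isLocalizedModule T loc _ _ H₁
  have H₂ : loc' ∘ₗ (a₀ ∘ₗ b₀) = loc' ∘ₗ (((s₀ : S) * (s₁ : S)) • LinearMap.id) := by
    refine LinearMap.ext fun y => ?_
    simp only [LinearMap.coe_comp, Function.comp_apply, LinearMap.smul_apply, LinearMap.id_coe,
      id_eq]
    rw [h₀', h₁', hΦS, LinearEquiv.apply_symm_apply, map_smul, mul_smul]
  obtain ⟨s₃, hs₃⟩ := Module.Finite.exists_smul_of_comp_eq_of_isLocalizedModule T loc' _ _ H₂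
  have hs₂' : ∀ x, (s₂ : S) • b₀ (a₀ x) = (s₂ : S) • (((s₁ : S) * (s₀ : S)) • x) := fun x => by
    have := LinearMap.congr_fun hs₂ x
    simpa [Submonoid.smul_def] using this
  have hs₃' : ∀ y, (s₃ : S) • a₀ (b₀ y) = (s₃ : S) • (((s₀ : S) * (s₁ : S)) • y) := fun y => by
    have := LinearMap.congr_fun hs₃ y
    simpa [Submonoid.smul_def] using this
  refine ⟨a₀, ((s₂ : S) * (s₃ : S)) • b₀, (s₂ : S) * (s₃ : S) * ((s₁ : S) * (s₀ : S)),
    ?_, ?_, ?_⟩
  · exact (s₂ * s₃ * (s₁ * s₀)).2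
  · intro x
    rw [LinearMap.smul_apply, mul_comm (s₂ : S) (s₃ : S), mul_smul, hs₂', ← mul_smul, ← mul_smul]
  · intro y
    rw [LinearMap.smul_apply, map_smul, mul_smul, hs₃', ← mul_smul, ← mul_smul]
    congr 1
    ring

end spread

section conj

variable {A : Type*} [CommRing A] {P P' P'' : Type*} [AddCommGroup P] [Module A P]
  [AddCommGroup P'] [Module A P'] [AddCommGroup P''] [Module A P'']

/-- conjugation of a Laurent-linear map by the involution `T ↦ T⁻¹`. -/
noncomputable def conjTau (f : A[T;T⁻¹] ⊗[A] P →ₗ[A[T;T⁻¹]] A[T;T⁻¹] ⊗[A] P') :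
    A[T;T⁻¹] ⊗[A] P →ₗ[A[T;T⁻¹]] A[T;T⁻¹] ⊗[A] P' where
  toFun x := tauL A P' (f (tauL A P x))
  map_add' x y := by simp only [map_add]
  map_smul' c x := by
    simp only [tauL_smul, map_smul, sigma_sigma, RingHom.id_apply]

theorem conjTau_apply (f : A[T;T⁻¹] ⊗[A] P →ₗ[A[T;T⁻¹]] A[T;T⁻¹] ⊗[A] P') (x) :
    conjTau f x = tauL A P' (f (tauL A P x)) := rfl

end conj

section monic

variable {A : Type*} [CommRing A]

/-- a pair of `A[X]`-linear maps between `A[X] ⊗ P` and `A[X] ⊗ P'` with composites a monic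
polynomial forces `P ≃ P'`. -/
theorem equiv_of_monic_lattice (P P' : Type*)
    [AddCommGroup P] [Module A P] [Module.Finite A P] [Module.Projective A P]
    [AddCommGroup P'] [Module A P'] [Module.Finite A P'] [Module.Projective A P']
    (a : A[X] ⊗[A] P →ₗ[A[X]] A[X] ⊗[A] P') (b : A[X] ⊗[A] P' →ₗ[A[X]] A[X] ⊗[A] P)
    (f : A[X]) (hf : f.Monic) (hba : ∀ x, b (a x) = f • x) (hab : ∀ y, a (b y) = f • y) :
    Nonempty (P ≃ₗ[A] P') := by
  let aL : A[T;T⁻¹] ⊗[A] P →ₗ[A[T;T⁻¹]] A[T;T⁻¹] ⊗[A] P' :=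
    (cancelL A P').toLinearMap ∘ₗ (a.baseChange A[T;T⁻¹]) ∘ₗ (cancelL A P).symm.toLinearMap
  let bL : A[T;T⁻¹] ⊗[A] P' →ₗ[A[T;T⁻¹]] A[T;T⁻¹] ⊗[A] P :=
    (cancelL A P).toLinearMap ∘ₗ (b.baseChange A[T;T⁻¹]) ∘ₗ (cancelL A P').symm.toLinearMap
  have hbc1 : ∀ z, (b.baseChange A[T;T⁻¹]) ((a.baseChange A[T;T⁻¹]) z) = toLaurent f • z := by
    intro z
    induction z using TensorProduct.induction_on with
    | zero => simp
    | tmul l m =>
      rw [LinearMap.baseChange_tmul, LinearMap.baseChange_tmul, hba, TensorProduct.tmul_smul,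
        ← algebraMap_smul A[T;T⁻¹] f (l ⊗ₜ[A[X]] m)]
      rfl
    | add x y hx hy => rw [map_add, map_add, hx, hy, smul_add]
  have hbc2 : ∀ z, (a.baseChange A[T;T⁻¹]) ((b.baseChange A[T;T⁻¹]) z) = toLaurent f • z := by
    intro z
    induction z using TensorProduct.induction_on with
    | zero => simp
    | tmul l m =>
      rw [LinearMap.baseChange_tmul, LinearMap.baseChange_tmul, hab, TensorProduct.tmul_smul,
        ← algebraMap_smul A[T;T⁻¹] f (l ⊗ₜ[A[X]] m)]
      rfl
    | add x y hx hy => rw [map_add, map_add, hx, hy, smul_add]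
  have hL1 : ∀ x, bL (aL x) = toLaurent f • x := by
    intro x
    simp only [aL, bL, LinearMap.coe_comp, LinearEquiv.coe_coe, Function.comp_apply,
      LinearEquiv.symm_apply_apply, hbc1, map_smul, LinearEquiv.apply_symm_apply]
  have hL2 : ∀ y, aL (bL y) = toLaurent f • y := by
    intro y
    simp only [aL, bL, LinearMap.coe_comp, LinearEquiv.coe_coe, Function.comp_apply,
      LinearEquiv.symm_apply_apply, hbc2, map_smul, LinearEquiv.apply_symm_apply]
  have hT : (T (f.natDegree : ℤ) : A[T;T⁻¹]) * sigma A (toLaurent f) = toLaurent f.reverse := by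
    rw [sigma_toLaurent, mul_comm, mul_T_assoc, neg_add_cancel, T_zero, mul_one]
  refine equiv_of_laurent_lattice P P' (conjTau aL)
    ((T (f.natDegree : ℤ) : A[T;T⁻¹]) • conjTau bL) f.reverse ?_ ?_ ?_
  · rw [Polynomial.coeff_zero_reverse, hf.leadingCoeff]
  · intro x
    rw [LinearMap.smul_apply, conjTau_apply, conjTau_apply, tauL_tauL, hL1, tauL_smul, tauL_tauL,
      smul_smul, hT]
  · intro y
    rw [LinearMap.smul_apply, map_smul, conjTau_apply, conjTau_apply, tauL_tauL, hL2, tauL_smul,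
      tauL_tauL, smul_smul, hT]

/-- **Descent along the localization at monic polynomials.** -/
theorem equiv_of_monicLocalization_equiv (M : Submonoid A[X]) (hM : ∀ f : A[X], f ∈ M → f.Monic)
    (At : Type*) [CommRing At] [Algebra A[X] At] [IsLocalization M At]
    [Algebra A At] [IsScalarTower A A[X] At]
    (P P' : Type*) [AddCommGroup P] [Module A P] [Module.Finite A P] [Module.Projective A P]
    [AddCommGroup P'] [Module A P'] [Module.Finite A P'] [Module.Projective A P']
    (Φ : (At ⊗[A] P) ≃ₗ[At] (At ⊗[A] P')) : Nonempty (P ≃ₗ[A] P') := by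
  let Φ' : At ⊗[A[X]] (A[X] ⊗[A] P) ≃ₗ[At] At ⊗[A[X]] (A[X] ⊗[A] P') :=
    ((TensorProduct.AlgebraTensorModule.cancelBaseChange A A[X] At At P).trans Φ).trans
      (TensorProduct.AlgebraTensorModule.cancelBaseChange A A[X] At At P').symm
  haveI : Module.FinitePresentation A[X] (A[X] ⊗[A] P) :=
    Module.finitePresentation_of_projective _ _
  haveI : Module.FinitePresentation A[X] (A[X] ⊗[A] P') :=
    Module.finitePresentation_of_projective _ _
  obtain ⟨a, b, f, hfM, hba, hab⟩ := exists_lattice_of_localization_equiv M At Φ'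
  exact equiv_of_monic_lattice P P' a b f (hM f hfM) hba hab

end monic

end Groth.Agent.H36
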