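import Groth.Agent.H36.HorrocksPrimeLattice

/-!
# From a vector bundle on the projective line to lattice data on the affine line
-/

namespace Groth.Agent.H36

open Polynomial LaurentPolynomial TensorProduct

section basechange

variable {S : Type*} [CommRing S] (L : Type*) [CommRing L] [Algebra S L]
variable {N : Type*} [AddCommGroup N] [Module S N] {n : ℕ}

/-- coordinatewise algebra map -/
noncomputable def kappa (n : ℕ) : (Fin n → S) →ₗ[S] (Fin n → L) :=
  LinearMap.pi fun i => (Algebra.linearMap S L) ∘ₗ LinearMap.proj i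

@[simp] theorem kappa_apply (v : Fin n → S) (i : Fin n) : kappa L n v i = algebraMap S L (v i) :=
  rfl

/-- base change of `α : N → S^n` -/
noncomputable def alphaL (α : N →ₗ[S] (Fin n → S)) : L ⊗[S] N →ₗ[L] (Fin n → L) :=
  LinearMap.liftBaseChange L (kappa L n ∘ₗ α)

/-- base change of `β : S^n → N` -/
noncomputable def betaL (β : (Fin n → S) →ₗ[S] N) : (Fin n → L) →ₗ[L] L ⊗[S] N :=
  Fintype.linearCombination L (fun l => (1 : L) ⊗ₜ[S] β (Pi.single l 1))

theorem alphaL_tmul (α : N →ₗ[S] (Fin n → S)) (c : L) (x : N) :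
    alphaL L α (c ⊗ₜ x) = c • kappa L n (α x) := by
  simp [alphaL]

theorem betaL_kappa (β : (Fin n → S) →ₗ[S] N) (v : Fin n → S) :
    betaL L β (kappa L n v) = (1 : L) ⊗ₜ[S] β v := by
  classical
  have hv : v = ∑ l, v l • (Pi.single l 1 : Fin n → S) := by
    ext i; simp [Finset.sum_apply, Pi.single_apply]
  conv_rhs => rw [hv, map_sum, TensorProduct.tmul_sum]
  rw [betaL, Fintype.linearCombination_apply]
  refine Finset.sum_congr rfl fun l _ => ?_
  rw [map_smul, kappa_apply, TensorProduct.tmul_smul, ← algebraMap_smul L (v l)]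

theorem betaL_alphaL (α : N →ₗ[S] (Fin n → S)) (β : (Fin n → S) →ₗ[S] N) (g : S)
    (h : ∀ x, β (α x) = g • x) (y : L ⊗[S] N) :
    betaL L β (alphaL L α y) = algebraMap S L g • y := by
  induction y using TensorProduct.induction_on with
  | zero => simp
  | add x y hx hy => rw [map_add, map_add, hx, hy, smul_add]
  | tmul c x =>
    rw [alphaL_tmul, map_smul, betaL_kappa, h, TensorProduct.tmul_smul, smul_comm,
      TensorProduct.smul_tmul', smul_eq_mul, mul_one, algebraMap_smul]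

theorem alphaL_betaL (α : N →ₗ[S] (Fin n → S)) (β : (Fin n → S) →ₗ[S] N) (g : S)
    (h : ∀ v, α (β v) = g • v) (v : Fin n → L) :
    alphaL L α (betaL L β v) = algebraMap S L g • v := by
  classical
  rw [betaL, Fintype.linearCombination_apply, map_sum]
  funext i
  simp only [map_smul, alphaL_tmul, one_smul, h, Finset.sum_apply, Pi.smul_apply, kappa_apply,
    smul_eq_mul, Pi.single_apply]
  rw [Finset.sum_eq_single i]
  · simp [mul_comm, Algebra.smul_def]
  · intro j _ hji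
    simp [hji.symm]
  · simp

end basechange

end Groth.Agent.H36

namespace Groth.Agent.H36

open Polynomial LaurentPolynomial TensorProduct

section twist

/-- the involution `T ↦ T⁻¹` as a ring hom -/
noncomputable abbrev sigma (A : Type*) [CommRing A] : A[T;T⁻¹] →+* A[T;T⁻¹] :=
  (LaurentPolynomial.invert (R := A)).toRingEquiv.toRingHom

variable {A : Type*} [CommRing A]

theorem sigma_sigma (c : A[T;T⁻¹]) : sigma A (sigma A c) = c :=
  LaurentPolynomial.involutive_invert c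

variable {M N : Type*} [AddCommGroup M] [Module A[X] M] [AddCommGroup N] [Module A[X] N] {n : ℕ}

/-- coordinatewise inversion -/
noncomputable def invPi (n : ℕ) (v : Fin n → A[T;T⁻¹]) : Fin n → A[T;T⁻¹] :=
  fun l => sigma A (v l)

theorem invPi_smul (c : A[T;T⁻¹]) (v : Fin n → A[T;T⁻¹]) :
    invPi n (c • v) = sigma A c • invPi n v := by
  funext l; simp [invPi]

theorem invPi_add (v w : Fin n → A[T;T⁻¹]) : invPi n (v + w) = invPi n v + invPi n w := by
  funext l; simp [invPi]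

theorem invPi_invPi (v : Fin n → A[T;T⁻¹]) : invPi n (invPi n v) = v := by
  funext l; exact sigma_sigma (v l)

/-- the twisted map `Λ ⊗ M → Λ^n` -/
noncomputable def twistPhi (e : (A[T;T⁻¹] ⊗[A[X]] M) →ₛₗ[sigma A] (A[T;T⁻¹] ⊗[A[X]] N))
    (α : N →ₗ[A[X]] (Fin n → A[X])) :
    A[T;T⁻¹] ⊗[A[X]] M →ₗ[A[T;T⁻¹]] (Fin n → A[T;T⁻¹]) where
  toFun x := invPi n (alphaL A[T;T⁻¹] α (e x))
  map_add' x y := by rw [map_add, map_add, invPi_add]
  map_smul' c x := by
    rw [map_smulₛₗ, map_smul, invPi_smul, sigma_sigma]; rfl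

/-- the twisted map `Λ^n → Λ ⊗ M` -/
noncomputable def twistPsi (e : (A[T;T⁻¹] ⊗[A[X]] M) →ₛₗ[sigma A] (A[T;T⁻¹] ⊗[A[X]] N))
    (he : Function.Bijective e) (β : (Fin n → A[X]) →ₗ[A[X]] N) :
    (Fin n → A[T;T⁻¹]) →ₗ[A[T;T⁻¹]] A[T;T⁻¹] ⊗[A[X]] M where
  toFun v := (Equiv.ofBijective e he).symm (betaL A[T;T⁻¹] β (invPi n v))
  map_add' v w := by
    apply he.1
    rw [map_add]
    simp only [Equiv.ofBijective_apply_symm_apply, invPi_add, map_add]
  map_smul' c v := by
    apply he.1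
    rw [map_smulₛₗ]
    simp only [Equiv.ofBijective_apply_symm_apply, invPi_smul, map_smul, RingHom.id_apply]

theorem twistPsi_twistPhi (e : (A[T;T⁻¹] ⊗[A[X]] M) →ₛₗ[sigma A] (A[T;T⁻¹] ⊗[A[X]] N))
    (he : Function.Bijective e) (α : N →ₗ[A[X]] (Fin n → A[X]))
    (β : (Fin n → A[X]) →ₗ[A[X]] N) (g : A[X]) (h : ∀ x, β (α x) = g • x)
    (x : A[T;T⁻¹] ⊗[A[X]] M) :
    twistPsi e he β (twistPhi e α x) = sigma A (toLaurent g) • x := by
  apply he.1
  change e ((Equiv.ofBijective e he).symm (betaL A[T;T⁻¹] β (invPi n (invPi n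
    (alphaL A[T;T⁻¹] α (e x)))))) = _
  rw [Equiv.ofBijective_apply_symm_apply e he, invPi_invPi, betaL_alphaL A[T;T⁻¹] α β g h,
    map_smulₛₗ, sigma_sigma]
  rfl

theorem twistPhi_twistPsi (e : (A[T;T⁻¹] ⊗[A[X]] M) →ₛₗ[sigma A] (A[T;T⁻¹] ⊗[A[X]] N))
    (he : Function.Bijective e) (α : N →ₗ[A[X]] (Fin n → A[X]))
    (β : (Fin n → A[X]) →ₗ[A[X]] N) (g : A[X]) (h : ∀ v, α (β v) = g • v)
    (v : Fin n → A[T;T⁻¹]) :
    twistPhi e α (twistPsi e he β v) = sigma A (toLaurent g) • v := by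
  change invPi n (alphaL A[T;T⁻¹] α (e ((Equiv.ofBijective e he).symm
    (betaL A[T;T⁻¹] β (invPi n v))))) = _
  rw [Equiv.ofBijective_apply_symm_apply e he, alphaL_betaL A[T;T⁻¹] α β g h, invPi_smul,
    invPi_invPi]
  rfl

end twist

end Groth.Agent.H36

namespace Groth.Agent.H36

open Polynomial LaurentPolynomial TensorProduct

section descend

variable {A : Type*} [CommRing A] {M : Type*} [AddCommGroup M] [Module A[X] M] {n : ℕ}

theorem kappa_injective :
    Function.Injective (kappa A[T;T⁻¹] n : (Fin n → A[X]) →ₗ[A[X]] (Fin n → A[T;T⁻¹])) := by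
  intro v w h
  funext i
  have := congrFun h i
  simp only [kappa_apply, LaurentPolynomial.algebraMap_eq_toLaurent] at this
  exact Polynomial.toLaurent_injective this

theorem tmul_one_injective [Module.Flat A[X] M] :
    Function.Injective (TensorProduct.mk A[X] A[T;T⁻¹] M 1) := by
  rw [← LinearMap.ker_eq_bot, LinearMap.ker_eq_bot']
  intro x hx
  obtain ⟨c, hc⟩ := (IsLocalizedModule.eq_zero_iff (Submonoid.powers (X : A[X]))
    (TensorProduct.mk A[X] A[T;T⁻¹] M 1)).mp hx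
  obtain ⟨k, hk⟩ := c.2
  have hreg : IsSMulRegular M ((X : A[X]) ^ k) :=
    Module.Flat.isSMulRegular_of_nonZeroDivisors ((monic_X_pow k).mem_nonZeroDivisors)
  apply hreg
  have h0 : (c : A[X]) • x = 0 := hc
  have hk' : (X : A[X]) ^ k = (c : A[X]) := hk
  change (X : A[X]) ^ k • x = (X : A[X]) ^ k • (0 : M)
  rw [smul_zero, hk', h0]

theorem sigma_toLaurent (g : A[X]) :
    sigma A (toLaurent g) = toLaurent g.reverse * T (-(g.natDegree : ℤ)) := by
  rw [LaurentPolynomial.toLaurent_reverse, mul_T_assoc, add_neg_cancel, T_zero, mul_one]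
  rfl

theorem T_mul_sigma_toLaurent (g : A[X]) (K : ℕ) (hK : g.natDegree ≤ K) :
    (T (K : ℤ) : A[T;T⁻¹]) * sigma A (toLaurent g) =
      toLaurent (X ^ (K - g.natDegree) * g.reverse) := by
  rw [sigma_toLaurent, map_mul, Polynomial.toLaurent_X_pow, mul_comm (T (K : ℤ)), mul_T_assoc,
    mul_comm]
  congr 2
  push_cast [hK]
  ring

end descend

end Groth.Agent.H36

namespace Groth.Agent.H36

open Polynomial LaurentPolynomial TensorProduct

section descend2

variable {A : Type*} [CommRing A] {M : Type*} [AddCommGroup M] [Module A[X] M]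
  [Module.Finite A[X] M] [Module.Flat A[X] M] {n : ℕ}

theorem exists_lattice_of_twist
    (Φ : A[T;T⁻¹] ⊗[A[X]] M →ₗ[A[T;T⁻¹]] (Fin n → A[T;T⁻¹]))
    (Ψ : (Fin n → A[T;T⁻¹]) →ₗ[A[T;T⁻¹]] A[T;T⁻¹] ⊗[A[X]] M) (g : A[X])
    (h1 : ∀ x, Ψ (Φ x) = sigma A (toLaurent g) • x)
    (h2 : ∀ v, Φ (Ψ v) = sigma A (toLaurent g) • v) :
    ∃ (φ : M →ₗ[A[X]] (Fin n → A[X])) (ψ : (Fin n → A[X]) →ₗ[A[X]] M) (k : ℕ),
      (∀ x, ψ (φ x) = (X ^ k * g.reverse) • x) ∧ (∀ v, φ (ψ v) = (X ^ k * g.reverse) • v) := by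
  classical
  set j := TensorProduct.mk A[X] A[T;T⁻¹] M 1 with hj
  set d := g.natDegree with hd
  obtain ⟨gens, hgens⟩ := (Module.Finite.fg_top : (⊤ : Submodule A[X] M).FG)
  -- step (i)
  have hT : ∀ (x : M) (l : Fin n), ∃ k : ℕ, ∀ k' ≥ k, ∃ f' : A[X],
      toLaurent f' = Φ (j x) l * T (k' : ℤ) := by
    intro x l
    obtain ⟨k, f', hf'⟩ := LaurentPolynomial.exists_T_pow (Φ (j x) l)
    refine ⟨k, fun k' hk' => ⟨f' * X ^ (k' - k), ?_⟩⟩
    rw [map_mul, hf', Polynomial.toLaurent_X_pow, mul_T_assoc]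
    congr 2
    push_cast [hk']
    ring
  choose kT hkT using hT
  set k₁ := d + ∑ x ∈ gens, ∑ l, kT x l with hk₁def
  have hk₁ : ∀ x ∈ gens, ∀ l, kT x l ≤ k₁ := by
    intro x hx l
    have h1 : kT x l ≤ ∑ l, kT x l :=
      Finset.single_le_sum (f := fun l => kT x l) (fun _ _ => Nat.zero_le _) (Finset.mem_univ l)
    have h2 : ∑ l, kT x l ≤ ∑ x ∈ gens, ∑ l, kT x l :=
      Finset.single_le_sum (f := fun x => ∑ l, kT x l) (fun _ _ => Nat.zero_le _) hx
    omega
  set LΦ : M →ₗ[A[X]] (Fin n → A[T;T⁻¹]) :=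
    ((T (k₁ : ℤ) : A[T;T⁻¹]) • Φ).restrictScalars A[X] ∘ₗ j with hLΦdef
  have hLΦ : ∀ x, LΦ x = (T (k₁ : ℤ) : A[T;T⁻¹]) • Φ (j x) := fun x => rfl
  have hrange : LinearMap.range LΦ ≤ LinearMap.range (kappa A[T;T⁻¹] n) := by
    rw [LinearMap.range_eq_map, ← hgens, Submodule.map_span, Submodule.span_le]
    rintro _ ⟨x, hx, rfl⟩
    choose f' hf' using fun l => hkT x l k₁ (hk₁ x hx l)
    refine ⟨f', ?_⟩
    funext l
    rw [kappa_apply, LaurentPolynomial.algebraMap_eq_toLaurent, hf', hLΦ, Pi.smul_apply,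
      smul_eq_mul, mul_comm]
  set κe := LinearEquiv.ofInjective (kappa A[T;T⁻¹] n) (kappa_injective (A := A) (n := n))
    with hκe
  set φ : M →ₗ[A[X]] (Fin n → A[X]) := κe.symm.toLinearMap ∘ₗ
    LΦ.codRestrict (LinearMap.range (kappa A[T;T⁻¹] n)) (fun x => hrange ⟨x, rfl⟩) with hφdef
  have hφ : ∀ x, kappa A[T;T⁻¹] n (φ x) = (T (k₁ : ℤ) : A[T;T⁻¹]) • Φ (j x) := by
    intro x
    have := κe.apply_symm_apply
      (LΦ.codRestrict (LinearMap.range (kappa A[T;T⁻¹] n)) (fun x => hrange ⟨x, rfl⟩) x)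
    exact congrArg Subtype.val this
  -- step (ii)
  have hS : ∀ l : Fin n, ∃ k : ℕ, ∀ k' ≥ k, ∃ y : M,
      j y = (T (k' : ℤ) : A[T;T⁻¹]) • Ψ (Pi.single l 1) := by
    intro l
    obtain ⟨⟨x, c⟩, hxc⟩ := IsLocalizedModule.surj (Submonoid.powers (X : A[X])) j
      (Ψ (Pi.single l 1))
    obtain ⟨k, hk⟩ := c.2
    have hk' : (X : A[X]) ^ k = (c : A[X]) := hk
    have hxc' : (T (k : ℤ) : A[T;T⁻¹]) • Ψ (Pi.single l 1) = j x := by
      have : (c : A[X]) • Ψ (Pi.single l 1) = j x := hxc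
      rw [← hk', ← algebraMap_smul A[T;T⁻¹], LaurentPolynomial.algebraMap_X_pow] at this
      exact this
    refine ⟨k, fun k' hk'' => ⟨(X : A[X]) ^ (k' - k) • x, ?_⟩⟩
    rw [map_smul, ← hxc', ← algebraMap_smul A[T;T⁻¹] ((X : A[X]) ^ (k' - k)),
      LaurentPolynomial.algebraMap_X_pow, smul_smul, ← T_add]
    congr 2
    push_cast [hk'']
    ring
  choose kS hkS using hS
  set k₂ := ∑ l, kS l with hk₂def
  have hk₂ : ∀ l, kS l ≤ k₂ := fun l =>
    Finset.single_le_sum (f := fun l => kS l) (fun _ _ => Nat.zero_le _) (Finset.mem_univ l)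
  choose y hy using fun l => hkS l k₂ (hk₂ l)
  set ψ : (Fin n → A[X]) →ₗ[A[X]] M := Fintype.linearCombination A[X] y with hψdef
  have hψ : ∀ v, j (ψ v) = (T (k₂ : ℤ) : A[T;T⁻¹]) • Ψ (kappa A[T;T⁻¹] n v) := by
    intro v
    have hκv : kappa A[T;T⁻¹] n v =
        ∑ l, algebraMap A[X] A[T;T⁻¹] (v l) • (Pi.single l 1 : Fin n → A[T;T⁻¹]) := by
      funext i
      rw [kappa_apply, Finset.sum_apply, Finset.sum_eq_single i]
      · rw [Pi.smul_apply, Pi.single_eq_same, smul_eq_mul, mul_one]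
      · intro l _ hli
        rw [Pi.smul_apply, Pi.single_eq_of_ne (Ne.symm hli), smul_zero]
      · intro hi
        exact absurd (Finset.mem_univ i) hi
    rw [hψdef, Fintype.linearCombination_apply, map_sum, hκv, map_sum, Finset.smul_sum]
    refine Finset.sum_congr rfl fun l _ => ?_
    rw [map_smul, hy l, map_smul, smul_comm, algebraMap_smul]
  -- step (iii)
  have hk₁d : d ≤ k₁ + k₂ := by omega
  set K := k₁ + k₂ - d with hK
  have hTσ : (T (k₂ : ℤ) : A[T;T⁻¹]) * (T (k₁ : ℤ) : A[T;T⁻¹]) * sigma A (toLaurent g) =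
      toLaurent (X ^ K * g.reverse) := by
    rw [← T_add, ← T_mul_sigma_toLaurent g (k₁ + k₂) hk₁d]
    congr 2
    push_cast
    ring
  have hTσ' : (T (k₁ : ℤ) : A[T;T⁻¹]) * (T (k₂ : ℤ) : A[T;T⁻¹]) * sigma A (toLaurent g) =
      toLaurent (X ^ K * g.reverse) := by
    rw [mul_comm (T (k₁ : ℤ) : A[T;T⁻¹])]; exact hTσ
  refine ⟨φ, ψ, K, fun x => ?_, fun v => ?_⟩
  · apply tmul_one_injective (A := A) (M := M)
    change j (ψ (φ x)) = j ((X ^ K * g.reverse) • x)
    rw [hψ, hφ, map_smul, h1, smul_smul, smul_smul, hTσ, map_smul,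
      ← algebraMap_smul A[T;T⁻¹] (X ^ K * g.reverse), LaurentPolynomial.algebraMap_eq_toLaurent]
  · apply kappa_injective (A := A) (n := n)
    rw [hφ, hψ, map_smul, h2, smul_smul, smul_smul, hTσ',
      map_smul, ← algebraMap_smul A[T;T⁻¹] (X ^ K * g.reverse),
      LaurentPolynomial.algebraMap_eq_toLaurent]

end descend2

end Groth.Agent.H36

namespace Groth.Agent.H36

open Polynomial LaurentPolynomial TensorProduct

/-- A vector bundle on the projective line over `A`, restricted to the affine line, is a lattice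
in a free module near every point of `Spec A`: for each prime `m` of `A` there are maps
`φ : M → A[X]^n`, `ψ : A[X]^n → M` both of whose composites are multiplication by a polynomial `d`
whose leading coefficient is not in `m`. -/
theorem exists_lattice_of_P1 {A : Type*} [CommRing A] (M N : Type*) [AddCommGroup M]
    [Module A[X] M] [Module.Finite A[X] M] [Module.Projective A[X] M]
    [AddCommGroup N] [Module A[X] N] [Module.Finite A[X] N] [Module.Projective A[X] N]
    (e : (A[T;T⁻¹] ⊗[A[X]] M) →ₛₗ[sigma A] (A[T;T⁻¹] ⊗[A[X]] N)) (he : Function.Bijective e)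
    (m : Ideal A) [m.IsPrime] :
    ∃ (n : ℕ) (φ : M →ₗ[A[X]] (Fin n → A[X])) (ψ : (Fin n → A[X]) →ₗ[A[X]] M) (d : A[X]),
      (∀ x, ψ (φ x) = d • x) ∧ (∀ v, φ (ψ v) = d • v) ∧ d.leadingCoeff ∉ m := by
  have : (m.comap (Polynomial.constantCoeff : A[X] →+* A)).IsPrime := Ideal.comap_isPrime _ _
  obtain ⟨n, α, β, g, hg, h1, h2⟩ :=
    exists_lattice_at_prime (N := N) (m.comap (Polynomial.constantCoeff : A[X] →+* A))
  have hg0 : g.coeff 0 ∉ m := by
    simpa [Ideal.mem_comap] using hg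
  have hg0' : g.coeff 0 ≠ 0 := fun h => hg0 (h ▸ m.zero_mem)
  obtain ⟨φ, ψ, k, hφψ, hψφ⟩ := exists_lattice_of_twist (M := M) (twistPhi e α)
    (twistPsi e he β) g (twistPsi_twistPhi e he α β g h1) (twistPhi_twistPsi e he α β g h2)
  refine ⟨n, φ, ψ, X ^ k * g.reverse, hφψ, hψφ, ?_⟩
  rw [mul_comm, Polynomial.leadingCoeff_mul_X_pow, Polynomial.reverse_leadingCoeff,
    Polynomial.trailingCoeff_eq_coeff_zero hg0']
  exact hg0

end Groth.Agent.H36
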