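import Groth.Agent.H36.HorrocksShift

/-!
# Local-global principle for idempotent matrices over `A[X]` (Quillen patching, Vaserstein style)
-/

namespace Groth.Agent.H36

open Polynomial Matrix

/-- Murray–von Neumann equivalence data between (idempotent) matrices:
`a` maps the range of `e₁` to the range of `e₂`, `b` is inverse to it. -/
structure IsMvN {S : Type*} [CommRing S] {r : ℕ} (e₁ e₂ a b : Matrix (Fin r) (Fin r) S) :
    Prop where
  ab : a * b = e₂
  ba : b * a = e₁
  ea : e₂ * a = a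
  ae : a * e₁ = a
  eb : e₁ * b = b
  be : b * e₂ = b

namespace IsMvN

variable {S : Type*} [CommRing S] {r : ℕ}

theorem refl {e : Matrix (Fin r) (Fin r) S} (he : e * e = e) : IsMvN e e e e :=
  ⟨he, he, he, he, he, he⟩

theorem trans {e₀ e₁ e₂ a b a' b' : Matrix (Fin r) (Fin r) S} (h : IsMvN e₁ e₂ a b)
    (h' : IsMvN e₀ e₁ a' b') : IsMvN e₀ e₂ (a * a') (b' * b) where
  ab := by
    calc a * a' * (b' * b) = a * (a' * b') * b := by simp only [Matrix.mul_assoc]
      _ = a * e₁ * b := by rw [h'.ab]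
      _ = e₂ := by rw [h.ae, h.ab]
  ba := by
    calc b' * b * (a * a') = b' * (b * a) * a' := by simp only [Matrix.mul_assoc]
      _ = b' * e₁ * a' := by rw [h.ba]
      _ = e₀ := by rw [h'.be, h'.ba]
  ea := by rw [← Matrix.mul_assoc, h.ea]
  ae := by rw [Matrix.mul_assoc, h'.ae]
  eb := by rw [← Matrix.mul_assoc, h'.eb]
  be := by rw [Matrix.mul_assoc, h.be]

theorem map {T : Type*} [CommRing T] (f : S →+* T) {e₁ e₂ a b : Matrix (Fin r) (Fin r) S}
    (h : IsMvN e₁ e₂ a b) : IsMvN (e₁.map f) (e₂.map f) (a.map f) (b.map f) where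
  ab := by rw [← Matrix.map_mul, h.ab]
  ba := by rw [← Matrix.map_mul, h.ba]
  ea := by rw [← Matrix.map_mul, h.ea]
  ae := by rw [← Matrix.map_mul, h.ae]
  eb := by rw [← Matrix.map_mul, h.eb]
  be := by rw [← Matrix.map_mul, h.be]

end IsMvN

theorem matrix_map_comp {S T U : Type*} [CommRing S] [CommRing T] [CommRing U] {m n : Type*}
    (M : Matrix m n S) (f : S →+* T) (g : T →+* U) : (M.map f).map g = M.map (g.comp f) := by
  ext i j; simp

variable {A : Type*} [CommRing A] {r : ℕ}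

/-- the set of `g` such that `e(x + g y)` is equivalent to `e(x)` over `A[x,y]`, by an
equivalence restricting to the identity at `y = 0` -/
def PatchSet (e : Matrix (Fin r) (Fin r) A[X]) : Set A :=
  {g | ∃ a b : Matrix (Fin r) (Fin r) A[X][X],
    IsMvN (e.map (sft g)) (e.map (sft 0)) a b ∧ a.map ev0 = e ∧ b.map ev0 = e}

theorem zero_mem_patchSet (e : Matrix (Fin r) (Fin r) A[X]) (he : e * e = e) :
    (0 : A) ∈ PatchSet e := by
  refine ⟨e.map (sft 0), e.map (sft 0), IsMvN.refl ?_, ?_, ?_⟩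
  · rw [← Matrix.map_mul, he]
  · rw [matrix_map_comp, ev0_comp_sft]; ext i j; simp
  · rw [matrix_map_comp, ev0_comp_sft]; ext i j; simp

theorem add_mem_patchSet (e : Matrix (Fin r) (Fin r) A[X]) (he : e * e = e) {g g' : A}
    (hg : g ∈ PatchSet e) (hg' : g' ∈ PatchSet e) : g + g' ∈ PatchSet e := by
  obtain ⟨a, b, h, ha, hb⟩ := hg
  obtain ⟨a', b', h', ha', hb'⟩ := hg'
  have h'' := h'.map (tau g)
  rw [matrix_map_comp, matrix_map_comp, tau_comp_sft, tau_comp_sft, add_zero] at h''
  refine ⟨a * a'.map (tau g), b'.map (tau g) * b, h.trans h'', ?_, ?_⟩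
  · rw [Matrix.map_mul, matrix_map_comp, ev0_comp_tau, ha, ha', he]
  · rw [Matrix.map_mul, matrix_map_comp, ev0_comp_tau, hb, hb', he]

theorem smul_mem_patchSet (e : Matrix (Fin r) (Fin r) A[X]) (c : A) {g : A}
    (hg : g ∈ PatchSet e) : c * g ∈ PatchSet e := by
  obtain ⟨a, b, h, ha, hb⟩ := hg
  have h' := h.map (rho c)
  rw [matrix_map_comp, matrix_map_comp, rho_comp_sft, rho_comp_sft, mul_zero] at h'
  refine ⟨a.map (rho c), b.map (rho c), h', ?_, ?_⟩
  · rw [matrix_map_comp, ev0_comp_rho, ha]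
  · rw [matrix_map_comp, ev0_comp_rho, hb]

/-- the patching ideal -/
def patchIdeal (e : Matrix (Fin r) (Fin r) A[X]) (he : e * e = e) : Ideal A where
  carrier := PatchSet e
  zero_mem' := zero_mem_patchSet e he
  add_mem' := add_mem_patchSet e he
  smul_mem' c _ hg := smul_mem_patchSet e c hg

end Groth.Agent.H36
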