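import Mathlib

/-!
# A finitely generated projective module is a "lattice" near a prime

For a finitely generated projective `S`-module `N` and a prime `𝔭`, there are linear maps
`α : N → S^n`, `β : S^n → N` with `β ∘ α = g`, `α ∘ β = g` for some `g ∉ 𝔭`.
-/

namespace Groth.Agent.H36

theorem exists_common_kill {S : Type*} [CommRing S] (T : Submonoid S) {N : Type*}
    [AddCommGroup N] [Module S N] {ι : Type*} (F : Finset ι) (y : ι → N)
    (h : ∀ i ∈ F, ∃ t : T, t • y i = 0) : ∃ t : T, ∀ i ∈ F, (t : S) • y i = 0 := by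
  classical
  choose! tx htx using h
  refine ⟨∏ i ∈ F, tx i, fun i hi => ?_⟩
  rw [Submonoid.coe_finsetProd, ← Finset.prod_erase_mul F (fun j => (tx j : S)) hi, mul_smul,
    ← Submonoid.smul_def (tx i), htx i hi, smul_zero]

theorem exists_lattice_at_prime {S : Type*} [CommRing S] {N : Type*} [AddCommGroup N]
    [Module S N] [Module.Finite S N] [Module.Projective S N] (𝔭 : Ideal S) [𝔭.IsPrime] :
    ∃ (n : ℕ) (α : N →ₗ[S] (Fin n → S)) (β : (Fin n → S) →ₗ[S] N) (g : S), g ∉ 𝔭 ∧
      (∀ x, β (α x) = g • x) ∧ (∀ v, α (β v) = g • v) := by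
  classical
  set Sp := Localization.AtPrime 𝔭 with hSp
  set Np := LocalizedModule 𝔭.primeCompl N with hNp
  set loc := LocalizedModule.mkLinearMap 𝔭.primeCompl N with hloc
  have : Module.Free Sp Np := Module.free_of_flat_of_isLocalRing
  set n := Module.finrank Sp Np with hn
  set bb : Module.Basis (Fin n) Sp Np := Module.finBasis Sp Np with hbb
  obtain ⟨s₀, hs₀⟩ := IsLocalizedModule.exist_integer_multiples_of_finite 𝔭.primeCompl loc
    (fun l => bb l)
  choose nl hnl using hs₀
  set β₀ : (Fin n → S) →ₗ[S] N := Fintype.linearCombination S nl with hβ₀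
  set fpi : (Fin n → S) →ₗ[S] (Fin n → Sp) :=
    LinearMap.pi fun i => (Algebra.linearMap S Sp) ∘ₗ LinearMap.proj i with hfpi
  set γ : N →ₗ[S] (Fin n → Sp) := (bb.equivFun.toLinearMap.restrictScalars S) ∘ₗ loc with hγ
  have : Module.FinitePresentation S N := Module.finitePresentation_of_projective S N
  obtain ⟨α₀, s, hα₀⟩ :=
    Module.FinitePresentation.exists_lift_of_isLocalizedModule 𝔭.primeCompl fpi γ
  have hα₀' : ∀ x l, algebraMap S Sp (α₀ x l) = (s : S) • bb.repr (loc x) l := by
    intro x l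
    have := congrFun (LinearMap.congr_fun hα₀ x) l
    simpa [hfpi, hγ, Submonoid.smul_def] using this
  have hlocβ₀ : ∀ v : Fin n → S, loc (β₀ v) = (s₀ : S) • ∑ l, algebraMap S Sp (v l) • bb l := by
    intro v
    rw [hβ₀, Fintype.linearCombination_apply, map_sum, Finset.smul_sum]
    refine Finset.sum_congr rfl fun l _ => ?_
    rw [map_smul, hnl l, algebraMap_smul, smul_comm]
  have h1 : ∀ x, loc (β₀ (α₀ x)) = ((s₀ : S) * (s : S)) • loc x := by
    intro x
    rw [hlocβ₀]
    simp only [hα₀']
    rw [mul_smul]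
    congr 1
    conv_rhs => rw [← bb.sum_repr (loc x), Finset.smul_sum]
    refine Finset.sum_congr rfl fun l _ => ?_
    rw [smul_assoc]
  -- kill the difference on generators of `N`
  obtain ⟨gens, hgens⟩ := (Module.Finite.fg_top : (⊤ : Submodule S N).FG)
  obtain ⟨t, ht⟩ := exists_common_kill 𝔭.primeCompl gens
    (fun x => β₀ (α₀ x) - ((s₀ : S) * (s : S)) • x) (by
      intro x _
      rw [← IsLocalizedModule.eq_zero_iff 𝔭.primeCompl loc, map_sub, h1, map_smul, sub_self])
  have h3 : ∀ x, (t : S) • β₀ (α₀ x) = ((t : S) * ((s₀ : S) * (s : S))) • x := by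
    have : (t : S) • (β₀ ∘ₗ α₀) = ((t : S) * ((s₀ : S) * (s : S))) • LinearMap.id := by
      apply LinearMap.ext_on hgens
      intro x hx
      simp only [LinearMap.smul_apply, LinearMap.comp_apply, LinearMap.id_apply]
      have h4 := ht x hx
      rw [smul_sub, sub_eq_zero] at h4
      rw [h4]
      simp only [mul_smul]
    intro x; exact LinearMap.congr_fun this x
  set g₁ : S := (t : S) * ((s₀ : S) * (s : S)) with hg₁
  set β : (Fin n → S) →ₗ[S] N := (t : S) • β₀ with hβ
  -- the other composite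
  have h5 : ∀ v : Fin n → S, fpi (α₀ (β v)) = fpi (g₁ • v) := by
    intro v
    funext l
    have e1 : fpi (α₀ (β v)) l = algebraMap S Sp (α₀ (β v) l) := by simp [hfpi]
    have e2 : fpi (g₁ • v) l = algebraMap S Sp g₁ * algebraMap S Sp (v l) := by
      simp [hfpi, Algebra.smul_def]
    rw [e1, e2, hα₀', hβ, LinearMap.smul_apply, map_smul, hlocβ₀]
    rw [← algebraMap_smul Sp (t : S), ← algebraMap_smul Sp (s₀ : S)]
    simp only [map_smul, map_sum, Module.Basis.repr_self, Finsupp.smul_apply, Finsupp.coe_finsetSum,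
      Finset.sum_apply, Finsupp.single_apply, smul_eq_mul]
    rw [Finset.sum_eq_single l]
    · simp only [if_true, mul_one, hg₁, map_mul, Algebra.smul_def]
      ring
    · intro j _ hjl
      simp [hjl]
    · simp
  obtain ⟨t', ht'⟩ := exists_common_kill 𝔭.primeCompl (Finset.univ : Finset (Fin n))
    (fun j => α₀ (β (Pi.single j 1)) - g₁ • (Pi.single j 1 : Fin n → S)) (by
      intro j _
      rw [← IsLocalizedModule.eq_zero_iff 𝔭.primeCompl fpi, map_sub, h5, sub_self])
  have h6 : ∀ v : Fin n → S, (t' : S) • α₀ (β v) = ((t' : S) * g₁) • v := by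
    have : (t' : S) • (α₀ ∘ₗ β) = ((t' : S) * g₁) • LinearMap.id := by
      apply LinearMap.pi_ext'
      intro j
      apply LinearMap.ext_ring
      simp only [LinearMap.coe_comp, LinearMap.coe_single, Function.comp_apply,
        LinearMap.smul_apply, LinearMap.id_coe, id_eq]
      have h7 := ht' j (Finset.mem_univ j)
      rw [smul_sub, sub_eq_zero] at h7
      rw [h7]
      simp only [hg₁, mul_smul]
    intro v; exact LinearMap.congr_fun this v
  refine ⟨n, (t' : S) • α₀, β, (t' : S) * g₁, ?_, ?_, ?_⟩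
  · have : (t' : S) * g₁ = ((t' * (t * (s₀ * s)) : 𝔭.primeCompl) : S) := by
      simp [hg₁]
    rw [this]
    exact (t' * (t * (s₀ * s))).2
  · intro x
    have e1 : ((t' : S) • α₀) x = (t' : S) • α₀ x := rfl
    have e2 : ∀ y, β y = (t : S) • β₀ y := fun y => rfl
    rw [e1, map_smul, e2, h3]
    simp only [hg₁, mul_smul]
  · intro v
    have e1 : ((t' : S) • α₀) (β v) = (t' : S) • α₀ (β v) := rfl
    rw [e1, h6]

end Groth.Agent.H36
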