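import Groth.Agent.H36.HorrocksMonic

/-!
# Isomorphisms over Laurent series descend

For finitely generated projective `R`-modules `M N`, an isomorphism `R((t)) ⊗ M ≃ R((t)) ⊗ N`
forces `M ≃ N`.
-/

namespace Groth.Agent.H36

open Polynomial LaurentPolynomial TensorProduct

section cayley

/-- Cayley–Hamilton: `1 + w` is invertible up to a scalar `s ≡ 1 mod I` when `w` maps a finite
module into `I •`. -/
theorem exists_smul_inverse_of_range_le {S : Type*} [CommRing S] (I : Ideal S) {Q : Type*}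
    [AddCommGroup Q] [Module S Q] [Module.Finite S Q] (w : Module.End S Q)
    (hw : LinearMap.range w ≤ I • ⊤) :
    ∃ (v : Module.End S Q) (s : S), s - 1 ∈ I ∧ (∀ z, v (z + w z) = s • z) ∧
      (∀ z, v z + w (v z) = s • z) := by
  obtain ⟨p, hmonic, -, hcoeff, hp⟩ :=
    LinearMap.exists_monic_and_natDegree_eq_and_coeff_mem_pow_and_aeval_eq_zero S w I hw
  set n := p.natDegree with hn
  set c : S := p.eval (-1) with hc
  have hroot : (p - Polynomial.C c).IsRoot (-1) := by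
    rw [Polynomial.IsRoot, Polynomial.eval_sub, Polynomial.eval_C, hc, sub_self]
  set h := (p - Polynomial.C c) /ₘ (X - Polynomial.C (-1)) with hh
  have hfac : (X - Polynomial.C (-1)) * h = p - Polynomial.C c :=
    Polynomial.mul_divByMonic_eq_iff_isRoot.mpr hroot
  have hfac' : (X + 1) * h = p - Polynomial.C c := by
    rw [← hfac]; simp
  have e1 : (w + 1) * Polynomial.aeval w h = -(c • (1 : Module.End S Q)) := by
    have := congrArg (Polynomial.aeval w) hfac'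
    rw [map_mul, map_add, map_one, Polynomial.aeval_X, map_sub, hp, zero_sub,
      Polynomial.aeval_C, Algebra.algebraMap_eq_smul_one] at this
    exact this
  have e2 : Polynomial.aeval w h * (w + 1) = -(c • (1 : Module.End S Q)) := by
    have := congrArg (Polynomial.aeval w) hfac'
    rw [mul_comm, map_mul, map_add, map_one, Polynomial.aeval_X, map_sub, hp, zero_sub,
      Polynomial.aeval_C, Algebra.algebraMap_eq_smul_one] at this
    exact this
  refine ⟨((-1 : S) ^ (n + 1)) • Polynomial.aeval w h, (-1) ^ n * c, ?_, ?_, ?_⟩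
  · -- `s - 1 ∈ I`
    have hsum : c = ∑ i ∈ Finset.range n, p.coeff i * (-1) ^ i + (-1) ^ n := by
      rw [hc, Polynomial.eval_eq_sum_range, Finset.sum_range_succ, ← hn,
        hmonic.coeff_natDegree, one_mul]
    have h1 : (-1 : S) ^ n * c - 1 = (-1) ^ n * ∑ i ∈ Finset.range n, p.coeff i * (-1) ^ i := by
      rw [hsum, mul_add, ← pow_add, ← two_mul, pow_mul]
      simp
    rw [h1]
    refine Ideal.mul_mem_left _ _ (Ideal.sum_mem _ fun i hi => Ideal.mul_mem_right _ _ ?_)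
    have hi' : n - i ≠ 0 := by
      have := Finset.mem_range.mp hi
      omega
    exact Ideal.pow_le_self hi' (hcoeff i)
  · intro z
    have := LinearMap.congr_fun e2 z
    simp only [Module.End.mul_apply, LinearMap.add_apply, Module.End.one_apply,
      LinearMap.neg_apply, LinearMap.smul_apply] at this
    rw [LinearMap.smul_apply, add_comm z (w z), this, pow_succ, mul_smul]
    simp [mul_smul]
  · intro z
    have := LinearMap.congr_fun e1 z
    simp only [Module.End.mul_apply, LinearMap.add_apply, Module.End.one_apply,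
      LinearMap.neg_apply, LinearMap.smul_apply] at this
    rw [LinearMap.smul_apply, map_smul, ← smul_add, add_comm _ (w _), this, pow_succ, mul_smul]
    simp [mul_smul]

end cayley

section coords

variable {R : Type*} [CommRing R] {M : Type*} [AddCommGroup M] [Module R M] {m : ℕ}
  (b : Fin m → M) (ι : Fin m → (M →ₗ[R] R))
  (B : Type*) [CommRing B] [Algebra R B]

/-- coordinates of `B ⊗ M` with respect to a dual basis of `M`. -/
noncomputable def coordB (i : Fin m) : B ⊗[R] M →ₗ[B] B :=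
  LinearMap.liftBaseChange B ((Algebra.linearMap R B) ∘ₗ ι i)

theorem coordB_tmul (i : Fin m) (c : B) (x : M) :
    coordB ι B i (c ⊗ₜ[R] x) = c * algebraMap R B (ι i x) := by
  simp [coordB]

include b in
theorem sum_coordB (hbι : ∀ x, ∑ j, ι j x • b j = x) (z : B ⊗[R] M) :
    ∑ i, coordB ι B i z • ((1 : B) ⊗ₜ[R] b i) = z := by
  induction z using TensorProduct.induction_on with
  | zero => simp
  | tmul c x =>
    simp only [coordB_tmul]
    conv_rhs => rw [← hbι x, TensorProduct.tmul_sum]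
    refine Finset.sum_congr rfl fun i _ => ?_
    rw [TensorProduct.smul_tmul', smul_eq_mul, mul_one, TensorProduct.tmul_smul,
      ← algebraMap_smul B (ι i x) (c ⊗ₜ[R] b i), TensorProduct.smul_tmul', smul_eq_mul, mul_comm]
  | add x y hx hy =>
    simp only [map_add, add_smul, Finset.sum_add_distrib, hx, hy]

end coords

section lift

/-- a map into `s •` of a projective module factors through multiplication by `s`. -/
theorem exists_factor_smul {S : Type*} [CommRing S] {Q Q' : Type*} [AddCommGroup Q] [Module S Q]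
    [AddCommGroup Q'] [Module S Q'] [Module.Projective S Q] (s : S) (D : Q →ₗ[S] Q')
    (hD : ∀ z, ∃ w, D z = s • w) : ∃ E : Q →ₗ[S] Q', ∀ z, D z = s • E z := by
  set f : Q' →ₗ[S] LinearMap.range (s • (LinearMap.id : Q' →ₗ[S] Q')) :=
    (s • (LinearMap.id : Q' →ₗ[S] Q')).rangeRestrict with hf
  have hfs : Function.Surjective f := LinearMap.surjective_rangeRestrict _
  set D' : Q →ₗ[S] LinearMap.range (s • (LinearMap.id : Q' →ₗ[S] Q')) :=
    LinearMap.codRestrict _ D (fun z => by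
      obtain ⟨w, hw⟩ := hD z
      exact ⟨w, by simp [hw]⟩) with hD'
  obtain ⟨E, hE⟩ := Module.projective_lifting_property f D' hfs
  refine ⟨E, fun z => ?_⟩
  have := congrArg Subtype.val (LinearMap.congr_fun hE z)
  simpa [hf, hD'] using this.symm

end lift

section series

open PowerSeries

variable {R : Type*} [CommRing R]

theorem algebraMap_poly_ps (p : R[X]) : algebraMap R[X] R⟦X⟧ p = (p : R⟦X⟧) := by
  rw [PowerSeries.algebraMap_apply']
  simp

variable (M : Type*) [AddCommGroup M] [Module R M]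

/-- the comparison map `R[X] ⊗ M → R⟦X⟧ ⊗ M`. -/
noncomputable def jPS : R[X] ⊗[R] M →ₗ[R[X]] R⟦X⟧ ⊗[R] M :=
  TensorProduct.AlgebraTensorModule.map (Algebra.linearMap R[X] R⟦X⟧) (LinearMap.id : M →ₗ[R] M)

theorem jPS_tmul (p : R[X]) (x : M) : jPS M (p ⊗ₜ[R] x) = (p : R⟦X⟧) ⊗ₜ[R] x := by
  simp [jPS, algebraMap_poly_ps]

theorem jPS_smul (p : R[X]) (z : R[X] ⊗[R] M) : jPS M (p • z) = (p : R⟦X⟧) • jPS M z := by
  rw [map_smul, ← algebraMap_smul R⟦X⟧ p (jPS M z), algebraMap_poly_ps]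

/-- every element of `R⟦X⟧ ⊗ N` is a polynomial element modulo `X ^ k`. -/
theorem exists_approx (k : ℕ) (y : R⟦X⟧ ⊗[R] M) :
    ∃ (y₀ : R[X] ⊗[R] M) (w : R⟦X⟧ ⊗[R] M), y - jPS M y₀ = (PowerSeries.X ^ k : R⟦X⟧) • w := by
  induction y using TensorProduct.induction_on with
  | zero => exact ⟨0, 0, by simp⟩
  | tmul φ x =>
    have hdvd : (PowerSeries.X ^ k : R⟦X⟧) ∣ φ - ((PowerSeries.trunc k φ : R[X]) : R⟦X⟧) := by
      rw [PowerSeries.X_pow_dvd_iff]
      intro i hi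
      rw [map_sub, Polynomial.coeff_coe, PowerSeries.coeff_trunc, if_pos hi, sub_self]
    obtain ⟨ψ, hψ⟩ := hdvd
    refine ⟨(PowerSeries.trunc k φ) ⊗ₜ[R] x, ψ ⊗ₜ[R] x, ?_⟩
    rw [jPS_tmul, ← TensorProduct.sub_tmul, hψ, TensorProduct.smul_tmul', smul_eq_mul]
  | add y₁ y₂ h₁ h₂ =>
    obtain ⟨a₁, w₁, e₁⟩ := h₁
    obtain ⟨a₂, w₂, e₂⟩ := h₂
    refine ⟨a₁ + a₂, w₁ + w₂, ?_⟩
    rw [map_add, smul_add, ← e₁, ← e₂]
    abel

variable {M}

/-- detection of divisibility by `X ^ k` after passing to power series. -/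
theorem exists_smul_of_jPS {m : ℕ} (b : Fin m → M) (ι : Fin m → (M →ₗ[R] R))
    (hbι : ∀ x, ∑ j, ι j x • b j = x) (k : ℕ) (z : R[X] ⊗[R] M)
    (hz : ∃ w, jPS M z = (PowerSeries.X ^ k : R⟦X⟧) • w) :
    ∃ w₀, z = (Polynomial.X ^ k : R[X]) • w₀ := by
  obtain ⟨w, hw⟩ := hz
  have hcompat : ∀ (i : Fin m) (z : R[X] ⊗[R] M),
      coordB ι R⟦X⟧ i (jPS M z) = ((coordB ι R[X] i z : R[X]) : R⟦X⟧) := by
    intro i z
    induction z using TensorProduct.induction_on with
    | zero => simp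
    | tmul p x =>
      rw [jPS_tmul, coordB_tmul, coordB_tmul, Polynomial.coe_mul]
      congr 1
      rw [IsScalarTower.algebraMap_apply R R[X] R⟦X⟧, algebraMap_poly_ps]
    | add x y hx hy => rw [map_add, map_add, map_add, hx, hy, Polynomial.coe_add]
  have hdvd : ∀ i, (Polynomial.X ^ k : R[X]) ∣ coordB ι R[X] i z := by
    intro i
    rw [Polynomial.X_pow_dvd_iff]
    intro d hd
    have h1 : ((coordB ι R[X] i z : R[X]) : R⟦X⟧) = PowerSeries.X ^ k * coordB ι R⟦X⟧ i w := by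
      rw [← hcompat, hw, map_smul, smul_eq_mul]
    have h2 : (PowerSeries.X ^ k : R⟦X⟧) ∣ ((coordB ι R[X] i z : R[X]) : R⟦X⟧) := ⟨_, h1⟩
    rw [PowerSeries.X_pow_dvd_iff] at h2
    have := h2 d hd
    rwa [Polynomial.coeff_coe] at this
  choose q hq using hdvd
  refine ⟨∑ i, q i • ((1 : R[X]) ⊗ₜ[R] b i), ?_⟩
  conv_lhs => rw [← sum_coordB b ι R[X] hbι z]
  rw [Finset.smul_sum]
  refine Finset.sum_congr rfl fun i _ => ?_
  rw [hq i, mul_smul]

/-- approximation of a power-series-linear map by a polynomial one. -/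
theorem exists_approx_map {m : ℕ} (b : Fin m → M) (ι : Fin m → (M →ₗ[R] R))
    (hbι : ∀ x, ∑ j, ι j x • b j = x) (N : Type*) [AddCommGroup N] [Module R N]
    (a : R⟦X⟧ ⊗[R] M →ₗ[R⟦X⟧] R⟦X⟧ ⊗[R] N) (k : ℕ) :
    ∃ a₀ : R[X] ⊗[R] M →ₗ[R[X]] R[X] ⊗[R] N,
      ∀ z, ∃ w, a (jPS M z) - jPS N (a₀ z) = (PowerSeries.X ^ k : R⟦X⟧) • w := by
  choose y₀ wy hy using fun i => exists_approx N k (a ((1 : R⟦X⟧) ⊗ₜ[R] b i))
  set a₀' : M →ₗ[R] R[X] ⊗[R] N := ∑ i, LinearMap.smulRight (ι i) (y₀ i) with ha₀'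
  refine ⟨LinearMap.liftBaseChange R[X] a₀', fun z => ?_⟩
  induction z using TensorProduct.induction_on with
  | zero => exact ⟨0, by simp⟩
  | tmul p x =>
    refine ⟨(p : R⟦X⟧) • ∑ i, ι i x • wy i, ?_⟩
    have h1 : a (jPS M (p ⊗ₜ[R] x)) = (p : R⟦X⟧) • ∑ i, ι i x • a ((1 : R⟦X⟧) ⊗ₜ[R] b i) := by
      rw [jPS_tmul]
      have : ((p : R⟦X⟧) ⊗ₜ[R] x : R⟦X⟧ ⊗[R] M) =
          (p : R⟦X⟧) • ∑ i, ι i x • ((1 : R⟦X⟧) ⊗ₜ[R] b i) := by
        conv_lhs => rw [← hbι x]
        rw [TensorProduct.tmul_sum, Finset.smul_sum]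
        refine Finset.sum_congr rfl fun i _ => ?_
        rw [TensorProduct.tmul_smul, TensorProduct.smul_tmul', TensorProduct.smul_tmul',
          TensorProduct.smul_tmul', smul_eq_mul, mul_smul_comm, mul_one]
      rw [this, map_smul, map_sum]
      congr 1
      refine Finset.sum_congr rfl fun i _ => ?_
      exact LinearMap.map_smul_of_tower a _ _
    have h2 : jPS N (LinearMap.liftBaseChange R[X] a₀' (p ⊗ₜ[R] x)) =
        (p : R⟦X⟧) • ∑ i, ι i x • jPS N (y₀ i) := by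
      rw [LinearMap.liftBaseChange_tmul, jPS_smul, ha₀', LinearMap.sum_apply, map_sum]
      congr 1
      refine Finset.sum_congr rfl fun i _ => ?_
      rw [LinearMap.smulRight_apply]
      exact LinearMap.map_smul_of_tower (jPS N) _ _
    have h3 : ∑ i, ι i x • a ((1 : R⟦X⟧) ⊗ₜ[R] b i) - ∑ i, ι i x • jPS N (y₀ i) =
        (PowerSeries.X ^ k : R⟦X⟧) • ∑ i, ι i x • wy i := by
      rw [← Finset.sum_sub_distrib, Finset.smul_sum]
      refine Finset.sum_congr rfl fun i _ => ?_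
      rw [← smul_sub (ι i x) (a ((1 : R⟦X⟧) ⊗ₜ[R] b i)) (jPS N (y₀ i)), hy i, smul_comm]
    rw [h1, h2, ← smul_sub (p : R⟦X⟧) (∑ i, ι i x • a ((1 : R⟦X⟧) ⊗ₜ[R] b i))
      (∑ i, ι i x • jPS N (y₀ i)), h3, smul_comm]
  | add z₁ z₂ h₁ h₂ =>
    obtain ⟨w₁, e₁⟩ := h₁
    obtain ⟨w₂, e₂⟩ := h₂
    refine ⟨w₁ + w₂, ?_⟩
    rw [map_add, map_add, map_add, map_add, smul_add, ← e₁, ← e₂]
    abel

end series

section unit

variable {A : Type*} [CommRing A]

/-- a pair of `A[X]`-linear maps between `A[X] ⊗ P` and `A[X] ⊗ P'` with composites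
`X ^ c * g`, `g(0) = 1`, forces `P ≃ P'`. -/
theorem equiv_of_unit_lattice (P P' : Type*)
    [AddCommGroup P] [Module A P] [Module.Finite A P] [Module.Projective A P]
    [AddCommGroup P'] [Module A P'] [Module.Finite A P'] [Module.Projective A P']
    (a : A[X] ⊗[A] P →ₗ[A[X]] A[X] ⊗[A] P') (b : A[X] ⊗[A] P' →ₗ[A[X]] A[X] ⊗[A] P)
    (c : ℕ) (g : A[X]) (hg : g.coeff 0 = 1) (hba : ∀ x, b (a x) = (X ^ c * g) • x)
    (hab : ∀ y, a (b y) = (X ^ c * g) • y) :
    Nonempty (P ≃ₗ[A] P') := by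
  let aL : A[T;T⁻¹] ⊗[A] P →ₗ[A[T;T⁻¹]] A[T;T⁻¹] ⊗[A] P' :=
    (cancelL A P').toLinearMap ∘ₗ (a.baseChange A[T;T⁻¹]) ∘ₗ (cancelL A P).symm.toLinearMap
  let bL : A[T;T⁻¹] ⊗[A] P' →ₗ[A[T;T⁻¹]] A[T;T⁻¹] ⊗[A] P :=
    (cancelL A P).toLinearMap ∘ₗ (b.baseChange A[T;T⁻¹]) ∘ₗ (cancelL A P').symm.toLinearMap
  have hbc1 : ∀ z, (b.baseChange A[T;T⁻¹]) ((a.baseChange A[T;T⁻¹]) z) =
      toLaurent (X ^ c * g) • z := by
    intro z
    induction z using TensorProduct.induction_on with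
    | zero => simp
    | tmul l m =>
      rw [LinearMap.baseChange_tmul, LinearMap.baseChange_tmul, hba, TensorProduct.tmul_smul,
        ← algebraMap_smul A[T;T⁻¹] (X ^ c * g) (l ⊗ₜ[A[X]] m)]
      rfl
    | add x y hx hy => rw [map_add, map_add, hx, hy, smul_add]
  have hbc2 : ∀ z, (a.baseChange A[T;T⁻¹]) ((b.baseChange A[T;T⁻¹]) z) =
      toLaurent (X ^ c * g) • z := by
    intro z
    induction z using TensorProduct.induction_on with
    | zero => simp
    | tmul l m =>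
      rw [LinearMap.baseChange_tmul, LinearMap.baseChange_tmul, hab, TensorProduct.tmul_smul,
        ← algebraMap_smul A[T;T⁻¹] (X ^ c * g) (l ⊗ₜ[A[X]] m)]
      rfl
    | add x y hx hy => rw [map_add, map_add, hx, hy, smul_add]
  have hL1 : ∀ x, bL (aL x) = toLaurent (X ^ c * g) • x := by
    intro x
    simp only [aL, bL, LinearMap.coe_comp, LinearEquiv.coe_coe, Function.comp_apply,
      LinearEquiv.symm_apply_apply, hbc1, map_smul, LinearEquiv.apply_symm_apply]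
  have hL2 : ∀ y, aL (bL y) = toLaurent (X ^ c * g) • y := by
    intro y
    simp only [aL, bL, LinearMap.coe_comp, LinearEquiv.coe_coe, Function.comp_apply,
      LinearEquiv.symm_apply_apply, hbc2, map_smul, LinearEquiv.apply_symm_apply]
  have hT : (T (-(c : ℤ)) : A[T;T⁻¹]) * toLaurent (X ^ c * g) = toLaurent g := by
    rw [map_mul, Polynomial.toLaurent_X_pow, ← mul_assoc, ← T_add, neg_add_cancel, T_zero,
      one_mul]
  refine equiv_of_laurent_lattice P P' aL ((T (-(c : ℤ)) : A[T;T⁻¹]) • bL) g hg ?_ ?_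
  · intro x
    rw [LinearMap.smul_apply, hL1, smul_smul, hT]
  · intro y
    rw [LinearMap.smul_apply, map_smul, hL2, smul_smul, hT]

end unit

section seriesMain

open PowerSeries

variable {R : Type*} [CommRing R]

/-- one half of the approximation argument. -/
theorem exists_poly_factor {M N : Type*} [AddCommGroup M] [Module R M] [Module.Finite R M]
    [Module.Projective R M] [AddCommGroup N] [Module R N]
    (a : R⟦X⟧ ⊗[R] M →ₗ[R⟦X⟧] R⟦X⟧ ⊗[R] N) (b : R⟦X⟧ ⊗[R] N →ₗ[R⟦X⟧] R⟦X⟧ ⊗[R] M)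
    (c : ℕ) (hba : ∀ x, b (a x) = (PowerSeries.X ^ c : R⟦X⟧) • x)
    (a₀ : R[X] ⊗[R] M →ₗ[R[X]] R[X] ⊗[R] N) (b₀ : R[X] ⊗[R] N →ₗ[R[X]] R[X] ⊗[R] M)
    (ha₀ : ∀ z, ∃ w, a (jPS M z) - jPS N (a₀ z) = (PowerSeries.X ^ (c + 1) : R⟦X⟧) • w)
    (hb₀ : ∀ z, ∃ w, b (jPS N z) - jPS M (b₀ z) = (PowerSeries.X ^ (c + 1) : R⟦X⟧) • w) :
    ∃ (v : Module.End R[X] (R[X] ⊗[R] M)) (s : R[X]), s.coeff 0 = 1 ∧
      (∀ z, v (b₀ (a₀ z)) = (Polynomial.X ^ c * s) • z) ∧
      (∀ z, b₀ (a₀ (v z)) = (Polynomial.X ^ c * s) • z) := by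
  obtain ⟨m, bb, ι, hbι⟩ := exists_dualBasis R M
  set D : R[X] ⊗[R] M →ₗ[R[X]] R[X] ⊗[R] M :=
    b₀ ∘ₗ a₀ - (Polynomial.X ^ c : R[X]) • LinearMap.id with hD
  have hD1 : ∀ z, ∃ w₀, D z = (Polynomial.X ^ (c + 1) : R[X]) • w₀ := by
    intro z
    refine exists_smul_of_jPS bb ι hbι (c + 1) (D z) ?_
    obtain ⟨wa, hwa⟩ := ha₀ z
    obtain ⟨wb, hwb⟩ := hb₀ (a₀ z)
    refine ⟨-(b wa) - wb, ?_⟩
    have e1 : jPS N (a₀ z) = a (jPS M z) - (PowerSeries.X ^ (c + 1) : R⟦X⟧) • wa := by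
      rw [← hwa]; abel
    have e2 : jPS M (b₀ (a₀ z)) = b (jPS N (a₀ z)) - (PowerSeries.X ^ (c + 1) : R⟦X⟧) • wb := by
      rw [← hwb]; abel
    have e3 : jPS M ((Polynomial.X ^ c : R[X]) • z) = (PowerSeries.X ^ c : R⟦X⟧) • jPS M z := by
      rw [jPS_smul, Polynomial.coe_pow, Polynomial.coe_X]
    rw [hD, LinearMap.sub_apply, LinearMap.comp_apply, LinearMap.smul_apply, LinearMap.id_apply,
      map_sub, e3, e2, e1, map_sub, hba, map_smul, smul_sub (PowerSeries.X ^ (c + 1) : R⟦X⟧),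
      smul_neg]
    abel
  obtain ⟨E, hE⟩ := exists_factor_smul (Polynomial.X ^ (c + 1) : R[X]) D hD1
  have hcomp : ∀ z, b₀ (a₀ z) = (Polynomial.X ^ c : R[X]) • (z + (Polynomial.X : R[X]) • E z) := by
    intro z
    have := hE z
    rw [hD, LinearMap.sub_apply, LinearMap.comp_apply, LinearMap.smul_apply, LinearMap.id_apply,
      sub_eq_iff_eq_add] at this
    rw [this, smul_add, smul_smul, ← pow_succ, add_comm]
  set w : Module.End R[X] (R[X] ⊗[R] M) := (Polynomial.X : R[X]) • E with hw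
  have hwr : LinearMap.range w ≤ (Ideal.span {(Polynomial.X : R[X])}) • ⊤ := by
    rintro _ ⟨z, rfl⟩
    rw [hw, LinearMap.smul_apply]
    exact Submodule.smul_mem_smul (Ideal.mem_span_singleton_self _) Submodule.mem_top
  obtain ⟨v, s, hs, hv1, hv2⟩ := exists_smul_inverse_of_range_le _ w hwr
  refine ⟨v, s, ?_, fun z => ?_, fun z => ?_⟩
  · rw [Ideal.mem_span_singleton, Polynomial.X_dvd_iff, Polynomial.coeff_sub,
      Polynomial.coeff_one_zero, sub_eq_zero] at hs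
    exact hs
  · rw [hcomp, map_smul]
    have : v (z + (Polynomial.X : R[X]) • E z) = s • z := hv1 z
    rw [this, smul_smul]
  · rw [hcomp]
    have : v z + (Polynomial.X : R[X]) • E (v z) = s • z := hv2 z
    rw [this, smul_smul]

/-- **Descent along power series lattices.** -/
theorem equiv_of_powerSeries_lattice (M N : Type*) [AddCommGroup M] [Module R M]
    [Module.Finite R M] [Module.Projective R M] [AddCommGroup N] [Module R N]
    [Module.Finite R N] [Module.Projective R N]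
    (a : R⟦X⟧ ⊗[R] M →ₗ[R⟦X⟧] R⟦X⟧ ⊗[R] N) (b : R⟦X⟧ ⊗[R] N →ₗ[R⟦X⟧] R⟦X⟧ ⊗[R] M)
    (c : ℕ) (hba : ∀ x, b (a x) = (PowerSeries.X ^ c : R⟦X⟧) • x)
    (hab : ∀ y, a (b y) = (PowerSeries.X ^ c : R⟦X⟧) • y) : Nonempty (M ≃ₗ[R] N) := by
  obtain ⟨m, bM, ιM, hM⟩ := exists_dualBasis R M
  obtain ⟨n, bN, ιN, hN⟩ := exists_dualBasis R N
  obtain ⟨a₀, ha₀⟩ := exists_approx_map bM ιM hM N a (c + 1)
  obtain ⟨b₀, hb₀⟩ := exists_approx_map bN ιN hN M b (c + 1)
  obtain ⟨v, s, hs, hv1, hv2⟩ := exists_poly_factor a b c hba a₀ b₀ ha₀ hb₀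
  obtain ⟨v', s', hs', hv1', -⟩ := exists_poly_factor b a c hab b₀ a₀ hb₀ ha₀
  have hnzd : (Polynomial.X ^ c * s' : R[X]) ∈ nonZeroDivisors R[X] :=
    mul_mem (pow_mem (Polynomial.monic_X.mem_nonZeroDivisors) c)
      (mem_nonZeroDivisors_of_coeff_zero s' hs')
  have hreg : ∀ y : R[X] ⊗[R] N, (Polynomial.X ^ c * s' : R[X]) • y = 0 → y = 0 := by
    intro y hy
    have hr := Module.Flat.isSMulRegular_of_nonZeroDivisors (M := R[X] ⊗[R] N) hnzd
    apply hr
    show (Polynomial.X ^ c * s' : R[X]) • y = (Polynomial.X ^ c * s' : R[X]) • 0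
    rw [smul_zero, hy]
  have hinj : Function.Injective b₀ := by
    rw [injective_iff_map_eq_zero]
    intro y hy
    apply hreg
    rw [← hv1', hy, map_zero, map_zero]
  refine equiv_of_unit_lattice M N a₀ (v ∘ₗ b₀) c s hs ?_ ?_
  · intro x
    exact hv1 x
  · intro y
    apply hinj
    rw [LinearMap.comp_apply, hv2, map_smul]

/-- **Descent along `R → R((t))`**, for any localization `L` of `R⟦X⟧` at `X`. -/
theorem equiv_of_powerSeries_localization_equiv (L : Type*) [CommRing L] [Algebra R L]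
    [Algebra R⟦X⟧ L] [IsScalarTower R R⟦X⟧ L]
    [IsLocalization (Submonoid.powers (PowerSeries.X : R⟦X⟧)) L]
    (M N : Type*) [AddCommGroup M] [Module R M]
    [Module.Finite R M] [Module.Projective R M] [AddCommGroup N] [Module R N]
    [Module.Finite R N] [Module.Projective R N]
    (e : L ⊗[R] M ≃ₗ[L] L ⊗[R] N) : Nonempty (M ≃ₗ[R] N) := by
  let Φ' : L ⊗[R⟦X⟧] (R⟦X⟧ ⊗[R] M) ≃ₗ[L] L ⊗[R⟦X⟧] (R⟦X⟧ ⊗[R] N) :=
    ((TensorProduct.AlgebraTensorModule.cancelBaseChange R R⟦X⟧ L L M).trans e).trans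
      (TensorProduct.AlgebraTensorModule.cancelBaseChange R R⟦X⟧ L L N).symm
  haveI : Module.FinitePresentation R⟦X⟧ (R⟦X⟧ ⊗[R] M) :=
    Module.finitePresentation_of_projective _ _
  haveI : Module.FinitePresentation R⟦X⟧ (R⟦X⟧ ⊗[R] N) :=
    Module.finitePresentation_of_projective _ _
  obtain ⟨a, b, t, ht, hba, hab⟩ := exists_lattice_of_localization_equiv
    (Submonoid.powers (PowerSeries.X : R⟦X⟧)) L Φ'
  obtain ⟨c, rfl⟩ := ht
  exact equiv_of_powerSeries_lattice M N a b c hba hab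

end seriesMain

end Groth.Agent.H36
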