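import Mathlib

/-!
# Substitution homomorphisms on `A[X][X]` used in the local-global principle

`x` is the inner variable, `y` the outer one.
* `sft g : A[X] →+* A[X][X]`, `t ↦ x + g y`
* `tau g : A[X][X] →+* A[X][X]`, `x ↦ x + g y`, `y ↦ y`
* `rho a : A[X][X] →+* A[X][X]`, `y ↦ a y`
* `ev0 : A[X][X] →+* A[X]`, `y ↦ 0`
* `fin0 : A[X][X] →+* A[X]`, `x ↦ 0`, `y ↦ t`
-/

namespace Groth.Agent.H36

open Polynomial

variable {A : Type*} [CommRing A]

/-- `t ↦ x + g y` -/
noncomputable def sft (g : A) : A[X] →+* A[X][X] :=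
  Polynomial.eval₂RingHom ((C : A[X] →+* A[X][X]).comp (C : A →+* A[X]))
    (C (X : A[X]) + C (C g) * (X : A[X][X]))

/-- `x ↦ x + g y`, `y ↦ y` -/
noncomputable def tau (g : A) : A[X][X] →+* A[X][X] :=
  Polynomial.eval₂RingHom (sft g) (X : A[X][X])

/-- `y ↦ a y` -/
noncomputable def rho (a : A) : A[X][X] →+* A[X][X] :=
  Polynomial.eval₂RingHom (C : A[X] →+* A[X][X]) (C (C a) * (X : A[X][X]))

/-- `y ↦ 0` -/
noncomputable def ev0 : A[X][X] →+* A[X] :=
  Polynomial.evalRingHom (0 : A[X])

/-- `x ↦ 0`, `y ↦ t` -/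
noncomputable def fin0 : A[X][X] →+* A[X] :=
  Polynomial.eval₂RingHom ((C : A →+* A[X]).comp (Polynomial.evalRingHom (0 : A))) (X : A[X])

@[simp] theorem sft_C (g a : A) : sft g (C a) = C (C a) := by simp [sft]
@[simp] theorem sft_X (g : A) : sft g (X : A[X]) = C (X : A[X]) + C (C g) * (X : A[X][X]) := by
  simp [sft]

@[simp] theorem tau_C (g : A) (p : A[X]) : tau g (C p) = sft g p := by simp [tau]
@[simp] theorem tau_X (g : A) : tau g (X : A[X][X]) = X := by simp [tau]

@[simp] theorem rho_C (a : A) (p : A[X]) : rho a (C p) = C p := by simp [rho]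
@[simp] theorem rho_X (a : A) : rho a (X : A[X][X]) = C (C a) * X := by simp [rho]

@[simp] theorem ev0_C (p : A[X]) : ev0 (C p) = p := by simp [ev0]
@[simp] theorem ev0_X : ev0 (X : A[X][X]) = 0 := by simp [ev0]

@[simp] theorem fin0_C (p : A[X]) : fin0 (C p) = C (p.eval 0) := by simp [fin0]
@[simp] theorem fin0_X : fin0 (X : A[X][X]) = (X : A[X]) := by simp [fin0]

theorem tau_comp_sft (g g' : A) : (tau g).comp (sft g') = sft (g + g') := by
  refine Polynomial.ringHom_ext (fun a => ?_) ?_
  · simp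
  · simp only [RingHom.comp_apply, sft_X, map_add, map_mul, tau_C, tau_X, sft_C]
    ring

theorem rho_comp_sft (a g : A) : (rho a).comp (sft g) = sft (a * g) := by
  refine Polynomial.ringHom_ext (fun c => ?_) ?_
  · simp
  · simp only [RingHom.comp_apply, sft_X, map_add, map_mul, rho_C, rho_X]
    ring

theorem ev0_comp_sft (g : A) : (ev0 (A := A)).comp (sft g) = RingHom.id _ := by
  refine Polynomial.ringHom_ext (fun c => ?_) ?_
  · simp
  · simp

theorem ev0_comp_tau (g : A) : (ev0 (A := A)).comp (tau g) = ev0 := by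
  refine Polynomial.ringHom_ext (fun p => ?_) ?_
  · simp only [RingHom.comp_apply, tau_C, ev0_C]
    exact RingHom.congr_fun (ev0_comp_sft g) p
  · simp

theorem ev0_comp_rho (a : A) : (ev0 (A := A)).comp (rho a) = ev0 := by
  refine Polynomial.ringHom_ext (fun p => ?_) ?_
  · simp
  · simp

theorem rho_comp_rho (a b : A) : (rho a).comp (rho b) = rho (a * b) := by
  refine Polynomial.ringHom_ext (fun p => ?_) ?_
  · simp
  · simp only [RingHom.comp_apply, rho_X, map_mul, rho_C]
    ring

theorem fin0_comp_sft_one : (fin0 (A := A)).comp (sft 1) = RingHom.id _ := by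
  refine Polynomial.ringHom_ext (fun c => ?_) ?_
  · simp
  · simp

theorem fin0_comp_sft_zero :
    (fin0 (A := A)).comp (sft 0) = (C : A →+* A[X]).comp (Polynomial.evalRingHom (0 : A)) := by
  refine Polynomial.ringHom_ext (fun c => ?_) ?_
  · simp
  · simp

section maps

variable {B : Type*} [CommRing B] (l : A →+* B)

/-- coefficientwise map on `A[X][X]` -/
noncomputable def map2 : A[X][X] →+* B[X][X] :=
  Polynomial.mapRingHom (Polynomial.mapRingHom l)

@[simp] theorem map2_C (p : A[X]) : map2 l (C p) = C (p.map l) := by simp [map2]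
@[simp] theorem map2_X : map2 l (X : A[X][X]) = X := by simp [map2]

theorem map2_comp_sft (g : A) :
    (map2 l).comp (sft g) = (sft (l g)).comp (Polynomial.mapRingHom l) := by
  refine Polynomial.ringHom_ext (fun c => ?_) ?_
  · simp
  · simp

theorem map2_comp_rho (a : A) : (map2 l).comp (rho a) = (rho (l a)).comp (map2 l) := by
  refine Polynomial.ringHom_ext (fun p => ?_) ?_
  · simp
  · simp

theorem ev0_comp_map2 : (ev0 (A := B)).comp (map2 l) = (Polynomial.mapRingHom l).comp ev0 := by
  refine Polynomial.ringHom_ext (fun p => ?_) ?_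
  · simp
  · simp

end maps

end Groth.Agent.H36
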