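import Mathlib
import Groth.Prelude.Def_LefPen

/-!
# The ideal sheaf `LefPen.hypIdeal` of a hypersurface on the standard charts of projective space
-/

set_option autoImplicit false
set_option linter.unusedSectionVars false
set_option linter.unusedVariables false
set_option linter.style.haveILetI false

namespace Groth.Agent.H36.HypId

universe u

open CategoryTheory CategoryTheory.Limits AlgebraicGeometry LefPen HomogeneousLocalization

section generic

theorem isAffineHom_ι {X : Scheme.{u}} [X.IsSeparated] (D : X.Opens) (hD : IsAffineOpen D) :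
    IsAffineHom D.ι := by
  have : IsAffine D := hD
  have h1 : IsAffineHom (D.ι ≫ terminal.from X) := inferInstance
  exact IsAffineHom.of_comp D.ι (terminal.from X)

theorem span_res_iff {X : Scheme.{u}} {D U W W' : X.Opens} (hWW' : W = W') (hD : W ≤ D)
    (hU : W ≤ U) (hD' : W' ≤ D) (hU' : W' ≤ U) (g : Γ(X, D)) (a : Γ(X, U)) :
    (X.presheaf.map (homOfLE hU).op).hom a ∈
        Ideal.span {(X.presheaf.map (homOfLE hD).op).hom g} ↔
      (X.presheaf.map (homOfLE hU').op).hom a ∈
        Ideal.span {(X.presheaf.map (homOfLE hD').op).hom g} := by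
  subst hWW'
  rfl

/-- membership in the pushforward to `X` of the principal ideal sheaf generated by a function on
an affine open `D` -/
theorem mem_map_ofIdealTop_iff {X : Scheme.{u}} (D : X.Opens) [IsAffineHom D.ι] (g : Γ(X, D))
    (U : X.affineOpens) (a : Γ(X, U)) :
    a ∈ ((Scheme.IdealSheafData.ofIdealTop (Ideal.span {D.topIso.inv.hom g})).map D.ι).ideal U ↔
      (X.presheaf.map (homOfLE (inf_le_right : D ⊓ U.1 ≤ U.1)).op).hom a ∈
        Ideal.span {(X.presheaf.map (homOfLE (inf_le_left : D ⊓ U.1 ≤ D)).op).hom g} := by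
  rw [Scheme.IdealSheafData.ideal_map_of_isAffineHom, Ideal.mem_comap]
  rw [Scheme.IdealSheafData.ofIdealTop_ideal, Ideal.map_span, Set.image_singleton]
  have hW : D.ι ''ᵁ (D.ι ⁻¹ᵁ U.1) = D ⊓ U.1 := by
    rw [Scheme.Hom.image_preimage_eq_opensRange_inf, Scheme.Opens.opensRange_ι]
  have hWD : D.ι ''ᵁ (D.ι ⁻¹ᵁ U.1) ≤ D := hW.le.trans inf_le_left
  have hWU : D.ι ''ᵁ (D.ι ⁻¹ᵁ U.1) ≤ U.1 := hW.le.trans inf_le_right
  rw [← span_res_iff hW hWD hWU inf_le_left inf_le_right g a]
  have e1 : ((D.toScheme).presheaf.map (homOfLE (le_top : D.ι ⁻¹ᵁ U.1 ≤ ⊤)).op).hom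
      (D.topIso.inv.hom g) = (X.presheaf.map (homOfLE hWD).op).hom g := by
    have h1 : D.ι ''ᵁ (D.ι ⁻¹ᵁ U.1) ≤ D.ι ''ᵁ ⊤ := D.ι.image_mono le_top
    have h2 : D.ι ''ᵁ ⊤ = D := D.ι_image_top
    change (X.presheaf.map (homOfLE h1).op).hom ((X.presheaf.map (eqToHom h2).op).hom g) = _
    rw [← CommRingCat.comp_apply, ← Functor.map_comp]
    rfl
  rw [e1]
  rfl

/-- a principal-ideal membership can be tested after restriction to an equal open -/
theorem mem_span_of_res {X : Scheme.{u}} {D W : X.Opens} (hWD : W ≤ D) (hDW : D ≤ W)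
    (g a : Γ(X, D))
    (h : (X.presheaf.map (homOfLE hWD).op).hom a ∈
      Ideal.span {(X.presheaf.map (homOfLE hWD).op).hom g}) : a ∈ Ideal.span {g} := by
  obtain ⟨b, hb⟩ := Ideal.mem_span_singleton'.mp h
  rw [Ideal.mem_span_singleton']
  refine ⟨(X.presheaf.map (homOfLE hDW).op).hom b, ?_⟩
  have key : ∀ z : Γ(X, D), (X.presheaf.map (homOfLE hDW).op).hom
      ((X.presheaf.map (homOfLE hWD).op).hom z) = z := by
    intro z
    rw [← CommRingCat.comp_apply, ← Functor.map_comp]
    have : (homOfLE hWD).op ≫ (homOfLE hDW).op = 𝟙 (Opposite.op D) := Subsingleton.elim _ _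
    rw [this, X.presheaf.map_id]
    rfl
  have := congrArg (X.presheaf.map (homOfLE hDW).op).hom hb
  rw [map_mul, key, key] at this
  exact this

end generic

section proj

variable (r : ℕ) (k : Type u) [Field k]

local notation "𝒜" => CohB1.polyGrading r k

theorem isSeparated_projSpace : Scheme.IsSeparated (CohB1.ProjSpace r k) := by
  unfold CohB1.ProjSpace
  infer_instance

theorem isAffineOpen_chart (i : Fin (r + 1)) : IsAffineOpen (chart r k i) :=
  Proj.isAffineOpen_basicOpen 𝒜 (MvPolynomial.X i) (X_mem r k i) one_pos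

variable {r k}

/-- the pushforward to projective space of the principal ideal sheaf on the chart `D₊(T_i)`
generated by `G / T_i^d` -/
noncomputable def J₁ {d : ℕ} (H : Form r k d) (i : Fin (r + 1)) :
    (CohB1.ProjSpace r k).IdealSheafData :=
  haveI := isSeparated_projSpace r k
  haveI := isAffineHom_ι (chart r k i) (isAffineOpen_chart r k i)
  (Scheme.IdealSheafData.ofIdealTop
    (Ideal.span {(chart r k i).topIso.inv.hom (dehom H i)})).map (chart r k i).ι

theorem mem_J₁_iff {d : ℕ} (H : Form r k d) (i : Fin (r + 1))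
    (U : (CohB1.ProjSpace r k).affineOpens) (a : Γ(CohB1.ProjSpace r k, U)) :
    a ∈ (J₁ H i).ideal U ↔
      ((CohB1.ProjSpace r k).presheaf.map
        (homOfLE (inf_le_right : chart r k i ⊓ U.1 ≤ U.1)).op).hom a ∈
        Ideal.span {((CohB1.ProjSpace r k).presheaf.map
          (homOfLE (inf_le_left : chart r k i ⊓ U.1 ≤ chart r k i)).op).hom (dehom H i)} := by
  haveI := isSeparated_projSpace r k
  haveI := isAffineHom_ι (chart r k i) (isAffineOpen_chart r k i)
  exact mem_map_ofIdealTop_iff (chart r k i) (dehom H i) U a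

/-- the ideal sheaf generated by `G` -/
noncomputable def J {d : ℕ} (H : Form r k d) : (CohB1.ProjSpace r k).IdealSheafData :=
  ⨅ i : Fin (r + 1), J₁ H i

theorem J_le_hypIdeal {d : ℕ} (H : Form r k d) : J H ≤ hypIdeal H := by
  unfold hypIdeal
  rw [Scheme.IdealSheafData.le_ofIdeals_iff]
  intro U
  unfold hypFamily
  refine le_iInf fun i => ?_
  intro a ha
  have h1 : a ∈ (J₁ H i).ideal U :=
    Scheme.IdealSheafData.ideal_mono (iInf_le (fun i => J₁ H i) i) U ha
  rw [mem_J₁_iff] at h1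
  rw [Ideal.mem_comap]
  exact (span_res_iff (inf_comm _ _) inf_le_left inf_le_right inf_le_right inf_le_left
    (dehom H i) a).mp h1

/-- restriction of `dehom` to the intersection of two charts -/
theorem res_dehom {d : ℕ} (H : Form r k d) (i j : Fin (r + 1))
    (x : MvPolynomial (Fin (r + 1)) k) (hx : x = MvPolynomial.X i * MvPolynomial.X j)
    (hle : Proj.basicOpen 𝒜 x ≤ chart r k i) :
    ((CohB1.ProjSpace r k).presheaf.map (homOfLE hle).op).hom (dehom H i) =
      (Proj.awayToSection 𝒜 x).hom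
        (Away.mk 𝒜 (hx ▸ SetLike.mul_mem_graded (X_mem r k i) (X_mem r k j)) d
          (H.1 * MvPolynomial.X j ^ d) (by
            rw [smul_add]
            exact SetLike.mul_mem_graded (by rw [smul_eq_mul, mul_one]; exact H.2)
              (SetLike.pow_mem_graded d (X_mem r k j)))) := by
  have h1 := Proj.awayMap_awayToSection 𝒜 (f := MvPolynomial.X i) (X_mem r k j) hx
  have h2 := congrArg (fun φ => φ.hom (Away.mk 𝒜 (X_mem r k i) d H.1
      (by rw [smul_eq_mul, mul_one]; exact H.2))) h1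
  simp only [CommRingCat.hom_comp, RingHom.comp_apply, CommRingCat.hom_ofHom] at h2
  rw [awayMap_mk] at h2
  exact h2.symm

theorem away_mul_rel {d : ℕ} (H : Form r k d) (i j : Fin (r + 1))
    (hx2 : (MvPolynomial.X i * MvPolynomial.X j : MvPolynomial (Fin (r + 1)) k) ∈ 𝒜 2)
    (h1 : H.1 * (MvPolynomial.X i : MvPolynomial (Fin (r + 1)) k) ^ d ∈ 𝒜 (d • 2))
    (h2 : H.1 * (MvPolynomial.X j : MvPolynomial (Fin (r + 1)) k) ^ d ∈ 𝒜 (d • 2))
    (h3 : (MvPolynomial.X i : MvPolynomial (Fin (r + 1)) k) ^ d * MvPolynomial.X i ^ d ∈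
      𝒜 (d • 2)) :
    Away.mk 𝒜 hx2 d (H.1 * MvPolynomial.X i ^ d) h1 =
      Away.mk 𝒜 hx2 d (MvPolynomial.X i ^ d * MvPolynomial.X i ^ d) h3 *
        Away.mk 𝒜 hx2 d (H.1 * MvPolynomial.X j ^ d) h2 := by
  apply HomogeneousLocalization.val_injective
  rw [HomogeneousLocalization.val_mul, Away.val_mk, Away.val_mk, Away.val_mk, Localization.mk_mul,
    Localization.mk_eq_mk_iff, Localization.r_iff_exists]
  refine ⟨1, ?_⟩
  simp only [OneMemClass.coe_one, one_mul, Submonoid.coe_mul]
  ring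

theorem dehom_mem_J {d : ℕ} (H : Form r k d) (j : Fin (r + 1)) :
    dehom H j ∈ (J H).ideal ⟨chart r k j, isAffineOpen_chart r k j⟩ := by
  unfold J
  rw [Scheme.IdealSheafData.ideal_iInf, iInf_apply, Submodule.mem_iInf]
  intro i
  rw [mem_J₁_iff]
  have hW : chart r k i ⊓ chart r k j =
      Proj.basicOpen 𝒜 (MvPolynomial.X i * MvPolynomial.X j) :=
    (Proj.basicOpen_mul 𝒜 _ _).symm
  have hxi : Proj.basicOpen 𝒜 (MvPolynomial.X i * MvPolynomial.X j) ≤ chart r k i :=
    hW.ge.trans inf_le_left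
  have hxj : Proj.basicOpen 𝒜 (MvPolynomial.X i * MvPolynomial.X j) ≤ chart r k j :=
    hW.ge.trans inf_le_right
  rw [span_res_iff hW inf_le_left inf_le_right hxi hxj]
  have e1 := res_dehom H i j _ rfl hxi
  have e2 := res_dehom H j i _ (mul_comm _ _) hxj
  rw [Ideal.mem_span_singleton']
  have h3 : (MvPolynomial.X i : MvPolynomial (Fin (r + 1)) k) ^ d * MvPolynomial.X i ^ d ∈
      𝒜 (d • 2) := by
    have := SetLike.mul_mem_graded (SetLike.pow_mem_graded d (X_mem r k i))
      (SetLike.pow_mem_graded d (X_mem r k i))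
    convert this using 2
    simp only [smul_eq_mul]
    ring
  refine ⟨(Proj.awayToSection 𝒜 (MvPolynomial.X i * MvPolynomial.X j)).hom
    (Away.mk 𝒜 (SetLike.mul_mem_graded (X_mem r k i) (X_mem r k j)) d
      (MvPolynomial.X i ^ d * MvPolynomial.X i ^ d) h3), ?_⟩
  refine (congrArg (fun z => (Proj.awayToSection 𝒜 (MvPolynomial.X i * MvPolynomial.X j)).hom
    (Away.mk 𝒜 (SetLike.mul_mem_graded (X_mem r k i) (X_mem r k j)) d
      (MvPolynomial.X i ^ d * MvPolynomial.X i ^ d) h3) * z) e1).trans ?_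
  refine Eq.trans ?_ e2.symm
  refine (map_mul _ _ _).symm.trans ?_
  exact congrArg _ (away_mul_rel H i j _ _ _ _).symm

theorem hypIdeal_ideal_chart_le {d : ℕ} (H : Form r k d) (j : Fin (r + 1)) :
    (hypIdeal H).ideal ⟨chart r k j, isAffineOpen_chart r k j⟩ ≤ Ideal.span {dehom H j} := by
  intro a ha
  have h1 := Scheme.IdealSheafData.ideal_ofIdeals_le (hypFamily H)
    ⟨chart r k j, isAffineOpen_chart r k j⟩ ha
  unfold hypFamily at h1
  rw [Submodule.mem_iInf] at h1
  have h2 := h1 j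
  rw [Ideal.mem_comap] at h2
  exact mem_span_of_res inf_le_left (le_inf le_rfl le_rfl) (dehom H j) a h2

theorem hypIdeal_ideal_chart {d : ℕ} (H : Form r k d) (j : Fin (r + 1)) :
    (hypIdeal H).ideal ⟨chart r k j, isAffineOpen_chart r k j⟩ = Ideal.span {dehom H j} := by
  refine le_antisymm (hypIdeal_ideal_chart_le H j) ?_
  rw [Ideal.span_le, Set.singleton_subset_iff]
  exact J_le_hypIdeal H _ (dehom_mem_J H j)

end proj

end Groth.Agent.H36.HypId
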