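import Mathlib
import Groth.Prelude.Def_CohB1
import Groth.Agent.H54.ProjClosedPt

/-!
# A hyperplane in projective space: the graded surjection `k[X_0..X_{n+1}] → k[Y_0..Y_n]`
with kernel generated by a nonzero linear form
-/

set_option autoImplicit false
set_option linter.unusedSectionVars false
set_option linter.unusedVariables false
set_option linter.style.haveILetI false

namespace Groth.Agent.H36.HypIso

universe u

open Groth.Agent.H54.PL

variable (k : Type u) [Field k] (n : ℕ) (c : Fin (n + 2) → k) (j0 : Fin (n + 2))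

/-- the images of the coordinates: `X_{j0.succAbove l} ↦ Y_l`, and `X_{j0}` goes to the linear
form making `lin c` vanish -/
noncomputable def mm : Fin (n + 2) → MvPolynomial (Fin (n + 1)) k :=
  Fin.insertNth j0
    (- MvPolynomial.C (c j0)⁻¹ * ∑ l : Fin (n + 1),
      MvPolynomial.C (c (j0.succAbove l)) * MvPolynomial.X l)
    (fun l => MvPolynomial.X l)

theorem mm_same : mm k n c j0 j0 = - MvPolynomial.C (c j0)⁻¹ * ∑ l : Fin (n + 1),
    MvPolynomial.C (c (j0.succAbove l)) * MvPolynomial.X l := by
  unfold mm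
  exact Fin.insertNth_apply_same _ _ _

theorem mm_succAbove (l : Fin (n + 1)) : mm k n c j0 (j0.succAbove l) = MvPolynomial.X l := by
  unfold mm
  exact Fin.insertNth_apply_succAbove _ _ _ _

/-- the projection -/
noncomputable def phi : MvPolynomial (Fin (n + 2)) k →ₐ[k] MvPolynomial (Fin (n + 1)) k :=
  MvPolynomial.aeval (mm k n c j0)

/-- the section -/
noncomputable def psi : MvPolynomial (Fin (n + 1)) k →ₐ[k] MvPolynomial (Fin (n + 2)) k :=
  MvPolynomial.rename j0.succAbove

theorem phi_X (i : Fin (n + 2)) : phi k n c j0 (MvPolynomial.X i) = mm k n c j0 i := by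
  unfold phi
  exact MvPolynomial.aeval_X _ _

theorem phi_psi (p : MvPolynomial (Fin (n + 1)) k) : phi k n c j0 (psi k n j0 p) = p := by
  unfold phi psi
  rw [MvPolynomial.aeval_rename]
  have : (mm k n c j0 ∘ j0.succAbove) = fun l => (MvPolynomial.X l : MvPolynomial (Fin (n + 1)) k) :=
    funext fun l => mm_succAbove k n c j0 l
  rw [this]
  exact MvPolynomial.aeval_X_left_apply p

theorem phi_surjective : Function.Surjective (phi k n c j0) :=
  fun p => ⟨psi k n j0 p, phi_psi k n c j0 p⟩

theorem phi_lin (hc : c j0 ≠ 0) : phi k n c j0 (lin k (n + 1) c) = 0 := by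
  unfold lin
  rw [map_sum, Fin.sum_univ_succAbove _ j0]
  simp only [map_mul, phi_X, mm_same, mm_succAbove]
  have h1 : ∀ a : k, phi k n c j0 (MvPolynomial.C a) = MvPolynomial.C a := fun a => by
    unfold phi
    exact MvPolynomial.aeval_C _ a
  simp only [h1]
  rw [← mul_assoc, mul_neg, ← map_mul, mul_inv_cancel₀ hc, map_one]
  ring

theorem psi_mm_same (hc : c j0 ≠ 0) :
    MvPolynomial.X j0 - psi k n j0 (mm k n c j0 j0) =
      MvPolynomial.C (c j0)⁻¹ * lin k (n + 1) c := by
  rw [mm_same]
  unfold lin psi
  rw [Fin.sum_univ_succAbove _ j0, mul_add, ← mul_assoc, ← map_mul, inv_mul_cancel₀ hc, map_one,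
    one_mul]
  simp only [map_mul, map_neg, map_sum, MvPolynomial.rename_C, MvPolynomial.rename_X]
  ring

theorem sub_psi_phi_mem (hc : c j0 ≠ 0) (p : MvPolynomial (Fin (n + 2)) k) :
    p - psi k n j0 (phi k n c j0 p) ∈ Ideal.span {lin k (n + 1) c} := by
  let π := Ideal.Quotient.mkₐ k (Ideal.span {lin k (n + 1) c})
  have h : π.comp ((psi k n j0).comp (phi k n c j0)) = π := by
    apply MvPolynomial.algHom_ext
    intro i
    simp only [AlgHom.comp_apply, phi_X]
    symm
    rw [← sub_eq_zero, ← map_sub]
    change Ideal.Quotient.mk _ _ = 0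
    rw [Ideal.Quotient.eq_zero_iff_mem]
    induction i using Fin.succAboveCases j0 with
    | x =>
      rw [psi_mm_same k n c j0 hc]
      exact Ideal.mul_mem_left _ _ (Ideal.subset_span rfl)
    | p l =>
      rw [mm_succAbove]
      unfold psi
      rw [MvPolynomial.rename_X, sub_self]
      exact Ideal.zero_mem _
  have h2 := congrArg (fun f => f p) h
  simp only [AlgHom.comp_apply] at h2
  rw [← Ideal.Quotient.eq_zero_iff_mem, map_sub, sub_eq_zero]
  exact h2.symm

theorem ker_phi (hc : c j0 ≠ 0) :
    RingHom.ker (phi k n c j0 : MvPolynomial (Fin (n + 2)) k →+* MvPolynomial (Fin (n + 1)) k) =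
      Ideal.span {lin k (n + 1) c} := by
  apply le_antisymm
  · intro p hp
    rw [RingHom.mem_ker] at hp
    have h := sub_psi_phi_mem k n c j0 hc p
    have hp' : phi k n c j0 p = 0 := hp
    rwa [hp', map_zero, sub_zero] at h
  · rw [Ideal.span_le, Set.singleton_subset_iff]
    exact phi_lin k n c j0 hc

theorem mm_isHomogeneous (i : Fin (n + 2)) : (mm k n c j0 i).IsHomogeneous 1 := by
  induction i using Fin.succAboveCases j0 with
  | x =>
    rw [mm_same]
    have h0 : (- MvPolynomial.C (c j0)⁻¹ : MvPolynomial (Fin (n + 1)) k).IsHomogeneous 0 := by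
      rw [← map_neg]
      exact MvPolynomial.isHomogeneous_C _ _
    have h1 : (∑ l : Fin (n + 1), MvPolynomial.C (c (j0.succAbove l)) *
        (MvPolynomial.X l : MvPolynomial (Fin (n + 1)) k)).IsHomogeneous 1 := by
      apply MvPolynomial.IsHomogeneous.sum
      intro l _
      have := (MvPolynomial.isHomogeneous_C (Fin (n + 1)) (c (j0.succAbove l))).mul
        (MvPolynomial.isHomogeneous_X k l)
      rwa [zero_add] at this
    have := h0.mul h1
    rwa [zero_add] at this
  | p l =>
    rw [mm_succAbove]
    exact MvPolynomial.isHomogeneous_X k l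

theorem phi_mem {d : ℕ} {p : MvPolynomial (Fin (n + 2)) k}
    (hp : p ∈ CohB1.polyGrading (n + 1) k d) : phi k n c j0 p ∈ CohB1.polyGrading n k d := by
  rw [MvPolynomial.mem_homogeneousSubmodule] at hp ⊢
  have := hp.aeval (mm k n c j0) (mm_isHomogeneous k n c j0)
  rwa [one_mul] at this

/-- the projection as a graded ring homomorphism -/
noncomputable def gphi : (CohB1.polyGrading (n + 1) k) →+*ᵍ (CohB1.polyGrading n k) where
  toRingHom := (phi k n c j0 : MvPolynomial (Fin (n + 2)) k →+* MvPolynomial (Fin (n + 1)) k)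
  map_mem := fun hx => phi_mem k n c j0 hx

theorem gphi_apply (p : MvPolynomial (Fin (n + 2)) k) : gphi k n c j0 p = phi k n c j0 p := rfl

theorem gphi_surjective : Function.Surjective (gphi k n c j0) := phi_surjective k n c j0

end Groth.Agent.H36.HypIso
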