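import Mathlib
import Groth.Agent.H36.HypIsoA
import Groth.Agent.H36.HypZeroA
import Groth.Agent.H18.ProjClosed
import Groth.Agent.H18.ProjReduced
import Groth.Agent.S3563

/-!
# The hyperplane `V(lin c)` of projective space as the image of `Proj.map gphi`
-/

set_option autoImplicit false
set_option linter.unusedSectionVars false
set_option linter.unusedVariables false
set_option linter.style.haveILetI false

namespace Groth.Agent.H36.HypIso

universe u

open AlgebraicGeometry CategoryTheory HomogeneousLocalization Groth.Agent.H54.PL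
open Groth.Agent.H18 Groth.Agent.H36.BertiniProj Groth.Agent.H36.HypZero

variable (k : Type u) [Field k] (n : ℕ) (c : Fin (n + 2) → k) (j0 : Fin (n + 2))

theorem awayLin_eq_dfrac (i : Fin (n + 2)) :
    awayLin k (n + 1) i c = dfrac (CohB1.polyGrading (n + 1) k) (X_mem k (n + 1) i) 1
      (lin k (n + 1) c) := by
  rw [dfrac_of_mem (X_mem k (n + 1) i) (lin_mem k (n + 1) c)]
  apply val_injective
  unfold awayLin
  rw [val_mk, Away.val_mk]
  congr 1
  apply Subtype.ext
  exact (pow_one _).symm

theorem awayLin_mem_ker (hc : c j0 ≠ 0) (i : Fin (n + 2)) :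
    awayLin k (n + 1) i c ∈ RingHom.ker (Away.map (gphi k n c j0)
      (MvPolynomial.X i : MvPolynomial (Fin (n + 2)) k)) := by
  rw [RingHom.mem_ker, awayLin_eq_dfrac,
    dfrac_of_mem (X_mem k (n + 1) i) (lin_mem k (n + 1) c), Away.map_mk]
  rw [away_mk_eq_zero_iff]
  refine ⟨0, ?_⟩
  have h : gphi k n c j0 (lin k (n + 1) c) = 0 := phi_lin k n c j0 hc
  rw [h, mul_zero]

theorem ker_awayMap_gphi (hc : c j0 ≠ 0) (i : Fin (n + 2)) :
    RingHom.ker (Away.map (gphi k n c j0) (MvPolynomial.X i : MvPolynomial (Fin (n + 2)) k)) =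
      Ideal.span {awayLin k (n + 1) i c} := by
  apply le_antisymm
  · intro x hx
    obtain ⟨m, a, ha, rfl⟩ := Away.mk_surjective (CohB1.polyGrading (n + 1) k)
      (X_mem k (n + 1) i) x
    rw [RingHom.mem_ker, Away.map_mk, away_mk_eq_zero_iff] at hx
    obtain ⟨N, hN⟩ := hx
    have ha' : a ∈ CohB1.polyGrading (n + 1) k m := by
      rwa [smul_eq_mul, mul_one] at ha
    have hmem : (MvPolynomial.X i : MvPolynomial (Fin (n + 2)) k) ^ (N + 1) * a ∈
        Ideal.span {lin k (n + 1) c} := by
      rw [← ker_phi k n c j0 hc, RingHom.mem_ker]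
      have : phi k n c j0 ((MvPolynomial.X i : MvPolynomial (Fin (n + 2)) k) ^ (N + 1) * a) =
          gphi k n c j0 (MvPolynomial.X i) * (gphi k n c j0 (MvPolynomial.X i) ^ N *
            gphi k n c j0 a) := by
        simp only [gphi_apply, map_mul, map_pow]
        ring
      rw [AlgHom.coe_toRingHom, this, hN, mul_zero]
    obtain ⟨b, hb⟩ := Ideal.mem_span_singleton'.mp hmem
    have e1 : Away.mk (CohB1.polyGrading (n + 1) k) (X_mem k (n + 1) i) m a ha =
        dfrac (CohB1.polyGrading (n + 1) k) (X_mem k (n + 1) i) (N + 1 + m)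
          ((MvPolynomial.X i : MvPolynomial (Fin (n + 2)) k) ^ (N + 1) * a) := by
      rw [dfrac_pow_mul (X_mem k (n + 1) i) ha', dfrac_of_mem (X_mem k (n + 1) i) ha']
    rw [e1, ← hb, mul_comm b,
      dfrac_mul_of_mem_of_le (X_mem k (n + 1) i) (lin_mem k (n + 1) c) b (by omega),
      ← awayLin_eq_dfrac]
    exact Ideal.mul_mem_right _ _ (Ideal.subset_span rfl)
  · rw [Ideal.span_le, Set.singleton_subset_iff]
    exact awayLin_mem_ker k n c j0 hc i

theorem irrelevant_le : HomogeneousIdeal.irrelevant (CohB1.polyGrading n k) ≤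
    (HomogeneousIdeal.irrelevant (CohB1.polyGrading (n + 1) k)).map (gphi k n c j0) :=
  irrelevant_le_map_of_surjective (gphi k n c j0) (gphi_surjective k n c j0)

/-- the linear embedding `ℙⁿ ⟶ ℙⁿ⁺¹` with image the hyperplane `V(lin c)` -/
noncomputable def jmap : CohB1.ProjSpace n k ⟶ CohB1.ProjSpace (n + 1) k :=
  Proj.map (gphi k n c j0) (irrelevant_le k n c j0)

theorem jmap_eq : jmap k n c j0 = Proj.map (gphi k n c j0) (irrelevant_le k n c j0) := rfl

instance isClosedImmersion_jmap : IsClosedImmersion (jmap k n c j0) :=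
  Groth.Agent.S3563.result _ _ (gphi k n c j0) (gphi_surjective k n c j0) (irrelevant_le k n c j0)

theorem iSup_chart_eq_top :
    (⨆ i : Fin (n + 2), ((⟨Proj.basicOpen (CohB1.polyGrading (n + 1) k)
      (MvPolynomial.X i : MvPolynomial (Fin (n + 2)) k),
        isAffineOpen_basicOpen_X k (n + 1) i⟩ :
        (Proj (CohB1.polyGrading (n + 1) k)).affineOpens) :
      (Proj (CohB1.polyGrading (n + 1) k)).Opens)) = ⊤ := by
  refine top_le_iff.mp fun x _ => TopologicalSpace.Opens.mem_iSup.mpr ?_
  obtain ⟨i, hi⟩ := exists_X_notMem k (n + 1)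
    (show ProjectiveSpectrum (CohB1.polyGrading (n + 1) k) from x)
  exact ⟨i, hi⟩

theorem ker_projMap_gphi (hc : c j0 ≠ 0) :
    (Proj.map (gphi k n c j0) (irrelevant_le k n c j0)).ker =
      PicF2.zeroScheme (Twist.twistProjSpace (n + 1) k 1) (secOf k (n + 1) c) := by
  have hci : IsClosedImmersion (Proj.map (gphi k n c j0) (irrelevant_le k n c j0)) :=
    Groth.Agent.S3563.result _ _ (gphi k n c j0) (gphi_surjective k n c j0)
      (irrelevant_le k n c j0)
  refine Scheme.IdealSheafData.ext_of_iSup_eq_top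
    (fun i : Fin (n + 2) => (⟨Proj.basicOpen (CohB1.polyGrading (n + 1) k)
      (MvPolynomial.X i : MvPolynomial (Fin (n + 2)) k),
        isAffineOpen_basicOpen_X k (n + 1) i⟩ :
        (Proj (CohB1.polyGrading (n + 1) k)).affineOpens)) (iSup_chart_eq_top k n) ?_
  intro i
  rw [Scheme.Hom.ker_apply]
  have hbij := awayToSection_bijective (CohB1.polyGrading (n + 1) k) (X_mem k (n + 1) i) one_pos
  apply Ideal.comap_injective_of_surjective _ hbij.2
  refine (comap_ker_projMap_app (CohB1.polyGrading (n + 1) k) (gphi k n c j0)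
    (irrelevant_le k n c j0) (X_mem k (n + 1) i) one_pos).trans ?_
  rw [ker_awayMap_gphi k n c j0 hc i]
  refine Eq.trans ?_ (congrArg (Ideal.comap _) (zeroScheme_ideal_chart k (n + 1) c i).symm)
  have h1 : Ideal.span {(Proj.awayToSection (CohB1.polyGrading (n + 1) k)
      (MvPolynomial.X i : MvPolynomial (Fin (n + 2)) k)).hom (awayLin k (n + 1) i c)} =
      (Ideal.span {awayLin k (n + 1) i c}).map (Proj.awayToSection (CohB1.polyGrading (n + 1) k)
        (MvPolynomial.X i : MvPolynomial (Fin (n + 2)) k)).hom := by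
    rw [Ideal.map_span, Set.image_singleton]
  rw [h1]
  exact (Ideal.comap_map_of_bijective _ hbij).symm

theorem ker_jmap (hc : c j0 ≠ 0) :
    (jmap k n c j0).ker =
      PicF2.zeroScheme (Twist.twistProjSpace (n + 1) k 1) (secOf k (n + 1) c) :=
  ker_projMap_gphi k n c j0 hc

theorem ker_subschemeι_eq (hc : c j0 ≠ 0) :
    (PicF2.zeroScheme (Twist.twistProjSpace (n + 1) k 1)
      (secOf k (n + 1) c)).subschemeι.ker = (jmap k n c j0).ker :=
  (Scheme.IdealSheafData.ker_subschemeι _).trans (ker_jmap k n c j0 hc).symm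

/-- the isomorphism of `ℙⁿ` with the hyperplane `V(lin c)` -/
noncomputable def hypIso (hc : c j0 ≠ 0) :
    CohB1.ProjSpace n k ≅
      (PicF2.zeroScheme (Twist.twistProjSpace (n + 1) k 1) (secOf k (n + 1) c)).subscheme :=
  have : IsIso (IsClosedImmersion.lift (PicF2.zeroScheme (Twist.twistProjSpace (n + 1) k 1)
      (secOf k (n + 1) c)).subschemeι (jmap k n c j0) (ker_subschemeι_eq k n c j0 hc).le) :=
    IsClosedImmersion.isIso_lift (PicF2.zeroScheme (Twist.twistProjSpace (n + 1) k 1)
      (secOf k (n + 1) c)).subschemeι (jmap k n c j0) (ker_subschemeι_eq k n c j0 hc)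
  asIso (IsClosedImmersion.lift (PicF2.zeroScheme (Twist.twistProjSpace (n + 1) k 1)
      (secOf k (n + 1) c)).subschemeι (jmap k n c j0) (ker_subschemeι_eq k n c j0 hc).le)

theorem hypIso_hom_ι (hc : c j0 ≠ 0) :
    (hypIso k n c j0 hc).hom ≫ (PicF2.zeroScheme (Twist.twistProjSpace (n + 1) k 1)
      (secOf k (n + 1) c)).subschemeι = jmap k n c j0 :=
  IsClosedImmersion.lift_fac _ _ _

end Groth.Agent.H36.HypIso
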