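import Mathlib
import Groth.Agent.H18.PUP.CoreMod
import Groth.Agent.H18.PUP.Unique

/-!
# The pull back of `O(1)` along `Proj.map φ` is `O(1)`

(`𝒜` such that `Proj 𝒜` is covered by the `D₊(b)`, `b` of degree one.)
-/

set_option autoImplicit false
set_option linter.unusedSectionVars false
set_option linter.unusedVariables false
set_option linter.style.haveILetI false

namespace Groth.Agent.H36.ProjMapTwist

universe u

open AlgebraicGeometry CategoryTheory HomogeneousLocalization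
open Groth.Agent.H18 Groth.Agent.H18.PUP

variable {R A B : Type u} [CommRing R] [CommRing A] [Algebra R A] [CommRing B] [Algebra R B]
variable (𝒜 : ℕ → Submodule R A) [GradedAlgebra 𝒜] (ℬ : ℕ → Submodule R B) [GradedAlgebra ℬ]
variable (φ : 𝒜 →+*ᵍ ℬ)
  (hφ : HomogeneousIdeal.irrelevant ℬ ≤ (HomogeneousIdeal.irrelevant 𝒜).map φ)

/-- `Proj.map φ` on the chart `D₊(g)`, on fractions of degree one -/
theorem chartHom_projMap {g a : A} (hg : g ∈ 𝒜 1) (ha : a ∈ 𝒜 1) :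
    chartHom 𝒜 (Proj.map φ hφ) hg (Proj.basicOpen ℬ (φ g))
      (Proj.map_preimage_basicOpen φ hφ g).ge a =
      fracO ℬ (φ.map_mem ha) (φ.map_mem hg) (Proj.basicOpen ℬ (φ g)) (fun _ hx => hx) := by
  rw [chartHom_apply 𝒜 (Proj.map φ hφ) hg _ _ ha]
  have h := Proj.awayToSection_comp_appLE φ hφ hg
  have h2 := congr($h (Away.mk 𝒜 hg 1 a (mem_smul_one 𝒜 ha)))
  refine h2.trans ?_
  change (Proj.awayToSection ℬ (φ g)).hom (Away.map φ g (Away.mk 𝒜 hg 1 a (mem_smul_one 𝒜 ha))) = _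
  rw [Away.map_mk, awayToSection_eq_fracO]
  exact fracO_eq_of_mul_eq ℬ _ _ _ _ _ _ _ (by rw [pow_one]; rfl)

/-- the pull back of `O(1)` along `Proj.map φ` is `O(1)` -/
theorem nonempty_pullback_twist_one_iso {J : Type*} (b : J → A) (hb : ∀ j, b j ∈ 𝒜 1)
    (hproj : ∀ y : Proj 𝒜, ∃ j, y ∈ Proj.basicOpen 𝒜 (b j)) :
    Nonempty ((Scheme.Modules.pullback (Proj.map φ hφ)).obj (Twist.twist 𝒜 1) ≅
      Twist.twist ℬ 1) := by
  let r : Proj ℬ ⟶ Proj 𝒜 := Proj.map φ hφ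
  let q : Proj ℬ ⟶ Spec (CommRingCat.of R) := r ≫ pA 𝒜
  let v : J → Γ(Twist.twist ℬ 1, (⊤ : (Proj ℬ).Opens)) := fun j => gs ℬ (φ.map_mem (hb j))
  let c : J → Chart q (Twist.twist ℬ 1) b v := fun j =>
    { W := Proj.basicOpen ℬ (φ (b j))
      j := j
      F := chartHom 𝒜 r (hb j) (Proj.basicOpen ℬ (φ (b j)))
        (Proj.map_preimage_basicOpen φ hφ (b j)).ge
      basis := isBasisOn_gs ℬ (φ.map_mem (hb j))
      F_b := fun j' => by
        rw [chartHom_projMap 𝒜 ℬ φ hφ (hb j) (hb j')]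
        exact fracO_smul_gs ℬ (φ.map_mem (hb j')) (φ.map_mem (hb j)) _ _
      F_alg := fun a => chartHom_algebraMap 𝒜 r (hb j) _ _ a }
  have hcov : ∀ x : Proj ℬ, ∃ j, x ∈ (c j).W := fun x => hproj (r.base x)
  have hr : ∀ j, (c j).W.ι ≫ r = (c j).map 𝒜 hb := fun j =>
    ι_comp_eq_localMap 𝒜 r (hb j) (Proj.basicOpen ℬ (φ (b j)))
        (Proj.map_preimage_basicOpen φ hφ (b j)).ge
  exact ⟨tauIso c hb hcov hproj r hr⟩

end Groth.Agent.H36.ProjMapTwist
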