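import Mathlib
import Groth.Agent.H36.HypIsoB
import Groth.Agent.H36.ProjMapTwist
import Groth.Agent.H54.PullbackSection
import Groth.Agent.H18.ProjSpaceH0
import Groth.Agent.H18.ProjSpaceHH0

/-!
# A hyperplane of projective space is a projective space
-/

set_option autoImplicit false
set_option linter.unusedSectionVars false
set_option linter.unusedVariables false
set_option linter.style.haveILetI false

namespace Groth.Agent.H36.HypIso

universe u

open AlgebraicGeometry CategoryTheory HomogeneousLocalization Groth.Agent.H54.PL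
open Groth.Agent.H18 Groth.Agent.H18.PUP Groth.Agent.H36.BertiniProj Groth.Agent.H36.HypZero

variable (k : Type u) [Field k] (n : ℕ)

/-- every section of `O(1)` on projective space is given by a linear form -/
theorem exists_secOf
    (s : Coh.structureModule (CohB1.ProjSpace n k) ⟶ Twist.twistProjSpace n k 1) :
    ∃ c : Fin (n + 1) → k, s = secOf k n c := by
  obtain ⟨m, hm⟩ := Groth.Agent.H18.PSL.gsec_surjective n k 1
    (Groth.Agent.H54.PB.evOne (Twist.twistProjSpace n k 1) s)
  obtain ⟨c, hc⟩ := exists_eq_lin k n m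
  refine ⟨c, ?_⟩
  apply Groth.Agent.H54.PB.evOne_injective
  exact hm.symm.trans ((congrArg (Groth.Agent.H18.PSL.gsec n k 1) hc).trans
    (Groth.Agent.H54.PB.evOne_sectionHom (Twist.twistProjSpace n k 1)
      (gs (CohB1.polyGrading n k) (lin_mem k n c))).symm)

theorem secOf_zero : secOf k n (fun _ => 0) = 0 := by
  apply Groth.Agent.H54.PB.evOne_injective
  refine (Groth.Agent.H54.PB.evOne_sectionHom (Twist.twistProjSpace n k 1)
      (gs (CohB1.polyGrading n k) (lin_mem k n (fun _ => 0)))).trans ?_
  have h0 : (⟨lin k n (fun _ => 0), lin_mem k n (fun _ => 0)⟩ : CohB1.polyGrading n k 1) = 0 := by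
    apply Subtype.ext
    unfold lin
    simp
  have h1 : gs (CohB1.polyGrading n k) (lin_mem k n (fun _ => 0)) =
      Groth.Agent.H18.PSL.gsec n k 1 0 := congrArg (Groth.Agent.H18.PSL.gsec n k 1) h0
  have h2 : Groth.Agent.H18.PSL.gsec n k 1 0 = 0 := by
    have h3 := Groth.Agent.H18.PSL.gsec_add n k 1 0 0
    rw [add_zero] at h3
    exact left_eq_add.mp h3
  refine h1.trans (h2.trans ?_)
  rfl

/-- the pull back of `O(1)` along the linear embedding is `O(1)` -/
theorem nonempty_pullback_jmap_iso (c : Fin (n + 2) → k) (j0 : Fin (n + 2)) :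
    Nonempty ((Scheme.Modules.pullback (jmap k n c j0)).obj (Twist.twistProjSpace (n + 1) k 1) ≅
      Twist.twistProjSpace n k 1) :=
  Groth.Agent.H36.ProjMapTwist.nonempty_pullback_twist_one_iso (CohB1.polyGrading (n + 1) k)
    (CohB1.polyGrading n k) (gphi k n c j0) (irrelevant_le k n c j0)
    (fun i : Fin (n + 2) => (MvPolynomial.X i : MvPolynomial (Fin (n + 2)) k))
    (X_mem k (n + 1))
    (fun y => exists_X_notMem k (n + 1)
      (show ProjectiveSpectrum (CohB1.polyGrading (n + 1) k) from y))

/-- a hyperplane of projective space is a projective space, compatibly with `O(1)` -/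
theorem hyperplane_iso
    (s : Coh.structureModule (CohB1.ProjSpace (n + 1) k) ⟶ Twist.twistProjSpace (n + 1) k 1)
    (hs : s ≠ 0) :
    ∃ φ : CohB1.ProjSpace n k ≅ (PicF2.zeroScheme _ s).subscheme,
      Nonempty ((Scheme.Modules.pullback (φ.hom ≫ (PicF2.zeroScheme _ s).subschemeι)).obj
          (Twist.twistProjSpace (n + 1) k 1) ≅ Twist.twistProjSpace n k 1) := by
  obtain ⟨c, rfl⟩ := exists_secOf k (n + 1) s
  have hc : ∃ j0, c j0 ≠ 0 := by
    by_contra hcon
    push Not at hcon
    apply hs
    have : c = fun _ => 0 := funext hcon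
    rw [this]
    exact secOf_zero k (n + 1)
  obtain ⟨j0, hj0⟩ := hc
  refine ⟨hypIso k n c j0 hj0, ?_⟩
  have h := nonempty_pullback_jmap_iso k n c j0
  rw [← hypIso_hom_ι k n c j0 hj0] at h
  exact h

end Groth.Agent.H36.HypIso
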