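import Mathlib
import Groth.Agent.S4228

/-!
# Affine Bertini, smooth version: a general hyperplane section of a smooth affine variety is smooth
-/

set_option autoImplicit false
set_option linter.unusedSectionVars false
set_option linter.unusedVariables false
set_option linter.style.haveILetI false

namespace Groth.Agent.H36.HypSmooth

universe u

open AlgebraicGeometry CategoryTheory

theorem smooth_of_forall_prime_exists_away (k : Type u) [Field k] (B : Type u) [CommRing B]
    [Algebra k B]
    (h : ∀ (q : Ideal B) (_ : q.IsPrime), ∃ f : B, f ∉ q ∧ Algebra.Smooth k (Localization.Away f)) :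
    Algebra.Smooth k B := by
  choose f hf hsm using h
  rw [← RingHom.smooth_algebraMap]
  let s : Set B := Set.range (fun q : PrimeSpectrum B => f q.asIdeal q.isPrime)
  have hs : Ideal.span s = ⊤ := by
    by_contra hne
    obtain ⟨m, hm, hle⟩ := Ideal.exists_le_maximal _ hne
    have hmem : f m hm.isPrime ∈ m := hle (Ideal.subset_span ⟨⟨m, hm.isPrime⟩, rfl⟩)
    exact hf m hm.isPrime hmem
  refine RingHom.Smooth.ofLocalizationSpanTarget (algebraMap k B) s hs ?_
  rintro ⟨_, ⟨q, rfl⟩⟩
  have := hsm q.asIdeal q.isPrime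
  rw [← RingHom.smooth_algebraMap] at this
  convert this using 1
  exact (IsScalarTower.algebraMap_eq k B _).symm

theorem affine_bertini_smooth (k : Type u) [Field k] [Infinite k] (n r : ℕ) (A : Type u)
    [CommRing A] [Algebra k A] (x : Fin n → A)
    (hx : Function.Surjective (MvPolynomial.aeval x : MvPolynomial (Fin n) k →ₐ[k] A))
    (hdim : ∀ P ∈ minimalPrimes A, ringKrullDim (A ⧸ P) = r)
    (hsmA : Algebra.Smooth k A) :
    ∃ g : MvPolynomial (Fin (n + 1)) k, g ≠ 0 ∧ ∀ a : Fin (n + 1) → k,
      MvPolynomial.eval a g ≠ 0 →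
        Algebra.Smooth k (A ⧸ Ideal.span
          {algebraMap k A (a 0) + ∑ i : Fin n, algebraMap k A (a i.succ) * x i}) := by
  obtain ⟨g, hg0, hg⟩ := Groth.Agent.S4228.result k n r A x hx hdim
  refine ⟨g, hg0, fun a hga => ?_⟩
  apply smooth_of_forall_prime_exists_away
  intro q hq
  have hsm : ∃ f : A, f ∉ q.comap (Ideal.Quotient.mk _) ∧
      Smooth (Spec.map (CommRingCat.ofHom (algebraMap k (Localization.Away f)))) := by
    refine ⟨1, ?_, ?_⟩
    · intro h1
      exact hq.ne_top ((Ideal.eq_top_iff_one _).mpr (by simpa using h1))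
    · have hS : Algebra.Smooth k (Localization.Away (1 : A)) := by
        haveI : Algebra.Smooth A (Localization.Away (1 : A)) :=
          ⟨Algebra.FormallySmooth.of_isLocalization (.powers (1 : A)),
            IsLocalization.Away.finitePresentation 1⟩
        exact Algebra.Smooth.comp k A _
      exact (HasRingHomProperty.Spec_iff (P := @Smooth)).mpr (RingHom.smooth_algebraMap.mpr hS)
  obtain ⟨fbar, hfbar, hsmrel⟩ := hg a hga q hq hsm
  haveI := hsmrel
  have hsm2 : Smooth (Spec.map (CommRingCat.ofHom (algebraMap k (Localization.Away fbar)))) :=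
    SmoothOfRelativeDimension.smooth (r - 1) _
  refine ⟨fbar, hfbar, ?_⟩
  have h1 : (algebraMap k (Localization.Away fbar)).Smooth :=
    (HasRingHomProperty.Spec_iff (P := @Smooth)).mp hsm2
  rwa [RingHom.smooth_algebraMap] at h1

end Groth.Agent.H36.HypSmooth
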