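import Mathlib
import Groth.Agent.H36.HypSmoothA
import Groth.Agent.H36.HypSmoothB

/-!
# A general hyperplane section of a smooth closed subscheme of projective space is smooth
-/

set_option autoImplicit false
set_option linter.unusedSectionVars false
set_option linter.unusedVariables false
set_option linter.style.haveILetI false

namespace Groth.Agent.H36.HypSmooth

universe u

open AlgebraicGeometry CategoryTheory CategoryTheory.Limits HomogeneousLocalization
open Groth.Agent.H54.PL Groth.Agent.H18 Groth.Agent.H36.BertiniProj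

section main

variable (k : Type u) [Field k] (n : ℕ) {X : Scheme.{u}}
  (ι : X ⟶ Proj (CohB1.polyGrading n k))

theorem appLE_chart_X (j : Fin (n + 1)) (t : Γ(Spec (CommRingCat.of k), ⊤)) :
    ((ι ≫ CohB1.ProjSpace.toSpec n k).appLE ⊤
      (ι ⁻¹ᵁ Proj.basicOpen (CohB1.polyGrading n k)
        (MvPolynomial.X j : MvPolynomial (Fin (n + 1)) k)) le_top).hom t =
      chartHom k n ι j (cst k n _ ((Scheme.ΓSpecIso (CommRingCat.of k)).hom.hom t)) := by
  have e2 := Scheme.Hom.appLE_comp_appLE ι (CohB1.ProjSpace.toSpec n k) ⊤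
    (Proj.basicOpen (CohB1.polyGrading n k)
      (MvPolynomial.X j : MvPolynomial (Fin (n + 1)) k))
    (ι ⁻¹ᵁ Proj.basicOpen (CohB1.polyGrading n k)
      (MvPolynomial.X j : MvPolynomial (Fin (n + 1)) k)) le_top le_rfl
  have ht : t = (Scheme.ΓSpecIso (CommRingCat.of k)).inv.hom
      ((Scheme.ΓSpecIso (CommRingCat.of k)).hom.hom t) := by
    rw [← CommRingCat.comp_apply, Iso.hom_inv_id]
    rfl
  have e3 := toSpec_appLE_chart k n j ((Scheme.ΓSpecIso (CommRingCat.of k)).hom.hom t)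
  rw [← ht] at e3
  rw [← Scheme.Hom.app_eq_appLE] at e2
  rw [← e2]
  simp only [CommRingCat.hom_comp, RingHom.comp_apply]
  exact congrArg (fun z => (ι.app (Proj.basicOpen (CohB1.polyGrading n k)
      (MvPolynomial.X j : MvPolynomial (Fin (n + 1)) k))).hom z) e3

theorem chart_smooth [IsClosedImmersion ι] [Smooth (ι ≫ CohB1.ProjSpace.toSpec n k)]
    (j : Fin (n + 1)) :
    letI : Algebra k Γ(X, ι ⁻¹ᵁ Proj.basicOpen (CohB1.polyGrading n k)
      (MvPolynomial.X j : MvPolynomial (Fin (n + 1)) k)) :=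
      ((chartHom k n ι j).comp (cst k n _)).toAlgebra
    Algebra.Smooth k Γ(X, ι ⁻¹ᵁ Proj.basicOpen (CohB1.polyGrading n k)
      (MvPolynomial.X j : MvPolynomial (Fin (n + 1)) k)) := by
  letI : Algebra k Γ(X, ι ⁻¹ᵁ Proj.basicOpen (CohB1.polyGrading n k)
    (MvPolynomial.X j : MvPolynomial (Fin (n + 1)) k)) :=
    ((chartHom k n ι j).comp (cst k n _)).toAlgebra
  have h1 : RingHom.Smooth ((ι ≫ CohB1.ProjSpace.toSpec n k).appLE ⊤
      (ι ⁻¹ᵁ Proj.basicOpen (CohB1.polyGrading n k)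
        (MvPolynomial.X j : MvPolynomial (Fin (n + 1)) k)) le_top).hom :=
    HasRingHomProperty.appLE (P := @Smooth) (ι ≫ CohB1.ProjSpace.toSpec n k) inferInstance
      ⟨⊤, isAffineOpen_top _⟩ ⟨_, isAffineOpen_chart k n ι j⟩ le_top
  have h2 : algebraMap k Γ(X, ι ⁻¹ᵁ Proj.basicOpen (CohB1.polyGrading n k)
      (MvPolynomial.X j : MvPolynomial (Fin (n + 1)) k)) =
      (((ι ≫ CohB1.ProjSpace.toSpec n k).appLE ⊤
      (ι ⁻¹ᵁ Proj.basicOpen (CohB1.polyGrading n k)
        (MvPolynomial.X j : MvPolynomial (Fin (n + 1)) k)) le_top).hom).comp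
        (Scheme.ΓSpecIso (CommRingCat.of k)).inv.hom := by
    ext r
    rw [RingHom.comp_apply, appLE_chart_X, ← CommRingCat.comp_apply, Iso.inv_hom_id]
    rfl
  rw [← RingHom.smooth_algebraMap, h2]
  exact RingHom.Smooth.comp (RingHom.Smooth.of_bijective
    (ConcreteCategory.bijective_of_isIso (Scheme.ΓSpecIso (CommRingCat.of k)).inv)) h1

/-- Bertini (smooth version) on the chart `D₊(X j)` -/
theorem chart_bertini_smooth [Infinite k] [IsIntegral X] [IsClosedImmersion ι]
    [Smooth (ι ≫ CohB1.ProjSpace.toSpec n k)] (j : Fin (n + 1)) :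
    ∃ g : MvPolynomial (Fin (n + 1)) k, g ≠ 0 ∧ ∀ c : Fin (n + 1) → k,
      MvPolynomial.eval c g ≠ 0 →
      letI : Algebra k Γ(X, ι ⁻¹ᵁ Proj.basicOpen (CohB1.polyGrading n k)
        (MvPolynomial.X j : MvPolynomial (Fin (n + 1)) k)) :=
        ((chartHom k n ι j).comp (cst k n _)).toAlgebra
      Algebra.Smooth k (Γ(X, ι ⁻¹ᵁ Proj.basicOpen (CohB1.polyGrading n k)
        (MvPolynomial.X j : MvPolynomial (Fin (n + 1)) k)) ⧸
          Ideal.span {chartHom k n ι j (awayLin k n j c)}) := by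
  classical
  letI : Algebra k Γ(X, ι ⁻¹ᵁ Proj.basicOpen (CohB1.polyGrading n k)
      (MvPolynomial.X j : MvPolynomial (Fin (n + 1)) k)) :=
      ((chartHom k n ι j).comp (cst k n _)).toAlgebra
  obtain ⟨r, hdim⟩ := exists_dim_chart k n ι j
  obtain ⟨g', hg'0, hg'⟩ := affine_bertini_smooth k n r
    Γ(X, ι ⁻¹ᵁ Proj.basicOpen (CohB1.polyGrading n k)
      (MvPolynomial.X j : MvPolynomial (Fin (n + 1)) k))
    (fun i : Fin n => chartHom k n ι j (xc k n j (j.succAbove i)))
    (aeval_chart_surjective k n ι j) hdim (chart_smooth k n ι j)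
  refine ⟨MvPolynomial.rename (Fin.cons j j.succAbove : Fin (n + 1) → Fin (n + 1)) g', ?_, ?_⟩
  · intro h0
    apply hg'0
    exact MvPolynomial.rename_injective _ (injective_cons_succAbove n j)
      (by rw [h0, map_zero])
  intro c hc
  rw [MvPolynomial.eval_rename] at hc
  have key := hg' (c ∘ (Fin.cons j j.succAbove : Fin (n + 1) → Fin (n + 1))) hc
  rw [← chartHom_awayLin k n ι j c] at key
  exact key

end main

end Groth.Agent.H36.HypSmooth
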