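import Mathlib
import Groth.Agent.H36.EakinNagata
import Groth.Agent.Lead.RegularLocal2

/-!
# Height one primes under invariants of a factorial local domain

`B = A^G` with `A` a Noetherian factorial local domain, `G` finite, `A` finite over `B`.
If `q` is a height one prime of `B` and `p` a prime of `A` over `q` with trivial residue field
extension, then `q = (N(t))` where `p = (t)` and `N(t) = ∏ g • t`.
-/

set_option autoImplicit false
set_option linter.unusedSectionVars false
set_option linter.style.haveILetI false

namespace Groth.Agent.H36.InvPrincipal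

open scoped Pointwise TensorProduct
open IsLocalRing Module

universe u

section Combinatorial

variable {A G : Type*} [CommRing A] [IsDomain A] [UniqueFactorizationMonoid A]
  [Group G] [Fintype G] [MulSemiringAction G A]

lemma prime_smul (g : G) {t : A} (ht : Prime t) : Prime (g • t) :=
  (MulEquiv.prime_iff (MulSemiringAction.toRingEquiv G A g).toMulEquiv).2 ht

open Classical in
/-- If every class of `g ↦ g • t` modulo associates has at most `n` elements and every
`(g • t) ^ n` divides `β`, then the norm `∏ g, g • t` divides `β`. -/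
theorem prod_smul_dvd (t : A) (ht : Prime t) (n : ℕ) (β : A)
    (hcard : ∀ g₀ : G, (Finset.univ.filter fun g : G => Associated (g • t) (g₀ • t)).card ≤ n)
    (hdvd : ∀ g : G, (g • t) ^ n ∣ β) : ∏ g : G, g • t ∣ β := by
  let φ : G → Associates A := fun g => Associates.mk (g • t)
  have hφ : ∀ g g' : G, φ g = φ g' ↔ Associated (g • t) (g' • t) := fun g g' =>
    Associates.mk_eq_mk_iff_associated
  rw [← Finset.prod_fiberwise_of_maps_to (s := Finset.univ) (t := Finset.univ.image φ) (g := φ)
    (fun g _ => Finset.mem_image_of_mem φ (Finset.mem_univ g))]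
  apply Finset.prod_dvd_of_isRelPrime
  · intro c hc c' hc' hne
    rw [Finset.mem_coe, Finset.mem_image] at hc hc'
    obtain ⟨g₀, -, rfl⟩ := hc
    obtain ⟨g₀', -, rfl⟩ := hc'
    change IsRelPrime _ _
    apply IsRelPrime.prod_left
    intro g hg
    apply IsRelPrime.prod_right
    intro g' hg'
    rw [Finset.mem_filter] at hg hg'
    rw [(prime_smul g ht).irreducible.isRelPrime_iff_not_dvd]
    intro hd
    apply hne
    rw [← hg.2, ← hg'.2, hφ]
    exact (prime_smul g ht).irreducible.associated_of_dvd (prime_smul g' ht).irreducible hd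
  · intro c hc
    rw [Finset.mem_image] at hc
    obtain ⟨g₀, -, rfl⟩ := hc
    have h1 : ∏ g ∈ Finset.univ.filter (fun g => φ g = φ g₀), g • t ∣
        ∏ _g ∈ Finset.univ.filter (fun g => φ g = φ g₀), g₀ • t := by
      apply Finset.prod_dvd_prod_of_dvd
      intro g hg
      rw [Finset.mem_filter, hφ] at hg
      exact hg.2.dvd
    rw [Finset.prod_const] at h1
    refine h1.trans ((pow_dvd_pow _ ?_).trans (hdvd g₀))
    refine le_trans (le_of_eq ?_) (hcard g₀)
    congr 1
    ext g
    simp only [Finset.mem_filter, Finset.mem_univ, true_and, hφ]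

lemma smul_span_singleton (g : G) (t : A) :
    g • (Ideal.span {t} : Ideal A) = Ideal.span {g • t} := by
  rw [Ideal.pointwise_smul_def, Ideal.map_span, Set.image_singleton]
  rfl

open Classical in
theorem card_filter_associated_le (t : A) (p : Ideal A) (hpt : p = Ideal.span {t}) (g₀ : G) :
    (Finset.univ.filter fun g : G => Associated (g • t) (g₀ • t)).card ≤
      Nat.card (MulAction.stabilizer G p) := by
  have hcard : Nat.card (MulAction.stabilizer G p) =
      (Finset.univ.filter fun g : G => g ∈ MulAction.stabilizer G p).card := by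
    rw [Nat.card_eq_fintype_card, Fintype.card_subtype]
  rw [hcard]
  apply Finset.card_le_card_of_injOn (fun g => g₀⁻¹ * g)
  · intro g hg
    rw [Finset.coe_filter, Set.mem_ofPred_eq] at hg
    rw [Finset.coe_filter, Set.mem_ofPred_eq]
    refine ⟨Finset.mem_univ _, ?_⟩
    rw [MulAction.mem_stabilizer_iff, mul_smul, inv_smul_eq_iff, hpt, smul_span_singleton,
      smul_span_singleton, Ideal.span_singleton_eq_span_singleton]
    exact hg.2
  · intro g _ g' _ h
    exact mul_left_cancel h

end Combinatorial

section General

theorem eq_bot_of_lt_of_height_le_one' {D : Type*} [CommRing D] [IsDomain D] {P Q : Ideal D}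
    [P.IsPrime] [Q.IsPrime] (hP : P.height ≤ 1) (hQP : Q < P) : Q = ⊥ := by
  have h1 : P.height ≤ ((1 : ℕ) : ℕ∞) := by simpa using hP
  have h2 := (Ideal.height_le_iff.mp h1) Q inferInstance hQP
  have h3 : Q.height = 0 := by
    have : Q.height < 1 := by simpa using h2
    exact Order.lt_one_iff.mp this
  exact Ideal.height_eq_zero_iff_eq_bot.mp h3

/-- In a Noetherian integrally closed domain the localization at a height one prime is a
principal ideal ring. -/
theorem isPrincipalIdealRing_atPrime_of_height_one (B : Type*) [CommRing B] [IsDomain B]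
    [IsNoetherianRing B] [IsIntegrallyClosed B] (q : Ideal B) [q.IsPrime] (hq : q.height = 1) :
    IsPrincipalIdealRing (Localization.AtPrime q) := by
  have hle : q.primeCompl ≤ nonZeroDivisors B := q.primeCompl_le_nonZeroDivisors
  have : IsIntegrallyClosed (Localization.AtPrime q) :=
    isIntegrallyClosed_of_isLocalization (Localization.AtPrime q) q.primeCompl hle
  have key : IsIntegrallyClosed (Localization.AtPrime q) ∧
      ∀ P : Ideal (Localization.AtPrime q), P ≠ ⊥ → P.IsPrime →
        P = maximalIdeal (Localization.AtPrime q) := by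
    refine ⟨inferInstance, ?_⟩
    intro P hP0 hP
    have hmap : (P.comap (algebraMap B (Localization.AtPrime q))).map
        (algebraMap B (Localization.AtPrime q)) = P :=
      IsLocalization.map_under q.primeCompl _ P
    have hcomap_le : P.comap (algebraMap B (Localization.AtPrime q)) ≤ q := by
      have h1 : P ≤ maximalIdeal (Localization.AtPrime q) := le_maximalIdeal hP.ne_top
      have := Ideal.comap_mono (f := algebraMap B (Localization.AtPrime q)) h1
      have h2 := IsLocalization.AtPrime.under_maximalIdeal (Localization.AtPrime q) q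
      rw [Ideal.under_def] at h2
      rwa [h2] at this
    rcases hcomap_le.lt_or_eq with hlt | heq
    · have := eq_bot_of_lt_of_height_le_one' hq.le hlt
      rw [this, Ideal.map_bot] at hmap
      exact absurd hmap.symm hP0
    · rw [← hmap, heq, Localization.AtPrime.map_eq_maximalIdeal]
  exact ((tfae_of_isNoetherianRing_of_isLocalRing_of_isDomain
    (R := Localization.AtPrime q)).out 3 0).1 key

/-- The localization of a Noetherian domain at a nonzero principal prime is a DVR. -/
theorem isDVR_atPrime_span_singleton (A : Type*) [CommRing A] [IsDomain A] [IsNoetherianRing A]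
    (t : A) (ht : Prime t) (p : Ideal A) [hp : p.IsPrime] (hpt : p = Ideal.span {t}) :
    IsDiscreteValuationRing (Localization.AtPrime p) := by
  have hmax : maximalIdeal (Localization.AtPrime p) =
      Ideal.span {algebraMap A (Localization.AtPrime p) t} := by
    rw [← Localization.AtPrime.map_eq_maximalIdeal]
    have : Ideal.map (algebraMap A (Localization.AtPrime p)) p =
        Ideal.map (algebraMap A (Localization.AtPrime p)) (Ideal.span {t}) :=
      congrArg _ hpt
    rw [this, Ideal.map_span, Set.image_singleton]
  have hprin : (maximalIdeal (Localization.AtPrime p)).IsPrincipal := ⟨⟨_, hmax⟩⟩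
  have hPIR : IsPrincipalIdealRing (Localization.AtPrime p) :=
    ((tfae_of_isNoetherianRing_of_isLocalRing_of_isDomain
      (R := Localization.AtPrime p)).out 4 0).1 hprin
  refine { not_a_field' := ?_ }
  rw [hmax, Ne, Ideal.span_singleton_eq_bot, map_eq_zero_iff _
    (IsLocalization.injective _ p.primeCompl_le_nonZeroDivisors)]
  exact ht.ne_zero

variable (A B G : Type u) [CommRing A] [IsDomain A] [CommRing B] [Algebra B A] [FaithfulSMul B A]
  [Group G] [Finite G] [MulSemiringAction G A] [FaithfulSMul G A] [SMulCommClass G B A]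
  [Algebra.IsInvariant B A G]

theorem finrank_fiber_eq_card [Module.Finite B A] (q : Ideal B) [q.IsPrime]
    [IsPrincipalIdealRing (Localization.AtPrime q)] :
    Module.finrank q.ResidueField (q.Fiber A) = Nat.card G := by
  have hdom : IsDomain B := IsDomain.of_faithfulSMul B A
  have hle : q.primeCompl ≤ nonZeroDivisors B := q.primeCompl_le_nonZeroDivisors
  have hGal : IsGaloisGroup G B A := ⟨inferInstance, inferInstance, inferInstance⟩
  have htf : Module.IsTorsionFree B A :=
    (isTorsionFree_iff_algebraMap_injective).2 (FaithfulSMul.algebraMap_injective B A)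
  have hfree1 : Module.Free (Localization.AtPrime q) (LocalizedModule q.primeCompl A) :=
    Module.free_of_finite_type_torsion_free'
  have hfree2 : Module.Free (Localization.AtPrime q) (Localization.AtPrime q ⊗[B] A) :=
    Module.Free.of_equiv (LocalizedModule.equivTensorProduct q.primeCompl A)
  let e : q.ResidueField ⊗[Localization.AtPrime q] (Localization.AtPrime q ⊗[B] A) ≃ₗ[q.ResidueField]
      q.ResidueField ⊗[B] A := TensorProduct.AlgebraTensorModule.cancelBaseChange _ _ _ _ _
  calc finrank q.ResidueField (q.Fiber A)
      = finrank q.ResidueField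
          (q.ResidueField ⊗[Localization.AtPrime q] (Localization.AtPrime q ⊗[B] A)) :=
        e.finrank_eq.symm
    _ = finrank (Localization.AtPrime q) (Localization.AtPrime q ⊗[B] A) := finrank_baseChange
    _ = finrank (Localization.AtPrime q) (LocalizedModule q.primeCompl A) :=
        (LocalizedModule.equivTensorProduct q.primeCompl A).finrank_eq.symm
    _ = finrank B (LocalizedModule q.primeCompl A) :=
        IsLocalization.finrank_eq (Localization.AtPrime q) q.primeCompl hle
    _ = finrank B A :=
        IsLocalizedModule.finrank_eq q.primeCompl (LocalizedModule.mkLinearMap q.primeCompl A) hle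
    _ = Nat.card G := (IsGaloisGroup.card_eq_finrank' G B A).symm

theorem ncard_mul_ramification_mul_inertia [Module.Finite B A] (q : Ideal B) [q.IsPrime]
    [IsPrincipalIdealRing (Localization.AtPrime q)] (p : Ideal A) [p.IsPrime] [p.LiesOver q] :
    (q.primesOver A).ncard * (p.ramificationIdx B * p.inertiaDeg B) = Nat.card G := by
  have hGal : IsGaloisGroup G B A := ⟨inferInstance, inferInstance, inferInstance⟩
  have : Fintype (q.primesOver A) := (Algebra.QuasiFinite.finite_primesOver q).fintype
  rw [← smul_eq_mul, ← Set.fintypeCard_eq_ncard, ← Finset.card_univ, ← Finset.sum_const,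
    ← finrank_fiber_eq_card A B G q, ← Ideal.sum_ramification_inertia_eq_finrank_fiber q A]
  apply Finset.sum_congr rfl
  intro P _
  rw [Ideal.ramificationIdx_eq_of_isGaloisGroup q p P.1 G,
    Ideal.inertiaDeg_eq_of_isGaloisGroup q p P.1 G]

theorem ncard_mul_card_stabilizer (q : Ideal B) [q.IsPrime] (p : Ideal A) [p.IsPrime]
    [p.LiesOver q] :
    (q.primesOver A).ncard * Nat.card (MulAction.stabilizer G p) = Nat.card G := by
  rw [← Algebra.IsInvariant.orbit_eq_primesOver B A G q p]
  simpa using Nat.card_congr (MulAction.orbitProdStabilizerEquivGroup G p)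

theorem inertiaDeg_eq_one (q : Ideal B) [q.IsPrime] (p : Ideal A) [p.IsPrime] [p.LiesOver q]
    (hres : ∀ a : A, ∃ b c : B, c ∉ q ∧ algebraMap B A c * a - algebraMap B A b ∈ p) :
    p.inertiaDeg B = 1 := by
  let _ := Localization.AtPrime.algebraOfLiesOver q p
  rw [Ideal.inertiaDeg_eq q p]
  have hmem : ∀ b : B, algebraMap B A b ∈ p ↔ b ∈ q := by
    intro b
    rw [Ideal.over_def p q, Ideal.under_def, Ideal.mem_comap]
  have hsurj : Function.Surjective (algebraMap q.ResidueField p.ResidueField) := by
    intro x
    obtain ⟨y, rfl⟩ := IsLocalRing.residue_surjective x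
    obtain ⟨a, s, rfl⟩ := IsLocalization.exists_mk'_eq p.primeCompl y
    obtain ⟨b₁, c₁, hc₁, h₁⟩ := hres a
    obtain ⟨b₂, c₂, hc₂, h₂⟩ := hres (s : A)
    have hb₂ : b₂ ∉ q := by
      intro hb₂
      have h3 : algebraMap B A c₂ * (s : A) ∈ p := by
        have := p.add_mem h₂ ((hmem b₂).2 hb₂)
        simpa using this
      rcases (inferInstance : p.IsPrime).mem_or_mem h3 with h | h
      · exact hc₂ ((hmem c₂).1 h)
      · exact s.2 h
    have hden : c₁ * b₂ ∈ q.primeCompl := fun h =>
      ((inferInstance : q.IsPrime).mem_or_mem h).elim hc₁ hb₂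
    refine ⟨IsLocalRing.residue _ (IsLocalization.mk' (Localization.AtPrime q) (b₁ * c₂)
      ⟨c₁ * b₂, hden⟩), ?_⟩
    rw [IsLocalRing.ResidueField.algebraMap_residue]
    rw [← sub_eq_zero, ← map_sub, IsLocalRing.residue_eq_zero_iff]
    -- the difference times a unit lies in the maximal ideal
    set D := algebraMap (Localization.AtPrime q) (Localization.AtPrime p)
      (IsLocalization.mk' (Localization.AtPrime q) (b₁ * c₂) ⟨c₁ * b₂, hden⟩) -
      IsLocalization.mk' (Localization.AtPrime p) a s with hD
    let u : A := algebraMap B A (c₁ * b₂) * (s : A)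
    have hu : u ∉ p := by
      intro hu
      rcases (inferInstance : p.IsPrime).mem_or_mem hu with h | h
      · exact hden ((hmem _).1 h)
      · exact s.2 h
    have hunit : IsUnit (algebraMap A (Localization.AtPrime p) u) :=
      IsLocalization.map_units (Localization.AtPrime p) (⟨u, hu⟩ : p.primeCompl)
    have hDu : D * algebraMap A (Localization.AtPrime p) u =
        algebraMap A (Localization.AtPrime p)
          (algebraMap B A (b₁ * c₂) * (s : A) - a * algebraMap B A (c₁ * b₂)) := by
      have e1 : algebraMap (Localization.AtPrime q) (Localization.AtPrime p)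
          (IsLocalization.mk' (Localization.AtPrime q) (b₁ * c₂) ⟨c₁ * b₂, hden⟩) *
          algebraMap A (Localization.AtPrime p) (algebraMap B A (c₁ * b₂)) =
          algebraMap A (Localization.AtPrime p) (algebraMap B A (b₁ * c₂)) := by
        rw [← IsScalarTower.algebraMap_apply B A (Localization.AtPrime p),
          ← IsScalarTower.algebraMap_apply B A (Localization.AtPrime p),
          IsScalarTower.algebraMap_apply B (Localization.AtPrime q) (Localization.AtPrime p),
          IsScalarTower.algebraMap_apply B (Localization.AtPrime q) (Localization.AtPrime p),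
          ← map_mul]
        congr 1
        exact IsLocalization.mk'_spec (Localization.AtPrime q) (b₁ * c₂) ⟨c₁ * b₂, hden⟩
      have e2 : IsLocalization.mk' (Localization.AtPrime p) a s *
          algebraMap A (Localization.AtPrime p) (s : A) = algebraMap A (Localization.AtPrime p) a :=
        IsLocalization.mk'_spec (Localization.AtPrime p) a s
      rw [hD]
      change _ * algebraMap A (Localization.AtPrime p) (algebraMap B A (c₁ * b₂) * (s : A)) = _
      generalize algebraMap B A (c₁ * b₂) = β at e1 ⊢
      generalize algebraMap B A (b₁ * c₂) = α at e1 ⊢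
      rw [map_mul, map_sub, map_mul, map_mul]
      linear_combination (algebraMap A (Localization.AtPrime p) (s : A)) * e1 -
        (algebraMap A (Localization.AtPrime p) β) * e2
    have hmemp : algebraMap B A (b₁ * c₂) * (s : A) - a * algebraMap B A (c₁ * b₂) ∈ p := by
      have h₁' := p.mul_mem_left (algebraMap B A c₂ * (s : A)) h₁
      have h₂' := p.mul_mem_left (algebraMap B A c₁ * a) h₂
      have : algebraMap B A (b₁ * c₂) * (s : A) - a * algebraMap B A (c₁ * b₂) =
          (algebraMap B A c₁ * a) * (algebraMap B A c₂ * (s : A) - algebraMap B A b₂) -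
          (algebraMap B A c₂ * (s : A)) * (algebraMap B A c₁ * a - algebraMap B A b₁) := by
        rw [map_mul, map_mul]; ring
      rw [this]
      exact p.sub_mem h₂' h₁'
    have hDm : D * algebraMap A (Localization.AtPrime p) u ∈
        IsLocalRing.maximalIdeal (Localization.AtPrime p) := by
      rw [hDu, IsLocalization.AtPrime.to_map_mem_maximal_iff (Localization.AtPrime p) p]
      exact hmemp
    exact ((IsLocalRing.maximalIdeal.isMaximal _).isPrime.mem_or_mem hDm).resolve_right
      (fun h => (IsLocalRing.mem_maximalIdeal _).1 h hunit)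
  have hbij : Function.Bijective (Algebra.linearMap q.ResidueField p.ResidueField) :=
    ⟨(algebraMap q.ResidueField p.ResidueField).injective, hsurj⟩
  rw [← (LinearEquiv.ofBijective _ hbij).finrank_eq, Module.finrank_self]

theorem pow_card_stabilizer_dvd [Module.Finite B A] [IsNoetherianRing A] (q : Ideal B) [q.IsPrime]
    [IsPrincipalIdealRing (Localization.AtPrime q)] (p : Ideal A) [p.IsPrime] [p.LiesOver q]
    (hres : ∀ a : A, ∃ b c : B, c ∉ q ∧ algebraMap B A c * a - algebraMap B A b ∈ p)
    (t : A) (ht : Prime t) (hpt : p = Ideal.span {t}) (b : B) (hb : b ∈ q) :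
    t ^ Nat.card (MulAction.stabilizer G p) ∣ algebraMap B A b := by
  set n := Nat.card (MulAction.stabilizer G p) with hn
  have hn0 : n ≠ 0 := Nat.card_pos.ne'
  -- the ramification index equals `n`
  have he : p.ramificationIdx B = n := by
    have h1 := ncard_mul_ramification_mul_inertia A B G q p
    have h2 := ncard_mul_card_stabilizer A B G q p
    rw [inertiaDeg_eq_one A B q p hres, mul_one, ← h2] at h1
    have hr : (q.primesOver A).ncard ≠ 0 := by
      intro h0
      rw [h0, zero_mul] at h2
      exact (Nat.card_pos (α := G)).ne' h2.symm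
    exact Nat.eq_of_mul_eq_mul_left (Nat.pos_of_ne_zero hr) h1
  rw [Ideal.ramificationIdx_eq q p, ENat.toNat_eq_iff hn0] at he
  have hDVR := isDVR_atPrime_span_singleton A t ht p hpt
  have hmax : maximalIdeal (Localization.AtPrime p) =
      Ideal.span {algebraMap A (Localization.AtPrime p) t} := by
    rw [← Localization.AtPrime.map_eq_maximalIdeal]
    have : Ideal.map (algebraMap A (Localization.AtPrime p)) p =
        Ideal.map (algebraMap A (Localization.AtPrime p)) (Ideal.span {t}) :=
      congrArg _ hpt
    rw [this, Ideal.map_span, Set.image_singleton]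
  by_contra hndvd
  -- the exact power of `t` dividing `b`
  have hex : ∃ k, ¬ t ^ (k + 1) ∣ algebraMap B A b := by
    refine ⟨n - 1, ?_⟩
    rwa [Nat.sub_add_cancel (Nat.pos_of_ne_zero hn0)]
  classical
  let k := Nat.find hex
  have hk1 : ¬ t ^ (k + 1) ∣ algebraMap B A b := Nat.find_spec hex
  have hk2 : t ^ k ∣ algebraMap B A b := by
    by_cases hk0 : k = 0
    · rw [hk0, pow_zero]; exact one_dvd _
    · obtain ⟨j, hj⟩ := Nat.exists_eq_succ_of_ne_zero hk0
      have := Nat.find_min hex (m := j) (by omega)
      push Not at this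
      rwa [hj]
  have hkn : k < n := by
    by_contra hge
    push Not at hge
    exact hndvd ((pow_dvd_pow t hge).trans hk2)
  obtain ⟨c, hc⟩ := hk2
  have hcp : c ∉ p := by
    intro hcp
    rw [hpt, Ideal.mem_span_singleton] at hcp
    obtain ⟨d, rfl⟩ := hcp
    exact hk1 ⟨d, by rw [hc, pow_succ]; ring⟩
  have hcunit : IsUnit (algebraMap A (Localization.AtPrime p) c) :=
    IsLocalization.map_units (Localization.AtPrime p) (⟨c, hcp⟩ : p.primeCompl)
  have hmemQ : algebraMap A (Localization.AtPrime p) t ^ k ∈
      q.map (algebraMap B (Localization.AtPrime p)) := by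
    have h1 : algebraMap B (Localization.AtPrime p) b ∈
        q.map (algebraMap B (Localization.AtPrime p)) := Ideal.mem_map_of_mem _ hb
    rw [IsScalarTower.algebraMap_apply B A (Localization.AtPrime p), hc, map_mul, map_pow] at h1
    obtain ⟨u, hu⟩ := hcunit
    have := Ideal.mul_mem_right (↑u⁻¹ : Localization.AtPrime p) _ h1
    rwa [mul_assoc, ← hu, Units.mul_inv, mul_one] at this
  have hle : maximalIdeal (Localization.AtPrime p) ^ k ≤
      q.map (algebraMap B (Localization.AtPrime p)) := by
    rw [hmax, Ideal.span_singleton_pow, Ideal.span_singleton_le_iff_mem]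
    exact hmemQ
  have hlen := Module.length_le_of_surjective (R := Localization.AtPrime p)
    (Submodule.mapQ (maximalIdeal (Localization.AtPrime p) ^ k)
      (q.map (algebraMap B (Localization.AtPrime p))) LinearMap.id hle)
    (by
      intro x
      obtain ⟨y, rfl⟩ := Submodule.Quotient.mk_surjective _ x
      exact ⟨Submodule.Quotient.mk y, rfl⟩)
  rw [he, IsDiscreteValuationRing.length_quotient_pow_maximalIdeal] at hlen
  have : n ≤ k := by exact_mod_cast hlen
  omega

lemma algebraMap_inj : Function.Injective (algebraMap B A) :=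
  FaithfulSMul.algebraMap_injective B A

include A in
lemma isDomain_base : IsDomain B := IsDomain.of_faithfulSMul B A

variable {A B} in
include G in
/-- An element of `B` which becomes a unit in `A` is a unit. -/
lemma isUnit_of_isUnit_algebraMap {b : B} (hb : IsUnit (algebraMap B A b)) : IsUnit b := by
  obtain ⟨a, ha⟩ := hb.exists_right_inv
  have hinv : ∀ g : G, g • a = a := by
    intro g
    have h1 : algebraMap B A b * (g • a) = 1 := by
      have := congrArg (fun x => g • x) ha
      simpa [smul_mul', smul_algebraMap] using this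
    have hb0 : algebraMap B A b ≠ 0 := by
      intro h0; rw [h0, zero_mul] at ha; exact zero_ne_one ha
    exact mul_left_cancel₀ hb0 (h1.trans ha.symm)
  obtain ⟨a', rfl⟩ := Algebra.IsInvariant.isInvariant (A := B) (G := G) a hinv
  rw [← map_mul, ← map_one (algebraMap B A)] at ha
  exact IsUnit.of_mul_eq_one _ (algebraMap_inj A B ha)

include A G in
lemma isLocalRing_base [IsLocalRing A] : IsLocalRing B := by
  have := isDomain_base A B
  refine IsLocalRing.of_nonunits_add ?_
  intro a b ha hb
  have ha' : algebraMap B A a ∈ nonunits A := fun h => ha (isUnit_of_isUnit_algebraMap (G := G) h)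
  have hb' : algebraMap B A b ∈ nonunits A := fun h => hb (isUnit_of_isUnit_algebraMap (G := G) h)
  intro hab
  have := IsLocalRing.nonunits_add ha' hb'
  rw [← map_add] at this
  exact this (hab.map _)

include A G in
/-- The invariant ring of an integrally closed domain is integrally closed. -/
lemma isIntegrallyClosed_base [IsIntegrallyClosed A] :
    @IsIntegrallyClosed B _ := by
  have := isDomain_base A B
  let _ : Algebra (FractionRing B) (FractionRing A) := FractionRing.liftAlgebra B (FractionRing A)
  rw [isIntegrallyClosed_iff (FractionRing B)]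
  intro x hx
  -- the image of `x` in `Frac A` is integral over `A`
  have hx' : IsIntegral A (algebraMap (FractionRing B) (FractionRing A) x) := by
    have := hx.map (IsScalarTower.toAlgHom B (FractionRing B) (FractionRing A))
    exact this.tower_top
  obtain ⟨a, ha⟩ := (isIntegrallyClosed_iff (FractionRing A)).1 inferInstance hx'
  obtain ⟨b₁, b₂, hb₂, rfl⟩ := IsFractionRing.div_surjective (A := B) x
  have hb₂0 : b₂ ≠ 0 := nonZeroDivisors.ne_zero hb₂
  have hb₂A : algebraMap B A b₂ ≠ 0 := by
    rwa [Ne, map_eq_zero_iff _ (algebraMap_inj A B)]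
  -- `a * b₂ = b₁` in `A`
  have hmul : a * algebraMap B A b₂ = algebraMap B A b₁ := by
    apply IsFractionRing.injective A (FractionRing A)
    rw [map_mul, ha, map_div₀, ← IsScalarTower.algebraMap_apply B (FractionRing B),
      ← IsScalarTower.algebraMap_apply B (FractionRing B),
      IsScalarTower.algebraMap_apply B A (FractionRing A),
      IsScalarTower.algebraMap_apply B A (FractionRing A)]
    rw [div_mul_cancel₀]
    rwa [Ne, map_eq_zero_iff _ (IsFractionRing.injective A (FractionRing A))]
  have hinv : ∀ g : G, g • a = a := by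
    intro g
    have := congrArg (fun x => g • x) hmul
    simp only [smul_mul', smul_algebraMap] at this
    exact mul_right_cancel₀ hb₂A (this.trans hmul.symm)
  obtain ⟨a', rfl⟩ := Algebra.IsInvariant.isInvariant (A := B) (G := G) a hinv
  refine ⟨a', ?_⟩
  rw [← map_mul] at hmul
  have := algebraMap_inj A B hmul
  rw [← this, map_mul, mul_div_assoc, div_self, mul_one]
  rwa [Ne, map_eq_zero_iff _ (IsFractionRing.injective B (FractionRing B))]


include G in
/-- The prime `p` over a height one prime `q` is generated by a prime element. -/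
theorem exists_prime_generator [UniqueFactorizationMonoid A] (q : Ideal B) [q.IsPrime]
    (hq : q.height = 1) (p : Ideal A) [p.IsPrime] [p.LiesOver q] :
    ∃ t : A, Prime t ∧ p = Ideal.span {t} := by
  have hdom : IsDomain B := isDomain_base A B
  have hint : Algebra.IsIntegral B A := Algebra.IsInvariant.isIntegral B A G
  have hq0 : q ≠ ⊥ := by
    rintro rfl
    rw [Ideal.height_bot] at hq
    exact zero_ne_one hq
  have hp0 : p ≠ ⊥ := by
    rintro rfl
    apply hq0
    rw [Ideal.over_def (⊥ : Ideal A) q, Ideal.under_def, ← RingHom.ker_eq_comap_bot,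
      (RingHom.injective_iff_ker_eq_bot _).1 (algebraMap_inj A B)]
  obtain ⟨t, htp, ht⟩ := Ideal.IsPrime.exists_mem_prime_of_ne_bot (inferInstance : p.IsPrime) hp0
  refine ⟨t, ht, ?_⟩
  have hP' : (Ideal.span {t}).IsPrime := (Ideal.span_singleton_prime ht.ne_zero).2 ht
  have hle : Ideal.span {t} ≤ p := (Ideal.span_singleton_le_iff_mem (I := p)).2 htp
  have hP'0 : Ideal.span {t} ≠ ⊥ := by
    rw [Ne, Ideal.span_singleton_eq_bot]; exact ht.ne_zero
  have hq'0 : (Ideal.span {t}).comap (algebraMap B A) ≠ ⊥ :=
    Ideal.IsIntegral.comap_ne_bot B hP'0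
  have hq'le : (Ideal.span {t}).comap (algebraMap B A) ≤ q := by
    rw [Ideal.over_def p q, Ideal.under_def]
    exact Ideal.comap_mono hle
  have hq'eq : (Ideal.span {t}).comap (algebraMap B A) = q := by
    rcases hq'le.lt_or_eq with hlt | heq
    · exact absurd (eq_bot_of_lt_of_height_le_one' hq.le hlt) hq'0
    · exact heq
  by_contra hne
  have hlt : Ideal.span {t} < p := lt_of_le_of_ne hle (Ne.symm hne)
  have := Ideal.IsIntegral.comap_lt_comap (R := B) hlt
  rw [hq'eq] at this
  have h2 : p.comap (algebraMap B A) = q := by
    rw [Ideal.over_def p q, Ideal.under_def]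
  rw [h2] at this
  exact lt_irrefl _ this

include G in
/-- **Main theorem, first part**: `q` is principal, generated by the norm of a generator of `p`. -/
theorem isPrincipal_of_residue_trivial [IsNoetherianRing A] [UniqueFactorizationMonoid A]
    [Module.Finite B A] (q : Ideal B) [q.IsPrime] (hq : q.height = 1) (p : Ideal A) [p.IsPrime]
    [p.LiesOver q]
    (hres : ∀ a : A, ∃ b c : B, c ∉ q ∧ algebraMap B A c * a - algebraMap B A b ∈ p) :
    ∃ x₀ : B, x₀ ≠ 0 ∧ q = Ideal.span {x₀} := by
  have hdom : IsDomain B := isDomain_base A B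
  have hnoeth : IsNoetherianRing B :=
    EakinNagata.isNoetherianRing_of_finite (A := A) (algebraMap_inj A B)
  have hic : IsIntegrallyClosed B := isIntegrallyClosed_base A B G
  have hPIR : IsPrincipalIdealRing (Localization.AtPrime q) :=
    isPrincipalIdealRing_atPrime_of_height_one B q hq
  obtain ⟨t, ht, hpt⟩ := exists_prime_generator A B G q hq p
  have hmem : ∀ b : B, algebraMap B A b ∈ p ↔ b ∈ q := by
    intro b
    rw [Ideal.over_def p q, Ideal.under_def, Ideal.mem_comap]
  let _ : Fintype G := Fintype.ofFinite G
  set n := Nat.card (MulAction.stabilizer G p) with hn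
  -- all conjugates of `t ^ n` divide elements of `q`
  have hdvd : ∀ b ∈ q, ∀ g : G, (g • t) ^ n ∣ algebraMap B A b := by
    intro b hb g
    have h1 := pow_card_stabilizer_dvd A B G q p hres t ht hpt b hb
    have h2 := map_dvd (MulSemiringAction.toRingHom G A g) h1
    rw [MulSemiringAction.toRingHom_apply, MulSemiringAction.toRingHom_apply, smul_pow',
      smul_algebraMap] at h2
    exact h2
  have hN : ∀ b ∈ q, ∏ g : G, g • t ∣ algebraMap B A b := by
    intro b hb
    exact prod_smul_dvd t ht n _ (fun g₀ => card_filter_associated_le t p hpt g₀) (hdvd b hb)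
  -- the norm is invariant
  have hNinv : ∀ g : G, g • (∏ g' : G, g' • t) = ∏ g' : G, g' • t := by
    intro g
    rw [Finset.smul_prod']
    simp_rw [← mul_smul]
    exact Fintype.prod_equiv (Equiv.mulLeft g) _ _ (fun _ => rfl)
  obtain ⟨x₀, hx₀⟩ := Algebra.IsInvariant.isInvariant (A := B) (G := G) _ hNinv
  have hN0 : (∏ g : G, g • t) ≠ 0 :=
    Finset.prod_ne_zero_iff.2 (fun g _ => (prime_smul g ht).ne_zero)
  have hx₀0 : x₀ ≠ 0 := by
    rintro rfl
    rw [map_zero] at hx₀
    exact hN0 hx₀.symm
  have hx₀q : x₀ ∈ q := by
    rw [← hmem, hx₀, hpt, Ideal.mem_span_singleton]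
    have := Finset.dvd_prod_of_mem (fun g : G => g • t) (Finset.mem_univ (1 : G))
    simpa using this
  refine ⟨x₀, hx₀0, le_antisymm ?_ ((Ideal.span_singleton_le_iff_mem (I := q)).2 hx₀q)⟩
  intro b hb
  obtain ⟨a, ha⟩ := hN b hb
  have hainv : ∀ g : G, g • a = a := by
    intro g
    have := congrArg (fun x => g • x) ha
    simp only [smul_mul', smul_algebraMap, hNinv] at this
    exact mul_left_cancel₀ hN0 (this.symm.trans ha)
  obtain ⟨a₀, rfl⟩ := Algebra.IsInvariant.isInvariant (A := B) (G := G) a hainv
  rw [← hx₀, ← map_mul] at ha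
  rw [Ideal.mem_span_singleton]
  exact ⟨a₀, algebraMap_inj A B ha⟩

include G in
/-- **Main theorem**. -/
theorem main [IsNoetherianRing A] [IsLocalRing A] [UniqueFactorizationMonoid A]
    [Module.Finite B A] (q : Ideal B) [q.IsPrime] (hq : q.height = 1) (p : Ideal A) [p.IsPrime]
    [p.LiesOver q]
    (hres : ∀ a : A, ∃ b c : B, c ∉ q ∧ algebraMap B A c * a - algebraMap B A b ∈ p) :
    Submodule.IsPrincipal q ∧ (IsRegularLocalRing (B ⧸ q) → IsRegularLocalRing B) := by
  obtain ⟨x₀, hx₀0, hqx⟩ := isPrincipal_of_residue_trivial A B G q hq p hres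
  refine ⟨⟨⟨x₀, hqx⟩⟩, fun hreg => ?_⟩
  have hdom : IsDomain B := isDomain_base A B
  have hnoeth : IsNoetherianRing B :=
    EakinNagata.isNoetherianRing_of_finite (A := A) (algebraMap_inj A B)
  have hloc : IsLocalRing B := isLocalRing_base A B G
  have hreg' : IsRegularLocalRing (B ⧸ Ideal.span {x₀}) :=
    IsRegularLocalRing.of_ringEquiv (Ideal.quotEquivOfEq hqx)
  have hx₀m : x₀ ∈ maximalIdeal B := by
    have : q ≤ maximalIdeal B := le_maximalIdeal (inferInstance : q.IsPrime).ne_top
    apply this
    rw [hqx]
    exact Ideal.mem_span_singleton_self x₀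
  exact Groth.Agent.Lead.RLR.of_quotient_regular B x₀ hx₀m (mem_nonZeroDivisors_of_ne_zero hx₀0)

end General

end Groth.Agent.H36.InvPrincipal
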