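import Mathlib

set_option autoImplicit false
set_option linter.unusedSectionVars false

namespace Groth.Agent.H36.IrrSpec

open MvPolynomial

universe u v w

section Box

variable (σ : Type w) [Finite σ]

/-- Finite set of monomials of degree `≤ e`. -/
noncomputable def box (e : ℕ) : Finset (σ →₀ ℕ) :=
  (Finsupp.finite_of_degree_le (σ := σ) e).toFinset

variable {σ}

lemma mem_box {e : ℕ} {m : σ →₀ ℕ} : m ∈ box σ e ↔ (m.sum fun _ k => k) ≤ e := by
  simp [box, Finsupp.degree_apply, Finsupp.sum]

variable {F : Type v} [CommRing F]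

lemma sum_box_of_totalDegree_le {e : ℕ} (Q : MvPolynomial σ F) (hQ : Q.totalDegree ≤ e) :
    ∑ m ∈ (box σ e).attach, monomial m.1 (coeff m.1 Q) = Q := by
  rw [Finset.sum_attach (box σ e) (fun m => monomial m (coeff m Q))]
  have hsub : Q.support ⊆ box σ e := by
    intro m hm
    rw [mem_box]
    exact (le_totalDegree hm).trans hQ
  rw [← Finset.sum_subset hsub]
  · exact Q.support_sum_monomial_coeff
  · intro m _ hm
    rw [MvPolynomial.notMem_support_iff] at hm
    simp [hm]

lemma totalDegree_sum_box_le {e : ℕ} (c : box σ e → F) :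
    (∑ m ∈ (box σ e).attach, monomial m.1 (c m)).totalDegree ≤ e := by
  refine (totalDegree_finsetSum_le (fun m _ => ?_))
  exact (totalDegree_monomial_le _ _).trans (mem_box.1 m.2)

end Box

section Field

variable {σ : Type w} {F : Type v} [Field F]

lemma isUnit_of_totalDegree_eq_zero {Q : MvPolynomial σ F} (hQ0 : Q ≠ 0) (hQ : Q.totalDegree = 0) :
    IsUnit Q := by
  rw [totalDegree_eq_zero_iff_eq_C] at hQ
  rw [hQ]
  have : coeff 0 Q ≠ 0 := by
    intro h
    apply hQ0
    rw [hQ, h, C_0]
  exact (IsUnit.mk0 _ this).map C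

lemma totalDegree_eq_zero_of_isUnit {Q : MvPolynomial σ F} (hQ : IsUnit Q) :
    Q.totalDegree = 0 :=
  ((isUnit_iff_totalDegree_of_isReduced).1 hQ).2

/-- Irreducibility of a polynomial of total degree `e + 1` over a field in terms of
factorizations of bounded degree. -/
lemma irreducible_iff_not_exists {e : ℕ} {p : MvPolynomial σ F} (hp : p.totalDegree = e + 1) :
    Irreducible p ↔ ¬ ∃ Q R : MvPolynomial σ F,
      Q.totalDegree ≤ e ∧ R.totalDegree ≤ e ∧ Q * R = p := by
  constructor
  · rintro hirr ⟨Q, R, hQ, hR, hQR⟩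
    rcases hirr.isUnit_or_isUnit hQR.symm with h | h
    · have := totalDegree_mul Q R
      rw [hQR, hp, totalDegree_eq_zero_of_isUnit h] at this
      omega
    · have := totalDegree_mul Q R
      rw [hQR, hp, totalDegree_eq_zero_of_isUnit h] at this
      omega
  · intro hno
    have hp0 : p ≠ 0 := by
      rintro rfl
      simp at hp
    refine ⟨fun hu => ?_, fun Q R hQR => ?_⟩
    · have := totalDegree_eq_zero_of_isUnit hu
      omega
    · by_contra hcon
      push Not at hcon
      obtain ⟨hQu, hRu⟩ := hcon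
      have hQ0 : Q ≠ 0 := by
        rintro rfl
        exact hp0 (by simpa using hQR)
      have hR0 : R ≠ 0 := by
        rintro rfl
        exact hp0 (by simpa using hQR)
      have hdeg := totalDegree_mul_of_isDomain hQ0 hR0
      rw [← hQR, hp] at hdeg
      have hQd : Q.totalDegree ≠ 0 := fun h => hQu (isUnit_of_totalDegree_eq_zero hQ0 h)
      have hRd : R.totalDegree ≠ 0 := fun h => hRu (isUnit_of_totalDegree_eq_zero hR0 h)
      exact hno ⟨Q, R, by omega, by omega, hQR.symm⟩

end Field

section Generic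

variable (σ : Type w) [Finite σ] (A : Type u) [CommRing A] (e : ℕ)

/-- The variables: coefficients of the two generic factors. -/
abbrev Var : Type w := (box σ e) ⊕ (box σ e)

/-- First generic factor. -/
noncomputable def genQ : MvPolynomial σ (MvPolynomial (Var σ e) A) :=
  ∑ m ∈ (box σ e).attach, monomial m.1 (X (Sum.inl m))

/-- Second generic factor. -/
noncomputable def genR : MvPolynomial σ (MvPolynomial (Var σ e) A) :=
  ∑ m ∈ (box σ e).attach, monomial m.1 (X (Sum.inr m))

variable {σ A}

/-- The ideal of the "scheme of factorizations" of `P` into two factors of degree `≤ e`. -/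
noncomputable def factorIdeal (P : MvPolynomial σ A) : Ideal (MvPolynomial (Var σ e) A) :=
  Ideal.span (Set.range fun m : σ →₀ ℕ => coeff m (genQ σ A e * genR σ A e - map C P))

variable {e}
variable {F : Type v} [CommRing F]

lemma map_genQ (Ξ : MvPolynomial (Var σ e) A →+* F) :
    map Ξ (genQ σ A e) = ∑ m ∈ (box σ e).attach, monomial m.1 (Ξ (X (Sum.inl m))) := by
  simp [genQ, map_sum, map_monomial]

lemma map_genR (Ξ : MvPolynomial (Var σ e) A →+* F) :
    map Ξ (genR σ A e) = ∑ m ∈ (box σ e).attach, monomial m.1 (Ξ (X (Sum.inr m))) := by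
  simp [genR, map_sum, map_monomial]

lemma factor_of_hom (P : MvPolynomial σ A) (Ξ : MvPolynomial (Var σ e) A →+* F)
    (hI : factorIdeal e P ≤ RingHom.ker Ξ) :
    ∃ Q R : MvPolynomial σ F, Q.totalDegree ≤ e ∧ R.totalDegree ≤ e ∧
      Q * R = map (Ξ.comp C) P := by
  refine ⟨map Ξ (genQ σ A e), map Ξ (genR σ A e), ?_, ?_, ?_⟩
  · rw [map_genQ]; exact totalDegree_sum_box_le _
  · rw [map_genR]; exact totalDegree_sum_box_le _
  · have h0 : map Ξ (genQ σ A e * genR σ A e - map C P) = 0 := by
      ext m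
      rw [coeff_map, coeff_zero]
      exact hI (Ideal.subset_span ⟨m, rfl⟩)
    rw [map_sub, map_mul, map_map, sub_eq_zero] at h0
    exact h0

lemma hom_of_factor (P : MvPolynomial σ A) (φ₀ : A →+* F) (Q R : MvPolynomial σ F)
    (hQ : Q.totalDegree ≤ e) (hR : R.totalDegree ≤ e) (hQR : Q * R = map φ₀ P) :
    ∃ Ξ : MvPolynomial (Var σ e) A →+* F, Ξ.comp C = φ₀ ∧ factorIdeal e P ≤ RingHom.ker Ξ := by
  let x : Var σ e → F := Sum.elim (fun m : box σ e => coeff m.1 Q) (fun m : box σ e => coeff m.1 R)
  let Ξ : MvPolynomial (Var σ e) A →+* F := eval₂Hom φ₀ x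
  have hC : Ξ.comp C = φ₀ := by ext a; simp [Ξ]
  refine ⟨Ξ, hC, ?_⟩
  have h1 : map Ξ (genQ σ A e) = Q := by
    rw [map_genQ]
    have : ∀ m : box σ e, Ξ (X (Sum.inl m)) = coeff m.1 Q := fun m => by simp [Ξ, x]
    simp_rw [this]
    exact sum_box_of_totalDegree_le Q hQ
  have h2 : map Ξ (genR σ A e) = R := by
    rw [map_genR]
    have : ∀ m : box σ e, Ξ (X (Sum.inr m)) = coeff m.1 R := fun m => by simp [Ξ, x]
    simp_rw [this]
    exact sum_box_of_totalDegree_le R hR
  rw [factorIdeal, Ideal.span_le]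
  rintro _ ⟨m, rfl⟩
  rw [SetLike.mem_coe, RingHom.mem_ker]
  change Ξ (coeff m (genQ σ A e * genR σ A e - (map C) P)) = 0
  rw [← coeff_map, map_sub, map_mul, map_map, h1, h2, hC, hQR, sub_self, coeff_zero]

lemma totalDegree_map_le' {B : Type*} [CommRing B] (f : A →+* B) (p : MvPolynomial σ A) :
    (map f p).totalDegree ≤ p.totalDegree :=
  Finset.sup_mono (support_map_subset f p)

lemma totalDegree_map_of_inj {B : Type*} [CommRing B] (f : A →+* B) (hf : Function.Injective f)
    (p : MvPolynomial σ A) : (map f p).totalDegree = p.totalDegree := by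
  simp only [totalDegree, support_map_of_injective _ hf]

lemma map_factorIdeal_eq_top {K : Type v} [Field K] [IsAlgClosed K] (ι : A →+* K)
    (hι : Function.Injective ι) (P : MvPolynomial σ A) (hdeg : P.totalDegree = e + 1)
    (hirr : Irreducible (map ι P)) :
    (factorIdeal e P).map (map ι : MvPolynomial (Var σ e) A →+* MvPolynomial (Var σ e) K) = ⊤ := by
  by_contra hne
  obtain ⟨𝔪, hmax, hle⟩ := Ideal.exists_le_maximal _ hne
  obtain ⟨x, hx⟩ := (isMaximal_iff_eq_vanishingIdeal_singleton).1 hmax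
  let Ξ : MvPolynomial (Var σ e) A →+* K := (eval x).comp (map ι)
  have hI : factorIdeal e P ≤ RingHom.ker Ξ := by
    intro g hg
    rw [RingHom.mem_ker]
    have : map ι g ∈ 𝔪 := hle (Ideal.mem_map_of_mem _ hg)
    rw [hx, mem_vanishingIdeal_singleton_iff] at this
    exact this
  obtain ⟨Q, R, hQ, hR, hQR⟩ := factor_of_hom P Ξ hI
  have hC : Ξ.comp C = ι := by ext a; simp [Ξ]
  rw [hC] at hQR
  have hd : (map ι P).totalDegree = e + 1 := by rw [totalDegree_map_of_inj _ hι, hdeg]
  exact (irreducible_iff_not_exists hd).1 hirr ⟨Q, R, hQ, hR, hQR⟩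

lemma exists_C_mem_factorIdeal {A : Type u} [CommRing A] [IsDomain A] (P : MvPolynomial σ A)
    (hdeg : P.totalDegree = e + 1)
    (hirr : Irreducible (map (algebraMap A (AlgebraicClosure (FractionRing A))) P)) :
    ∃ f : A, f ≠ 0 ∧ C f ∈ factorIdeal e P := by
  by_contra hcon
  push Not at hcon
  let S : Submonoid (MvPolynomial (Var σ e) A) :=
    (nonZeroDivisors A).map (C : A →+* MvPolynomial (Var σ e) A)
  have hdisj : Disjoint (factorIdeal e P : Set (MvPolynomial (Var σ e) A)) S := by
    rw [Set.disjoint_left]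
    rintro _ hg ⟨a, ha, rfl⟩
    exact hcon a (nonZeroDivisors.ne_zero ha) hg
  obtain ⟨𝔮, hprime, hle, hdis⟩ := Ideal.exists_le_prime_disjoint _ S hdisj
  -- the field `L`
  let D := MvPolynomial (Var σ e) A ⧸ 𝔮
  let L := FractionRing D
  let Lbar := AlgebraicClosure L
  let ψ : MvPolynomial (Var σ e) A →+* Lbar :=
    (algebraMap L Lbar).comp ((algebraMap D L).comp (Ideal.Quotient.mk 𝔮))
  have hψker : ∀ g, ψ g = 0 ↔ g ∈ 𝔮 := by
    intro g
    change algebraMap L Lbar (algebraMap D L (Ideal.Quotient.mk 𝔮 g)) = 0 ↔ _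
    rw [map_eq_zero_iff _ (algebraMap L Lbar).injective,
      map_eq_zero_iff _ (IsFractionRing.injective D L), Ideal.Quotient.eq_zero_iff_mem]
  let θ : A →+* Lbar := ψ.comp C
  have hθ : Function.Injective θ := by
    rw [injective_iff_map_eq_zero]
    intro a ha
    by_contra ha0
    have h1 : C a ∈ 𝔮 := (hψker _).1 ha
    have h2 : C a ∈ (S : Set (MvPolynomial (Var σ e) A)) :=
      ⟨a, mem_nonZeroDivisors_of_ne_zero ha0, rfl⟩
    exact Set.disjoint_left.1 hdis h1 h2
  let K := FractionRing A
  let κ : K →+* Lbar := IsFractionRing.lift hθ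
  let _ : Algebra K Lbar := κ.toAlgebra
  let τ : AlgebraicClosure K →ₐ[K] Lbar := IsAlgClosed.lift
  have hτ : ∀ a : A, τ (algebraMap A (AlgebraicClosure K) a) = θ a := by
    intro a
    rw [IsScalarTower.algebraMap_apply A K (AlgebraicClosure K), τ.commutes]
    change κ (algebraMap A K a) = θ a
    exact IsFractionRing.lift_algebraMap hθ a
  -- the ring hom from the polynomial ring over the algebraic closure
  let Ψ : MvPolynomial (Var σ e) (AlgebraicClosure K) →+* Lbar :=
    eval₂Hom τ.toRingHom (fun v => ψ (X v))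
  have hΨ : Ψ.comp (map (algebraMap A (AlgebraicClosure K))) = ψ := by
    apply MvPolynomial.ringHom_ext
    · intro a
      simp only [RingHom.comp_apply, map_C, Ψ, eval₂Hom_C]
      exact hτ a
    · intro v
      simp [Ψ]
  have hinjA : Function.Injective (algebraMap A (AlgebraicClosure K)) := by
    rw [IsScalarTower.algebraMap_eq A K (AlgebraicClosure K)]
    exact (algebraMap K (AlgebraicClosure K)).injective.comp (IsFractionRing.injective A K)
  have htop := map_factorIdeal_eq_top (algebraMap A (AlgebraicClosure K)) hinjA P hdeg hirr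
  have hker : (factorIdeal e P).map (map (algebraMap A (AlgebraicClosure K))) ≤ RingHom.ker Ψ := by
    rw [Ideal.map_le_iff_le_comap]
    intro g hg
    rw [Ideal.mem_comap, RingHom.mem_ker, ← RingHom.comp_apply, hΨ, hψker]
    exact hle hg
  rw [htop] at hker
  have : (1 : MvPolynomial (Var σ e) (AlgebraicClosure K)) ∈ RingHom.ker Ψ := hker trivial
  rw [RingHom.mem_ker, map_one] at this
  exact one_ne_zero this

/-- **Irreducible specializations**: if `P` is irreducible over an algebraic closure of the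
fraction field of the domain `A`, then there is `f ≠ 0` in `A` such that the image of `P` over
any field `κ` receiving `A` with `f` nonzero in `κ` is irreducible. -/
theorem main {A : Type u} [CommRing A] [IsDomain A] (P : MvPolynomial σ A)
    (hP : Irreducible (map (algebraMap A (AlgebraicClosure (FractionRing A))) P)) :
    ∃ f : A, f ≠ 0 ∧ ∀ (κ : Type v) [Field κ] (φ₀ : A →+* κ), φ₀ f ≠ 0 →
      Irreducible (map φ₀ P) := by
  classical
  set K := FractionRing A
  have hinjA : Function.Injective (algebraMap A (AlgebraicClosure K)) := by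
    rw [IsScalarTower.algebraMap_eq A K (AlgebraicClosure K)]
    exact (algebraMap K (AlgebraicClosure K)).injective.comp (IsFractionRing.injective A K)
  have hd0 : P.totalDegree ≠ 0 := by
    intro h0
    have h1 : (map (algebraMap A (AlgebraicClosure K)) P).totalDegree = 0 := by
      rw [totalDegree_map_of_inj _ hinjA, h0]
    exact hP.not_isUnit (isUnit_of_totalDegree_eq_zero hP.ne_zero h1)
  obtain ⟨e, he⟩ := Nat.exists_eq_succ_of_ne_zero hd0
  have hP0 : P ≠ 0 := by
    rintro rfl
    simp at hd0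
  obtain ⟨m₀, hm₀, hm₀d⟩ : ∃ m₀ ∈ P.support, (m₀.sum fun _ k => k) = P.totalDegree := by
    have hne : P.support.Nonempty := by
      rwa [Finset.nonempty_iff_ne_empty, Ne, MvPolynomial.support_eq_empty]
    obtain ⟨m₀, hm₀, h⟩ := Finset.exists_mem_eq_sup P.support hne (fun s => s.sum fun _ k => k)
    exact ⟨m₀, hm₀, h.symm⟩
  have hc : coeff m₀ P ≠ 0 := MvPolynomial.mem_support_iff.1 hm₀
  obtain ⟨f₁, hf₁, hf₁I⟩ := exists_C_mem_factorIdeal (e := e) P he hP
  refine ⟨coeff m₀ P * f₁, mul_ne_zero hc hf₁, ?_⟩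
  intro κ _ φ₀ hφ
  rw [map_mul] at hφ
  have hφc : φ₀ (coeff m₀ P) ≠ 0 := left_ne_zero_of_mul hφ
  have hφf : φ₀ f₁ ≠ 0 := right_ne_zero_of_mul hφ
  have hdeg : (map φ₀ P).totalDegree = e + 1 := by
    apply le_antisymm
    · exact (totalDegree_map_le' φ₀ P).trans he.le
    · have hmem : m₀ ∈ (map φ₀ P).support := by
        rw [MvPolynomial.mem_support_iff, coeff_map]
        exact hφc
      have := le_totalDegree hmem
      rw [hm₀d, he] at this
      exact this
  rw [irreducible_iff_not_exists hdeg]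
  rintro ⟨Q, R, hQ, hR, hQR⟩
  obtain ⟨Ξ, hΞC, hΞI⟩ := hom_of_factor P φ₀ Q R hQ hR hQR
  have h0 : Ξ (C f₁) = 0 := hΞI hf₁I
  rw [← RingHom.comp_apply, hΞC] at h0
  exact hφf h0

end Generic

end Groth.Agent.H36.IrrSpec
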