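import Mathlib
import Groth.Agent.H36.JetAffineB
import Groth.Agent.H63.EtaEtA

/-!
# Bertini with jets for a smooth affine algebra, keeping track of the relative dimension
-/

set_option autoImplicit false
set_option linter.unusedSectionVars false
set_option linter.unusedVariables false
set_option linter.style.haveILetI false

namespace Groth.Agent.H36.JetDim

universe u

open MvPolynomial KaehlerDifferential Groth.Agent.H36.Jet

/-- the trivial ring is locally standard smooth of any relative dimension -/
theorem locally_of_subsingleton {R S : Type u} [CommRing R] [CommRing S] [Subsingleton S]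
    (P : ∀ {R S : Type u} [CommRing R] [CommRing S] (_ : R →+* S), Prop) (f : R →+* S) :
    RingHom.Locally P f :=
  ⟨∅, Subsingleton.elim _ _, fun t ht => absurd ht (Set.notMem_empty t)⟩

theorem locally_of_forall_maximal_exists_away (k : Type u) [Field k] (B : Type u) [CommRing B]
    [Algebra k B] (m : ℕ)
    (h : ∀ (q : Ideal B) (_ : q.IsMaximal),
      ∃ f : B, f ∉ q ∧ Algebra.IsStandardSmoothOfRelativeDimension m k (Localization.Away f)) :
    RingHom.Locally (RingHom.IsStandardSmoothOfRelativeDimension m) (algebraMap k B) := by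
  rw [RingHom.locally_iff_span_eq_top]
  by_contra hne
  obtain ⟨M, hM, hle⟩ := Ideal.exists_le_maximal _ hne
  obtain ⟨f, hf, hsm⟩ := h M hM
  refine hf (hle (Ideal.subset_span ?_))
  change RingHom.IsStandardSmoothOfRelativeDimension m
    ((algebraMap B (Localization.Away f)).comp (algebraMap k B))
  rw [← IsScalarTower.algebraMap_eq, RingHom.isStandardSmoothOfRelativeDimension_algebraMap]
  exact hsm

/-- Bertini with jets on a coordinate chart, with the relative dimension. -/
theorem affine_jet_bertini_dim (k T : Type u) [Field k] [IsAlgClosed k] [CommRing T] [Algebra k T]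
    [Algebra.FinitePresentation k T] [Algebra.FormallySmooth k T]
    {I : Type} [Fintype I] [DecidableEq I] (b : Module.Basis I T Ω[T⁄k]) (y : I → T)
    (hb : ∀ i, b i = D k T (y i)) {m : ℕ} (g : Fin m → T) (f0 : T)
    (hjet : ∀ 𝔪 : Ideal T, 𝔪.IsMaximal → ∀ h : T, ∃ c : Fin m → k,
      (∑ t : Fin m, algebraMap k T (c t) * g t) - h ∈ 𝔪 ^ 2) :
    ∃ q : MvPolynomial (Fin m) k, q ≠ 0 ∧ ∀ c : Fin m → k, eval c q ≠ 0 →
      RingHom.Locally (RingHom.IsStandardSmoothOfRelativeDimension (Fintype.card I - 1))
        (algebraMap k (T ⧸ Ideal.span {lc f0 g c})) := by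
  classical
  rcases subsingleton_or_nontrivial T with hT | hT
  · refine ⟨1, one_ne_zero, fun c _ => ?_⟩
    haveI : Subsingleton (T ⧸ Ideal.span {lc f0 g c}) :=
      Function.Surjective.subsingleton Ideal.Quotient.mk_surjective
    exact locally_of_subsingleton _ _
  haveI : Algebra.IsStandardSmooth k T := Algebra.IsStandardSmooth.of_basis_kaehlerDifferential b (by
    rintro _ ⟨i, rfl⟩
    exact ⟨y i, (hb i).symm⟩)
  haveI : Algebra.IsStandardSmoothOfRelativeDimension (Fintype.card I) k T := by
    rw [Algebra.IsStandardSmoothOfRelativeDimension.iff_of_isStandardSmooth]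
    rw [rank_eq_card_basis b]
  haveI : Algebra.FiniteType k T := inferInstance
  have hminor : ∀ 𝔪 : Ideal T, 𝔪.IsMaximal → ∃ τ : Option I → Fin m, Function.Injective τ ∧
      ((jetMatrix b g).submatrix id τ).det ∉ 𝔪 := fun 𝔪 h𝔪 =>
    exists_minor_of_jets k T b y hb g 𝔪 h𝔪 (hjet 𝔪 h𝔪)
  obtain ⟨q, hq0, hq⟩ := exists_generic_jet k T (Fintype.card I) rfl b g f0 hminor
  refine ⟨q, hq0, fun c hc => ?_⟩
  set h : T := lc f0 g c with hh
  apply locally_of_forall_maximal_exists_away
  intro 𝔫 h𝔫
  have h𝔪 : (𝔫.comap (Ideal.Quotient.mk (Ideal.span {h}))).IsMaximal :=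
    Ideal.comap_isMaximal_of_surjective _ Ideal.Quotient.mk_surjective
  set 𝔪 : Ideal T := 𝔫.comap (Ideal.Quotient.mk (Ideal.span {h})) with h𝔪def
  have hh𝔪 : h ∈ 𝔪 := by
    rw [h𝔪def, Ideal.mem_comap]
    have : Ideal.Quotient.mk (Ideal.span {h}) h = 0 :=
      Ideal.Quotient.eq_zero_iff_mem.mpr (Ideal.mem_span_singleton_self h)
    rw [this]
    exact 𝔫.zero_mem
  obtain ⟨i0, hi0⟩ := hq c hc 𝔪 h𝔪 hh𝔪
  set η : T := b.repr (D k T h) i0 with hη
  refine ⟨Ideal.Quotient.mk (Ideal.span {h}) η, fun hmem => hi0 hmem, ?_⟩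
  haveI : Algebra.FinitePresentation T (Localization.Away η) :=
    IsLocalization.Away.finitePresentation η
  haveI : Algebra.FinitePresentation k (Localization.Away η) :=
    Algebra.FinitePresentation.trans k T (Localization.Away η)
  haveI : Algebra.FormallySmooth T (Localization.Away η) :=
    Algebra.FormallySmooth.of_isLocalization (.powers η)
  haveI : Algebra.FormallySmooth k (Localization.Away η) :=
    Algebra.FormallySmooth.comp k T (Localization.Away η)
  let b' : Module.Basis I (Localization.Away η) Ω[Localization.Away η⁄k] :=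
    b.ofIsLocalizedModule (Localization.Away η) (Submonoid.powers η)
      (KaehlerDifferential.map k k T (Localization.Away η))
  have hb' : ∀ i : I, b' i = D k (Localization.Away η)
      (algebraMap T (Localization.Away η) (y i)) := by
    intro i
    rw [Module.Basis.ofIsLocalizedModule_apply, hb, map_D]
  have hu : IsUnit (b'.repr (D k (Localization.Away η)
      (algebraMap T (Localization.Away η) h)) i0) := by
    rw [← map_D k k T (Localization.Away η), Module.Basis.ofIsLocalizedModule_repr_apply]
    exact IsLocalization.Away.algebraMap_isUnit η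
  have hJ : (Ideal.span {h}).map (algebraMap T (Localization.Away η)) =
      Ideal.span {algebraMap T (Localization.Away η) h} := by
    rw [Ideal.map_span, Set.image_singleton]
  haveI : Nontrivial (Localization.Away η ⧸
      (Ideal.span {h}).map (algebraMap T (Localization.Away η))) := by
    rw [Ideal.Quotient.nontrivial_iff]
    have hdisj' : Disjoint (Submonoid.powers η : Set T) (𝔪 : Set T) := by
      haveI := h𝔪.isPrime
      rwa [Ideal.disjoint_powers_iff_notMem_of_isPrime]
    have hprime := IsLocalization.isPrime_of_isPrime_disjoint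
      (.powers η) (Localization.Away η) 𝔪 h𝔪.isPrime hdisj'
    intro htop
    apply hprime.ne_top
    rw [eq_top_iff, ← htop]
    apply Ideal.map_mono
    rw [Ideal.span_le, Set.singleton_subset_iff]
    exact hh𝔪
  have hstd := Groth.Agent.H36.BertiniSm.isStandardSmoothOfRelativeDimension_quotient k
    (Localization.Away η) b'
    (fun i => algebraMap T (Localization.Away η) (y i)) hb'
    (algebraMap T (Localization.Away η) h) i0 hu
    ((Ideal.span {h}).map (algebraMap T (Localization.Away η))) hJ
  haveI := hstd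
  exact Groth.Agent.H36.BertiniSm.stdSmooth_away_quotient k h η (Localization.Away η)
    (Fintype.card I - 1)

/-- Bertini with jets on a coordinate chart `D(F)` of a smooth affine algebra, with the relative
dimension -/
theorem chart_step_dim (k T : Type u) [Field k] [IsAlgClosed k] [CommRing T] [Algebra k T]
    [Algebra.Smooth k T] {n : ℕ} (x : Fin n → T) {m : ℕ} (g : Fin m → T) (f0 : T)
    (hjet : ∀ 𝔪 : Ideal T, 𝔪.IsMaximal → ∀ h : T, ∃ c : Fin m → k,
      (∑ t : Fin m, algebraMap k T (c t) * g t) - h ∈ 𝔪 ^ 2)
    (N : ℕ) (hrank : ∀ q : PrimeSpectrum T, Module.rankAtStalk (Ω[T⁄k]) q = N)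
    (F : T) (hF : Groth.Agent.H36.BertiniSm.ChartProp k x F) :
    ∃ q : MvPolynomial (Fin m) k, q ≠ 0 ∧ ∀ c : Fin m → k, eval c q ≠ 0 →
      RingHom.Locally (RingHom.IsStandardSmoothOfRelativeDimension (N - 1))
        (algebraMap k
          (Localization.Away (Ideal.Quotient.mk (Ideal.span {lc f0 g c}) F))) := by
  classical
  obtain ⟨S, _, _, _, _, _, _, I, b, hb⟩ := hF
  haveI : Algebra.FiniteType k T := inferInstance
  haveI : Algebra.FinitePresentation k T := inferInstance
  haveI : Algebra.FinitePresentation T S := IsLocalization.Away.finitePresentation F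
  haveI : Algebra.FinitePresentation k S := Algebra.FinitePresentation.trans k T S
  obtain ⟨q, hq0, hq⟩ := affine_jet_bertini_dim k S b (fun i => algebraMap T S (x i)) hb
    (fun t => algebraMap T S (g t)) (algebraMap T S f0)
    (fun 𝔪' h𝔪' h' => jets_localization k T S F g hjet 𝔪' h𝔪' h')
  refine ⟨q, hq0, fun c hc => ?_⟩
  have hsm := hq c hc
  set h : T := lc f0 g c with hh
  rw [← algebraMap_lc f0 g c] at hsm
  have hJ : (Ideal.span {h}).map (algebraMap T S) = Ideal.span {algebraMap T S h} := by
    rw [Ideal.map_span, Set.image_singleton]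
  rw [← hJ] at hsm
  have inst : IsLocalization
      (Algebra.algebraMapSubmonoid (T ⧸ Ideal.span {h}) (Submonoid.powers F))
      (S ⧸ (Ideal.span {h}).map (algebraMap T S)) := inferInstance
  have hsub : Algebra.algebraMapSubmonoid (T ⧸ Ideal.span {h}) (Submonoid.powers F) =
      Submonoid.powers (Ideal.Quotient.mk (Ideal.span {h}) F) := by
    unfold Algebra.algebraMapSubmonoid
    rw [Submonoid.map_powers]
    rfl
  rw [hsub] at inst
  haveI : IsLocalization.Away (Ideal.Quotient.mk (Ideal.span {h}) F)
      (S ⧸ (Ideal.span {h}).map (algebraMap T S)) := inst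
  haveI i2 : IsScalarTower k (T ⧸ Ideal.span {h})
      (S ⧸ (Ideal.span {h}).map (algebraMap T S)) := by
    refine IsScalarTower.of_algebraMap_eq fun c => ?_
    rw [IsScalarTower.algebraMap_apply k T (T ⧸ Ideal.span {h}), Ideal.Quotient.algebraMap_eq]
    rw [IsScalarTower.algebraMap_apply k S (S ⧸ (Ideal.span {h}).map (algebraMap T S))]
    rw [IsScalarTower.algebraMap_apply k T S]
    rfl
  let e : Localization.Away (Ideal.Quotient.mk (Ideal.span {h}) F) ≃ₐ[T ⧸ Ideal.span {h}]
      (S ⧸ (Ideal.span {h}).map (algebraMap T S)) :=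
    IsLocalization.algEquiv (Submonoid.powers (Ideal.Quotient.mk (Ideal.span {h}) F)) _ _
  rcases subsingleton_or_nontrivial S with hS | hS
  · haveI : Subsingleton (S ⧸ (Ideal.span {h}).map (algebraMap T S)) :=
      Function.Surjective.subsingleton Ideal.Quotient.mk_surjective
    haveI : Subsingleton (Localization.Away (Ideal.Quotient.mk (Ideal.span {h}) F)) :=
      e.injective.subsingleton
    exact locally_of_subsingleton _ _
  -- the rank
  have hcard : Fintype.card I = N := by
    obtain ⟨q'⟩ : Nonempty (PrimeSpectrum S) := inferInstance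
    have hbc : IsBaseChange S (KaehlerDifferential.map k k T S) :=
      (isLocalizedModule_iff_isBaseChange (Submonoid.powers F) S _).mp inferInstance
    have h1 := Module.rankAtStalk_isBaseChange hbc q'
    rw [hrank] at h1
    haveI : Module.Free S Ω[S⁄k] := Module.Free.of_basis b
    rw [Module.rankAtStalk_eq_finrank_of_free, Module.finrank_eq_card_basis b] at h1
    exact_mod_cast h1
  rw [hcard] at hsm
  have hresp := RingHom.locally_respectsIso
    (RingHom.isStandardSmoothOfRelativeDimension_respectsIso (n := N - 1))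
  have h3 := hresp.left _ (e.restrictScalars k).symm.toRingEquiv hsm
  convert h3 using 1
  ext r
  exact ((e.restrictScalars k).symm.commutes r).symm

/-- Bertini with jets for a smooth affine algebra over an algebraically closed field, with the
relative dimension: if the linear system separates 1-jets at every closed point then its general
member cuts out a subscheme which is smooth of relative dimension one less. -/
theorem affine_jet_bertini_smooth_dim (k T : Type u) [Field k] [IsAlgClosed k] [CommRing T]
    [Algebra k T] [Algebra.Smooth k T] {m : ℕ} (g : Fin m → T) (f0 : T)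
    (hjet : ∀ 𝔪 : Ideal T, 𝔪.IsMaximal → ∀ h : T, ∃ c : Fin m → k,
      (∑ t : Fin m, algebraMap k T (c t) * g t) - h ∈ 𝔪 ^ 2)
    (N : ℕ) (hrank : ∀ q : PrimeSpectrum T, Module.rankAtStalk (Ω[T⁄k]) q = N) :
    ∃ q : MvPolynomial (Fin m) k, q ≠ 0 ∧ ∀ c : Fin m → k, eval c q ≠ 0 →
      RingHom.Locally (RingHom.IsStandardSmoothOfRelativeDimension (N - 1))
        (algebraMap k (T ⧸ Ideal.span {lc f0 g c})) := by
  classical
  haveI : Algebra.FiniteType k T := inferInstance
  obtain ⟨n, f, hf⟩ := Algebra.FiniteType.iff_quotient_mvPolynomial''.mp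
    (inferInstance : Algebra.FiniteType k T)
  let x : Fin n → T := fun i => f (MvPolynomial.X i)
  have hfx : (MvPolynomial.aeval x : MvPolynomial (Fin n) k →ₐ[k] T) = f := by
    apply MvPolynomial.algHom_ext
    intro i
    rw [MvPolynomial.aeval_X]
  have hx : Function.Surjective (MvPolynomial.aeval x : MvPolynomial (Fin n) k →ₐ[k] T) := by
    rw [hfx]
    exact hf
  haveI : Algebra.Smooth k (Localization.Away (1 : T)) := by
    haveI : Algebra.Smooth T (Localization.Away (1 : T)) :=
      ⟨Algebra.FormallySmooth.of_isLocalization (.powers (1 : T)),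
        IsLocalization.Away.finitePresentation 1⟩
    exact Algebra.Smooth.comp k T _
  -- the charts cover
  let Sig : Set T := {F | Groth.Agent.H36.BertiniSm.ChartProp k x F}
  have hSig : Ideal.span Sig = ⊤ := by
    by_contra hne
    obtain ⟨M, hM, hle⟩ := Ideal.exists_le_maximal _ hne
    haveI := hM.isPrime
    obtain ⟨F, hFM, hF⟩ := Groth.Agent.H36.BertiniSm.exists_chart k x hx (1 : T) M
      (fun h1 => hM.ne_top ((Ideal.eq_top_iff_one _).mpr h1))
    exact hFM (hle (Ideal.subset_span hF))
  obtain ⟨s, hsSig, hs⟩ := (Ideal.span_eq_top_iff_finite Sig).mp hSig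
  have hstep := fun F : T => fun hF : F ∈ Sig => chart_step_dim k T x g f0 hjet N hrank F hF
  choose! q hq0 hq using hstep
  refine ⟨∏ F ∈ s, q F, Finset.prod_ne_zero_iff.mpr fun F hF => hq0 F (hsSig hF), fun c hc => ?_⟩
  rw [map_prod] at hc
  have hcF : ∀ F ∈ s, eval c (q F) ≠ 0 := fun F hF => Finset.prod_ne_zero_iff.mp hc F hF
  set h : T := lc f0 g c with hh
  let s' : Set (T ⧸ Ideal.span {h}) := (Ideal.Quotient.mk (Ideal.span {h})) '' (s : Set T)
  have hs' : Ideal.span s' = ⊤ := by
    rw [← Ideal.map_span, hs, Ideal.map_top]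
  refine RingHom.locally_ofLocalizationSpanTarget
    (RingHom.isStandardSmoothOfRelativeDimension_respectsIso (n := N - 1))
    (algebraMap k (T ⧸ Ideal.span {h})) s' hs' ?_
  rintro ⟨_, ⟨F, hF, rfl⟩⟩
  have := hq F (hsSig hF) c (hcF F hF)
  convert this using 1
  exact (IsScalarTower.algebraMap_eq k (T ⧸ Ideal.span {h}) _).symm

/-- version with the hypothesis that `T` is locally standard smooth of relative dimension `N` -/
theorem affine_jet_bertini_locally (k T : Type u) [Field k] [IsAlgClosed k] [CommRing T]
    [Algebra k T] (N : ℕ)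
    (hloc : RingHom.Locally (RingHom.IsStandardSmoothOfRelativeDimension N) (algebraMap k T))
    {m : ℕ} (g : Fin m → T) (f0 : T)
    (hjet : ∀ 𝔪 : Ideal T, 𝔪.IsMaximal → ∀ h : T, ∃ c : Fin m → k,
      (∑ t : Fin m, algebraMap k T (c t) * g t) - h ∈ 𝔪 ^ 2) :
    ∃ q : MvPolynomial (Fin m) k, q ≠ 0 ∧ ∀ c : Fin m → k, eval c q ≠ 0 →
      RingHom.Locally (RingHom.IsStandardSmoothOfRelativeDimension (N - 1))
        (algebraMap k (T ⧸ Ideal.span {lc f0 g c})) := by
  haveI : Algebra.Smooth k T := Groth.Agent.H63.EtaEt.smooth_of_locally k T N hloc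
  exact affine_jet_bertini_smooth_dim k T g f0 hjet N
    (fun q => Groth.Agent.H63.EtaEt.rank_of_locally k T N hloc q)

end Groth.Agent.H36.JetDim
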