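import Groth.Agent.H36.Tougeron

set_option autoImplicit false

namespace Groth.Agent.H36.Krasner

open Module Polynomial IntermediateField

section complete

variable {R B ι : Type*} [CommRing R] [CommRing B] [Algebra R B] [Fintype ι]
  (b : Basis ι R B) (t : R)

theorem pow_dvd_iff_repr (n : ℕ) (x : B) :
    algebraMap R B t ^ n ∣ x ↔ ∀ i, t ^ n ∣ b.repr x i := by
  constructor
  · rintro ⟨y, rfl⟩ i
    refine ⟨b.repr y i, ?_⟩
    rw [← map_pow, ← Algebra.smul_def, map_smul, Finsupp.smul_apply, smul_eq_mul]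
  · intro h
    choose c hc using h
    refine ⟨∑ i, c i • b i, ?_⟩
    rw [← b.sum_repr x, ← map_pow, ← Algebra.smul_def, Finset.smul_sum]
    refine Finset.sum_congr rfl fun i _ => ?_
    rw [hc i, smul_smul]

include b in
theorem isAdicComplete_of_basis [IsAdicComplete (Ideal.span {t}) R] :
    IsAdicComplete (Ideal.span {algebraMap R B t}) B := by
  have hH : IsHausdorff (Ideal.span {t}) R := inferInstance
  have hP : IsPrecomplete (Ideal.span {t}) R := inferInstance
  have key : ∀ (n : ℕ) (x y : B), x ≡ y [SMOD (Ideal.span {algebraMap R B t} ^ n • ⊤ : Submodule B B)] ↔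
      algebraMap R B t ^ n ∣ x - y := by
    intro n x y
    rw [SModEq.sub_mem, smul_eq_mul, Ideal.mul_top, Ideal.span_singleton_pow,
      Ideal.mem_span_singleton]
  have keyR : ∀ (n : ℕ) (x y : R), x ≡ y [SMOD (Ideal.span {t} ^ n • ⊤ : Submodule R R)] ↔
      t ^ n ∣ x - y := by
    intro n x y
    rw [SModEq.sub_mem, smul_eq_mul, Ideal.mul_top, Ideal.span_singleton_pow,
      Ideal.mem_span_singleton]
  refine { toIsHausdorff := ⟨fun x hx => ?_⟩, toIsPrecomplete := ⟨fun {f} hf => ?_⟩ }
  · have h0 : ∀ i, b.repr x i = 0 := by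
      intro i
      refine hH.haus _ fun n => ?_
      rw [keyR, sub_zero]
      have := (key n x 0).mp (hx n)
      rw [sub_zero] at this
      exact (pow_dvd_iff_repr b t n x).mp this i
    apply b.repr.injective
    ext i
    simp [h0 i]
  · have hcoord : ∀ i, ∃ L : R, ∀ n, b.repr (f n) i ≡ L [SMOD (Ideal.span {t} ^ n • ⊤ : Submodule R R)] := by
      intro i
      refine hP.prec (f := fun n => b.repr (f n) i) ?_
      intro m n hmn
      rw [keyR]
      have := (key m _ _).mp (hf hmn)
      have h2 := (pow_dvd_iff_repr b t m _).mp this i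
      rwa [map_sub, Finsupp.sub_apply] at h2
    choose L hL using hcoord
    refine ⟨∑ i, L i • b i, fun n => ?_⟩
    rw [key, pow_dvd_iff_repr b t]
    intro i
    have := (keyR n _ _).mp (hL i n)
    rw [map_sub, Finsupp.sub_apply]
    convert this using 2
    rw [b.repr_sum_self]

end complete

section newton

variable {R : Type*} [CommRing R]

/-- A univariate polynomial viewed as a multivariate polynomial in one variable. -/
noncomputable def toMv (f : R[X]) : MvPolynomial Unit R :=
  Polynomial.aeval (MvPolynomial.X () : MvPolynomial Unit R) f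

theorem eval_toMv (f : R[X]) (a : Unit → R) : MvPolynomial.eval a (toMv f) = f.eval (a ()) := by
  have h1 : MvPolynomial.eval a (toMv f) = MvPolynomial.aeval a (toMv f) := by
    rw [MvPolynomial.aeval_eq_eval]
  rw [h1, toMv, ← Polynomial.aeval_algHom_apply, MvPolynomial.aeval_X, Polynomial.coe_aeval_eq_eval]

theorem pderiv_toMv (f : R[X]) : MvPolynomial.pderiv () (toMv f) = toMv (derivative f) := by
  rw [toMv, Derivation.map_aeval, MvPolynomial.pderiv_X_self, smul_eq_mul, mul_one, toMv]

/-- Newton's lemma in one variable over a `t`-adically complete ring. -/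
theorem newton_univ (t : R) [IsAdicComplete (Ideal.span {t}) R] (f : R[X]) (a : R) (s : ℕ)
    (h : (f.derivative.eval a) ^ 2 * t ^ (s + 1) ∣ f.eval a) :
    ∃ b : R, f.derivative.eval a * t ^ (s + 1) ∣ b - a ∧ f.eval b = 0 := by
  have hdet : (Tougeron.jac (fun _ : Unit => toMv f) (fun _ => ()) (fun _ => a)).det
      = f.derivative.eval a := by
    rw [Matrix.det_unique, Tougeron.jac, Matrix.of_apply, pderiv_toMv, eval_toMv]
  obtain ⟨b, hb1, hb2⟩ := Tougeron.tougeron t (fun _ : Unit => toMv f) (fun _ => ())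
    (fun _ => a) s (by
      intro i
      rw [hdet, eval_toMv]
      exact h)
  refine ⟨b (), ?_, ?_⟩
  · have := hb1 ()
    rwa [hdet] at this
  · have := hb2 ()
    rwa [eval_toMv] at this

end newton

theorem exists_mul_eq_algebraMap {R B : Type*} [CommRing R] [Nontrivial R] [CommRing B] [IsDomain B]
    [Algebra R B] {γ : B} (hint : IsIntegral R γ) (hγ : γ ≠ 0) :
    ∃ c : R, c ≠ 0 ∧ ∃ b : B, γ * b = algebraMap R B c := by
  obtain ⟨p, hp, hpγ⟩ := hint
  have hp0 : p ≠ 0 := hp.ne_zero
  obtain ⟨q, hq, hXq⟩ := Polynomial.exists_eq_pow_rootMultiplicity_mul_and_not_dvd p hp0 0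
  rw [C_0, sub_zero] at hq hXq
  have hq0 : q.coeff 0 ≠ 0 := fun h => hXq (Polynomial.X_dvd_iff.mpr h)
  have hqγ : Polynomial.aeval γ q = 0 := by
    have h1 : Polynomial.aeval γ p = 0 := hpγ
    rw [hq, map_mul, map_pow, aeval_X] at h1
    rcases mul_eq_zero.mp h1 with h | h
    · exact absurd (pow_eq_zero_iff (by
        intro h0
        rw [h0, pow_zero] at h
        exact one_ne_zero h) |>.mp h) hγ
    · exact h
  refine ⟨- q.coeff 0, neg_ne_zero.mpr hq0, Polynomial.aeval γ q.divX, ?_⟩
  have h2 := Polynomial.divX_mul_X_add q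
  have h3 : Polynomial.aeval γ (q.divX * X + C (q.coeff 0)) = 0 := by rw [h2, hqγ]
  rw [map_add, map_mul, aeval_X, aeval_C] at h3
  rw [map_neg]
  linear_combination h3


section core

variable {R : Type*} [CommRing R] [IsDomain R] [IsDiscreteValuationRing R]
  [IsAdicComplete (IsLocalRing.maximalIdeal R) R]
  {F : Type*} [Field F] [Algebra R F] [IsFractionRing R F]
  {M : Type*} [Field M] [Algebra F M] [FiniteDimensional F M] [Algebra.IsSeparable F M]
  [Algebra R M] [IsScalarTower R F M]

/-- an integral primitive element -/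
theorem exists_integral_primitive :
    ∃ α : M, IsIntegral R α ∧ F⟮α⟯ = ⊤ := by
  obtain ⟨a0, ha0⟩ := Field.exists_primitive_element F M
  have halg : IsAlgebraic R a0 :=
    (IsFractionRing.isAlgebraic_iff R F M).mpr (Algebra.IsAlgebraic.isAlgebraic a0)
  obtain ⟨y, hy0, hy⟩ := halg.exists_integral_multiple
  refine ⟨y • a0, hy, ?_⟩
  rw [eq_top_iff, ← ha0, adjoin_le_iff]
  intro x hx
  rw [Set.mem_singleton_iff.mp hx]
  have hyF : algebraMap R F y ≠ 0 := by
    simpa using (IsFractionRing.injective R F).ne hy0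
  have h1 : y • a0 ∈ F⟮y • a0⟯ := mem_adjoin_simple_self F _
  have h2 : (algebraMap R F y)⁻¹ • (y • a0) ∈ F⟮y • a0⟯ := F⟮y • a0⟯.smul_mem h1
  have h3 : (algebraMap R F y)⁻¹ • (y • a0) = a0 := by
    rw [← algebraMap_smul F y a0, smul_smul, inv_mul_cancel₀ hyF, one_smul]
  rw [h3] at h2
  exact h2


theorem core {S : Type*} [CommRing S] (φ : S →+* R)
    (hdense : ∀ (x : R) (n : ℕ), ∃ s : S, x - φ s ∈ IsLocalRing.maximalIdeal R ^ n) :
    ∃ (P₁ : S[X]) (β : M), P₁.Monic ∧ P₁.natDegree = finrank F M ∧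
      Polynomial.eval₂ ((algebraMap R M).comp φ) β P₁ = 0 ∧ F⟮β⟯ = ⊤ := by
  classical
  obtain ⟨ϖ, hϖ⟩ := IsDiscreteValuationRing.exists_irreducible R
  have hmax : IsLocalRing.maximalIdeal R = Ideal.span {ϖ} := hϖ.maximalIdeal_eq
  have hcomp : IsAdicComplete (Ideal.span {ϖ}) R := by rw [← hmax]; infer_instance
  obtain ⟨α, hint, hα⟩ := exists_integral_primitive (R := R) (F := F) (M := M)
  set P := minpoly R α with hP
  have hPmonic : P.Monic := minpoly.monic hint
  have hPF : minpoly F α = P.map (algebraMap R F) :=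
    minpoly.isIntegrallyClosed_eq_field_fractions' F hint
  have hintF : IsIntegral F α := hint.tower_top
  have hd : P.natDegree = finrank F M := by
    have h1 := IntermediateField.adjoin.finrank hintF
    rw [hα, hPF, hPmonic.natDegree_map] at h1
    rw [← h1, IntermediateField.finrank_top']
  have hinj : Function.Injective (algebraMap R M) := by
    rw [IsScalarTower.algebraMap_eq R F M]
    exact (algebraMap F M).injective.comp (IsFractionRing.injective R F)
  have hfaith : FaithfulSMul R M := (faithfulSMul_iff_algebraMap_injective R M).mpr hinj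
  -- the ring B
  let B : Subalgebra R M := Algebra.adjoin R {α}
  let pb : PowerBasis R B := Algebra.adjoin.powerBasis' hint
  have hpbdim : pb.dim = P.natDegree := Algebra.adjoin.powerBasis'_dim hint
  let αB : B := ⟨α, Algebra.subset_adjoin (Set.mem_singleton α)⟩
  have hpbgen : pb.gen = αB := Algebra.adjoin.powerBasis'_gen hint
  let ϖB : B := algebraMap R B ϖ
  have hcompB : IsAdicComplete (Ideal.span {ϖB}) B := isAdicComplete_of_basis pb.basis ϖ
  have hcoe_aeval : ∀ q : R[X], ((Polynomial.aeval αB q : B) : M) = Polynomial.aeval α q :=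
    fun q => Polynomial.aeval_subalgebra_coe q B αB
  let γ : B := Polynomial.aeval αB (derivative P)
  have hγ : γ ≠ 0 := by
    intro h
    have hsep : (minpoly F α).Separable := Algebra.IsSeparable.isSeparable F α
    rw [hPF] at hsep
    have h2 := hsep.aeval_derivative_ne_zero (x := α)
      (by rw [aeval_map_algebraMap]; exact minpoly.aeval R α)
    rw [derivative_map, aeval_map_algebraMap] at h2
    apply h2
    rw [← hcoe_aeval, show Polynomial.aeval αB (derivative P) = γ from rfl, h]; rfl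
  have hfinB : Module.Finite R B := pb.finite
  have hγint : IsIntegral R γ := Algebra.IsIntegral.isIntegral γ
  obtain ⟨c, hc0, b₀', hb₀'⟩ := exists_mul_eq_algebraMap hγint hγ
  obtain ⟨r, u, hcu⟩ := IsDiscreteValuationRing.eq_unit_mul_pow_irreducible hc0 hϖ
  let b₀ : B := algebraMap R B (↑u⁻¹ : R) * b₀'
  have hb₀ : γ * b₀ = ϖB ^ r := by
    have h1 : γ * b₀ = algebraMap R B (↑u⁻¹ : R) * (γ * b₀') := by ring
    rw [h1, hb₀', hcu, ← map_mul, ← mul_assoc, Units.inv_mul, one_mul, map_pow]
  -- approximation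
  have hSnt : Nontrivial S := φ.domain_nontrivial
  set d := P.natDegree with hdP
  set n := 2 * r + 1 with hn
  have happrox : ∀ i : ℕ, ∃ (s : S) (e : R), P.coeff i - φ s = ϖ ^ n * e := by
    intro i
    obtain ⟨s, hs⟩ := hdense (P.coeff i) n
    rw [hmax, Ideal.span_singleton_pow, Ideal.mem_span_singleton] at hs
    obtain ⟨e, he⟩ := hs
    exact ⟨s, e, he⟩
  choose sA eA hse using happrox
  let T : S[X] := ∑ i ∈ Finset.range d, C (sA i) * X ^ i
  let P₁ : S[X] := X ^ d + T
  have hTdeg : T.degree < d := by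
    refine lt_of_le_of_lt (degree_sum_le _ _) ?_
    refine (Finset.sup_lt_iff (WithBot.bot_lt_coe d)).mpr fun i hi => ?_
    exact lt_of_le_of_lt (degree_C_mul_X_pow_le i _)
      (WithBot.coe_lt_coe.mpr (Nat.cast_lt.mpr (Finset.mem_range.mp hi)))
  have hP₁monic : P₁.Monic := monic_X_pow_add hTdeg
  have hP₁deg : P₁.natDegree = d := by
    have h1 : T.degree < (X ^ d : S[X]).degree := by rwa [degree_X_pow]
    rw [show P₁ = X ^ d + T from rfl, natDegree_add_eq_left_of_degree_lt h1, natDegree_X_pow]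
  let E : R[X] := ∑ i ∈ Finset.range d, C (eA i) * X ^ i
  have hP₁map : P₁.map φ = P - C (ϖ ^ n) * E := by
    conv_rhs => rw [hPmonic.as_sum]
    simp only [P₁, T, E, Polynomial.map_add, Polynomial.map_pow, map_X, Polynomial.map_sum,
      Polynomial.map_mul, map_C, Finset.mul_sum]
    rw [add_sub_assoc, ← Finset.sum_sub_distrib]
    congr 1
    refine Finset.sum_congr rfl fun i _ => ?_
    have h1 : φ (sA i) = P.coeff i - ϖ ^ n * eA i := by rw [← hse i]; ring
    rw [h1, C_sub, C_mul, sub_mul, mul_assoc]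
  -- Newton in B
  have hPαB : Polynomial.aeval αB P = 0 := by
    apply Subtype.ext
    rw [hcoe_aeval]
    exact minpoly.aeval R α
  let ε : B := Polynomial.aeval αB E
  let ε' : B := Polynomial.aeval αB (derivative E)
  let f : B[X] := (P₁.map φ).map (algebraMap R B)
  have hfα : f.eval αB = - (ϖB ^ n * ε) := by
    rw [show f = (P₁.map φ).map (algebraMap R B) from rfl, eval_map_algebraMap, hP₁map, map_sub,
      hPαB, map_mul, aeval_C, map_pow, zero_sub]
  have hf'α : f.derivative.eval αB = γ - ϖB ^ n * ε' := by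
    rw [show f = (P₁.map φ).map (algebraMap R B) from rfl, derivative_map, eval_map_algebraMap,
      hP₁map, derivative_sub, derivative_C_mul, map_sub, map_mul, aeval_C, map_pow]
  have hjac : ∀ y : B, IsUnit (ϖB * y + 1) := by
    have h1 : ϖB ∈ (⊥ : Ideal B).jacobson :=
      IsAdicComplete.le_jacobson_bot (Ideal.span {ϖB}) (Ideal.mem_span_singleton_self ϖB)
    exact Ideal.mem_jacobson_bot.mp h1
  obtain ⟨w, hw⟩ := (hjac (-(ϖB ^ r * b₀ * ε'))).exists_right_inv
  have hδ : f.derivative.eval αB = γ * (ϖB * (-(ϖB ^ r * b₀ * ε')) + 1) := by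
    rw [hf'α, hn]
    have : ϖB ^ (2 * r + 1) = ϖB ^ (r + 1) * (γ * b₀) := by rw [hb₀]; ring
    rw [this]; ring
  have hnewton : (f.derivative.eval αB) ^ 2 * ϖB ^ (0 + 1) ∣ f.eval αB := by
    refine ⟨-(w ^ 2 * b₀ ^ 2 * ε), ?_⟩
    rw [hfα, hδ, hn]
    have h1 : ϖB ^ (2 * r + 1) = (γ * b₀) ^ 2 * ϖB := by rw [hb₀]; ring
    rw [h1]
    linear_combination ((γ ^ 2 * b₀ ^ 2 * ϖB * ε) * ((ϖB * (-(ϖB ^ r * b₀ * ε')) + 1) * w + 1)) * hw
  obtain ⟨βB, hβ1, hβ2⟩ := newton_univ ϖB f αB 0 hnewton
  have hβdvd : ϖB ∣ βB - αB := by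
    refine dvd_trans ?_ hβ1
    rw [zero_add, pow_one]
    exact dvd_mul_left _ _
  -- the powers of βB form a basis
  let v : Fin pb.dim → B := fun i => βB ^ (i : ℕ)
  have hvdvd : ∀ j, ϖB ∣ v j - pb.basis j := by
    intro j
    rw [pb.basis_eq_pow, hpbgen]
    exact dvd_trans hβdvd (sub_dvd_pow_sub_pow βB αB j)
  have hmat : ∀ i j, ϖ ∣ pb.basis.toMatrix v i j - (1 : Matrix _ _ R) i j := by
    intro i j
    have h1 := (pow_dvd_iff_repr pb.basis ϖ 1 (v j - pb.basis j)).mp
      (by rw [pow_one]; exact hvdvd j) i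
    rw [pow_one, map_sub, Finsupp.sub_apply, Basis.repr_self, Finsupp.single_apply] at h1
    rw [Basis.toMatrix_apply, Matrix.one_apply]
    by_cases hij : i = j
    · subst hij; simpa using h1
    · rw [if_neg hij]
      rw [if_neg (Ne.symm hij)] at h1
      exact h1
  have hdet : IsUnit (pb.basis.det v) := by
    rw [Basis.det_apply]
    set N := pb.basis.toMatrix v with hN
    have hq : Ideal.Quotient.mk (Ideal.span {ϖ}) N.det = 1 := by
      rw [RingHom.map_det]
      have : (Ideal.Quotient.mk (Ideal.span {ϖ})).mapMatrix N = 1 := by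
        ext i j
        rw [RingHom.mapMatrix_apply, Matrix.map_apply]
        have h2 : Ideal.Quotient.mk (Ideal.span {ϖ}) (N i j - (1 : Matrix _ _ R) i j) = 0 :=
          Ideal.Quotient.eq_zero_iff_mem.mpr (Ideal.mem_span_singleton.mpr (hmat i j))
        rw [map_sub, sub_eq_zero] at h2
        rw [h2, Matrix.one_apply, Matrix.one_apply]
        split_ifs <;> simp
      rw [this, Matrix.det_one]
    by_contra hnu
    have h3 : N.det ∈ IsLocalRing.maximalIdeal R := (IsLocalRing.mem_maximalIdeal _).mpr hnu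
    rw [hmax] at h3
    have h0 : Ideal.Quotient.mk (Ideal.span {ϖ}) N.det = 0 :=
      Ideal.Quotient.eq_zero_iff_mem.mpr h3
    rw [hq] at h0
    have h4 : (1 : R) ∈ Ideal.span {ϖ} := by
      rw [← Ideal.Quotient.eq_zero_iff_mem, map_one]; exact h0
    rw [← hmax] at h4
    exact (Ideal.ne_top_iff_one _).mp (IsLocalRing.maximalIdeal.isMaximal R).ne_top h4
  have hspan : Submodule.span R (Set.range v) = ⊤ := (pb.basis.is_basis_iff_det.mpr hdet).2
  -- α ∈ F⟮β⟯
  let β : M := (βB : M)
  have hαmem : α ∈ F⟮β⟯ := by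
    have h1 : αB ∈ Submodule.span R (Set.range v) := by rw [hspan]; trivial
    have h2 : ∀ x ∈ Submodule.span R (Set.range v), ((x : B) : M) ∈ F⟮β⟯ := by
      intro x hx
      induction hx using Submodule.span_induction with
      | mem x hx =>
        obtain ⟨i, rfl⟩ := hx
        exact pow_mem (mem_adjoin_simple_self F β) _
      | zero => exact zero_mem _
      | add x y _ _ hx hy => exact add_mem hx hy
      | smul a x _ hx =>
        have h3 : ((a • x : B) : M) = (algebraMap R F a) • (x : M) := by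
          rw [algebraMap_smul]; rfl
        rw [h3]
        exact F⟮β⟯.smul_mem hx
    exact h2 αB h1
  have hβtop : F⟮β⟯ = ⊤ := by
    rw [eq_top_iff, ← hα, adjoin_le_iff]
    intro x hx
    rw [Set.mem_singleton_iff.mp hx]
    exact hαmem
  refine ⟨P₁, β, hP₁monic, by rw [hP₁deg, hd], ?_, hβtop⟩
  have h5 : ((f.eval βB : B) : M) = Polynomial.eval₂ ((algebraMap R M).comp φ) β P₁ := by
    rw [show f = (P₁.map φ).map (algebraMap R B) from rfl, eval_map_algebraMap,
      Polynomial.aeval_subalgebra_coe, Polynomial.aeval_def, Polynomial.eval₂_map]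
  rw [← h5, hβ2]; rfl


end core

end Groth.Agent.H36.Krasner
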