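import Groth.Agent.H36.DetLength
import Groth.Prelude.Def_Tame

/-!
# Distance of lattices over a one-dimensional Noetherian domain

For lattices `M`, `φ M` in a finite-dimensional `K`-vector space (`K = Frac A`, `A` Noetherian domain
of dimension `≤ 1`): `length (M/(M ∩ φM)) - length (φM/(M ∩ φM)) = ord (det φ)`  (`lattice_dist`).
Tools: `length_tower`, `length_map_equiv`, `exists_smul_mem_of_mem_span` (clearing denominators),
`length_lt_top_of_smul_eq_zero`, `length_latt_quot` (free lattice vs matrix), `ordFrac_div`.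
-/

set_option autoImplicit false
open Module

universe u v w

namespace Groth.Agent.H36.LatticeDist

open Groth.Agent.H36.DetLength

section general
variable {A : Type u} [CommRing A] {V : Type v} [AddCommGroup V] [Module A V]

/-- additivity of relative lengths in a tower `N ≤ I ≤ L` -/
theorem length_tower {N I L : Submodule A V} (h1 : N ≤ I) (h2 : I ≤ L) :
    Module.length A (↥L ⧸ N.submoduleOf L) =
      Module.length A (↥I ⧸ N.submoduleOf I) + Module.length A (↥L ⧸ I.submoduleOf L) := by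
  have hf : N.submoduleOf I ≤ (N.submoduleOf L).comap (Submodule.inclusion h2) := by
    intro x hx
    exact hx
  have hg : N.submoduleOf L ≤ I.submoduleOf L := by
    intro x hx
    exact h1 hx
  refine Module.length_eq_add_of_exact (Submodule.mapQ _ _ (Submodule.inclusion h2) hf)
    (Submodule.factor hg) ?_ (Submodule.factor_surjective hg) ?_
  · rw [← LinearMap.ker_eq_bot, LinearMap.ker_eq_bot']
    intro x hx
    obtain ⟨x, rfl⟩ := Submodule.Quotient.mk_surjective _ x
    rw [Submodule.mapQ_apply, Submodule.Quotient.mk_eq_zero] at hx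
    rw [Submodule.Quotient.mk_eq_zero]
    exact hx
  · rw [LinearMap.exact_iff]
    apply le_antisymm
    · intro x hx
      obtain ⟨x, rfl⟩ := Submodule.Quotient.mk_surjective _ x
      have hx' : (Submodule.Quotient.mk x : ↥L ⧸ I.submoduleOf L) = 0 := hx
      rw [Submodule.Quotient.mk_eq_zero] at hx'
      refine ⟨Submodule.Quotient.mk ⟨x.1, hx'⟩, ?_⟩
      rw [Submodule.mapQ_apply]
      rfl
    · rintro _ ⟨x, rfl⟩
      obtain ⟨x, rfl⟩ := Submodule.Quotient.mk_surjective _ x
      rw [LinearMap.mem_ker, Submodule.mapQ_apply]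
      change (Submodule.Quotient.mk (Submodule.inclusion h2 x) : ↥L ⧸ I.submoduleOf L) = 0
      rw [Submodule.Quotient.mk_eq_zero]
      exact x.2

/-- relative lengths are invariant under a linear automorphism -/
theorem length_map_equiv (e : V ≃ₗ[A] V) (N L : Submodule A V) :
    Module.length A (↥(L.map (e : V →ₗ[A] V)) ⧸
        (N.map (e : V →ₗ[A] V)).submoduleOf (L.map (e : V →ₗ[A] V))) =
      Module.length A (↥L ⧸ N.submoduleOf L) := by
  symm
  refine (Submodule.Quotient.equiv _ _ (e.submoduleMap L) ?_).length_eq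
  ext ⟨y, hy⟩
  constructor
  · rintro ⟨⟨x, hxL⟩, hxN, hxy⟩
    have : e x = y := congrArg Subtype.val hxy
    exact ⟨x, hxN, this⟩
  · rintro ⟨x, hxN, hxy⟩
    have hxy' : e x = y := hxy
    have hxL : x ∈ L := by
      obtain ⟨x', hx'L, hx'y⟩ := hy
      have : e x' = e x := by rw [hxy']; exact hx'y
      rw [← e.injective this]; exact hx'L
    exact ⟨⟨x, hxL⟩, hxN, Subtype.ext hxy'⟩

end general


section frac
variable {A : Type u} [CommRing A] [IsDomain A]
variable {K : Type v} [Field K] [Algebra A K] [IsFractionRing A K]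
variable {V : Type w} [AddCommGroup V] [Module K V] [Module A V] [IsScalarTower A K V]

/-- clearing denominators: an element of the `K`-span of an `A`-submodule has a nonzero multiple
in the submodule -/
theorem exists_smul_mem_of_mem_span (N : Submodule A V) {x : V}
    (hx : x ∈ Submodule.span K (N : Set V)) : ∃ t : A, t ≠ 0 ∧ t • x ∈ N := by
  induction hx using Submodule.span_induction with
  | mem x hx => exact ⟨1, one_ne_zero, by rw [one_smul]; exact hx⟩
  | zero => exact ⟨1, one_ne_zero, by rw [smul_zero]; exact N.zero_mem⟩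
  | add x y _ _ hx hy =>
    obtain ⟨t₁, ht₁, h₁⟩ := hx
    obtain ⟨t₂, ht₂, h₂⟩ := hy
    refine ⟨t₁ * t₂, mul_ne_zero ht₁ ht₂, ?_⟩
    rw [smul_add]
    refine N.add_mem ?_ ?_
    · rw [mul_comm, mul_smul]; exact N.smul_mem _ h₁
    · rw [mul_smul]; exact N.smul_mem _ h₂
  | smul c x _ hx =>
    obtain ⟨t, ht, h⟩ := hx
    obtain ⟨a, s, rfl⟩ := IsLocalization.exists_mk'_eq (nonZeroDivisors A) c
    refine ⟨s * t, mul_ne_zero (nonZeroDivisors.ne_zero s.2) ht, ?_⟩
    have : ((s : A) * t) • (IsLocalization.mk' K a s • x) = a • (t • x) := by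
      rw [← algebraMap_smul K ((s : A) * t), smul_smul, map_mul, mul_right_comm,
        IsLocalization.mk'_spec', ← map_mul, algebraMap_smul, mul_smul]
    rw [this]
    exact N.smul_mem _ h

/-- a finitely generated submodule inside the `K`-span of `N` has a common denominator -/
theorem exists_smul_le (N L : Submodule A V) (hL : L.FG)
    (h : L ≤ (Submodule.span K (N : Set V)).restrictScalars A) :
    ∃ t : A, t ≠ 0 ∧ ∀ x ∈ L, t • x ∈ N := by
  classical
  obtain ⟨S, rfl⟩ := hL
  have h1 : ∀ x ∈ S, ∃ t : A, t ≠ 0 ∧ t • x ∈ N := fun x hx =>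
    exists_smul_mem_of_mem_span N (h (Submodule.subset_span hx))
  choose! t ht0 ht using h1
  refine ⟨∏ x ∈ S, t x, Finset.prod_ne_zero_iff.mpr ht0, ?_⟩
  intro y hy
  induction hy using Submodule.span_induction with
  | mem x hx =>
    rw [← Finset.mul_prod_erase S t hx, mul_comm, mul_smul]
    exact N.smul_mem _ (ht x hx)
  | zero => rw [smul_zero]; exact N.zero_mem
  | add x y _ _ hx hy => rw [smul_add]; exact N.add_mem hx hy
  | smul c x _ hx => rw [smul_comm]; exact N.smul_mem _ hx

end frac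

section fin
variable {A : Type u} [CommRing A] [IsNoetherianRing A] [Ring.KrullDimLE 1 A]
variable {V : Type w} [AddCommGroup V] [Module A V]

/-- a finitely generated module killed by a non-zero-divisor has finite length (dimension `≤ 1`) -/
theorem length_lt_top_of_smul_eq_zero (Q : Type w) [AddCommGroup Q] [Module A Q] [Module.Finite A Q]
    (t : A) (ht : t ∈ nonZeroDivisors A) (h : ∀ q : Q, t • q = 0) : Module.length A Q < ⊤ := by
  classical
  obtain ⟨k, g, hg⟩ := Module.Finite.exists_fin' A Q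
  -- g : (Fin k → A) →ₗ[A] Q surjective
  have hker : LinearMap.range (t • (1 : Matrix (Fin k) (Fin k) A)).mulVecLin ≤ LinearMap.ker g := by
    rintro _ ⟨v, rfl⟩
    rw [LinearMap.mem_ker, Matrix.mulVecLin_apply, Matrix.smul_mulVec, Matrix.one_mulVec, map_smul]
    exact h _
  have hsurj : Function.Surjective ((LinearMap.range
      (t • (1 : Matrix (Fin k) (Fin k) A)).mulVecLin).liftQ g hker) := by
    intro q
    obtain ⟨v, rfl⟩ := hg q
    exact ⟨Submodule.Quotient.mk v, rfl⟩
  have h1 := Module.length_le_of_surjective _ hsurj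
  have h2 : cl (t • (1 : Matrix (Fin k) (Fin k) A)) = k • Ring.ord A t := by
    rw [cl_smul_one, Fintype.card_fin]
  have h3 : k • Ring.ord A t ≠ ⊤ := by
    rw [← Ring.ord_pow ht]
    exact Ring.ord_ne_top (pow_mem ht k)
  unfold cl at h2
  rw [h2] at h1
  exact lt_of_le_of_lt h1 h3.lt_top

end fin


section free
variable {A : Type u} [CommRing A] [IsDomain A]
variable {K : Type v} [Field K] [Algebra A K] [IsFractionRing A K]
variable {V : Type w} [AddCommGroup V] [Module K V] [Module A V] [IsScalarTower A K V]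
variable {ι : Type*} [Fintype ι] [DecidableEq ι]

/-- the `A`-span of a `K`-basis -/
def latt (b : Basis ι K V) : Submodule A V := Submodule.span A (Set.range b)

omit [IsDomain A] [IsFractionRing A K] [Fintype ι] [DecidableEq ι] in
theorem mem_latt_self (b : Basis ι K V) (i : ι) : b i ∈ latt (A := A) b :=
  Submodule.subset_span ⟨i, rfl⟩

/-- the coordinate parametrisation `(ι → A) → V` of the lattice spanned by a basis -/
noncomputable def par (b : Basis ι K V) : (ι → A) →ₗ[A] V :=
  Fintype.linearCombination A (b : ι → V)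

omit [IsDomain A] [IsFractionRing A K] [DecidableEq ι] in
theorem par_apply (b : Basis ι K V) (v : ι → A) : par b v = ∑ i, v i • b i := by
  simp [par, Fintype.linearCombination_apply]

omit [IsDomain A] [DecidableEq ι] in
theorem par_injective (b : Basis ι K V) : Function.Injective (par (A := A) b) := by
  have hli : LinearIndependent A (b : ι → V) :=
    b.linearIndependent.restrict_scalars (by
      intro x y hxy
      simp only [Algebra.smul_def, mul_one] at hxy
      exact IsFractionRing.injective A K hxy)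
  rw [Fintype.linearIndependent_iff] at hli
  rw [← LinearMap.ker_eq_bot, LinearMap.ker_eq_bot']
  intro v hv
  rw [par_apply] at hv
  ext i
  exact hli v hv i

omit [IsDomain A] [IsFractionRing A K] [DecidableEq ι] in
theorem range_par (b : Basis ι K V) : LinearMap.range (par (A := A) b) = latt b := by
  unfold par latt
  exact Fintype.range_linearCombination A _

/-- if `ψ` has matrix `P` (entries in `A`) in the basis `b`, then `ψ ∘ par = par ∘ P` -/
theorem map_par (b : Basis ι K V) (P : Matrix ι ι A) (ψ : V →ₗ[K] V)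
    (hψ : LinearMap.toMatrix b b ψ = P.map (algebraMap A K)) (v : ι → A) :
    ψ (par b v) = par b (P.mulVec v) := by
  have hcol : ∀ i, ψ (b i) = ∑ j, P j i • b j := by
    intro i
    have h1 : ψ (b i) = ∑ j, (LinearMap.toMatrix b b ψ) j i • b j := by
      conv_lhs => rw [← b.sum_repr (ψ (b i))]
      refine Finset.sum_congr rfl fun j _ => ?_
      rw [LinearMap.toMatrix_apply]
    rw [h1, hψ]
    refine Finset.sum_congr rfl fun j _ => ?_
    rw [Matrix.map_apply, algebraMap_smul]
  rw [par_apply, par_apply, map_sum]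
  simp_rw [← algebraMap_smul K (v _) (b _), map_smul, hcol, algebraMap_smul, Finset.smul_sum,
    smul_smul]
  rw [Finset.sum_comm]
  refine Finset.sum_congr rfl fun j _ => ?_
  rw [← Finset.sum_smul]
  congr 1
  rw [Matrix.mulVec, dotProduct]
  refine Finset.sum_congr rfl fun i _ => ?_
  rw [mul_comm]

theorem map_latt_le (b : Basis ι K V) (P : Matrix ι ι A) (ψ : V →ₗ[K] V)
    (hψ : LinearMap.toMatrix b b ψ = P.map (algebraMap A K)) :
    (latt (A := A) b).map (ψ.restrictScalars A) ≤ latt b := by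
  rw [← range_par]
  rintro _ ⟨_, ⟨v, rfl⟩, rfl⟩
  exact ⟨P.mulVec v, (map_par b P ψ hψ v).symm⟩

theorem length_latt_quot (b : Basis ι K V) (P : Matrix ι ι A) (ψ : V →ₗ[K] V)
    (hψ : LinearMap.toMatrix b b ψ = P.map (algebraMap A K)) :
    Module.length A (↥(latt (A := A) b) ⧸
      ((latt (A := A) b).map (ψ.restrictScalars A)).submoduleOf (latt b)) = cl P := by
  unfold cl
  -- the equivalence (ι → A) ≃ latt b
  let β : (ι → A) ≃ₗ[A] ↥(latt (A := A) b) :=
    (LinearEquiv.ofInjective (par (A := A) b) (par_injective b)).trans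
      (LinearEquiv.ofEq _ _ (range_par b))
  have hβ : ∀ v, (β v : V) = par b v := fun v => rfl
  symm
  refine (Submodule.Quotient.equiv _ _ β ?_).length_eq
  ext ⟨y, hy⟩
  constructor
  · rintro ⟨_, ⟨v, rfl⟩, hv⟩
    have hv' : par b (P.mulVec v) = y := congrArg Subtype.val hv
    refine ⟨par b v, ?_, ?_⟩
    · rw [← range_par]; exact ⟨v, rfl⟩
    · change ψ (par b v) = y
      rw [map_par b P ψ hψ, hv']
  · rintro ⟨x, hx, hxy⟩
    rw [← range_par] at hx
    obtain ⟨v, rfl⟩ := hx
    refine ⟨P.mulVec v, ⟨v, rfl⟩, ?_⟩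
    apply Subtype.ext
    change (β (P.mulVec v) : V) = y
    rw [hβ, ← map_par b P ψ hψ]
    exact hxy

end free


theorem ordFrac_div (A : Type u) [CommRing A] [IsDomain A] [IsNoetherianRing A]
    [Ring.KrullDimLE 1 A] (K : Type v) [Field K] [Algebra A K] [IsFractionRing A K] (x y : A)
    (hx : x ≠ 0) (hy : y ≠ 0) :
    CycAlg.ordFrac A K (algebraMap A K x / algebraMap A K y) =
      ((Ring.ord A x).toNat : ℤ) - ((Ring.ord A y).toNat : ℤ) := by
  have hxn : x ∈ nonZeroDivisors A := mem_nonZeroDivisors_of_ne_zero hx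
  have hyn : y ∈ nonZeroDivisors A := mem_nonZeroDivisors_of_ne_zero hy
  unfold CycAlg.ordFrac
  rw [dif_pos ⟨inferInstance, inferInstance, inferInstance, inferInstance⟩]
  rw [map_div₀, Ring.ordFrac_eq_ord A hx, Ring.ordFrac_eq_ord A hy]
  have h1 : Ring.ord A x = ((Ring.ord A x).toNat : ℕ∞) :=
    (ENat.natCast_toNat (Ring.ord_ne_top hxn)).symm
  have h2 : Ring.ord A y = ((Ring.ord A y).toNat : ℕ∞) :=
    (ENat.natCast_toNat (Ring.ord_ne_top hyn)).symm
  rw [Ring.ordMonoidWithZeroHom_eq_coe A hxn h1, Ring.ordMonoidWithZeroHom_eq_coe A hyn h2]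
  rw [← WithZero.coe_div]
  simp


section main
variable (A : Type u) [CommRing A] [IsDomain A] [IsNoetherianRing A] [Ring.KrullDimLE 1 A]
variable (K : Type v) [Field K] [Algebra A K] [IsFractionRing A K]
variable (V : Type w) [AddCommGroup V] [Module K V] [Module A V] [IsScalarTower A K V]
  [FiniteDimensional K V]

theorem isLattice_map (M : Submodule A V) [Submodule.IsLattice K M] (φ : V ≃ₗ[K] V) :
    Submodule.IsLattice K (M.map (φ.toLinearMap.restrictScalars A)) where
  fg := (Submodule.IsLattice.fg (M := M)).map _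
  span_eq_top := by
    have h1 : ((M.map (φ.toLinearMap.restrictScalars A) : Submodule A V) : Set V) =
        φ.toLinearMap '' (M : Set V) := rfl
    rw [h1, Submodule.span_image, Submodule.IsLattice.span_eq_top, Submodule.map_top,
      LinearMap.range_eq_top]
    exact φ.surjective

theorem lattice_dist (M : Submodule A V) [Submodule.IsLattice K M] (φ : V ≃ₗ[K] V) :
    Module.length A (↥M ⧸ (M ⊓ M.map (φ.toLinearMap.restrictScalars A)).submoduleOf M) < ⊤ ∧
      Module.length A (↥(M.map (φ.toLinearMap.restrictScalars A)) ⧸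
          (M ⊓ M.map (φ.toLinearMap.restrictScalars A)).submoduleOf
            (M.map (φ.toLinearMap.restrictScalars A))) < ⊤ ∧
      ((Module.length A (↥M ⧸ (M ⊓ M.map (φ.toLinearMap.restrictScalars A)).submoduleOf M)).toNat : ℤ) -
          ((Module.length A (↥(M.map (φ.toLinearMap.restrictScalars A)) ⧸
            (M ⊓ M.map (φ.toLinearMap.restrictScalars A)).submoduleOf
              (M.map (φ.toLinearMap.restrictScalars A)))).toNat : ℤ) =
        CycAlg.ordFrac A K (LinearMap.det φ.toLinearMap) := by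
  classical
  obtain ⟨eA, heA⟩ : ∃ eA : V ≃ₗ[A] V, (eA : V →ₗ[A] V) = φ.toLinearMap.restrictScalars A :=
    ⟨φ.restrictScalars A, rfl⟩
  rw [← heA]
  have hinjK : Function.Injective (algebraMap A K) := IsFractionRing.injective A K
  -- a basis inside M
  obtain ⟨n, hn⟩ : ∃ n, n = Module.finrank K V := ⟨_, rfl⟩
  let b₀ : Basis (Fin (Module.finrank K V)) K V := Module.finBasis K V
  have hspanM : ∀ x : V, x ∈ Submodule.span K (M : Set V) := by
    intro x; rw [Submodule.IsLattice.span_eq_top]; trivial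
  have h1 : ∀ i, ∃ t : A, t ≠ 0 ∧ t • b₀ i ∈ M := fun i =>
    exists_smul_mem_of_mem_span M (hspanM _)
  choose t ht0 ht using h1
  let wu : Fin (Module.finrank K V) → Kˣ := fun i =>
    Units.mk0 (algebraMap A K (t i)) ((map_ne_zero_iff _ hinjK).mpr (ht0 i))
  obtain ⟨b, hb⟩ : ∃ b : Basis (Fin (Module.finrank K V)) K V, ∀ i, b i = t i • b₀ i := by
    refine ⟨b₀.unitsSMul wu, fun i => ?_⟩
    rw [Basis.unitsSMul_apply]
    change algebraMap A K (t i) • b₀ i = _
    rw [algebraMap_smul]
  have hbM : ∀ i, b i ∈ M := fun i => by rw [hb]; exact ht i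
  obtain ⟨F, hF⟩ : ∃ F : Submodule A V, F = latt b := ⟨_, rfl⟩
  have hFM : F ≤ M := by
    rw [hF]
    unfold latt
    rw [Submodule.span_le]
    rintro _ ⟨i, rfl⟩
    exact hbM i
  -- denominators for the matrix of φ
  obtain ⟨Φ, hΦ⟩ : ∃ Φ, Φ = LinearMap.toMatrix b b φ.toLinearMap := ⟨_, rfl⟩
  obtain ⟨s, hs⟩ := IsLocalization.exist_integer_multiples (nonZeroDivisors A)
    (Finset.univ : Finset (Fin (Module.finrank K V) × Fin (Module.finrank K V)))
    (fun p => Φ p.1 p.2)
  choose P hP using fun p => hs p (Finset.mem_univ p)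
  obtain ⟨Pm, hPm⟩ : ∃ Pm : Matrix (Fin (Module.finrank K V)) (Fin (Module.finrank K V)) A,
      Pm = fun i j => P (i, j) := ⟨_, rfl⟩
  have hs0 : (s : A) ≠ 0 := nonZeroDivisors.ne_zero s.2
  obtain ⟨c, hc⟩ : ∃ c : K, c = algebraMap A K s := ⟨_, rfl⟩
  have hc0 : c ≠ 0 := by rw [hc]; exact (map_ne_zero_iff _ hinjK).mpr hs0
  obtain ⟨ψ, hψd⟩ : ∃ ψ : V →ₗ[K] V, ψ = c • φ.toLinearMap := ⟨_, rfl⟩
  obtain ⟨ψ₂, hψ₂d⟩ : ∃ ψ₂ : V →ₗ[K] V, ψ₂ = c • LinearMap.id := ⟨_, rfl⟩
  have hψ : LinearMap.toMatrix b b ψ = Pm.map (algebraMap A K) := by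
    have hPm' : ∀ i j, Pm i j = P (i, j) := fun i j => by rw [hPm]
    rw [hψd, map_smul, ← hΦ]
    ext i j
    rw [Matrix.smul_apply, Matrix.map_apply, hPm' i j, hP (i, j), hc, smul_eq_mul,
      Algebra.smul_def]
  have hψ₂ : LinearMap.toMatrix b b ψ₂ =
      ((s : A) • (1 : Matrix (Fin (Module.finrank K V)) (Fin (Module.finrank K V)) A)).map
        (algebraMap A K) := by
    rw [hψ₂d, map_smul, LinearMap.toMatrix_id]
    ext i j
    rw [Matrix.smul_apply, Matrix.map_apply, Matrix.smul_apply, hc, Matrix.one_apply,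
      Matrix.one_apply]
    split_ifs <;> simp
  -- determinants
  have hdet : algebraMap A K Pm.det = c ^ Module.finrank K V * LinearMap.det φ.toLinearMap := by
    have h1 : algebraMap A K Pm.det = (Pm.map (algebraMap A K)).det := by
      rw [RingHom.map_det]; rfl
    rw [h1, ← hψ, LinearMap.det_toMatrix, hψd, LinearMap.det_smul]
  have hdetφ : LinearMap.det φ.toLinearMap ≠ 0 := (LinearEquiv.isUnit_det' φ).ne_zero
  have hPdet0 : Pm.det ≠ 0 := by
    intro h0
    rw [h0, map_zero] at hdet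
    exact mul_ne_zero (pow_ne_zero _ hc0) hdetφ hdet.symm
  have hPnzd : Pm.det ∈ nonZeroDivisors A := mem_nonZeroDivisors_of_ne_zero hPdet0
  have hsn0 : (s : A) ^ Module.finrank K V ≠ 0 := pow_ne_zero _ hs0
  have hord : CycAlg.ordFrac A K (LinearMap.det φ.toLinearMap) =
      ((Ring.ord A Pm.det).toNat : ℤ) - ((Ring.ord A ((s : A) ^ Module.finrank K V)).toNat : ℤ) := by
    rw [← ordFrac_div A K _ _ hPdet0 hsn0, hdet, map_pow, ← hc, mul_div_cancel_left₀]
    exact pow_ne_zero _ hc0
  -- the lengths for the free lattice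
  obtain ⟨N, hN⟩ : ∃ N, N = F.map (ψ.restrictScalars A) := ⟨_, rfl⟩
  obtain ⟨sF, hsF⟩ : ∃ sF, sF = F.map (ψ₂.restrictScalars A) := ⟨_, rfl⟩
  have hNF : N ≤ F := by rw [hN, hF]; exact map_latt_le b Pm ψ hψ
  have hsFF : sF ≤ F := by rw [hsF, hF]; exact map_latt_le b _ ψ₂ hψ₂
  have hp : Module.length A (↥F ⧸ N.submoduleOf F) = Ring.ord A Pm.det := by
    rw [hN, hF, length_latt_quot b Pm ψ hψ, cl_eq_ord_det_of_krullDimLE Pm hPnzd]
  have hq : Module.length A (↥F ⧸ sF.submoduleOf F) =
      Ring.ord A ((s : A) ^ Module.finrank K V) := by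
    rw [hsF, hF, length_latt_quot b _ ψ₂ hψ₂, cl_smul_one, Fintype.card_fin,
      Ring.ord_pow s.2]
  have hNmap : N = sF.map (eA : V →ₗ[A] V) := by
    rw [hN, hsF, heA, ← Submodule.map_comp]
    congr 1
    rw [hψd, hψ₂d]
    ext x
    simp
  -- finiteness of M/F
  have hspanF : (Submodule.span K (F : Set V)) = ⊤ := by
    rw [eq_top_iff, ← b.span_eq]
    apply Submodule.span_mono
    rintro _ ⟨i, rfl⟩
    rw [hF]
    exact Submodule.subset_span ⟨i, rfl⟩
  obtain ⟨t₁, ht₁0, ht₁⟩ := exists_smul_le (K := K) F M Submodule.IsLattice.fg (by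
    rw [hspanF]; intro x _; trivial)
  have hu : Module.length A (↥M ⧸ F.submoduleOf M) < ⊤ := by
    refine length_lt_top_of_smul_eq_zero _ t₁ (mem_nonZeroDivisors_of_ne_zero ht₁0) ?_
    intro q
    obtain ⟨x, rfl⟩ := Submodule.Quotient.mk_surjective _ q
    rw [← Submodule.Quotient.mk_smul, Submodule.Quotient.mk_eq_zero]
    exact ht₁ x.1 x.2
  -- towers
  obtain ⟨φM, hφM⟩ : ∃ φM, φM = M.map (eA : V →ₗ[A] V) := ⟨_, rfl⟩
  rw [← hφM]
  have hNφM : N ≤ φM := by
    rw [hNmap, hφM]
    exact Submodule.map_mono (hsFF.trans hFM)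
  have hNI : N ≤ M ⊓ φM := le_inf (hNF.trans hFM) hNφM
  have T1 := length_tower hNF hFM
  have T2 := length_tower hsFF hFM
  have T3 : Module.length A (↥φM ⧸ N.submoduleOf φM) = Module.length A (↥M ⧸ sF.submoduleOf M) := by
    rw [hφM, hNmap]
    exact length_map_equiv eA sF M
  have T4 := length_tower hNI (inf_le_left : M ⊓ φM ≤ M)
  have T5 := length_tower hNI (inf_le_right : M ⊓ φM ≤ φM)
  rw [hord]
  -- arithmetic
  obtain ⟨x, hx⟩ : ∃ x, x = Module.length A (↥M ⧸ (M ⊓ φM).submoduleOf M) := ⟨_, rfl⟩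
  obtain ⟨y, hy⟩ : ∃ y, y = Module.length A (↥φM ⧸ (M ⊓ φM).submoduleOf φM) := ⟨_, rfl⟩
  obtain ⟨z, hz⟩ : ∃ z, z = Module.length A (↥(M ⊓ φM) ⧸ N.submoduleOf (M ⊓ φM)) := ⟨_, rfl⟩
  obtain ⟨uu, huu⟩ : ∃ uu, uu = Module.length A (↥M ⧸ F.submoduleOf M) := ⟨_, rfl⟩
  rw [← hx, ← hy]
  rw [T1, hp, ← huu, ← hz, ← hx] at T4
  rw [T3, T2, hq, ← huu, ← hz, ← hy] at T5
  rw [← huu] at hu
  have hpf : Ring.ord A Pm.det ≠ ⊤ := Ring.ord_ne_top hPnzd
  have hqf : Ring.ord A ((s : A) ^ Module.finrank K V) ≠ ⊤ :=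
    Ring.ord_ne_top (mem_nonZeroDivisors_of_ne_zero hsn0)
  generalize Ring.ord A Pm.det = p at *
  generalize Ring.ord A ((s : A) ^ Module.finrank K V) = q at *
  have huf : uu ≠ ⊤ := hu.ne
  lift p to ℕ using hpf
  lift q to ℕ using hqf
  lift uu to ℕ using huf
  have hzx : z + x ≠ ⊤ := by rw [← T4]; exact ENat.natCast_ne_top _
  have hzy : z + y ≠ ⊤ := by rw [← T5]; exact ENat.natCast_ne_top _
  have hzf : z ≠ ⊤ := fun h => hzx (by rw [h, top_add])
  have hxf : x ≠ ⊤ := fun h => hzx (by rw [h, add_top])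
  have hyf : y ≠ ⊤ := fun h => hzy (by rw [h, add_top])
  lift x to ℕ using hxf
  lift y to ℕ using hyf
  lift z to ℕ using hzf
  refine ⟨ENat.natCast_lt_top _, ENat.natCast_lt_top _, ?_⟩
  simp only [ENat.toNat_natCast]
  have e4 : p + uu = z + x := by exact_mod_cast T4
  have e5 : q + uu = z + y := by exact_mod_cast T5
  omega

end main


end Groth.Agent.H36.LatticeDist
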