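import Mathlib
import Groth.Prelude.Def_LefPen
import Groth.Agent.H36.JetDim
import Groth.Agent.H56.JacCot

/-!
# A general member of a finite-dimensional linear system containing the constants and the
coordinate functions cuts a smooth affine variety in a smooth subvariety of dimension one less
-/

set_option autoImplicit false
set_option linter.unusedSectionVars false
set_option linter.unusedVariables false
set_option linter.style.haveILetI false

namespace Groth.Agent.H36.LefGen

universe u

open MvPolynomial Groth.Agent.H36.Jet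

/-- a linear system containing the constants and a system of generators of the algebra separates
`1`-jets at every closed point -/
theorem jets_of_generators (k T : Type u) [Field k] [IsAlgClosed k] [CommRing T] [Algebra k T]
    {s : ℕ} (y : Fin s → T)
    (hy : Function.Surjective (aeval y : MvPolynomial (Fin s) k →ₐ[k] T))
    {m : ℕ} (g : Fin m → T) (h1 : (1 : T) ∈ Submodule.span k (Set.range g))
    (hyg : ∀ l, y l ∈ Submodule.span k (Set.range g))
    (𝔪 : Ideal T) (h𝔪 : 𝔪.IsMaximal) (h : T) :
    ∃ c : Fin m → k, (∑ t, algebraMap k T (c t) * g t) - h ∈ 𝔪 ^ 2 := by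
  classical
  haveI : Algebra.FiniteType k T := Algebra.FiniteType.of_surjective _ hy
  obtain ⟨ε, hε⟩ := exists_algHom_ker_eq k T 𝔪 h𝔪
  set π : MvPolynomial (Fin s) k →ₐ[k] T := aeval y with hπ
  let a : Fin s → k := fun l => ε (y l)
  have hεπ : ∀ p : MvPolynomial (Fin s) k, ε (π p) = eval a p := by
    intro p
    rw [hπ, MvPolynomial.comp_aeval_apply]
    rfl
  have hNN : ∀ p ∈ Groth.Agent.H56.JacCot.NN a, π p ∈ 𝔪 := by
    intro p hp
    rw [← hε, RingHom.mem_ker]
    change ε (π p) = 0
    rw [hεπ, Groth.Agent.H56.JacCot.eval_eq_zero_of_mem_NN a hp]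
  have hsq : ∀ p ∈ Groth.Agent.H56.JacCot.NN a ^ 2, π p ∈ 𝔪 ^ 2 := by
    intro p hp
    have h1 : (Groth.Agent.H56.JacCot.NN a ^ 2).map (π : MvPolynomial (Fin s) k →+* T) ≤
        𝔪 ^ 2 := by
      rw [Ideal.map_pow]
      exact Ideal.pow_right_mono (Ideal.map_le_iff_le_comap.mpr hNN) 2
    exact h1 (Ideal.mem_map_of_mem _ hp)
  let W : Submodule k T := Submodule.span k (Set.range g) ⊔ (𝔪 ^ 2).restrictScalars k
  have h1W : (1 : T) ∈ W := Submodule.mem_sup_left h1
  have hxW : ∀ l, π (X l) ∈ W := by
    intro l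
    rw [hπ, aeval_X]
    exact Submodule.mem_sup_left (hyg l)
  have hCW : ∀ (c : k) (w : T), w ∈ W → π (C c) * w ∈ W := by
    intro c w hw
    have h1 : π (C c) * w = c • w := by
      rw [hπ, aeval_C]
      exact (Algebra.smul_def c w).symm
    rw [h1]
    exact W.smul_mem c hw
  have hpW : ∀ p : MvPolynomial (Fin s) k, π p ∈ W := by
    intro p
    rw [Groth.Agent.H56.JacCot.taylor a p, map_add, map_add, map_sum]
    refine W.add_mem (W.add_mem ?_ (W.sum_mem fun l _ => ?_)) ?_
    · have h1 := hCW (eval a p) 1 h1W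
      rwa [mul_one] at h1
    · rw [map_mul]
      refine hCW _ _ ?_
      unfold Groth.Agent.H56.JacCot.tt
      rw [map_sub]
      refine W.sub_mem (hxW l) ?_
      have h1 := hCW (a l) 1 h1W
      rwa [mul_one] at h1
    · exact Submodule.mem_sup_right (hsq _ (Groth.Agent.H56.JacCot.rem_mem a p))
  obtain ⟨p, rfl⟩ := hy h
  obtain ⟨z, hz, w, hw, hzw⟩ := Submodule.mem_sup.mp (hpW p)
  obtain ⟨c, hc⟩ := (Submodule.mem_span_range_iff_exists_fun k).mp hz
  refine ⟨c, ?_⟩
  have h1 : (∑ t, algebraMap k T (c t) * g t) = z := by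
    rw [← hc]
    refine Finset.sum_congr rfl fun t _ => ?_
    exact (Algebra.smul_def (c t) (g t)).symm
  rw [h1]
  change z - π p ∈ 𝔪 ^ 2
  rw [← hzw, sub_add_cancel_left]
  exact (𝔪 ^ 2).neg_mem hw

/-- evaluation of polynomials in the coordinates of a basis is a polynomial function -/
theorem isPolyFun_eval_repr (k : Type u) [Field k] (V : Type u) [AddCommGroup V] [Module k V]
    {m : ℕ} (b : Module.Basis (Fin m) k V) (q : MvPolynomial (Fin m) k) :
    LefPen.IsPolyFun k (fun v : V => eval (fun t => b.repr v t) q) := by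
  unfold LefPen.IsPolyFun
  let x : Fin m → (V → k) := fun t => ((b.coord t : Module.Dual k V) : V → k)
  have h1 : (fun v : V => eval (fun t => b.repr v t) q) = aeval x q := by
    funext v
    have h2 := MvPolynomial.comp_aeval_apply (f := x) (Pi.evalAlgHom k (fun _ : V => k) v) q
    change (aeval x q) v = _ at h2
    rw [h2]
    rfl
  rw [h1]
  have h3 : aeval x q ∈ (aeval x : MvPolynomial (Fin m) k →ₐ[k] (V → k)).range := ⟨q, rfl⟩
  rw [← Algebra.adjoin_range_eq_range_aeval] at h3
  refine Algebra.adjoin_mono ?_ h3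
  rintro _ ⟨t, rfl⟩
  exact ⟨b.coord t, rfl⟩

/-- the general member of a finite-dimensional linear system containing the constants and a
system of generators cuts out a smooth subscheme of dimension one less; the exceptional members
are the zeros of a polynomial in the coordinates with respect to `Module.finBasis` -/
theorem generic_linear_section_poly (k : Type u) [Field k] [IsAlgClosed k] (T : Type u)
    [CommRing T] [Algebra k T] (N : ℕ)
    (hloc : RingHom.Locally (RingHom.IsStandardSmoothOfRelativeDimension N) (algebraMap k T))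
    {s : ℕ} (y : Fin s → T)
    (hy : Function.Surjective (aeval y : MvPolynomial (Fin s) k →ₐ[k] T))
    (V : Type u) [AddCommGroup V] [Module k V] [Module.Finite k V]
    (L : V →ₗ[k] T) (h1 : (1 : T) ∈ LinearMap.range L) (hyL : ∀ l, y l ∈ LinearMap.range L) :
    ∃ q : MvPolynomial (Fin (Module.finrank k V)) k, q ≠ 0 ∧
      ∀ v, eval (fun t => (Module.finBasis k V).repr v t) q ≠ 0 →
      RingHom.Locally (RingHom.IsStandardSmoothOfRelativeDimension (N - 1))
        (algebraMap k (T ⧸ Ideal.span {L v})) := by
  classical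
  let b := Module.finBasis k V
  let g : Fin (Module.finrank k V) → T := fun t => L (b t)
  have hrange : LinearMap.range L = Submodule.span k (Set.range g) := by
    rw [LinearMap.range_eq_map, ← b.span_eq, Submodule.map_span, ← Set.range_comp]
    rfl
  have hjet : ∀ 𝔪 : Ideal T, 𝔪.IsMaximal → ∀ h : T, ∃ c : Fin (Module.finrank k V) → k,
      (∑ t : Fin (Module.finrank k V), algebraMap k T (c t) * g t) - h ∈ 𝔪 ^ 2 := fun 𝔪 h𝔪 h =>
    jets_of_generators k T y hy g (hrange ▸ h1) (fun l => hrange ▸ hyL l) 𝔪 h𝔪 h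
  obtain ⟨q, hq0, hq⟩ := Groth.Agent.H36.JetDim.affine_jet_bertini_locally k T N hloc g 0 hjet
  have hlc : ∀ v : V, lc (0 : T) g (fun t => b.repr v t) = L v := by
    intro v
    unfold lc
    rw [zero_add]
    conv_rhs => rw [← b.sum_repr v]
    rw [map_sum]
    refine Finset.sum_congr rfl fun t _ => ?_
    rw [map_smul]
    exact (Algebra.smul_def _ _).symm
  refine ⟨q, hq0, ?_⟩
  intro v hv
  have h3 := hq (fun t => b.repr v t) hv
  rw [hlc v] at h3
  exact h3

/-- the non-vanishing locus of a nonzero polynomial in the coordinates of a basis is generic -/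
theorem isGeneric_of_poly (k : Type u) [Field k] [Infinite k] (V : Type u) [AddCommGroup V]
    [Module k V] {m : ℕ} (b : Module.Basis (Fin m) k V) (q : MvPolynomial (Fin m) k)
    (hq0 : q ≠ 0) (S : Set V) (hS : ∀ v, eval (fun t => b.repr v t) q ≠ 0 → v ∈ S) :
    LefPen.IsGeneric k S := by
  refine ⟨fun v => eval (fun t => b.repr v t) q, isPolyFun_eval_repr k V b q, ?_, hS⟩
  obtain ⟨c, hc⟩ : ∃ c : Fin m → k, eval c q ≠ 0 := by
    by_contra hcon
    push Not at hcon
    exact hq0 (MvPolynomial.funext fun x => by rw [hcon x, map_zero])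
  refine ⟨b.equivFun.symm c, ?_⟩
  have h2 : (fun t => b.repr (b.equivFun.symm c) t) = c := by
    funext t
    have := congrFun (b.equivFun.apply_symm_apply c) t
    exact this
  change eval (fun t => b.repr (b.equivFun.symm c) t) q ≠ 0
  rw [h2]
  exact hc

end Groth.Agent.H36.LefGen
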