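import Mathlib
import Groth.Prelude.Def_LefPen
import Groth.Agent.H36.HypSmoothC
import Groth.Agent.H36.HypIdeal
import Groth.Agent.H36.LefGeneric
import Groth.Agent.H19.ComapAff

/-!
# Hypersurface sections of a smooth closed subscheme of projective space: the general section is
smooth of dimension one less (`LefPen.Transversal`)
-/

set_option autoImplicit false
set_option linter.unusedSectionVars false
set_option linter.unusedVariables false
set_option linter.style.haveILetI false

namespace Groth.Agent.H36.LefSec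

universe u

open AlgebraicGeometry CategoryTheory CategoryTheory.Limits HomogeneousLocalization
  Groth.Agent.H54.PL Groth.Agent.H36.BertiniProj

section alg

variable (k : Type u) [Field k] (r : ℕ)

local notation "𝒜" => CohB1.polyGrading r k
local notation "S" => MvPolynomial (Fin (r + 1)) k

/-- `G / T_j^d` in the coordinate ring of the chart `D₊(T_j)` -/
noncomputable def awayForm {d : ℕ} (H : LefPen.Form r k d) (j : Fin (r + 1)) :
    Away 𝒜 (MvPolynomial.X j : S) :=
  Away.mk 𝒜 (LefPen.X_mem r k j) d H.1 (by rw [smul_eq_mul, mul_one]; exact H.2)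

theorem val_awayForm {d : ℕ} (H : LefPen.Form r k d) (j : Fin (r + 1)) :
    (awayForm k r H j).val = Localization.mk H.1
      (⟨MvPolynomial.X j ^ d, ⟨d, rfl⟩⟩ : Submonoid.powers (MvPolynomial.X j : S)) :=
  Away.val_mk ..

theorem awayForm_add {d : ℕ} (H H' : LefPen.Form r k d) (j : Fin (r + 1)) :
    awayForm k r (H + H') j = awayForm k r H j + awayForm k r H' j := by
  apply val_injective
  rw [val_add, val_awayForm, val_awayForm, val_awayForm, Localization.add_mk_self]
  rfl

theorem awayForm_smul {d : ℕ} (c : k) (H : LefPen.Form r k d) (j : Fin (r + 1)) :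
    awayForm k r (c • H) j = cst k r _ c * awayForm k r H j := by
  apply val_injective
  rw [val_mul, val_awayForm, val_awayForm, val_cst, Localization.mk_mul, one_mul]
  congr 1
  exact MvPolynomial.smul_eq_C_mul _ _

theorem pow_mem (j : Fin (r + 1)) (d : ℕ) : (MvPolynomial.X j : S) ^ d ∈ 𝒜 d := by
  have := SetLike.pow_mem_graded d (LefPen.X_mem r k j)
  rwa [smul_eq_mul, mul_one] at this

theorem awayForm_pow (j : Fin (r + 1)) (d : ℕ) :
    awayForm k r (⟨MvPolynomial.X j ^ d, pow_mem k r j d⟩ : LefPen.Form r k d) j = 1 := by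
  apply val_injective
  rw [val_awayForm, val_one]
  exact Localization.mk_self (⟨MvPolynomial.X j ^ d, ⟨d, rfl⟩⟩ :
    Submonoid.powers (MvPolynomial.X j : S))

theorem mul_pow_mem (j l : Fin (r + 1)) (d : ℕ) (hd : 1 ≤ d) :
    (MvPolynomial.X l : S) * MvPolynomial.X j ^ (d - 1) ∈ 𝒜 d := by
  have := SetLike.mul_mem_graded (LefPen.X_mem r k l) (pow_mem k r j (d - 1))
  rwa [Nat.add_sub_cancel' hd] at this

theorem awayForm_mul_pow (j l : Fin (r + 1)) (d : ℕ) (hd : 1 ≤ d) :
    awayForm k r (⟨MvPolynomial.X l * MvPolynomial.X j ^ (d - 1), mul_pow_mem k r j l d hd⟩ :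
      LefPen.Form r k d) j = xc k r j l := by
  apply val_injective
  rw [val_awayForm, val_xc, Localization.mk_eq_mk_iff, Localization.r_iff_exists]
  refine ⟨1, ?_⟩
  simp only [OneMemClass.coe_one, one_mul]
  obtain ⟨e, rfl⟩ : ∃ e, d = e + 1 := ⟨d - 1, (Nat.sub_add_cancel hd).symm⟩
  simp only [Nat.add_sub_cancel]
  ring

end alg


section scheme

variable (k : Type u) [Field k] (r : ℕ) {X : Scheme.{u}}
  (ι : X ⟶ Proj (CohB1.polyGrading r k))

local notation "𝒜" => CohB1.polyGrading r k
local notation "S" => MvPolynomial (Fin (r + 1)) k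

/-- the `k`-algebra structure on the sections of `X` over the preimage of a standard chart -/
@[instance_reducible]
noncomputable def chartAlg (j : Fin (r + 1)) :
    Algebra k Γ(X, ι ⁻¹ᵁ Proj.basicOpen 𝒜 (MvPolynomial.X j : S)) :=
  ((chartHom k r ι j).comp (cst k r _)).toAlgebra

attribute [local instance] chartAlg

theorem algebraMap_chart (j : Fin (r + 1)) (c : k) :
    algebraMap k Γ(X, ι ⁻¹ᵁ Proj.basicOpen 𝒜 (MvPolynomial.X j : S)) c =
      chartHom k r ι j (cst k r _ c) := rfl

/-- the linear map `G ↦ (G / T_j^d)|_X` -/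
noncomputable def Lmap (d : ℕ) (j : Fin (r + 1)) :
    LefPen.Form r k d →ₗ[k] Γ(X, ι ⁻¹ᵁ Proj.basicOpen 𝒜 (MvPolynomial.X j : S)) where
  toFun H := chartHom k r ι j (awayForm k r H j)
  map_add' H H' := by rw [awayForm_add, map_add]
  map_smul' c H := by
    rw [awayForm_smul, map_mul, RingHom.id_apply, Algebra.smul_def, algebraMap_chart]

theorem Lmap_apply (d : ℕ) (j : Fin (r + 1)) (H : LefPen.Form r k d) :
    Lmap k r ι d j H = chartHom k r ι j (awayForm k r H j) := rfl

theorem one_mem_range_Lmap (d : ℕ) (j : Fin (r + 1)) :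
    (1 : Γ(X, ι ⁻¹ᵁ Proj.basicOpen 𝒜 (MvPolynomial.X j : S))) ∈
      LinearMap.range (Lmap k r ι d j) :=
  ⟨⟨MvPolynomial.X j ^ d, pow_mem k r j d⟩, by rw [Lmap_apply, awayForm_pow, map_one]⟩

theorem coord_mem_range_Lmap (d : ℕ) (hd : 1 ≤ d) (j l : Fin (r + 1)) :
    chartHom k r ι j (xc k r j l) ∈ LinearMap.range (Lmap k r ι d j) :=
  ⟨⟨MvPolynomial.X l * MvPolynomial.X j ^ (d - 1), mul_pow_mem k r j l d hd⟩, by
    rw [Lmap_apply, awayForm_mul_pow k r j l d hd]⟩

/-- the sections of `X` over the preimage of a chart are locally standard smooth over `k` of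
relative dimension `n` -/
theorem locally_chart [IsClosedImmersion ι] (n : ℕ)
    [SmoothOfRelativeDimension n (ι ≫ CohB1.ProjSpace.toSpec r k)] (j : Fin (r + 1)) :
    RingHom.Locally (RingHom.IsStandardSmoothOfRelativeDimension n)
      (algebraMap k Γ(X, ι ⁻¹ᵁ Proj.basicOpen 𝒜 (MvPolynomial.X j : S))) := by
  have h1 : RingHom.Locally (RingHom.IsStandardSmoothOfRelativeDimension n)
      ((ι ≫ CohB1.ProjSpace.toSpec r k).appLE ⊤
        (ι ⁻¹ᵁ Proj.basicOpen 𝒜 (MvPolynomial.X j : S)) le_top).hom :=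
    HasRingHomProperty.appLE (P := @SmoothOfRelativeDimension n)
      (ι ≫ CohB1.ProjSpace.toSpec r k) inferInstance
      ⟨⊤, isAffineOpen_top _⟩ ⟨_, isAffineOpen_chart k r ι j⟩ le_top
  have h2 : algebraMap k Γ(X, ι ⁻¹ᵁ Proj.basicOpen 𝒜 (MvPolynomial.X j : S)) =
      (((ι ≫ CohB1.ProjSpace.toSpec r k).appLE ⊤
      (ι ⁻¹ᵁ Proj.basicOpen 𝒜 (MvPolynomial.X j : S)) le_top).hom).comp
        (Scheme.ΓSpecIso (CommRingCat.of k)).inv.hom := by
    ext c
    rw [RingHom.comp_apply, Groth.Agent.H36.HypSmooth.appLE_chart_X,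
      ← CommRingCat.comp_apply, Iso.inv_hom_id]
    rfl
  rw [h2]
  have hresp := RingHom.locally_respectsIso
    (RingHom.isStandardSmoothOfRelativeDimension_respectsIso (n := n))
  exact hresp.right _ (Scheme.ΓSpecIso (CommRingCat.of k)).symm.commRingCatIsoToRingEquiv h1

end scheme

end Groth.Agent.H36.LefSec
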