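import Mathlib
import Groth.Agent.H36.LefSection

/-!
# The general hypersurface section of a smooth closed subscheme of projective space is transversal
-/

set_option autoImplicit false
set_option linter.unusedSectionVars false
set_option linter.unusedVariables false
set_option linter.style.haveILetI false

namespace Groth.Agent.H36.LefSec

universe u

open AlgebraicGeometry CategoryTheory CategoryTheory.Limits HomogeneousLocalization
  Groth.Agent.H54.PL Groth.Agent.H36.BertiniProj

section sec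

variable (k : Type u) [Field k] (r : ℕ) {X : Scheme.{u}}
  (ι : X ⟶ Proj (CohB1.polyGrading r k)) [IsClosedImmersion ι]

local notation "𝒜" => CohB1.polyGrading r k
local notation "S" => MvPolynomial (Fin (r + 1)) k

attribute [local instance] chartAlg

theorem locally_comp_of_surjective {k A C : Type u} [CommRing k] [CommRing A] [CommRing C]
    [Algebra k A] (π : A →+* C) (hπ : Function.Surjective π) (J : Ideal A)
    (hJ : RingHom.ker π = J) (m : ℕ)
    (h : RingHom.Locally (RingHom.IsStandardSmoothOfRelativeDimension m)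
      (algebraMap k (A ⧸ J))) :
    RingHom.Locally (RingHom.IsStandardSmoothOfRelativeDimension m)
      (π.comp (algebraMap k A)) := by
  subst hJ
  let e := RingHom.quotientKerEquivOfSurjective hπ
  have h1 : π.comp (algebraMap k A) = e.toRingHom.comp (algebraMap k (A ⧸ RingHom.ker π)) := by
    ext r
    rfl
  rw [h1]
  exact (RingHom.locally_respectsIso
    (RingHom.isStandardSmoothOfRelativeDimension_respectsIso (n := m))).left _ e h

/-- the ideal of the section by the hypersurface `V(H)` on the preimage of a chart -/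
theorem secIdeal_ideal_chart {d : ℕ} (H : LefPen.Form r k d) (j : Fin (r + 1)) :
    (LefPen.secIdeal (r := r) (k := k) ι ({H} : Set (LefPen.Form r k d))).ideal
      ⟨ι ⁻¹ᵁ Proj.basicOpen 𝒜 (MvPolynomial.X j : S), isAffineOpen_chart k r ι j⟩ =
      Ideal.span {Lmap k r ι d j H} := by
  unfold LefPen.secIdeal
  rw [iSup_singleton]
  have h1 := Groth.Agent.H19.ComapAff.ideal_comap_appLE
    (show X ⟶ CohB1.ProjSpace r k from ι) (LefPen.hypIdeal H)
    ⟨LefPen.chart r k j, Groth.Agent.H36.HypId.isAffineOpen_chart r k j⟩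
    ⟨_, isAffineOpen_chart k r ι j⟩ le_rfl
  refine h1.trans ?_
  rw [Groth.Agent.H36.HypId.hypIdeal_ideal_chart, Ideal.map_span, Set.image_singleton]
  change Ideal.span {((ι.appLE (Proj.basicOpen 𝒜 (MvPolynomial.X j : S))
    (ι ⁻¹ᵁ Proj.basicOpen 𝒜 (MvPolynomial.X j : S)) le_rfl).hom (LefPen.dehom H j))} = _
  rw [← Scheme.Hom.app_eq_appLE]
  rfl


/-- the section by `V(H)` is smooth of relative dimension `n - 1` once its standard charts are -/
theorem relDim_sec (m : ℕ) {d : ℕ} (H : LefPen.Form r k d)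
    (hsm : ∀ j : Fin (r + 1),
      RingHom.Locally (RingHom.IsStandardSmoothOfRelativeDimension m)
        (algebraMap k (Γ(X, ι ⁻¹ᵁ Proj.basicOpen 𝒜 (MvPolynomial.X j : S)) ⧸
          Ideal.span {Lmap k r ι d j H}))) :
    SmoothOfRelativeDimension m
      (LefPen.secToSpec (r := r) (k := k) ι ({H} : Set (LefPen.Form r k d))) := by
  set Z : X.IdealSheafData :=
    LefPen.secIdeal (r := r) (k := k) ι ({H} : Set (LefPen.Form r k d)) with hZ
  change SmoothOfRelativeDimension m (Z.subschemeι ≫ ι ≫ CohB1.ProjSpace.toSpec r k)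
  have hWaff : ∀ j : Fin (r + 1), IsAffineOpen (Z.subschemeι ⁻¹ᵁ
      ι ⁻¹ᵁ Proj.basicOpen 𝒜 (MvPolynomial.X j : S)) :=
    fun j => (isAffineOpen_chart k r ι j).preimage _
  have hcov : ⨆ j : Fin (r + 1), (Z.subschemeι ⁻¹ᵁ
      ι ⁻¹ᵁ Proj.basicOpen 𝒜 (MvPolynomial.X j : S)) = ⊤ := by
    rw [eq_top_iff]
    intro w _
    obtain ⟨j, hj⟩ := exists_X_notMem k r (show ProjectiveSpectrum 𝒜 from
      ι.base (Z.subschemeι.base w))
    exact TopologicalSpace.Opens.mem_iSup.mpr ⟨j, hj⟩
  refine HasRingHomProperty.of_iSup_eq_top (P := @SmoothOfRelativeDimension m)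
    (fun j : Fin (r + 1) => (⟨_, hWaff j⟩ : Z.subscheme.affineOpens)) hcov (fun j => ?_)
  have hφ : ((Z.subschemeι ≫ ι ≫ CohB1.ProjSpace.toSpec r k).appLE ⊤
      (Z.subschemeι ⁻¹ᵁ ι ⁻¹ᵁ Proj.basicOpen 𝒜 (MvPolynomial.X j : S)) le_top).hom =
      (((Z.subschemeι.app (ι ⁻¹ᵁ Proj.basicOpen 𝒜 (MvPolynomial.X j : S))).hom).comp
        (algebraMap k Γ(X, ι ⁻¹ᵁ Proj.basicOpen 𝒜 (MvPolynomial.X j : S)))).comp
        (Scheme.ΓSpecIso (CommRingCat.of k)).hom.hom := by
    ext t
    have e1 := Scheme.Hom.appLE_comp_appLE Z.subschemeι (ι ≫ CohB1.ProjSpace.toSpec r k) ⊤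
      (ι ⁻¹ᵁ Proj.basicOpen 𝒜 (MvPolynomial.X j : S))
      (Z.subschemeι ⁻¹ᵁ ι ⁻¹ᵁ Proj.basicOpen 𝒜 (MvPolynomial.X j : S)) le_top le_rfl
    rw [← Scheme.Hom.app_eq_appLE] at e1
    rw [← e1]
    simp only [CommRingCat.hom_comp, RingHom.comp_apply]
    rw [Groth.Agent.H36.HypSmooth.appLE_chart_X]
    rfl
  change RingHom.Locally (RingHom.IsStandardSmoothOfRelativeDimension m)
    ((Z.subschemeι ≫ ι ≫ CohB1.ProjSpace.toSpec r k).appLE ⊤
      (Z.subschemeι ⁻¹ᵁ ι ⁻¹ᵁ Proj.basicOpen 𝒜 (MvPolynomial.X j : S)) le_top).hom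
  rw [hφ]
  have hresp := RingHom.locally_respectsIso
    (RingHom.isStandardSmoothOfRelativeDimension_respectsIso (n := m))
  refine hresp.right _ (Scheme.ΓSpecIso (CommRingCat.of k)).commRingCatIsoToRingEquiv ?_
  exact locally_comp_of_surjective _
    (Z.subschemeι.app_surjective _ (isAffineOpen_chart k r ι j)) _
    ((Z.ker_subschemeι_app ⟨_, isAffineOpen_chart k r ι j⟩).trans
      (secIdeal_ideal_chart k r ι H j)) m (hsm j)


instance finite_form (d : ℕ) : Module.Finite k (LefPen.Form r k d) :=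
  Module.Finite.iff_fg.mpr (MvPolynomial.homogeneousSubmodule_fg (Fin (r + 1)) k d)

/-- **the general hypersurface section of degree `d ≥ 1` of a smooth closed subscheme of
projective space of dimension `n ≥ 1` is transversal** -/
theorem isGeneric_transversal [IsAlgClosed k] (n : ℕ) (hn : 1 ≤ n)
    [SmoothOfRelativeDimension n (ι ≫ CohB1.ProjSpace.toSpec r k)] (d : ℕ) (hd : 1 ≤ d) :
    LefPen.IsGeneric k {H : LefPen.Form r k d |
      LefPen.Transversal k n 1
        (LefPen.secToSpec (r := r) (k := k) ι ({H} : Set (LefPen.Form r k d)))} := by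
  classical
  have hstep : ∀ j : Fin (r + 1), ∃ q : MvPolynomial
      (Fin (Module.finrank k (LefPen.Form r k d))) k, q ≠ 0 ∧
      ∀ H : LefPen.Form r k d,
        MvPolynomial.eval (fun t => (Module.finBasis k (LefPen.Form r k d)).repr H t) q ≠ 0 →
        RingHom.Locally (RingHom.IsStandardSmoothOfRelativeDimension (n - 1))
          (algebraMap k (Γ(X, ι ⁻¹ᵁ Proj.basicOpen 𝒜 (MvPolynomial.X j : S)) ⧸
            Ideal.span {Lmap k r ι d j H})) := by
    intro j
    exact Groth.Agent.H36.LefGen.generic_linear_section_poly k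
      Γ(X, ι ⁻¹ᵁ Proj.basicOpen 𝒜 (MvPolynomial.X j : S)) n (locally_chart k r ι n j)
      (fun l : Fin r => chartHom k r ι j (xc k r j (j.succAbove l)))
      (aeval_chart_surjective k r ι j) (LefPen.Form r k d) (Lmap k r ι d j)
      (one_mem_range_Lmap k r ι d j)
      (fun l => coord_mem_range_Lmap k r ι d hd j (j.succAbove l))
  choose q hq0 hq using hstep
  refine Groth.Agent.H36.LefGen.isGeneric_of_poly k (LefPen.Form r k d)
    (Module.finBasis k (LefPen.Form r k d)) (∏ j, q j)
    (Finset.prod_ne_zero_iff.mpr fun j _ => hq0 j) _ ?_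
  intro H hH
  rw [map_prod] at hH
  have hHj : ∀ j, MvPolynomial.eval
      (fun t => (Module.finBasis k (LefPen.Form r k d)).repr H t) (q j) ≠ 0 :=
    fun j => Finset.prod_ne_zero_iff.mp hH j (Finset.mem_univ j)
  exact Or.inl ⟨hn, relDim_sec k r ι (n - 1) H (fun j => hq j H (hHj j))⟩

end sec

end Groth.Agent.H36.LefSec
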