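import Mathlib

/-!
# Logarithmic differentials and units of a discrete valuation ring

* `dlog k x = x⁻¹ • D x` in `Ω[K⁄k]` and its calculus;
* `exists_unit_of_dlog_eq_map`: let `V` be a discrete valuation ring, formally smooth and
  essentially of finite type over a field `k` of characteristic zero, with fraction field `K`.
  If the logarithmic differential of `h ∈ Kˣ` comes from `Ω[V⁄k]`, then `h` is a unit of `V`.
-/

set_option autoImplicit false
universe u

namespace Groth.Agent.H36.LogDiff

open KaehlerDifferential TensorProduct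

section dlog

variable (k : Type*) {K : Type*} [CommRing k] [Field K] [Algebra k K]

/-- The logarithmic differential `x⁻¹ dx`. -/
noncomputable def dlog (x : K) : Ω[K⁄k] := x⁻¹ • D k K x

theorem dlog_one : dlog k (1 : K) = 0 := by
  unfold dlog
  rw [Derivation.map_one_eq_zero, smul_zero]

theorem dlog_mul {x y : K} (hx : x ≠ 0) (hy : y ≠ 0) :
    dlog k (x * y) = dlog k x + dlog k y := by
  unfold dlog
  rw [Derivation.leibniz, smul_add, smul_smul, smul_smul, add_comm]
  congr 2
  · field_simp
  · field_simp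

theorem dlog_inv {x : K} (hx : x ≠ 0) : dlog k x⁻¹ = - dlog k x := by
  have h := dlog_mul k hx (inv_ne_zero hx)
  rw [mul_inv_cancel₀ hx, dlog_one] at h
  exact (neg_eq_of_add_eq_zero_right h.symm).symm

theorem dlog_pow {x : K} (hx : x ≠ 0) (n : ℕ) : dlog k (x ^ n) = n • dlog k x := by
  induction n with
  | zero => simp [dlog_one]
  | succ n ih =>
    rw [pow_succ, dlog_mul k (pow_ne_zero n hx) hx, ih, succ_nsmul]

theorem dlog_zpow {x : K} (hx : x ≠ 0) (n : ℤ) : dlog k (x ^ n) = n • dlog k x := by
  cases n with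
  | ofNat n => simpa using dlog_pow k hx n
  | negSucc n =>
    rw [zpow_negSucc, dlog_inv k (pow_ne_zero _ hx), dlog_pow k hx, negSucc_zsmul]

theorem dlog_prod {ι : Type*} (s : Finset ι) (x : ι → K) (hx : ∀ i ∈ s, x i ≠ 0) :
    dlog k (∏ i ∈ s, x i) = ∑ i ∈ s, dlog k (x i) := by
  classical
  induction s using Finset.induction_on with
  | empty => simp [dlog_one]
  | insert a s ha ih =>
    rw [Finset.prod_insert ha, Finset.sum_insert ha,
      dlog_mul k (hx a (Finset.mem_insert_self _ _))
        (Finset.prod_ne_zero_iff.mpr fun i hi => hx i (Finset.mem_insert_of_mem hi)),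
      ih fun i hi => hx i (Finset.mem_insert_of_mem hi)]

theorem smul_dlog {x : K} (hx : x ≠ 0) : x • dlog k x = D k K x := by
  unfold dlog
  rw [smul_smul, mul_inv_cancel₀ hx, one_smul]

end dlog

section dvr

variable {k V K : Type u} [Field k] [CharZero k] [CommRing V] [IsDomain V]
  [IsDiscreteValuationRing V] [Algebra k V] [Algebra.FormallySmooth k V]
  [Algebra.EssFiniteType k V]
  [Field K] [Algebra V K] [IsFractionRing V K] [Algebra k K] [IsScalarTower k V K]

omit [CharZero k] [IsDomain V] [IsDiscreteValuationRing V] [Algebra.EssFiniteType k V] in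
/-- For a formally smooth domain the differentials inject into those of the fraction field. -/
theorem map_injective_of_formallySmooth :
    Function.Injective (KaehlerDifferential.map k k V K) := by
  rw [injective_iff_map_eq_zero]
  intro x hx
  have hloc : IsLocalizedModule (nonZeroDivisors V) (KaehlerDifferential.map k k V K) :=
    inferInstance
  obtain ⟨s, hs⟩ := (IsLocalizedModule.eq_zero_iff (nonZeroDivisors V)
    (KaehlerDifferential.map k k V K)).mp hx
  have hreg : IsSMulRegular Ω[V⁄k] (s : V) :=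
    Module.Flat.isSMulRegular_of_nonZeroDivisors s.2
  apply hreg
  change (s : V) • x = (s : V) • 0
  rw [smul_zero]
  exact hs

/-- A uniformizer has nonzero differential modulo the maximal ideal. -/
theorem not_exists_D_eq_smul {ϖ : V} (hϖ : Irreducible ϖ) :
    ¬ ∃ ω : Ω[V⁄k], D k V ϖ = ϖ • ω := by
  rintro ⟨ω, hω⟩
  have : Algebra.EssFiniteType k (IsLocalRing.ResidueField V) :=
    Algebra.EssFiniteType.comp k V (IsLocalRing.ResidueField V)
  have hfs : Algebra.FormallySmooth k (IsLocalRing.ResidueField V) := inferInstance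
  have hsurj : Function.Surjective (algebraMap V (IsLocalRing.ResidueField V)) :=
    IsLocalRing.residue_surjective
  obtain ⟨l, hl⟩ := (Algebra.FormallySmooth.iff_split_injection (R := k) (P := V)
    (A := IsLocalRing.ResidueField V) hsurj).mp hfs
  have hmem : ϖ ∈ RingHom.ker (algebraMap V (IsLocalRing.ResidueField V)) := by
    change ϖ ∈ RingHom.ker (IsLocalRing.residue V)
    rw [IsLocalRing.ker_residue, hϖ.maximalIdeal_eq]
    exact Ideal.mem_span_singleton_self ϖ
  have hker : RingHom.ker (algebraMap V (IsLocalRing.ResidueField V)) = Ideal.span {ϖ} := by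
    change RingHom.ker (IsLocalRing.residue V) = _
    rw [IsLocalRing.ker_residue, hϖ.maximalIdeal_eq]
  have h1 : kerCotangentToTensor k V (IsLocalRing.ResidueField V)
      ((RingHom.ker (algebraMap V (IsLocalRing.ResidueField V))).toCotangent ⟨ϖ, hmem⟩) = 0 := by
    rw [kerCotangentToTensor_toCotangent]
    change (1 : IsLocalRing.ResidueField V) ⊗ₜ[V] (D k V ϖ) = 0
    rw [hω, ← TensorProduct.smul_tmul, Algebra.smul_def, mul_one]
    have : algebraMap V (IsLocalRing.ResidueField V) ϖ = 0 := hmem
    rw [this, TensorProduct.zero_tmul]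
  have h2 : (RingHom.ker (algebraMap V (IsLocalRing.ResidueField V))).toCotangent ⟨ϖ, hmem⟩
      = 0 := by
    have := congrArg l h1
    rw [map_zero] at this
    have h3 := LinearMap.congr_fun hl
      ((RingHom.ker (algebraMap V (IsLocalRing.ResidueField V))).toCotangent ⟨ϖ, hmem⟩)
    rw [LinearMap.comp_apply, this] at h3
    exact h3.symm
  rw [Ideal.toCotangent_eq_zero] at h2
  have h2' : ϖ ∈ RingHom.ker (algebraMap V (IsLocalRing.ResidueField V)) ^ 2 := h2
  rw [hker, Ideal.span_singleton_pow, Ideal.mem_span_singleton] at h2'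
  obtain ⟨c, hc⟩ := h2'
  change ϖ = ϖ ^ 2 * c at hc
  have hϖ0 : ϖ ≠ 0 := hϖ.ne_zero
  have : ϖ * 1 = ϖ * (ϖ * c) := by rw [mul_one]; nth_rewrite 1 [hc]; ring
  have h4 := mul_left_cancel₀ hϖ0 this
  exact hϖ.not_isUnit (IsUnit.of_mul_eq_one c h4.symm)

/-- **Key lemma.** If the logarithmic differential of `h ∈ Kˣ` comes from `Ω[V⁄k]`, then `h` is
a unit of the discrete valuation ring `V`. -/
theorem exists_unit_of_dlog_eq_map (h : K) (hh : h ≠ 0) (ω : Ω[V⁄k])
    (H : dlog k h = KaehlerDifferential.map k k V K ω) : ∃ u : Vˣ, algebraMap V K u = h := by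
  obtain ⟨ϖ, hϖ⟩ := IsDiscreteValuationRing.exists_irreducible V
  obtain ⟨n, u, hu⟩ := IsDiscreteValuationRing.exists_units_eq_smul_zpow_of_irreducible
    (K := K) hϖ hh
  have hϖK : algebraMap V K ϖ ≠ 0 := by
    simpa using hϖ.ne_zero
  have huK : algebraMap V K (u : V) ≠ 0 := by
    simpa using u.ne_zero
  have hh' : h = algebraMap V K (u : V) * algebraMap V K ϖ ^ n := by
    rw [hu, Units.smul_def, Algebra.smul_def]
  suffices hn : n = 0 by
    refine ⟨u, ?_⟩
    rw [hh', hn, zpow_zero, mul_one]
  by_contra hn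
  apply not_exists_D_eq_smul (k := k) hϖ
  -- dlog of the unit part comes from `Ω[V⁄k]`
  have hdu : dlog k (algebraMap V K (u : V)) =
      KaehlerDifferential.map k k V K (((u⁻¹ : Vˣ) : V) • D k V (u : V)) := by
    unfold dlog
    rw [map_smul, KaehlerDifferential.map_D, ← algebraMap_smul K ((u⁻¹ : Vˣ) : V), map_units_inv]
  have hdlog : dlog k h = dlog k (algebraMap V K (u : V)) + n • dlog k (algebraMap V K ϖ) := by
    rw [hh', dlog_mul k huK (zpow_ne_zero n hϖK), dlog_zpow k hϖK]
  set ω₁ : Ω[V⁄k] := ω - ((u⁻¹ : Vˣ) : V) • D k V (u : V) with hω₁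
  have h1 : n • dlog k (algebraMap V K ϖ) = KaehlerDifferential.map k k V K ω₁ := by
    rw [hω₁, map_sub, ← H, ← hdu, hdlog]
    abel
  have h2 : KaehlerDifferential.map k k V K (n • D k V ϖ) =
      KaehlerDifferential.map k k V K (ϖ • ω₁) := by
    rw [map_zsmul, KaehlerDifferential.map_D, ← smul_dlog k hϖK, map_smul,
      ← algebraMap_smul K ϖ, ← h1, smul_comm]
  have h3 : n • D k V ϖ = ϖ • ω₁ := map_injective_of_formallySmooth (k := k) (K := K) h2
  have hnk : (n : k) ≠ 0 := Int.cast_ne_zero.mpr hn
  refine ⟨(n : k)⁻¹ • ω₁, ?_⟩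
  rw [smul_comm, ← h3, ← Int.cast_smul_eq_zsmul k n, smul_smul, inv_mul_cancel₀ hnk, one_smul]

end dvr

end Groth.Agent.H36.LogDiff
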