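import Mathlib

namespace Groth.Agent.H36.NormalSurf

universe u

variable {R : Type u} [CommRing R]

/-- `DZ Q x`: the element `x` vanishes to order at least two along the prime `Q`
(membership in the symbolic square). -/
def DZ (Q : Ideal R) (x : R) : Prop := ∃ w, w ∉ Q ∧ w * x ∈ Q ^ 2

theorem DZ.mem {Q : Ideal R} (hQ : Q.IsPrime) {x : R} (h : DZ Q x) : x ∈ Q := by
  obtain ⟨w, hw, hwx⟩ := h
  have : w * x ∈ Q := Ideal.pow_le_self (by norm_num) hwx
  exact (hQ.mem_or_mem this).resolve_left hw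

theorem DZ.add {Q : Ideal R} (hQ : Q.IsPrime) {x y : R} (hx : DZ Q x) (hy : DZ Q y) :
    DZ Q (x + y) := by
  obtain ⟨w, hw, hwx⟩ := hx
  obtain ⟨v, hv, hvy⟩ := hy
  refine ⟨w * v, fun h => (hQ.mem_or_mem h).elim hw hv, ?_⟩
  have : w * v * (x + y) = v * (w * x) + w * (v * y) := by ring
  rw [this]
  exact Ideal.add_mem _ (Ideal.mul_mem_left _ _ hwx) (Ideal.mul_mem_left _ _ hvy)

theorem DZ.mul_left {Q : Ideal R} {x : R} (r : R) (hx : DZ Q x) : DZ Q (r * x) := by
  obtain ⟨w, hw, hwx⟩ := hx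
  refine ⟨w, hw, ?_⟩
  have : w * (r * x) = r * (w * x) := by ring
  rw [this]
  exact Ideal.mul_mem_left _ _ hwx

theorem DZ.mul_right {Q : Ideal R} {x : R} (r : R) (hx : DZ Q x) : DZ Q (x * r) := by
  rw [mul_comm]; exact hx.mul_left r

theorem DZ.neg {Q : Ideal R} {x : R} (hx : DZ Q x) : DZ Q (-x) := by
  have := hx.mul_left (-1)
  simpa using this

theorem DZ.of_mem_sq {Q : Ideal R} (hQ : Q.IsPrime) {x : R} (hx : x ∈ Q ^ 2) : DZ Q x :=
  ⟨1, fun h => hQ.ne_top ((Ideal.eq_top_iff_one _).mpr h), by simpa using hx⟩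

theorem DZ.zero {Q : Ideal R} (hQ : Q.IsPrime) : DZ Q (0 : R) :=
  DZ.of_mem_sq hQ (Ideal.zero_mem _)

theorem DZ.sum {Q : Ideal R} (hQ : Q.IsPrime) {ι : Type*} (s : Finset ι) (g : ι → R)
    (h : ∀ i ∈ s, DZ Q (g i)) : DZ Q (∑ i ∈ s, g i) := by
  classical
  induction s using Finset.induction_on with
  | empty => simpa using DZ.zero hQ
  | insert a s ha ih =>
    rw [Finset.sum_insert ha]
    exact DZ.add hQ (h a (Finset.mem_insert_self _ _))
      (ih fun i hi => h i (Finset.mem_insert_of_mem hi))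

theorem not_DZ_mul {Q : Ideal R} (hQ : Q.IsPrime) {b t : R} (hb : ¬ DZ Q b) (ht : t ∉ Q) :
    ¬ DZ Q (b * t) := by
  rintro ⟨w, hw, hwx⟩
  apply hb
  refine ⟨w * t, fun h => (hQ.mem_or_mem h).elim hw ht, ?_⟩
  have : w * t * b = w * (b * t) := by ring
  rw [this]; exact hwx

theorem not_DZ_add {Q : Ideal R} (hQ : Q.IsPrime) {x y : R} (hx : ¬ DZ Q x) (hy : DZ Q y) :
    ¬ DZ Q (x + y) := by
  intro h
  apply hx
  have := DZ.add hQ h hy.neg
  simpa using this

theorem not_DZ_add' {Q : Ideal R} (hQ : Q.IsPrime) {x y : R} (hx : DZ Q x) (hy : ¬ DZ Q y) :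
    ¬ DZ Q (x + y) := by
  rw [add_comm]; exact not_DZ_add hQ hy hx

/-- `DZ` in terms of the localization. -/
theorem DZ_iff_map (Q : Ideal R) [Q.IsPrime] (x : R) :
    DZ Q x ↔ algebraMap R (Localization.AtPrime Q) x ∈
      (Q ^ 2).map (algebraMap R (Localization.AtPrime Q)) := by
  rw [IsLocalization.algebraMap_mem_map_algebraMap_iff Q.primeCompl]
  constructor
  · rintro ⟨w, hw, h⟩; exact ⟨w, hw, h⟩
  · rintro ⟨w, hw, h⟩; exact ⟨w, hw, h⟩

theorem exists_not_DZ [IsDomain R] [IsNoetherianRing R] {Q : Ideal R} (hQ : Q.IsPrime)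
    (h0 : Q ≠ ⊥) : ∃ x ∈ Q, ¬ DZ Q x := by
  have := hQ
  by_contra hcon
  push Not at hcon
  apply h0
  set S := Localization.AtPrime Q
  have hle : Q.map (algebraMap R S) ≤ (Q ^ 2).map (algebraMap R S) := by
    rw [Ideal.map_le_iff_le_comap]
    intro x hx
    rw [Ideal.mem_comap]
    exact (DZ_iff_map Q x).mp (hcon x hx)
  have hbot : Q.map (algebraMap R S) = ⊥ := by
    apply Submodule.eq_bot_of_le_smul_of_le_jacobson_bot (Q.map (algebraMap R S))
      (Q.map (algebraMap R S)) (IsNoetherian.noetherian _)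
    · rw [Ideal.map_pow, pow_two] at hle
      exact hle
    · rw [IsLocalRing.jacobson_eq_maximalIdeal _ bot_ne_top,
        Localization.AtPrime.map_eq_maximalIdeal]
  rw [eq_bot_iff]
  intro x hx
  have : algebraMap R S x ∈ Q.map (algebraMap R S) := Ideal.mem_map_of_mem _ hx
  rw [hbot, Ideal.mem_bot] at this
  rw [Ideal.mem_bot]
  exact (IsLocalization.injective S Q.primeCompl_le_nonZeroDivisors) (by simpa using this)

section normal

variable [IsDomain R] [IsNoetherianRing R] [IsIntegrallyClosed R]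

/-- the localization of a normal Noetherian domain at a prime of height at most one has
principal maximal ideal. -/
theorem maximalIdeal_isPrincipal_of_height_le_one (p : Ideal R) [p.IsPrime]
    (hp : p.height ≤ 1) :
    (IsLocalRing.maximalIdeal (Localization.AtPrime p)).IsPrincipal := by
  have : IsIntegrallyClosed (Localization.AtPrime p) :=
    isIntegrallyClosed_of_isLocalization (Localization.AtPrime p) p.primeCompl
      p.primeCompl_le_nonZeroDivisors
  have htfae := (tfae_of_isNoetherianRing_of_isLocalRing_of_isDomain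
    (Localization.AtPrime p)).out 4 3
  rw [htfae]
  refine ⟨inferInstance, ?_⟩
  intro P hP0 hPprime
  obtain ⟨q, hq⟩ : ∃ q, q = P.comap (algebraMap R (Localization.AtPrime p)) := ⟨_, rfl⟩
  have hqprime : q.IsPrime := hq ▸ Ideal.comap_isPrime _ _
  have hPq : P = q.map (algebraMap R (Localization.AtPrime p)) := by
    rw [hq]
    exact (IsLocalization.map_under p.primeCompl (S := Localization.AtPrime p) P).symm
  have hqp : q ≤ p := by
    intro x hx
    by_contra hxp
    have hu : IsUnit (algebraMap R (Localization.AtPrime p) x) :=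
      IsLocalization.map_units (Localization.AtPrime p) (⟨x, hxp⟩ : p.primeCompl)
    rw [hq] at hx
    exact hPprime.ne_top (Ideal.eq_top_of_isUnit_mem _ hx hu)
  have hq0 : q ≠ ⊥ := by
    intro h0
    apply hP0
    rw [hPq, h0, Ideal.map_bot]
  have hqeq : q = p := by
    by_contra hne
    have hlt : q < p := lt_of_le_of_ne hqp hne
    have h1 : q.height + 1 ≤ p.height := Ideal.height_add_one_le_of_lt_of_isPrime hlt
    have h2 : 1 ≤ q.height := by
      rw [Order.one_le_iff_ne_zero, Ne, Ideal.height_eq_zero_iff_eq_bot]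
      exact hq0
    have h3 : (1 : ℕ∞) + 1 ≤ 1 := le_trans (le_trans (add_le_add_left h2 1) h1) hp
    norm_num at h3
  rw [hPq, hqeq]
  exact Localization.AtPrime.map_eq_maximalIdeal

/-- If `f` has a simple zero along the height one prime `P`, then `f` generates `P` at `P`. -/
theorem exists_mul_mem_span_of_not_DZ {P : Ideal R} (hP : P.IsPrime) (hht : P.height ≤ 1)
    {f : R} (hfP : f ∈ P) (hf : ¬ DZ P f) {x : R} (hx : x ∈ P) :
    ∃ w, w ∉ P ∧ w * x ∈ Ideal.span {f} := by
  have := hP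
  set S := Localization.AtPrime P
  have hprin := maximalIdeal_isPrincipal_of_height_le_one P hht
  obtain ⟨ϖ, hϖ⟩ := hprin.principal
  have hmapP : P.map (algebraMap R S) = IsLocalRing.maximalIdeal S :=
    Localization.AtPrime.map_eq_maximalIdeal
  have hfm : algebraMap R S f ∈ IsLocalRing.maximalIdeal S := by
    rw [← hmapP]; exact Ideal.mem_map_of_mem _ hfP
  rw [hϖ] at hfm
  obtain ⟨u, hu⟩ := Submodule.mem_span_singleton.mp hfm
  -- `u • ϖ = f`
  have huunit : IsUnit u := by
    by_contra hnu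
    have hum : u ∈ IsLocalRing.maximalIdeal S := (IsLocalRing.mem_maximalIdeal u).mpr hnu
    apply hf
    rw [DZ_iff_map, Ideal.map_pow, hmapP, pow_two, ← hu, smul_eq_mul]
    refine Ideal.mul_mem_mul hum ?_
    rw [hϖ]; exact Submodule.mem_span_singleton_self ϖ
  have hxm : algebraMap R S x ∈ IsLocalRing.maximalIdeal S := by
    rw [← hmapP]; exact Ideal.mem_map_of_mem _ hx
  rw [hϖ] at hxm
  obtain ⟨v, hv⟩ := Submodule.mem_span_singleton.mp hxm
  have hxf : algebraMap R S x ∈ (Ideal.span {f}).map (algebraMap R S) := by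
    rw [Ideal.map_span, Set.image_singleton, Ideal.mem_span_singleton']
    obtain ⟨u', hu'⟩ := huunit.exists_left_inv
    refine ⟨v * u', ?_⟩
    rw [← hv, ← hu, smul_eq_mul, smul_eq_mul]
    calc v * u' * (u * ϖ) = v * (u' * u) * ϖ := by ring
      _ = v * ϖ := by rw [hu', mul_one]
  obtain ⟨w, hw, hwx⟩ :=
    (IsLocalization.algebraMap_mem_map_algebraMap_iff P.primeCompl S _ x).mp hxf
  exact ⟨w, hw, hwx⟩

/-- In a normal Noetherian domain: if `g ∉ (f)` with `f ≠ 0`, some multiple `g'` of `g` not in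
`(f)` has a prime conductor `((f) : g')` of height at most one. -/
theorem exists_prime_colon {f g : R} (hf : f ≠ 0) (hg : g ∉ Ideal.span {f}) :
    ∃ (P : Ideal R) (g' : R), P.IsPrime ∧ P.height ≤ 1 ∧ g ∣ g' ∧ g' ∉ Ideal.span {f} ∧
      ∀ x, x ∈ P ↔ x * g' ∈ Ideal.span {f} := by
  classical
  let col : R → Ideal R := fun h => (Ideal.span {f} : Ideal R).colon ({h} : Set R)
  have hcol : ∀ h x, x ∈ col h ↔ x * h ∈ Ideal.span {f} := by
    intro h x
    simp only [col]
    rw [Submodule.mem_colon_singleton, smul_eq_mul]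
  let 𝒮 : Set (Ideal R) := {J | ∃ r, g * r ∉ Ideal.span {f} ∧ J = col (g * r)}
  have hne : 𝒮.Nonempty := ⟨col (g * 1), 1, by simpa using hg, rfl⟩
  obtain ⟨P, ⟨r₀, hr₀, hPeq⟩, hmax⟩ : ∃ P : Ideal R, P ∈ 𝒮 ∧ ∀ I ∈ 𝒮, ¬ P < I :=
    (set_has_maximal_iff_noetherian (R := R) (M := R)).mpr inferInstance 𝒮 hne
  obtain ⟨g', hg'⟩ : ∃ g', g' = g * r₀ := ⟨_, rfl⟩
  rw [← hg'] at hr₀ hPeq
  have hPmem : ∀ x, x ∈ P ↔ x * g' ∈ Ideal.span {f} := by
    intro x; rw [hPeq]; exact hcol g' x
  have hPprime : P.IsPrime := by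
    refine ⟨?_, ?_⟩
    · intro htop
      have : (1 : R) ∈ P := by rw [htop]; trivial
      rw [hPmem, one_mul] at this
      exact hr₀ this
    · intro a b hab
      by_contra hcon
      push Not at hcon
      obtain ⟨ha, hb⟩ := hcon
      have hag : g * (r₀ * a) ∉ Ideal.span {f} := by
        intro h
        apply ha
        rw [hPmem, hg']
        have : a * (g * r₀) = g * (r₀ * a) := by ring
        rw [this]; exact h
      have hJ : col (g * (r₀ * a)) ∈ 𝒮 := ⟨r₀ * a, hag, rfl⟩
      have hle : P ≤ col (g * (r₀ * a)) := by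
        intro x hx
        rw [hcol]
        rw [hPmem, hg'] at hx
        have : x * (g * (r₀ * a)) = a * (x * (g * r₀)) := by ring
        rw [this]
        exact Ideal.mul_mem_left _ _ hx
      have hnlt := hmax _ hJ
      have heq : P = col (g * (r₀ * a)) := by
        by_contra hne'
        exact hnlt (lt_of_le_of_ne hle hne')
      apply hb
      rw [heq, hcol]
      rw [hPmem, hg'] at hab
      have : b * (g * (r₀ * a)) = a * b * (g * r₀) := by ring
      rw [this]; exact hab
  have hfP : f ∈ P := by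
    rw [hPmem]; exact Ideal.mul_mem_right _ _ (Ideal.mem_span_singleton_self f)
  have hg'0 : g' ≠ 0 := by
    intro h; apply hr₀; rw [h]; exact Ideal.zero_mem _
  refine ⟨P, g', hPprime, ?_, ⟨r₀, hg'⟩, hr₀, hPmem⟩
  -- the height bound
  have hρ : ∀ x ∈ P, ∃ ρ, x * g' = f * ρ := by
    intro x hx
    rw [hPmem, Ideal.mem_span_singleton'] at hx
    obtain ⟨ρ, hρ⟩ := hx
    exact ⟨ρ, by rw [← hρ]; ring⟩
  by_cases hcase : ∀ x ∈ P, ∃ ρ ∈ P, x * g' = f * ρ
  · -- integrality: contradiction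
    exfalso
    let K := FractionRing R
    let z : K := algebraMap R K g' / algebraMap R K f
    have hfK : algebraMap R K f ≠ 0 := by
      rw [Ne, FaithfulSMul.algebraMap_eq_zero_iff]; exact hf
    let N : Submodule R K := Submodule.map (Algebra.linearMap R K) P
    have hN0 : N ≠ ⊥ := by
      intro h
      have : Algebra.linearMap R K f ∈ N := Submodule.mem_map_of_mem hfP
      rw [h, Submodule.mem_bot] at this
      exact hfK this
    have hNfg : N.FG := Submodule.FG.map _ (IsNoetherian.noetherian P)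
    have hstab : ∀ n ∈ N, z • n ∈ N := by
      rintro n ⟨x, hx, rfl⟩
      obtain ⟨ρ, hρP, hρ⟩ := hcase x hx
      have : z • (Algebra.linearMap R K x) = Algebra.linearMap R K ρ := by
        simp only [z, Algebra.linearMap_apply, smul_eq_mul]
        rw [div_mul_eq_mul_div, div_eq_iff hfK, mul_comm (algebraMap R K g'), ← map_mul,
          ← map_mul, hρ, mul_comm]
      rw [this]
      exact Submodule.mem_map_of_mem hρP
    have hint : IsIntegral R z := isIntegral_of_smul_mem_submodule N hN0 hNfg z hstab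
    obtain ⟨r, hr⟩ := IsIntegrallyClosed.algebraMap_eq_of_integral hint
    apply hr₀
    rw [Ideal.mem_span_singleton']
    refine ⟨r, ?_⟩
    apply FaithfulSMul.algebraMap_injective R K
    rw [map_mul, hr]
    simp only [z]
    rw [div_mul_cancel₀ _ hfK]
  · push Not at hcase
    obtain ⟨x₀, hx₀, hx₀'⟩ := hcase
    obtain ⟨ρ₀, hρ₀⟩ := hρ x₀ hx₀
    have hρ₀P : ρ₀ ∉ P := fun h => hx₀' ρ₀ h hρ₀
    have hmin : P ∈ (Ideal.span {x₀} : Ideal R).minimalPrimes := by
      refine ⟨⟨hPprime, (Ideal.span_singleton_le_iff_mem _).mpr hx₀⟩, ?_⟩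
      rintro P' ⟨hP'prime, hP'le⟩ hP'P x hx
      obtain ⟨ρ, hρx⟩ := hρ x hx
      have hkey : ρ₀ * x = ρ * x₀ := by
        have h1 : (ρ₀ * x - ρ * x₀) * (g' * f) = 0 := by
          have : (ρ₀ * x - ρ * x₀) * (g' * f) = ρ₀ * f * (x * g') - ρ * f * (x₀ * g') := by ring
          rw [this, hρx, hρ₀]; ring
        rcases mul_eq_zero.mp h1 with h | h
        · exact sub_eq_zero.mp h
        · exact absurd h (mul_ne_zero hg'0 hf)
      have hmem : ρ₀ * x ∈ P' := by
        rw [hkey]
        exact Ideal.mul_mem_left _ _ ((Ideal.span_singleton_le_iff_mem _).mp hP'le)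
      rcases hP'prime.mem_or_mem hmem with h | h
      · exact absurd (hP'P h) hρ₀P
      · exact h
    exact Ideal.height_le_one_of_isPrincipal_of_mem_minimalPrimes _ P hmin

end normal

end Groth.Agent.H36.NormalSurf
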