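import Mathlib
import Groth.Agent.H36.NormalSurfBasic

/-!
# Units at height one primes of a normal Noetherian domain

* `IsUnitAt P x`: the element `x` of the fraction field is a unit of the local ring at `P`;
* `exists_unit_of_forall_isUnitAt`: an element which is a unit at all height one primes of a
  normal Noetherian domain is a unit (algebraic Hartogs);
* `exists_zpow_isUnitAt`: removing the order along finitely many prime elements.
-/

set_option autoImplicit false
set_option linter.unusedSectionVars false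
universe u

namespace Groth.Agent.H36.LogDiff

variable {R : Type u} {K : Type*} [CommRing R] [IsDomain R] [Field K] [Algebra R K]
  [IsFractionRing R K]

/-- `x ∈ K` is a unit of the local ring of `R` at the prime `P`. -/
def IsUnitAt (P : Ideal R) (x : K) : Prop :=
  ∃ a s : R, a ∉ P ∧ s ∉ P ∧ x * algebraMap R K s = algebraMap R K a

omit [IsDomain R] [IsFractionRing R K] in
theorem IsUnitAt.of_notMem {P : Ideal R} [P.IsPrime] {a : R} (ha : a ∉ P) :
    IsUnitAt P (algebraMap R K a) :=
  ⟨a, 1, ha, fun h => (Ideal.IsPrime.ne_top ‹_›) ((Ideal.eq_top_iff_one _).mpr h), by simp⟩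

omit [IsDomain R] [IsFractionRing R K] in
theorem IsUnitAt.one {P : Ideal R} [P.IsPrime] : IsUnitAt P (1 : K) := by
  have h : (1 : R) ∉ P := fun h => (Ideal.IsPrime.ne_top ‹_›) ((Ideal.eq_top_iff_one _).mpr h)
  simpa using IsUnitAt.of_notMem (K := K) h

omit [IsDomain R] [IsFractionRing R K] in
theorem IsUnitAt.mul {P : Ideal R} [hP : P.IsPrime] {x y : K} (hx : IsUnitAt P x)
    (hy : IsUnitAt P y) : IsUnitAt P (x * y) := by
  obtain ⟨a, s, ha, hs, h1⟩ := hx
  obtain ⟨a', s', ha', hs', h2⟩ := hy
  refine ⟨a * a', s * s', fun h => (hP.mem_or_mem h).elim ha ha',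
    fun h => (hP.mem_or_mem h).elim hs hs', ?_⟩
  rw [map_mul, map_mul, ← h1, ← h2]
  ring

theorem IsUnitAt.ne_zero {P : Ideal R} {x : K} (hx : IsUnitAt P x) : x ≠ 0 := by
  obtain ⟨a, s, ha, hs, h1⟩ := hx
  rintro rfl
  rw [zero_mul] at h1
  have : a = 0 := by
    apply IsFractionRing.injective R K
    rw [← h1, map_zero]
  exact ha (this ▸ P.zero_mem)

theorem IsUnitAt.inv {P : Ideal R} {x : K} (hx : IsUnitAt P x) : IsUnitAt P x⁻¹ := by
  have hx0 := hx.ne_zero
  obtain ⟨a, s, ha, hs, h1⟩ := hx
  refine ⟨s, a, hs, ha, ?_⟩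
  rw [← h1]
  field_simp

omit [IsDomain R] [IsFractionRing R K] in
theorem IsUnitAt.pow {P : Ideal R} [hP : P.IsPrime] {x : K} (hx : IsUnitAt P x) (n : ℕ) :
    IsUnitAt P (x ^ n) := by
  induction n with
  | zero => simpa using IsUnitAt.one (K := K) (P := P)
  | succ n ih => rw [pow_succ]; exact ih.mul hx

theorem IsUnitAt.zpow {P : Ideal R} [hP : P.IsPrime] {x : K} (hx : IsUnitAt P x) (n : ℤ) :
    IsUnitAt P (x ^ n) := by
  cases n with
  | ofNat n => simpa using hx.pow n
  | negSucc n => rw [zpow_negSucc]; exact (hx.pow _).inv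

omit [IsDomain R] [IsFractionRing R K] in
theorem IsUnitAt.prod {P : Ideal R} [hP : P.IsPrime] {ι : Type*} (s : Finset ι) (x : ι → K)
    (hx : ∀ i ∈ s, IsUnitAt P (x i)) : IsUnitAt P (∏ i ∈ s, x i) := by
  classical
  induction s using Finset.induction_on with
  | empty => simpa using IsUnitAt.one (K := K) (P := P)
  | insert a s ha ih =>
    rw [Finset.prod_insert ha]
    exact (hx a (Finset.mem_insert_self _ _)).mul
      (ih fun i hi => hx i (Finset.mem_insert_of_mem hi))

theorem isUnitAt_span_singleton_iff {f : R} {x : K} :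
    IsUnitAt (Ideal.span {f}) x ↔
      ∃ a s : R, ¬ f ∣ a ∧ ¬ f ∣ s ∧ x * algebraMap R K s = algebraMap R K a := by
  unfold IsUnitAt
  simp only [Ideal.mem_span_singleton]

/-- Every nonzero element of the fraction field is a power of the prime element `f` times a
unit at `(f)`. -/
theorem exists_zpow_mul_isUnitAt [IsNoetherianRing R] {f : R} (hf : Prime f) {x : K}
    (hx : x ≠ 0) : ∃ n : ℤ, IsUnitAt (Ideal.span {f}) (x * algebraMap R K f ^ (-n)) := by
  obtain ⟨a, s, hs, rfl⟩ := IsFractionRing.div_surjective (A := R) x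
  have hs0 : s ≠ 0 := nonZeroDivisors.ne_zero hs
  have ha0 : a ≠ 0 := by
    rintro rfl
    simp at hx
  obtain ⟨m, a₀, ha₀, rfl⟩ := WfDvdMonoid.max_power_factor ha0 hf.irreducible
  obtain ⟨m', s₀, hs₀, rfl⟩ := WfDvdMonoid.max_power_factor hs0 hf.irreducible
  have hfK : algebraMap R K f ≠ 0 := by
    simpa using hf.ne_zero
  have hs₀K : algebraMap R K s₀ ≠ 0 := by
    have : s₀ ≠ 0 := by
      rintro rfl
      simp at hs0
    simpa using this
  refine ⟨(m : ℤ) - m', ?_⟩
  rw [isUnitAt_span_singleton_iff]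
  refine ⟨a₀, s₀, ha₀, hs₀, ?_⟩
  rw [map_mul, map_mul, map_pow, map_pow, neg_sub, zpow_sub₀ hfK, zpow_natCast, zpow_natCast]
  field_simp

section hartogs

variable [IsNoetherianRing R] [IsIntegrallyClosed R]

/-- An element of the fraction field which is a unit at all height one primes lies in `R`. -/
theorem exists_algebraMap_eq_of_forall_isUnitAt (x : K)
    (H : ∀ P : Ideal R, P.IsPrime → P.height ≤ 1 → P ≠ ⊥ → IsUnitAt P x) :
    ∃ r : R, algebraMap R K r = x := by
  obtain ⟨a, s, hs, rfl⟩ := IsFractionRing.div_surjective (A := R) x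
  have hs0 : s ≠ 0 := nonZeroDivisors.ne_zero hs
  have hsK : algebraMap R K s ≠ 0 := by simpa using hs0
  suffices hmem : a ∈ Ideal.span {s} by
    obtain ⟨r, rfl⟩ := Ideal.mem_span_singleton.mp hmem
    refine ⟨r, ?_⟩
    rw [map_mul]
    field_simp
  by_contra hmem
  obtain ⟨P, a', hP, hht, hdvd, ha', hPiff⟩ :=
    Groth.Agent.H36.NormalSurf.exists_prime_colon hs0 hmem
  have hsP : s ∈ P := by
    rw [hPiff]
    exact Ideal.mul_mem_right _ _ (Ideal.mem_span_singleton_self s)
  have hP0 : P ≠ ⊥ := by
    rintro rfl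
    exact hs0 (by simpa using hsP)
  obtain ⟨b, w, hb, hw, hbw⟩ := H P hP hht hP0
  apply hw
  rw [hPiff]
  obtain ⟨t, rfl⟩ := hdvd
  have haw : a * w = b * s := by
    apply IsFractionRing.injective R K
    rw [map_mul, map_mul, ← hbw]
    field_simp
  rw [Ideal.mem_span_singleton]
  refine ⟨t * b, ?_⟩
  calc w * (a * t) = t * (a * w) := by ring
    _ = s * (t * b) := by rw [haw]; ring

/-- **Algebraic Hartogs for units**: an element of the fraction field of a normal Noetherian
domain which is a unit at all height one primes is a unit. -/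
theorem exists_unit_of_forall_isUnitAt (x : K) (hx0 : x ≠ 0)
    (H : ∀ P : Ideal R, P.IsPrime → P.height ≤ 1 → P ≠ ⊥ → IsUnitAt P x) :
    ∃ v : Rˣ, algebraMap R K (v : R) = x := by
  obtain ⟨r, hr⟩ := exists_algebraMap_eq_of_forall_isUnitAt x H
  obtain ⟨r', hr'⟩ := exists_algebraMap_eq_of_forall_isUnitAt x⁻¹
    (fun P hP hht hP0 => (H P hP hht hP0).inv)
  have hmul : r * r' = 1 := by
    apply IsFractionRing.injective R K
    rw [map_mul, hr, hr', map_one, mul_inv_cancel₀ hx0]
  exact ⟨⟨r, r', hmul, by rw [mul_comm]; exact hmul⟩, hr⟩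

end hartogs

/-- Removing the orders of `g` along finitely many prime elements. -/
theorem exists_zpow_isUnitAt [IsNoetherianRing R] {ι : Type*} (f : ι → R)
    (hf : ∀ i, Prime (f i)) (g : K) (hg : g ≠ 0) (s : Finset ι) :
    ∃ b : ι → ℤ, ∀ i ∈ s,
      IsUnitAt (Ideal.span {f i}) (g * ∏ j ∈ s, algebraMap R K (f j) ^ (-(b j))) := by
  classical
  have hfK : ∀ i, algebraMap R K (f i) ≠ 0 := fun i => by
    simpa using (hf i).ne_zero
  have hprime : ∀ i, (Ideal.span {f i} : Ideal R).IsPrime := fun i =>
    (Ideal.span_singleton_prime (hf i).ne_zero).mpr (hf i)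
  induction s using Finset.induction_on with
  | empty => exact ⟨fun _ => 0, fun i hi => absurd hi (Finset.notMem_empty i)⟩
  | insert j s hj ih =>
    obtain ⟨b, hb⟩ := ih
    set hs : K := g * ∏ i ∈ s, algebraMap R K (f i) ^ (-(b i)) with hhs
    have hs0 : hs ≠ 0 := by
      rw [hhs]
      exact mul_ne_zero hg (Finset.prod_ne_zero_iff.mpr fun i _ => zpow_ne_zero _ (hfK i))
    have hprod : ∀ n : ℤ, g * ∏ i ∈ insert j s,
        algebraMap R K (f i) ^ (-(Function.update b j n i)) =
          hs * algebraMap R K (f j) ^ (-n) := by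
      intro n
      rw [Finset.prod_insert hj, Function.update_self, hhs]
      have : ∏ i ∈ s, algebraMap R K (f i) ^ (-(Function.update b j n i)) =
          ∏ i ∈ s, algebraMap R K (f i) ^ (-(b i)) := by
        apply Finset.prod_congr rfl
        intro i hi
        rw [Function.update_of_ne]
        rintro rfl
        exact hj hi
      rw [this]
      ring
    by_cases hA : IsUnitAt (Ideal.span {f j}) hs
    · refine ⟨Function.update b j 0, fun i hi => ?_⟩
      rw [hprod, neg_zero, zpow_zero, mul_one]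
      rcases Finset.mem_insert.mp hi with rfl | hi
      · exact hA
      · exact hb i hi
    · obtain ⟨n, hn⟩ := exists_zpow_mul_isUnitAt (K := K) (hf j) hs0
      refine ⟨Function.update b j n, fun i hi => ?_⟩
      rw [hprod]
      rcases Finset.mem_insert.mp hi with rfl | hi
      · exact hn
      · have := hprime i
        refine (hb i hi).mul (IsUnitAt.zpow (IsUnitAt.of_notMem ?_) _)
        intro hmem
        apply hA
        have hdvd : f i ∣ f j := Ideal.mem_span_singleton.mp hmem
        have hassoc : Associated (f i) (f j) :=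
          (hf i).irreducible.associated_of_dvd (hf j).irreducible hdvd
        rw [← Ideal.span_singleton_eq_span_singleton.mpr hassoc]
        exact hb i hi

end Groth.Agent.H36.LogDiff
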