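import Mathlib
import Groth.Agent.H36.LogDiffA
import Groth.Agent.H36.LogDiffB

/-!
# Logarithmic differentials with logarithmic poles along prime elements

Assembly: on a normal Noetherian domain `R`, formally smooth and essentially of finite type over a
field `k` of characteristic zero, a logarithmic differential `dlog g` which is a regular form plus
an `R`-combination of the `dlog fᵢ` (`fᵢ` prime elements) is `dlog v + ∑ bᵢ dlog fᵢ` with `v` a
unit and `bᵢ` integers.
-/

set_option autoImplicit false
set_option linter.unusedSectionVars false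
universe u

namespace Groth.Agent.H36.LogDiff

open KaehlerDifferential TensorProduct

section mapmap

variable {k R V K : Type u} [CommRing k] [CommRing R] [CommRing V] [CommRing K]
  [Algebra k R] [Algebra k V] [Algebra k K] [Algebra R V] [Algebra V K] [Algebra R K]
  [IsScalarTower k R V] [IsScalarTower k V K] [IsScalarTower k R K] [IsScalarTower R V K]

theorem map_map (x : Ω[R⁄k]) :
    KaehlerDifferential.map k k V K (KaehlerDifferential.map k k R V x) =
      KaehlerDifferential.map k k R K x := by
  have hx : x ∈ Submodule.span R (Set.range (D k R)) := by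
    rw [KaehlerDifferential.span_range_derivation]; trivial
  induction hx using Submodule.span_induction with
  | mem y hy =>
    obtain ⟨r, rfl⟩ := hy
    rw [KaehlerDifferential.map_D, KaehlerDifferential.map_D, KaehlerDifferential.map_D,
      ← IsScalarTower.algebraMap_apply]
  | zero => simp
  | add y z _ _ hy hz => rw [map_add, map_add, map_add, hy, hz]
  | smul r y _ hy =>
    rw [map_smul (KaehlerDifferential.map k k R V), map_smul (KaehlerDifferential.map k k R K),
      ← hy, LinearMap.map_smul_of_tower]

end mapmap

section local_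

variable {k R K : Type u} [Field k] [CharZero k] [CommRing R] [IsDomain R]
  [Algebra k R] [Field K] [Algebra R K] [IsFractionRing R K] [Algebra k K] [IsScalarTower k R K]
  (P : Ideal R) [P.IsPrime]

/-- At a height one prime containing none of the `fᵢ`, an element whose logarithmic differential
is a regular form plus a combination of the `dlog fᵢ` is a unit. -/
theorem isUnitAt_of_dlog_eq (V : Type u)
    [CommRing V] [IsDomain V] [IsDiscreteValuationRing V] [Algebra R V]
    [IsLocalization.AtPrime V P]
    [Algebra k V] [IsScalarTower k R V] [Algebra V K] [IsScalarTower R V K] [IsFractionRing V K]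
    [IsScalarTower k V K] [Algebra.FormallySmooth k V] [Algebra.EssFiniteType k V]
    {ι : Type*} [Fintype ι] (f : ι → R) (hfP : ∀ i, f i ∉ P)
    (x : K) (hx : x ≠ 0) (η : Ω[R⁄k]) (c : ι → R)
    (H : dlog k x = KaehlerDifferential.map k k R K η +
      ∑ i, (algebraMap R K (c i) * (algebraMap R K (f i))⁻¹) •
        D k K (algebraMap R K (f i))) : IsUnitAt P x := by
  classical
  have hunit : ∀ i, IsUnit (algebraMap R V (f i)) := fun i =>
    IsLocalization.map_units V (⟨f i, hfP i⟩ : P.primeCompl)
  set w : ι → Vˣ := fun i => (hunit i).unit with hw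
  have hwc : ∀ i, ((w i : Vˣ) : V) = algebraMap R V (f i) := fun i => (hunit i).unit_spec
  set ω : Ω[V⁄k] := KaehlerDifferential.map k k R V η +
    ∑ i, (algebraMap R V (c i) * (((w i)⁻¹ : Vˣ) : V)) • D k V (algebraMap R V (f i)) with hω
  have Hω : dlog k x = KaehlerDifferential.map k k V K ω := by
    rw [H, hω, map_add, map_map, map_sum]
    congr 1
    apply Finset.sum_congr rfl
    intro i _
    rw [map_smul, KaehlerDifferential.map_D, ← IsScalarTower.algebraMap_apply,
      ← algebraMap_smul K (algebraMap R V (c i) * (((w i)⁻¹ : Vˣ) : V)), map_mul,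
      ← IsScalarTower.algebraMap_apply, map_units_inv, hwc, ← IsScalarTower.algebraMap_apply]
  obtain ⟨u, hu⟩ := exists_unit_of_dlog_eq_map (k := k) x hx ω Hω
  obtain ⟨a, s, hs⟩ := IsLocalization.exists_mk'_eq P.primeCompl (u : V)
  have hspec : (u : V) * algebraMap R V (s : R) = algebraMap R V a := by
    rw [← hs]; exact IsLocalization.mk'_spec V a s
  refine ⟨a, s, ?_, s.2, ?_⟩
  · intro haP
    have h1 : IsUnit (algebraMap R V a) := by
      rw [← hspec]
      exact u.isUnit.mul (IsLocalization.map_units V s)
    have := (IsLocalization.AtPrime.isUnit_to_map_iff V P a).mp h1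
    exact this haP
  · rw [← hu, IsScalarTower.algebraMap_apply R V K, IsScalarTower.algebraMap_apply R V K,
      ← map_mul, hspec]

end local_

section normal

variable {k R K : Type u} [Field k] [CharZero k] [CommRing R] [IsDomain R]
  [IsNoetherianRing R] [IsIntegrallyClosed R]
  [Algebra k R] [Algebra.FormallySmooth k R] [Algebra.EssFiniteType k R]
  [Field K] [Algebra R K] [IsFractionRing R K] [Algebra k K] [IsScalarTower k R K]

/-- The same with the localization at the height one prime as discrete valuation ring. -/
theorem isUnitAt_of_dlog_eq_of_height_le_one (P : Ideal R) [P.IsPrime] (hht : P.height ≤ 1)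
    (hP0 : P ≠ ⊥) {ι : Type*} [Fintype ι] (f : ι → R) (hfP : ∀ i, f i ∉ P)
    (x : K) (hx : x ≠ 0) (η : Ω[R⁄k]) (c : ι → R)
    (H : dlog k x = KaehlerDifferential.map k k R K η +
      ∑ i, (algebraMap R K (c i) * (algebraMap R K (f i))⁻¹) •
        D k K (algebraMap R K (f i))) : IsUnitAt P x := by
  have hu : ∀ y : P.primeCompl, IsUnit (algebraMap R K (y : R)) := fun y => by
    have hy0 : (y : R) ≠ 0 := fun h => y.2 (h ▸ P.zero_mem)
    exact IsUnit.mk0 _ (by simpa using hy0)
  letI algVK : Algebra (Localization.AtPrime P) K :=
    (IsLocalization.lift (M := P.primeCompl) (S := Localization.AtPrime P) hu).toAlgebra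
  have hmapVK : ∀ z, algebraMap (Localization.AtPrime P) K z =
      IsLocalization.lift (M := P.primeCompl) (S := Localization.AtPrime P) hu z := fun _ => rfl
  have : IsScalarTower R (Localization.AtPrime P) K :=
    IsScalarTower.of_algebraMap_eq fun r => by
      rw [hmapVK, IsLocalization.lift_eq]
  have : IsFractionRing (Localization.AtPrime P) K :=
    IsFractionRing.isFractionRing_of_isDomain_of_isLocalization P.primeCompl
      (Localization.AtPrime P) K
  have : IsScalarTower k (Localization.AtPrime P) K :=
    IsScalarTower.of_algebraMap_eq fun c => by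
      rw [IsScalarTower.algebraMap_apply k R (Localization.AtPrime P),
        ← IsScalarTower.algebraMap_apply R (Localization.AtPrime P) K,
        ← IsScalarTower.algebraMap_apply k R K]
  have : Algebra.FormallySmooth R (Localization.AtPrime P) :=
    Algebra.FormallySmooth.of_isLocalization P.primeCompl
  have : Algebra.FormallySmooth k (Localization.AtPrime P) :=
    Algebra.FormallySmooth.comp k R (Localization.AtPrime P)
  have : Algebra.EssFiniteType k (Localization.AtPrime P) :=
    Algebra.EssFiniteType.comp k R (Localization.AtPrime P)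
  have hnf : ¬ IsField (Localization.AtPrime P) := by
    rw [IsLocalRing.isField_iff_maximalIdeal_eq]
    intro hbot
    apply hP0
    rw [eq_bot_iff]
    intro z hz
    have h1 : algebraMap R (Localization.AtPrime P) z ∈
        IsLocalRing.maximalIdeal (Localization.AtPrime P) := by
      rw [← Localization.AtPrime.map_eq_maximalIdeal]
      exact Ideal.mem_map_of_mem _ hz
    rw [hbot, Ideal.mem_bot] at h1
    rw [Ideal.mem_bot]
    exact (IsLocalization.injective (Localization.AtPrime P)
      P.primeCompl_le_nonZeroDivisors) (by simpa using h1)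
  have hprin : (IsLocalRing.maximalIdeal (Localization.AtPrime P)).IsPrincipal :=
    Groth.Agent.H36.NormalSurf.maximalIdeal_isPrincipal_of_height_le_one P hht
  have : IsDiscreteValuationRing (Localization.AtPrime P) :=
    ((IsDiscreteValuationRing.TFAE (Localization.AtPrime P) hnf).out 0 4).mpr hprin
  exact isUnitAt_of_dlog_eq (k := k) P (Localization.AtPrime P) f hfP x hx η c H

/-- **Main theorem, normal form.** -/
theorem exists_unit_dlog_eq {ι : Type*} [Fintype ι] (f : ι → R) (hf : ∀ i, Prime (f i))
    (g : K) (hg : g ≠ 0) (η : Ω[R⁄k]) (c : ι → R)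
    (H : dlog k g = KaehlerDifferential.map k k R K η +
      ∑ i, (algebraMap R K (c i) * (algebraMap R K (f i))⁻¹) •
        D k K (algebraMap R K (f i))) :
    ∃ (v : Rˣ) (b : ι → ℤ), dlog k g = dlog k (algebraMap R K (v : R)) +
      ∑ i, ((b i : K) * (algebraMap R K (f i))⁻¹) • D k K (algebraMap R K (f i)) := by
  classical
  have hfK : ∀ i, algebraMap R K (f i) ≠ 0 := fun i => by
    simpa using (hf i).ne_zero
  obtain ⟨b, hb⟩ := exists_zpow_isUnitAt (K := K) f hf g hg Finset.univ
  set h' : K := g * ∏ j, algebraMap R K (f j) ^ (-(b j)) with hh'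
  have hprod0 : ∏ j, algebraMap R K (f j) ^ (-(b j)) ≠ 0 :=
    Finset.prod_ne_zero_iff.mpr fun i _ => zpow_ne_zero _ (hfK i)
  have hh'0 : h' ≠ 0 := mul_ne_zero hg hprod0
  -- the logarithmic differential of `h'`
  have hterm : ∀ (i : ι) (z : K), (z * (algebraMap R K (f i))⁻¹) • D k K (algebraMap R K (f i)) =
      z • dlog k (algebraMap R K (f i)) := by
    intro i z
    unfold dlog
    rw [smul_smul]
  have hdlog : dlog k h' = dlog k g - ∑ j, ((b j : K)) • dlog k (algebraMap R K (f j)) := by
    rw [hh', dlog_mul k hg hprod0, dlog_prod k _ _ (fun i _ => zpow_ne_zero _ (hfK i)),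
      sub_eq_add_neg, ← Finset.sum_neg_distrib]
    congr 1
    apply Finset.sum_congr rfl
    intro i _
    rw [dlog_zpow k (hfK i), neg_smul, Int.cast_smul_eq_zsmul]
  have hdlog' : dlog k h' = KaehlerDifferential.map k k R K η +
      ∑ i, (algebraMap R K (c i - (b i : R)) * (algebraMap R K (f i))⁻¹) •
        D k K (algebraMap R K (f i)) := by
    rw [hdlog, H, add_sub_assoc, ← Finset.sum_sub_distrib]
    congr 1
    apply Finset.sum_congr rfl
    intro i _
    rw [hterm, hterm, map_sub, map_intCast, sub_smul]
  -- `h'` is a unit at all height one primes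
  have hunitAt : ∀ P : Ideal R, P.IsPrime → P.height ≤ 1 → P ≠ ⊥ → IsUnitAt P h' := by
    intro P hP hht hP0
    by_cases hex : ∃ i, f i ∈ P
    · obtain ⟨i, hi⟩ := hex
      have hle : Ideal.span {f i} ≤ P := (Ideal.span_singleton_le_iff_mem _).mpr hi
      have hprime : (Ideal.span {f i} : Ideal R).IsPrime :=
        (Ideal.span_singleton_prime (hf i).ne_zero).mpr (hf i)
      have heq : Ideal.span {f i} = P := by
        by_contra hne
        have hlt : Ideal.span {f i} < P := lt_of_le_of_ne hle hne
        have h1 : P.height ≤ ((1 : ℕ) : ℕ∞) := by simpa using hht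
        have h2 := (Ideal.height_le_iff.mp h1) _ hprime hlt
        have h3 : (Ideal.span {f i} : Ideal R).height = 0 := by
          have : (Ideal.span {f i} : Ideal R).height < 1 := by simpa using h2
          exact Order.lt_one_iff.mp this
        have h4 := Ideal.height_eq_zero_iff_eq_bot.mp h3
        rw [Ideal.span_singleton_eq_bot] at h4
        exact (hf i).ne_zero h4
      rw [← heq]
      exact hb i (Finset.mem_univ i)
    · push Not at hex
      exact isUnitAt_of_dlog_eq_of_height_le_one (k := k) P hht hP0 f hex h' hh'0 η _ hdlog'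
  obtain ⟨v, hv⟩ := exists_unit_of_forall_isUnitAt h' hh'0 hunitAt
  refine ⟨v, b, ?_⟩
  rw [hv, hdlog]
  have : ∀ i, ((b i : K) * (algebraMap R K (f i))⁻¹) • D k K (algebraMap R K (f i)) =
      (b i : K) • dlog k (algebraMap R K (f i)) := fun i => hterm i _
  rw [Finset.sum_congr rfl (fun i _ => this i)]
  abel

end normal

end Groth.Agent.H36.LogDiff
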