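import Mathlib

/-!
# Kernel of a surjection from a free module onto `R^s / (f e_1, …, f e_l)` over a local ring
-/

set_option autoImplicit false
universe u

namespace Groth.Agent.H36.NRFree

open Module

variable {R : Type u} [CommRing R] [IsLocalRing R]

/-- A split surjection between finite free modules over a local ring has a free kernel of the
expected rank, and the kernel is a retract. -/
theorem exists_basis_ker_of_surjective {a s : ℕ} {P : Type u} [AddCommGroup P] [Module R P]
    [Module.Free R P] [Module.Finite R P] (ha : Module.finrank R P = a)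
    (ψ : P →ₗ[R] (Fin s → R)) (hψ : Function.Surjective ψ) :
    Nonempty (Module.Basis (Fin (a - s)) R (LinearMap.ker ψ)) ∧
      ∃ ρ : P →ₗ[R] LinearMap.ker ψ, ∀ x : LinearMap.ker ψ, ρ x = x := by
  obtain ⟨σ, hσ⟩ := Module.projective_lifting_property ψ LinearMap.id hψ
  have hex : Function.Exact (LinearMap.ker ψ).subtype ψ := by
    intro x
    simp
  have hinj : Function.Injective (LinearMap.ker ψ).subtype := Submodule.subtype_injective _
  obtain ⟨e, he1, he2⟩ := hex.splitSurjectiveEquiv hinj ⟨σ, hσ⟩
  have hproj : Module.Projective R (LinearMap.ker ψ) := by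
    refine Module.Projective.of_split ((LinearMap.ker ψ).subtype)
      (LinearMap.fst R _ _ ∘ₗ e.toLinearMap) ?_
    ext x
    have : e ((LinearMap.ker ψ).subtype x) = (x, 0) := by
      rw [he1]
      simp
    simp only [LinearMap.coe_comp, Function.comp_apply, LinearEquiv.coe_coe, LinearMap.id_coe,
      id_eq]
    rw [this]
    rfl
  have hfin : Module.Finite R (LinearMap.ker ψ) :=
    Module.Finite.of_surjective (LinearMap.fst R _ _ ∘ₗ e.toLinearMap) (by
      intro x
      refine ⟨e.symm (x, 0), ?_⟩
      simp)
  have hfree : Module.Free R (LinearMap.ker ψ) := Module.free_of_flat_of_isLocalRing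
  have hrank : Module.finrank R (LinearMap.ker ψ) = a - s := by
    have h1 := e.finrank_eq
    rw [Module.finrank_prod, ha] at h1
    simp only [Module.finrank_pi, Fintype.card_fin] at h1
    omega
  refine ⟨⟨Module.finBasisOfFinrankEq R _ hrank⟩, LinearMap.fst R _ _ ∘ₗ e.toLinearMap, ?_⟩
  intro x
  have : e ((LinearMap.ker ψ).subtype x) = (x, 0) := by
    rw [he1]
    simp
  simp only [LinearMap.coe_comp, Function.comp_apply, LinearEquiv.coe_coe]
  have h2 : e (x : P) = (x, 0) := this
  rw [h2]
  rfl

theorem main_aux {r s l : ℕ} (U : Submodule R (Fin s → R))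
    (g : (Fin l → R) →ₗ[R] (Fin s → R)) (hgU : LinearMap.range g = U)
    (hnil : ∀ y, g y = 0 → ∀ i, IsNilpotent (y i))
    (φ : (Fin r → R) →ₗ[R] ((Fin s → R) ⧸ U))
    (hφ : Function.Surjective φ) :
    ∃ m : Fin (r + l - s) → LinearMap.ker φ, Submodule.span R (Set.range m) = ⊤ ∧
      ∀ a : Fin (r + l - s) → R, ∑ j, a j • m j = 0 →
        (∀ j, IsNilpotent (a j)) ∧ (l = 0 → a = 0) := by
  classical
  -- lift of φ
  obtain ⟨φt, hφt⟩ := Module.projective_lifting_property U.mkQ φ (Submodule.mkQ_surjective U)
  have hφt' : ∀ x, Submodule.Quotient.mk (φt x) = φ x := fun x => LinearMap.congr_fun hφt x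
  set ψ : (Fin r → R) × (Fin l → R) →ₗ[R] (Fin s → R) := φt.coprod g with hψ
  have hψs : Function.Surjective ψ := by
    intro z
    obtain ⟨x, hx⟩ := hφ (Submodule.Quotient.mk z)
    have h1 : z - φt x ∈ U := by
      rw [← Submodule.Quotient.eq, hφt', hx]
    rw [← hgU] at h1
    obtain ⟨y, hy⟩ := h1
    refine ⟨(x, y), ?_⟩
    simp only [hψ, LinearMap.coprod_apply, hy]
    abel
  have hrk : Module.finrank R ((Fin r → R) × (Fin l → R)) = r + l := by
    rw [Module.finrank_prod]
    simp
  obtain ⟨⟨b⟩, ρ, hρ⟩ := exists_basis_ker_of_surjective hrk ψ hψs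
  -- the projection to ker φ
  have hmem : ∀ w : LinearMap.ker ψ, (w : (Fin r → R) × (Fin l → R)).1 ∈ LinearMap.ker φ := by
    intro w
    have h1 : ψ w = 0 := w.2
    simp only [hψ, LinearMap.coprod_apply] at h1
    rw [LinearMap.mem_ker, ← hφt', Submodule.Quotient.mk_eq_zero]
    have : φt (w : (Fin r → R) × (Fin l → R)).1 = - g (w : (Fin r → R) × (Fin l → R)).2 :=
      eq_neg_of_add_eq_zero_left h1
    rw [this, ← hgU]
    exact Submodule.neg_mem _ (LinearMap.mem_range_self _ _)
  set p : LinearMap.ker ψ →ₗ[R] LinearMap.ker φ :=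
    LinearMap.codRestrict _ (LinearMap.fst R _ _ ∘ₗ (LinearMap.ker ψ).subtype) hmem with hp
  have hpval : ∀ w : LinearMap.ker ψ,
      ((p w : LinearMap.ker φ) : Fin r → R) = (w : (Fin r → R) × (Fin l → R)).1 := fun w => rfl
  have hps : Function.Surjective p := by
    rintro ⟨x, hx⟩
    rw [LinearMap.mem_ker, ← hφt', Submodule.Quotient.mk_eq_zero, ← hgU] at hx
    obtain ⟨y, hy⟩ := hx
    refine ⟨⟨(x, -y), ?_⟩, ?_⟩
    · simp [hψ, hy]
    · apply Subtype.ext
      rw [hpval]
  refine ⟨fun j => p (b j), ?_, ?_⟩
  · have : Set.range (fun j => p (b j)) = p '' Set.range b := by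
      rw [← Set.range_comp]
      rfl
    rw [this, ← Submodule.map_span, b.span_eq, Submodule.map_top, LinearMap.range_eq_top]
    exact hps
  · intro a ha
    set w : LinearMap.ker ψ := ∑ j, a j • b j with hw
    have hpw : p w = 0 := by
      rw [hw, map_sum]
      simpa using ha
    have hw1 : (w : (Fin r → R) × (Fin l → R)).1 = 0 := by
      have := congrArg Subtype.val hpw
      rw [hpval] at this
      exact this
    have hw2 : g (w : (Fin r → R) × (Fin l → R)).2 = 0 := by
      have h1 : ψ w = 0 := w.2
      simp only [hψ, LinearMap.coprod_apply, hw1, map_zero, zero_add] at h1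
      exact h1
    set y := (w : (Fin r → R) × (Fin l → R)).2 with hy
    have hynil : ∀ i, IsNilpotent (y i) := hnil y hw2
    have haj : ∀ j, a j = b.repr w j := by
      intro j
      rw [hw, b.repr_sum_self]
    have hwv : (w : (Fin r → R) × (Fin l → R)) = (0, y) := Prod.ext hw1 rfl
    constructor
    · intro j
      rw [haj j, ← hρ w, hwv]
      -- linear functional applied to vector with nilpotent coordinates
      have hdec : ((0 : Fin r → R), y) =
          ∑ i, y i • ((0 : Fin r → R), (Pi.single i 1 : Fin l → R)) := by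
        refine Prod.ext ?_ ?_
        · rw [Prod.fst_sum]
          simp
        · rw [Prod.snd_sum]
          funext k
          simp [Finset.sum_apply, Pi.single_apply]
      rw [hdec, map_sum, map_sum, Finsupp.coe_finsetSum, Finset.sum_apply]
      rw [← mem_nilradical]
      refine Ideal.sum_mem _ fun i _ => ?_
      rw [map_smul, map_smul, Finsupp.smul_apply, smul_eq_mul]
      exact Ideal.mul_mem_right _ _ (mem_nilradical.mpr (hynil i))
    · intro hl
      subst hl
      have hy0 : y = 0 := Subsingleton.elim _ _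
      have hw0 : w = 0 := by
        apply Subtype.ext
        rw [hwv, hy0]
        rfl
      funext j
      rw [haj j, hw0]
      simp

theorem main (f : R) (r s l : ℕ) (hls : l ≤ s) (hann : ∀ a : R, a * f = 0 → IsNilpotent a)
    (φ : (Fin r → R) →ₗ[R] ((Fin s → R) ⧸ Submodule.span R
      (Set.range fun i : Fin l => (Pi.single (Fin.castLE hls i) f : Fin s → R))))
    (hφ : Function.Surjective φ) :
    ∃ m : Fin (r + l - s) → LinearMap.ker φ, Submodule.span R (Set.range m) = ⊤ ∧
      ∀ a : Fin (r + l - s) → R, ∑ j, a j • m j = 0 →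
        (∀ j, IsNilpotent (a j)) ∧ (l = 0 → a = 0) := by
  classical
  refine main_aux _ (Fintype.linearCombination R
    (fun i : Fin l => (Pi.single (Fin.castLE hls i) f : Fin s → R)))
    (Fintype.range_linearCombination R _) ?_ φ hφ
  intro y hy i
  apply hann
  have h2 := congrFun hy (Fin.castLE hls i)
  simp only [Fintype.linearCombination_apply, Finset.sum_apply, Pi.smul_apply,
    Pi.zero_apply, smul_eq_mul] at h2
  rw [Finset.sum_eq_single i] at h2
  · simpa using h2
  · intro i' _ hne
    rw [Pi.single_apply, if_neg, mul_zero]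
    intro h3
    exact hne ((Fin.castLE_injective hls) h3).symm
  · intro h3
    exact absurd (Finset.mem_univ i) h3

end Groth.Agent.H36.NRFree
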