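import Groth.Agent.H36.NormalVal

namespace Groth.Agent.H36.NormalVal

open Groth.Agent.H36.NormalSurf

universe u

variable {R : Type u} [CommRing R]

section normal

variable [IsDomain R] [IsNoetherianRing R]

/-- uniformizers at finitely many height one primes, each avoiding the other primes. -/
theorem exists_good_uniformizers (Z : Finset (Ideal R))
    (hZ : ∀ Q ∈ Z, Q.IsPrime ∧ Q.height = 1) :
    ∃ u : Ideal R → R, ∀ P ∈ Z, u P ∈ P ∧ ¬ DZ P (u P) ∧ ∀ Q ∈ Z, Q ≠ P → u P ∉ Q := by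
  classical
  have hex : ∀ P : Ideal R, P ∈ Z → ∃ v, v ∈ P ∧ ¬ DZ P v ∧ ∀ Q ∈ Z, Q ≠ P → v ∉ Q := by
    intro P hP
    have hPp := (hZ P hP).1
    obtain ⟨x, hxP, hxD⟩ := exists_not_DZ hPp (Ideal.ne_bot_of_height_eq_one (hZ P hP).2)
    obtain ⟨y, hy, hxy⟩ := Groth.Agent.H36.DetLength.exists_add_notMem_primes _ (Z.erase P) rfl
      (fun Q hQ => (hZ Q (Finset.mem_of_mem_erase hQ)).1) x (P ^ 2) (by
        intro Q hQ hle
        rw [Finset.mem_erase] at hQ
        have hQp := (hZ Q hQ.2).1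
        have := hQp
        have h2 : P ^ 2 ≤ Q := le_trans le_sup_right hle
        rw [Ideal.IsPrime.pow_le_iff (by norm_num)] at h2
        exact hQ.1 (eq_of_le_of_height_one hPp hQp (hZ P hP).2 (hZ Q hQ.2).2 h2).symm)
    refine ⟨x + y, Ideal.add_mem _ hxP (Ideal.pow_le_self (by norm_num) hy),
      not_DZ_add hPp hxD (DZ.of_mem_sq hPp hy), ?_⟩
    intro Q hQ hne
    exact hxy Q (Finset.mem_erase.mpr ⟨hne, hQ⟩)
  choose! u hu using hex
  exact ⟨u, hu⟩

variable [IsIntegrallyClosed R]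

/-- **Root data**: if the order of `f` along every height one prime is divisible by `n`, there
is `s₀` with `f^(n-1) ∣ s₀^n` such that `f ∣ a s₀` forces `f ∣ a^n`. -/
theorem exists_root_data {f : R} (hf : f ≠ 0) {n : ℕ} (hn : 0 < n)
    (H : ∀ P : Ideal R, P.IsPrime → P.height = 1 → f ∈ P →
      ∃ u d, u ∈ P ∧ ¬ DZ P u ∧ V P u f (n * d)) :
    ∃ s₀ : R, f ^ (n - 1) ∣ s₀ ^ n ∧ ∀ a, f ∣ a * s₀ → f ∣ a ^ n := by
  classical
  obtain ⟨Z, hZdef⟩ : ∃ Z : Finset (Ideal R), Z =
      (Ideal.finite_minimalPrimes_of_isNoetherianRing R (Ideal.span {f})).toFinset := ⟨_, rfl⟩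
  have hZmem : ∀ Q, Q ∈ Z ↔ Q ∈ (Ideal.span {f} : Ideal R).minimalPrimes := by
    intro Q; rw [hZdef, Set.Finite.mem_toFinset]
  have hZ : ∀ Q ∈ Z, Q.IsPrime ∧ Q.height = 1 := fun Q hQ =>
    height_eq_one_of_mem_minimalPrimes hf ((hZmem Q).mp hQ)
  have hZf : ∀ Q ∈ Z, f ∈ Q := fun Q hQ =>
    ((hZmem Q).mp hQ).1.2 (Ideal.mem_span_singleton_self f)
  have hZof : ∀ P : Ideal R, P.IsPrime → P.height = 1 → f ∈ P → P ∈ Z := fun P hP hht hfP =>
    (hZmem P).mpr (mem_minimalPrimes_of_height_le_one hf hP hht.le hfP)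
  obtain ⟨u, hu⟩ := exists_good_uniformizers Z hZ
  have hu0 : ∀ P ∈ Z, u P ≠ 0 := by
    intro P hP h0
    exact (hu P hP).2.1 (h0 ▸ DZ.zero (hZ P hP).1)
  have hd : ∀ P : Ideal R, P ∈ Z → ∃ d, V P (u P) f (n * d) := by
    intro P hP
    obtain ⟨u', d, hu', hD', hV⟩ := H P (hZ P hP).1 (hZ P hP).2 (hZf P hP)
    exact ⟨d, hV.change (hZ P hP).1 (hZ P hP).2.le hu' (hu P hP).1 hD' (hu P hP).2.1⟩
  choose! d hd using hd
  obtain ⟨s₀, hs₀⟩ : ∃ s₀, s₀ = ∏ P ∈ Z, (u P) ^ ((n - 1) * d P) := ⟨_, rfl⟩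
  have hVs : ∀ P ∈ Z, V P (u P) s₀ ((n - 1) * d P) := by
    intro P hP
    have hPp := (hZ P hP).1
    refine ⟨∏ Q ∈ Z.erase P, (u Q) ^ ((n - 1) * d Q), 1, ?_,
      fun h => hPp.ne_top ((Ideal.eq_top_iff_one _).mpr h), ?_⟩
    · rw [hPp.prod_mem_iff]
      rintro ⟨Q, hQ, hmem⟩
      rw [Finset.mem_erase] at hQ
      exact (hu Q hQ.2).2.2 P hP hQ.1.symm (hPp.mem_of_pow_mem _ hmem)
    · rw [one_mul, hs₀, Finset.mul_prod_erase Z (fun Q => (u Q) ^ ((n - 1) * d Q)) hP]
  refine ⟨s₀, ?_, ?_⟩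
  · apply dvd_of_forall_local (pow_ne_zero _ hf)
    intro P hPp hht hfP
    have hfP' : f ∈ P := hPp.mem_of_pow_mem _ hfP
    have hPZ := hZof P hPp hht hfP'
    have h1 : V P (u P) (f ^ (n - 1)) ((n - 1) * (n * d P)) := (hd P hPZ).pow hPp (n - 1)
    have h2 : V P (u P) (s₀ ^ n) (n * ((n - 1) * d P)) := (hVs P hPZ).pow hPp n
    exact V.dvd_of_le hPp h1 h2 (le_of_eq (by ring))
  · intro a hdvd
    by_cases ha : a = 0
    · rw [ha, zero_pow (by omega)]; exact dvd_zero f
    apply dvd_of_forall_local hf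
    intro P hPp hht hfP
    have hPZ := hZof P hPp hht hfP
    obtain ⟨k, hk⟩ := exists_V hPp hht.le (hu P hPZ).1 (hu P hPZ).2.1 ha
    have h1 : V P (u P) (a * s₀) (k + (n - 1) * d P) := V.mul hPp hk (hVs P hPZ)
    have hle : n * d P ≤ k + (n - 1) * d P :=
      V.le_of_dvd hPp (hu P hPZ).1 (hu0 P hPZ) (hd P hPZ) h1
        ⟨1, fun h => hPp.ne_top ((Ideal.eq_top_iff_one _).mpr h), by
          rw [one_mul]; exact Ideal.mem_span_singleton.mpr hdvd⟩
    have hdk : d P ≤ k := by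
      have h3 : n * d P = (n - 1) * d P + d P := by
        obtain ⟨m, rfl⟩ : ∃ m, n = m + 1 := ⟨n - 1, by omega⟩
        simp only [Nat.add_sub_cancel]; ring
      omega
    exact V.dvd_of_le hPp (hd P hPZ) (hk.pow hPp n) (Nat.mul_le_mul_left n hdk)

end normal

/-- divisibility descends along a faithfully flat algebra. -/
theorem dvd_of_map_dvd_map {A B : Type u} [CommRing A] [CommRing B] [Algebra A B]
    [Module.FaithfullyFlat A B] {x y : A} (h : algebraMap A B x ∣ algebraMap A B y) : x ∣ y := by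
  rw [← Ideal.mem_span_singleton, ← Ideal.comap_map_eq_self_of_faithfullyFlat (B := B)
    (Ideal.span {x}), Ideal.mem_comap, Ideal.map_span, Set.image_singleton,
    Ideal.mem_span_singleton]
  exact h

theorem algebraMap_injective_of_faithfullyFlat {A B : Type u} [CommRing A] [CommRing B]
    [Algebra A B] [Module.FaithfullyFlat A B] : Function.Injective (algebraMap A B) := by
  rw [RingHom.injective_iff_ker_eq_bot]
  have := Ideal.comap_map_eq_self_of_faithfullyFlat (B := B) (⊥ : Ideal A)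
  rw [Ideal.map_bot] at this
  exact this

section transfer

variable {A B : Type u} [CommRing A] [IsDomain A] [IsNoetherianRing A] [IsIntegrallyClosed A]
  [CommRing B] [IsDomain B] [Algebra A B]

/-- a uniformizer at `P` stays a uniformizer at a weakly unramified prime `q` above `P`. -/
theorem not_DZ_map_of_weaklyUnramified (hinj : Function.Injective (algebraMap A B))
    {P : Ideal A} (hP : P.IsPrime) (hht : P.height ≤ 1)
    {q : Ideal B} [hq : q.IsPrime] (hqP : q.comap (algebraMap A B) = P)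
    (hwu : Ideal.map (algebraMap B (Localization.AtPrime q)) (Ideal.map (algebraMap A B) P) =
      IsLocalRing.maximalIdeal (Localization.AtPrime q))
    {u : A} (hu : u ∈ P) (hD : ¬ DZ P u) : ¬ DZ q (algebraMap A B u) := by
  set S := Localization.AtPrime q
  have hinjS : Function.Injective (algebraMap B S) :=
    IsLocalization.injective S q.primeCompl_le_nonZeroDivisors
  obtain ⟨uS, huS⟩ : ∃ uS, uS = algebraMap B S (algebraMap A B u) := ⟨_, rfl⟩
  have hnotq : ∀ x : A, x ∉ P → algebraMap A B x ∉ q := by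
    intro x hx hxq
    apply hx
    rw [← hqP]; exact hxq
  have hu0 : u ≠ 0 := fun h0 => hD (h0 ▸ DZ.zero hP)
  have huS0 : uS ≠ 0 := by
    rw [huS]
    intro h0
    apply hu0
    apply hinj
    apply hinjS
    rw [h0, map_zero, map_zero]
  have huSmax : uS ∈ IsLocalRing.maximalIdeal S := by
    rw [huS, ← Localization.AtPrime.map_eq_maximalIdeal]
    apply Ideal.mem_map_of_mem
    show algebraMap A B u ∈ q
    have : u ∈ q.comap (algebraMap A B) := hqP ▸ hu
    exact this
  have hmax : IsLocalRing.maximalIdeal S ≤ Ideal.span {uS} := by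
    rw [← hwu, Ideal.map_le_iff_le_comap, Ideal.map_le_iff_le_comap]
    intro x hx
    rw [Ideal.mem_comap, Ideal.mem_comap]
    obtain ⟨w₁, hw₁, hwx⟩ := exists_mul_mem_span_of_not_DZ hP hht hu hD hx
    obtain ⟨c, hc⟩ := Ideal.mem_span_singleton'.mp hwx
    have hunit : IsUnit (algebraMap B S (algebraMap A B w₁)) :=
      IsLocalization.map_units S (⟨algebraMap A B w₁, hnotq w₁ hw₁⟩ : q.primeCompl)
    obtain ⟨w', hw'⟩ := hunit.exists_left_inv
    rw [Ideal.mem_span_singleton']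
    refine ⟨w' * algebraMap B S (algebraMap A B c), ?_⟩
    rw [huS]
    calc w' * algebraMap B S (algebraMap A B c) * algebraMap B S (algebraMap A B u)
        = w' * algebraMap B S (algebraMap A B (c * u)) := by rw [map_mul, map_mul]; ring
      _ = w' * algebraMap B S (algebraMap A B (w₁ * x)) := by rw [hc]
      _ = (w' * algebraMap B S (algebraMap A B w₁)) * algebraMap B S (algebraMap A B x) := by
        rw [map_mul, map_mul]; ring
      _ = algebraMap B S (algebraMap A B x) := by rw [hw', one_mul]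
  intro hDZ
  rw [DZ_iff_map, Ideal.map_pow, Localization.AtPrime.map_eq_maximalIdeal] at hDZ
  rw [← huS] at hDZ
  have h2 : uS ∈ Ideal.span {uS ^ 2} := by
    rw [← Ideal.span_singleton_pow]
    exact Ideal.pow_right_mono hmax 2 hDZ
  obtain ⟨c, hc⟩ := Ideal.mem_span_singleton'.mp h2
  have h3 : uS * (c * uS) = uS * 1 := by
    calc uS * (c * uS) = c * uS ^ 2 := by ring
      _ = uS * 1 := by rw [hc, mul_one]
  have h4 := mul_left_cancel₀ huS0 h3
  have hunit : IsUnit uS := IsUnit.of_mul_eq_one c (by rw [mul_comm]; exact h4)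
  exact (IsLocalRing.mem_maximalIdeal uS).mp huSmax hunit

omit [IsDomain A] [IsNoetherianRing A] [IsIntegrallyClosed A] [IsDomain B] in
theorem V.map {P : Ideal A} {q : Ideal B} (hqP : q.comap (algebraMap A B) = P)
    {u x : A} {k : ℕ} (hV : V P u x k) :
    V q (algebraMap A B u) (algebraMap A B x) k := by
  obtain ⟨a, s, ha, hs, h1⟩ := hV
  refine ⟨algebraMap A B a, algebraMap A B s, ?_, ?_, ?_⟩
  · intro h; apply ha; rw [← hqP]; exact h
  · intro h; apply hs; rw [← hqP]; exact h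
  · rw [← map_mul, h1, map_mul, map_pow]

end transfer

end Groth.Agent.H36.NormalVal
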