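import Groth.Agent.H36.NormalRoot

namespace Groth.Agent.H36.NormalVal

open Groth.Agent.H36.NormalSurf

universe u

theorem root_descent (A B : Type u) [CommRing A] [IsDomain A]
    [IsNoetherianRing A] [IsLocalRing A] [IsIntegrallyClosed A] [CommRing B] [IsDomain B]
    [IsNoetherianRing B] [IsLocalRing B] [IsIntegrallyClosed B] [Algebra A B]
    [IsLocalHom (algebraMap A B)] [Module.Flat A B]
    (f : A) (h : B) (n : ℕ) (hn : 1 < n) (w : Bˣ) (hf : algebraMap A B f = (w : B) * h ^ n)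
    (hram : ∀ (p : Ideal A) [p.IsPrime], p.height = 1 →
      ∃ (q : Ideal B) (_ : q.IsPrime), q.height = 1 ∧ q.comap (algebraMap A B) = p ∧
        Ideal.map (algebraMap B (Localization.AtPrime q)) (Ideal.map (algebraMap A B) p) =
          IsLocalRing.maximalIdeal (Localization.AtPrime q)) :
    ∃ (g : A) (u : Aˣ), f = (u : A) * g ^ n := by
  have hn0 : n ≠ 0 := by omega
  by_cases hf0 : f = 0
  · exact ⟨0, 1, by rw [hf0, zero_pow hn0, mul_zero]⟩
  have hff : Module.FaithfullyFlat A B := Module.FaithfullyFlat.of_flat_of_isLocalHom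
  have hinj : Function.Injective (algebraMap A B) := algebraMap_injective_of_faithfullyFlat
  have hfB0 : algebraMap A B f ≠ 0 := fun h0 => hf0 (hinj (by rw [h0, map_zero]))
  have hh0 : h ≠ 0 := by
    intro h0
    apply hfB0
    rw [hf, h0, zero_pow hn0, mul_zero]
  -- the orders of `f` along height one primes are divisible by `n`
  have H : ∀ P : Ideal A, P.IsPrime → P.height = 1 → f ∈ P →
      ∃ u d, u ∈ P ∧ ¬ DZ P u ∧ V P u f (n * d) := by
    intro P hPp hht hfP
    obtain ⟨q, hq, hqht, hqP, hwu⟩ := @hram P hPp hht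
    obtain ⟨u, hu, hD⟩ := exists_not_DZ hPp (Ideal.ne_bot_of_height_eq_one hht)
    obtain ⟨k, hk⟩ := exists_V hPp hht.le hu hD hf0
    have huq : algebraMap A B u ∈ q := by
      have : u ∈ q.comap (algebraMap A B) := hqP ▸ hu
      exact this
    have hDq : ¬ DZ q (algebraMap A B u) :=
      not_DZ_map_of_weaklyUnramified hinj hPp hht.le hqP hwu hu hD
    have hu0 : algebraMap A B u ≠ 0 := fun h0 => hDq (h0 ▸ DZ.zero hq)
    have hkB : V q (algebraMap A B u) (algebraMap A B f) k := hk.map hqP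
    obtain ⟨l, hl⟩ := exists_V hq hqht.le huq hDq hh0
    have hwq : (w : B) ∉ q := fun hw => hq.ne_top (Ideal.eq_top_of_isUnit_mem _ hw w.isUnit)
    have hl' : V q (algebraMap A B u) ((w : B) * h ^ n) (0 + n * l) :=
      V.mul hq (V.of_notMem hq _ hwq) (hl.pow hq n)
    rw [← hf] at hl'
    have hkl : k = 0 + n * l := V.unique hq huq hu0 hkB hl'
    refine ⟨u, l, hu, hD, ?_⟩
    rw [zero_add] at hkl
    rw [← hkl]; exact hk
  obtain ⟨s₀, hs₀1, hs₀2⟩ := exists_root_data hf0 (by omega : 0 < n) H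
  -- `f ∣ h * s₀` in `B`
  have hdvd1 : algebraMap A B f ∣ h * algebraMap A B s₀ := by
    rw [← IsIntegrallyClosed.pow_dvd_pow_iff hn0]
    obtain ⟨c, hc⟩ := hs₀1
    refine ⟨(↑w⁻¹ : B) * algebraMap A B c, ?_⟩
    have hnn : algebraMap A B f ^ n = algebraMap A B f ^ (n - 1) * algebraMap A B f := by
      rw [← pow_succ]; congr 1; omega
    calc (h * algebraMap A B s₀) ^ n = h ^ n * algebraMap A B (s₀ ^ n) := by
          rw [mul_pow, map_pow]
      _ = h ^ n * (algebraMap A B f ^ (n - 1) * algebraMap A B c) := by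
          rw [hc, map_mul, map_pow]
      _ = algebraMap A B f ^ (n - 1) * ((↑w : B) * ↑w⁻¹) * h ^ n * algebraMap A B c := by
          rw [Units.mul_inv]; ring
      _ = algebraMap A B f ^ (n - 1) * ((↑w : B) * h ^ n) * (↑w⁻¹ * algebraMap A B c) := by ring
      _ = algebraMap A B f ^ n * (↑w⁻¹ * algebraMap A B c) := by rw [← hf, ← hnn]
  obtain ⟨b', hb'⟩ := hdvd1
  -- flatness: the relation `s₀ • h - f • b' = 0` is trivial
  obtain ⟨κ, a, y, hxy, hay⟩ := Module.Flat.isTrivialRelation_of_sum_smul_eq_zero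
      (R := A) (M := B) (f := ![s₀, -f]) (x := ![h, b']) (by
    rw [Fin.sum_univ_two]
    simp only [Matrix.cons_val_zero, Matrix.cons_val_one, Algebra.smul_def, map_neg]
    rw [mul_comm, hb']; ring)
  have hh : h = ∑ j, algebraMap A B (a 0 j) * y j := by
    have := hxy 0
    simp only [Matrix.cons_val_zero, Algebra.smul_def] at this
    exact this
  have ha : ∀ j, f ∣ a 0 j * s₀ := by
    intro j
    have := hay j
    rw [Fin.sum_univ_two] at this
    simp only [Matrix.cons_val_zero, Matrix.cons_val_one] at this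
    refine ⟨a 1 j, ?_⟩
    linear_combination this
  have hβ : ∀ j, ∃ β, algebraMap A B (a 0 j) = h * β := by
    intro j
    have h1 : f ∣ (a 0 j) ^ n := hs₀2 _ (ha j)
    have h2 : algebraMap A B f ∣ algebraMap A B (a 0 j) ^ n := by
      rw [← map_pow]; exact (algebraMap A B).map_dvd h1
    have h3 : h ^ n ∣ algebraMap A B (a 0 j) ^ n :=
      dvd_trans ⟨(w : B), by rw [hf]; ring⟩ h2
    exact (IsIntegrallyClosed.pow_dvd_pow_iff hn0).mp h3
  choose β hβ using hβ
  have hone : (1 : B) = ∑ j, β j * y j := by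
    apply mul_left_cancel₀ hh0
    rw [mul_one, Finset.mul_sum]
    conv_lhs => rw [hh]
    apply Finset.sum_congr rfl
    intro j _
    rw [hβ j]; ring
  obtain ⟨j, hj⟩ : ∃ j, IsUnit (β j) := by
    by_contra hcon
    push Not at hcon
    have : (1 : B) ∈ IsLocalRing.maximalIdeal B := by
      rw [hone]
      apply Ideal.sum_mem
      intro j _
      exact Ideal.mul_mem_right _ _ ((IsLocalRing.mem_maximalIdeal _).mpr (hcon j))
    exact (IsLocalRing.mem_maximalIdeal _).mp this isUnit_one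
  obtain ⟨βu, hβu⟩ := hj
  obtain ⟨g, hg⟩ : ∃ g, g = a 0 j := ⟨_, rfl⟩
  have hgB : algebraMap A B g = h * (βu : B) := by rw [hg, hβ j, hβu]
  have hd1 : f ∣ g ^ n := by
    apply dvd_of_map_dvd_map (B := B)
    rw [map_pow, hgB, hf]
    refine ⟨(↑w⁻¹ : B) * (βu : B) ^ n, ?_⟩
    calc (h * (βu : B)) ^ n = ((↑w : B) * ↑w⁻¹) * h ^ n * (βu : B) ^ n := by
          rw [Units.mul_inv, mul_pow]; ring
      _ = (↑w : B) * h ^ n * (↑w⁻¹ * (βu : B) ^ n) := by ring
  have hd2 : g ^ n ∣ f := by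
    apply dvd_of_map_dvd_map (B := B)
    rw [map_pow, hgB, hf]
    refine ⟨(w : B) * (↑βu⁻¹ : B) ^ n, ?_⟩
    calc (↑w : B) * h ^ n = (↑w : B) * h ^ n * (((βu : B) * ↑βu⁻¹) ^ n) := by
          rw [Units.mul_inv, one_pow, mul_one]
      _ = (h * (βu : B)) ^ n * ((w : B) * (↑βu⁻¹ : B) ^ n) := by rw [mul_pow, mul_pow]; ring
  obtain ⟨uA, huA⟩ := associated_of_dvd_dvd hd2 hd1
  exact ⟨g, uA, by rw [← huA]; ring⟩

end Groth.Agent.H36.NormalVal
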