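import Mathlib

/-!
# Lengths of the local rings of `K ⊗[k] L` at minimal primes are powers of the exponential
characteristic

`PPowLoc p A` : every localization of `A` at a minimal prime has length a power of `p`.
`FL p k F` : `PPowLoc p (F ⊗[k] κ)` for every field extension `κ / k`.
Main results: `PPowLoc.of_flat_of_fiber` (transfer along a flat map with good fibres),
`FL.trans` (transitivity in towers), and `FL.of_fg` (finitely generated field extensions).
-/

namespace Groth.Agent.H36.PPL

open TensorProduct

universe u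

/-- The length of a ring over itself is invariant under ring isomorphisms. -/
theorem length_self_of_ringEquiv {A B : Type*} [CommRing A] [CommRing B] (e : A ≃+* B) :
    Module.length A A = Module.length B B := by
  let _ : Algebra A B := e.toRingHom.toAlgebra
  have h1 : Module.length A B = Module.length B B :=
    Module.length_eq_of_surjective (R := B) (S := A) (M := B) e.surjective
  rw [← h1]
  exact LinearEquiv.length_eq (AlgEquiv.ofBijective (Algebra.ofId A B) e.bijective).toLinearEquiv

/-- Every localization at a minimal prime has length a power of `p`. -/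
def PPowLoc (p : ℕ) (A : Type*) [CommRing A] : Prop :=
  ∀ (P : Ideal A) [P.IsPrime], P ∈ minimalPrimes A →
    ∃ n : ℕ, Module.length (Localization.AtPrime P) (Localization.AtPrime P) = (p ^ n : ℕ)

theorem mem_minimalPrimes_comap_ringEquiv {A B : Type*} [CommRing A] [CommRing B] (e : A ≃+* B)
    (Q : Ideal B) (hQ : Q ∈ minimalPrimes B) : Q.comap (e : A →+* B) ∈ minimalPrimes A := by
  rw [minimalPrimes_eq_minimals] at hQ ⊢
  have hQp : Q.IsPrime := hQ.1
  refine ⟨Ideal.comap_isPrime _ Q, ?_⟩
  intro P' hP' hle a ha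
  have hP'' : (P'.comap (e.symm : B →+* A)).IsPrime := Ideal.comap_isPrime _ P'
  have h1 : P'.comap (e.symm : B →+* A) ≤ Q := by
    intro x hx
    have h3 : e.symm x ∈ Q.comap (e : A →+* B) := hle hx
    rw [Ideal.mem_comap] at h3
    simpa using h3
  have h2 := hQ.2 hP'' h1
  have h4 : e a ∈ P'.comap (e.symm : B →+* A) := h2 ha
  rw [Ideal.mem_comap] at h4
  simpa using h4

theorem PPowLoc.of_ringEquiv {p : ℕ} {A B : Type*} [CommRing A] [CommRing B] (e : A ≃+* B)
    (h : PPowLoc p A) : PPowLoc p B := by
  intro Q _ hQ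
  have : (Q.comap (e : A →+* B)).IsPrime := Ideal.comap_isPrime _ Q
  obtain ⟨n, hn⟩ := h (Q.comap (e : A →+* B)) (mem_minimalPrimes_comap_ringEquiv e Q hQ)
  refine ⟨n, ?_⟩
  rw [← hn]
  exact (length_self_of_ringEquiv (Localization.localRingEquiv _ Q e rfl)).symm

theorem length_self_of_isField {A : Type*} [CommRing A] (h : IsField A) :
    Module.length A A = 1 := by
  let _ := h.toField
  rw [Module.length_eq_one_iff]
  infer_instance

theorem PPowLoc.of_isReduced (p : ℕ) (A : Type*) [CommRing A] [IsReduced A] : PPowLoc p A := by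
  intro P _ hP
  refine ⟨0, ?_⟩
  have : Ring.KrullDimLE 0 (Localization.AtPrime P) := .of_isLocalization _ hP _
  have : IsReduced (Localization.AtPrime P) :=
    inferInstanceAs (IsReduced (Localization P.primeCompl))
  have hf : IsField (Localization.AtPrime P) := Ring.KrullDimLE.isField_of_isReduced
  simpa using length_self_of_isField hf

theorem PPowLoc.of_isLocalRing_krullDimLE_zero (p : ℕ) (A : Type*) [CommRing A] [IsLocalRing A]
    [Ring.KrullDimLE 0 A] (n : ℕ) (h : Module.length A A = (p ^ n : ℕ)) : PPowLoc p A := by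
  intro P _ hP
  refine ⟨n, ?_⟩
  rw [← h]
  have hPm : P = IsLocalRing.maximalIdeal A := Ring.KrullDimLE.eq_maximalIdeal_of_isPrime P
  have hu : P.primeCompl ≤ IsUnit.submonoid A := by
    intro x hx
    rw [IsUnit.mem_submonoid_iff]
    have : x ∉ IsLocalRing.maximalIdeal A := hPm ▸ hx
    simpa using this
  exact (length_self_of_ringEquiv
    (IsLocalization.atUnits A P.primeCompl (S := Localization.AtPrime P) hu).toRingEquiv).symm

/-- The length formula for a flat map: the local ring of `T` at the prime corresponding to a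
prime `r'` of the fibre over `q`. -/
theorem length_fiber_formula {S T : Type*} [CommRing S] [CommRing T] [Algebra S T]
    [Module.Flat S T] (q : Ideal S) [q.IsPrime] (r' : Ideal (q.Fiber T)) [r'.IsPrime] :
    Module.length
        (Localization.AtPrime
          (r'.comap (Algebra.TensorProduct.includeRight : T →ₐ[S] q.Fiber T)))
        (Localization.AtPrime
          (r'.comap (Algebra.TensorProduct.includeRight : T →ₐ[S] q.Fiber T))) =
      Module.length (Localization.AtPrime q) (Localization.AtPrime q) *
        Module.length (Localization.AtPrime r') (Localization.AtPrime r') := by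
  let r := r'.comap (Algebra.TensorProduct.includeRight : T →ₐ[S] q.Fiber T)
  let := Localization.AtPrime.algebraOfLiesOver q r
  let A := Localization.AtPrime q
  let B := Localization.AtPrime r
  have h1 := IsLocalRing.length_baseChange A B A
  have h2 : Module.length B (B ⊗[A] A) = Module.length B B :=
    (TensorProduct.AlgebraTensorModule.rid A B B).length_eq
  rw [h2] at h1
  change Module.length B B = Module.length A A * _
  rw [h1]
  congr 1
  let e := Ideal.Fiber.localizationAlgEquivQuotient q r'
  have h3 : (IsLocalRing.maximalIdeal A).map (algebraMap A B) = q.map (algebraMap S B) := by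
    rw [← Localization.AtPrime.map_eq_maximalIdeal, Ideal.map_map, ← IsScalarTower.algebraMap_eq]
  rw [h3]
  rw [Module.length_eq_of_surjective (R := B ⧸ q.map (algebraMap S B)) (S := B)
    (M := B ⧸ q.map (algebraMap S B)) Ideal.Quotient.mk_surjective]
  exact (length_self_of_ringEquiv (A := Localization.AtPrime r')
    (B := B ⧸ q.map (algebraMap S B)) e.toRingEquiv).symm

theorem under_mem_minimalPrimes_of_flat {S T : Type*} [CommRing S] [CommRing T] [Algebra S T]
    [Module.Flat S T] (r : Ideal T) (hr : r ∈ minimalPrimes T) :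
    r.under S ∈ minimalPrimes S := by
  rw [minimalPrimes_eq_minimals] at hr ⊢
  have hrp : r.IsPrime := hr.1
  refine ⟨Ideal.IsPrime.under S r, ?_⟩
  intro q' hq' hle
  obtain ⟨P, hPr, hPp, hPo⟩ :=
    Ideal.exists_ideal_le_liesOver_of_le (p := q') (q := r.under S) r hle
  have : r ≤ P := hr.2 hPp hPr
  rw [hPo.over]
  exact Ideal.comap_mono this

/-- Transfer along a flat ring map whose fibres over minimal primes are good. -/
theorem PPowLoc.of_flat_of_fiber (p : ℕ) {S T : Type*} [CommRing S] [CommRing T] [Algebra S T]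
    [Module.Flat S T] (hS : PPowLoc p S)
    (hfib : ∀ (q : Ideal S) [q.IsPrime], q ∈ minimalPrimes S → PPowLoc p (q.Fiber T)) :
    PPowLoc p T := by
  intro r _ hr
  have hq : r.under S ∈ minimalPrimes S := under_mem_minimalPrimes_of_flat r hr
  obtain ⟨a, ha⟩ := hS (r.under S) hq
  let r' : PrimeSpectrum ((r.under S).Fiber T) :=
    PrimeSpectrum.primesOverOrderIsoFiber S T (r.under S) ⟨r, inferInstance, inferInstance⟩
  have hrr' : r = r'.asIdeal.comap
      (Algebra.TensorProduct.includeRight : T →ₐ[S] (r.under S).Fiber T) := by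
    rw [← PrimeSpectrum.coe_primesOverOrderIsoFiber_symm_apply, OrderIso.symm_apply_apply]
  have hr'min : r'.asIdeal ∈ minimalPrimes ((r.under S).Fiber T) := by
    rw [minimalPrimes_eq_minimals]
    refine ⟨r'.2, ?_⟩
    intro r'' hr'' hle
    let r''' : PrimeSpectrum ((r.under S).Fiber T) := ⟨r'', hr''⟩
    have h1 : (PrimeSpectrum.primesOverOrderIsoFiber S T (r.under S)).symm r''' ≤
        (PrimeSpectrum.primesOverOrderIsoFiber S T (r.under S)).symm r' :=
      (PrimeSpectrum.primesOverOrderIsoFiber S T (r.under S)).symm.monotone hle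
    have h2 : (((PrimeSpectrum.primesOverOrderIsoFiber S T (r.under S)).symm r''' :
        (r.under S).primesOver T) : Ideal T) ≤ r := by
      have := h1
      rw [OrderIso.symm_apply_apply] at this
      exact this
    have h3 : r ≤ (((PrimeSpectrum.primesOverOrderIsoFiber S T (r.under S)).symm r''' :
        (r.under S).primesOver T) : Ideal T) := by
      rw [minimalPrimes_eq_minimals] at hr
      exact hr.2 ((PrimeSpectrum.primesOverOrderIsoFiber S T (r.under S)).symm r''').2.1 h2
    have h4 : (PrimeSpectrum.primesOverOrderIsoFiber S T (r.under S)).symm r' ≤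
        (PrimeSpectrum.primesOverOrderIsoFiber S T (r.under S)).symm r''' := by
      rw [OrderIso.symm_apply_apply]
      exact h3
    exact (PrimeSpectrum.primesOverOrderIsoFiber S T (r.under S)).symm.le_iff_le.mp h4
  obtain ⟨b, hb⟩ := hfib (r.under S) hq r'.asIdeal hr'min
  have key : ∀ (r₁ : Ideal T) (h₁ : r₁.IsPrime),
      r₁ = r'.asIdeal.comap
        (Algebra.TensorProduct.includeRight : T →ₐ[S] (r.under S).Fiber T) →
      Module.length (Localization.AtPrime r₁) (Localization.AtPrime r₁) = (p ^ (a + b) : ℕ) := by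
    rintro r₁ h₁ rfl
    rw [length_fiber_formula (r.under S) r'.asIdeal, ha, hb, pow_add]
    push_cast
    rfl
  exact ⟨a + b, key r inferInstance hrr'⟩

/-- Field-level property: all base changes of `F / k` have `p`-power multiplicities. -/
def FL (p : ℕ) (k F : Type u) [Field k] [Field F] [Algebra k F] : Prop :=
  ∀ (κ : Type u) [Field κ] [Algebra k κ], PPowLoc p (F ⊗[k] κ)

/-- Transitivity in towers. -/
theorem FL.trans (p : ℕ) (k F F' : Type u) [Field k] [Field F] [Field F'] [Algebra k F]
    [Algebra F F'] [Algebra k F'] [IsScalarTower k F F'] (h1 : FL p k F) (h2 : FL p F F') :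
    FL p k F' := by
  intro K _ _
  let S := F ⊗[k] K
  let T := S ⊗[F] F'
  have hT : PPowLoc p T := by
    apply PPowLoc.of_flat_of_fiber p (S := S) (T := T) (h1 K)
    intro q _ hq
    let e1 : q.Fiber T ≃ₐ[S] q.ResidueField ⊗[F] F' :=
      Algebra.TensorProduct.cancelBaseChange F S S q.ResidueField F'
    let e2 : q.ResidueField ⊗[F] F' ≃ₐ[F] F' ⊗[F] q.ResidueField :=
      Algebra.TensorProduct.comm F q.ResidueField F'
    exact PPowLoc.of_ringEquiv (e1.toRingEquiv.trans e2.toRingEquiv).symm (h2 q.ResidueField)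
  let e3 : T ≃ₐ[F] F' ⊗[F] S := Algebra.TensorProduct.comm F S F'
  let e4 : F' ⊗[F] S ≃ₐ[F'] F' ⊗[k] K := Algebra.TensorProduct.cancelBaseChange k F F' F' K
  exact PPowLoc.of_ringEquiv (e3.toRingEquiv.trans e4.toRingEquiv) hT

/-! ### Purely transcendental extensions -/

theorem isReduced_tensor_of_isLocalization {k κ : Type*} {A B : Type u} [CommRing k] [CommRing A]
    [CommRing B] [CommRing κ] [Algebra k A] [Algebra k B] [Algebra A B] [IsScalarTower k A B]
    [Algebra k κ] (M : Submonoid A) [IsLocalization M B] (h : IsReduced (A ⊗[k] κ)) :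
    IsReduced (B ⊗[k] κ) := by
  let f : A ⊗[k] κ →ₐ[k] B ⊗[k] κ :=
    Algebra.TensorProduct.map (IsScalarTower.toAlgHom k A B) (AlgHom.id k κ)
  let _ : Algebra (A ⊗[k] κ) (B ⊗[k] κ) := f.toRingHom.toAlgebra
  have htow : IsScalarTower A (A ⊗[k] κ) (B ⊗[k] κ) := by
    refine IsScalarTower.of_algebraMap_eq' ?_
    ext a
    simp [RingHom.algebraMap_toAlgebra, f]
  have hloc := IsLocalization.tensorProduct_tensorProduct k κ M B (by
    ext c
    simp [RingHom.algebraMap_toAlgebra, f])
  exact isReduced_localizationPreserves (Algebra.algebraMapSubmonoid (A ⊗[k] κ) M) (B ⊗[k] κ) h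

open scoped IntermediateField.algebraAdjoinAdjoin in
theorem isReduced_adjoin_tensor {k L κ : Type*} [Field k] [Field L] [Algebra k L] [Field κ]
    [Algebra k κ] {ι : Type*} (x : ι → L) (hx : AlgebraicIndependent k x) :
    IsReduced (↥(IntermediateField.adjoin k (Set.range x)) ⊗[k] κ) := by
  have e0 : MvPolynomial ι k ≃ₐ[k] Algebra.adjoin k (Set.range x) := hx.aevalEquiv
  let e1 : Algebra.adjoin k (Set.range x) ⊗[k] κ ≃ₐ[k] MvPolynomial ι k ⊗[k] κ :=
    Algebra.TensorProduct.congr e0.symm AlgEquiv.refl
  let e2 := Algebra.TensorProduct.comm k (MvPolynomial ι k) κ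
  let e3 : κ ⊗[k] MvPolynomial ι k ≃ₐ[κ] MvPolynomial ι κ := MvPolynomial.algebraTensorAlgEquiv k κ
  have hred : IsReduced (Algebra.adjoin k (Set.range x) ⊗[k] κ) :=
    isReduced_of_injective ((e1.trans e2).toRingEquiv.trans e3.toRingEquiv).toRingHom
      ((e1.trans e2).toRingEquiv.trans e3.toRingEquiv).injective
  exact isReduced_tensor_of_isLocalization (nonZeroDivisors (Algebra.adjoin k (Set.range x))) hred

/-! ### Finite separable extensions -/

theorem isReduced_tensor_of_isSeparable {F E κ : Type*} [Field F] [Field E] [Algebra F E]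
    [Field κ] [Algebra F κ] [FiniteDimensional F E] [Algebra.IsSeparable F E] :
    IsReduced (E ⊗[F] κ) := by
  have h0 : Algebra.FormallyUnramified F E := Algebra.FormallyUnramified.of_isSeparable F E
  have h1 : IsReduced (κ ⊗[F] E) :=
    Algebra.FormallyUnramified.isReduced_of_field κ (κ ⊗[F] E)
  let e := Algebra.TensorProduct.comm F E κ
  exact isReduced_of_injective e.toRingEquiv.toRingHom e.injective

/-! ### Finite purely inseparable extensions -/

section insep

variable {E L κ : Type*} [Field E] [Field L] [Algebra E L] [Field κ] [Algebra E κ]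
  [IsPurelyInseparable E L]

theorem exists_pow_eq_algebraMap (p : ℕ) [ExpChar E p] (a : κ ⊗[E] L) :
    ∃ (m : ℕ) (c : κ), a ^ p ^ m = algebraMap κ (κ ⊗[E] L) c := by
  have : ExpChar κ p := expChar_of_injective_algebraMap (algebraMap E κ).injective p
  have : ExpChar (κ ⊗[E] L) p :=
    expChar_of_injective_algebraMap (algebraMap κ (κ ⊗[E] L)).injective p
  induction a using TensorProduct.induction_on with
  | zero =>
    refine ⟨0, 0, by simp⟩
  | tmul c l =>
    obtain ⟨m, e, he⟩ := IsPurelyInseparable.pow_mem E p l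
    refine ⟨m, e • c ^ p ^ m, ?_⟩
    rw [Algebra.TensorProduct.tmul_pow, ← he, Algebra.algebraMap_eq_smul_one (A := L),
      TensorProduct.tmul_smul, Algebra.TensorProduct.algebraMap_apply, Algebra.algebraMap_self,
      RingHom.id_apply, TensorProduct.smul_tmul']
  | add a b ha hb =>
    obtain ⟨m1, c1, h1⟩ := ha
    obtain ⟨m2, c2, h2⟩ := hb
    refine ⟨m1 + m2, c1 ^ p ^ m2 + c2 ^ p ^ m1, ?_⟩
    rw [add_pow_expChar_pow, pow_add, pow_mul, h1, map_add, map_pow, map_pow]
    congr 1
    rw [mul_comm, pow_mul, h2]

theorem isNilpotent_iff_not_isUnit (p : ℕ) [ExpChar E p] (a : κ ⊗[E] L) :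
    IsNilpotent a ↔ ¬ IsUnit a := by
  have hp : p ≠ 0 := (expChar_pos E p).ne'
  constructor
  · rintro ⟨n, hn⟩ hu
    have := hu.pow n
    rw [hn] at this
    exact not_isUnit_zero this
  · intro hu
    obtain ⟨m, c, hc⟩ := exists_pow_eq_algebraMap p a
    by_cases h0 : c = 0
    · exact ⟨p ^ m, by rw [hc, h0, map_zero]⟩
    · exfalso
      apply hu
      have h1 : IsUnit (a ^ p ^ m) := by
        rw [hc]
        exact (isUnit_iff_ne_zero.mpr h0).map (algebraMap κ (κ ⊗[E] L))
      exact (isUnit_pow_iff (pow_ne_zero m hp)).mp h1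

theorem pPowLoc_tensor_of_isPurelyInseparable (p : ℕ) [ExpChar E p] [FiniteDimensional E L] :
    PPowLoc p (L ⊗[E] κ) := by
  have hA := ((Ring.krullDimLE_zero_and_isLocalRing_tfae (κ ⊗[E] L)).out 2 0 rfl rfl).mp
    (isNilpotent_iff_not_isUnit p)
  have : Ring.KrullDimLE 0 (κ ⊗[E] L) := hA.1
  have : IsLocalRing (κ ⊗[E] L) := hA.2
  have : ExpChar κ p := expChar_of_injective_algebraMap (algebraMap E κ).injective p
  have h1 := IsLocalRing.length_restrictScalars κ (κ ⊗[E] L) (κ ⊗[E] L)
  have h2 : Module.length κ (κ ⊗[E] L) = (Module.finrank E L : ℕ) := by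
    rw [Module.length_eq_finrank, Module.finrank_baseChange]
  obtain ⟨e, he⟩ := IsPurelyInseparable.finrank_eq_pow (F := E) L p
  have : ExpChar (IsLocalRing.ResidueField κ) p :=
    expChar_of_injective_ringHom (IsLocalRing.residue κ).injective p
  have hpi : IsPurelyInseparable (IsLocalRing.ResidueField κ)
      (IsLocalRing.ResidueField (κ ⊗[E] L)) := by
    rw [isPurelyInseparable_iff_pow_mem _ p]
    intro x
    obtain ⟨a, rfl⟩ := IsLocalRing.residue_surjective x
    obtain ⟨m, c, hc⟩ := exists_pow_eq_algebraMap p a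
    refine ⟨m, IsLocalRing.residue κ c, ?_⟩
    rw [IsLocalRing.ResidueField.algebraMap_residue, ← hc, map_pow]
  obtain ⟨f, hf⟩ := IsPurelyInseparable.finrank_eq_pow (F := IsLocalRing.ResidueField κ)
    (IsLocalRing.ResidueField (κ ⊗[E] L)) p
  have h3 : Module.length (IsLocalRing.ResidueField κ) (IsLocalRing.ResidueField (κ ⊗[E] L))
      = (p ^ f : ℕ) := by
    rw [Module.length_eq_finrank, hf]
  rw [h2, he, h3] at h1
  have hp : 0 < p := expChar_pos E p
  have h4 : ∃ j : ℕ, Module.length (κ ⊗[E] L) (κ ⊗[E] L) = (p ^ j : ℕ) := by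
    cases hℓ : Module.length (κ ⊗[E] L) (κ ⊗[E] L) with
    | top =>
      rw [hℓ, ENat.top_mul (by exact_mod_cast (pow_pos hp f).ne')] at h1
      exact absurd h1 (ENat.natCast_ne_top _)
    | coe n =>
      rw [hℓ] at h1
      have h5 : p ^ e = n * p ^ f := by exact_mod_cast h1
      rcases ‹ExpChar E p› with _ | ⟨hprime⟩
      · refine ⟨0, ?_⟩
        simp only [one_pow, mul_one] at h5
        simp [← h5]
      · have : n ∣ p ^ e := ⟨p ^ f, h5⟩
        obtain ⟨j, _, hj⟩ := (Nat.dvd_prime_pow hprime).mp this
        exact ⟨j, by rw [hj]⟩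
  obtain ⟨j, hj⟩ := h4
  exact PPowLoc.of_ringEquiv (Algebra.TensorProduct.comm E κ L).toRingEquiv
    (PPowLoc.of_isLocalRing_krullDimLE_zero p (κ ⊗[E] L) j hj)

end insep

/-! ### Finitely generated field extensions -/

theorem FL.of_fg (p : ℕ) (k L : Type u) [Field k] [Field L] [Algebra k L] [ExpChar k p]
    (hL : (⊤ : IntermediateField k L).FG) : FL p k L := by
  classical
  have hess : Algebra.EssFiniteType k L := IntermediateField.fg_top_iff.mp hL
  obtain ⟨s, hs⟩ := hL
  have : Algebra.IsAlgebraic (Algebra.adjoin k (s : Set L)) L := by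
    rw [← IntermediateField.isAlgebraic_adjoin_iff_top, hs, Algebra.isAlgebraic_iff_isIntegral]
    refine Algebra.isIntegral_of_surjective IntermediateField.topEquiv.surjective
  have ⟨t, hts, ht⟩ := exists_isTranscendenceBasis_subset (R := k) (s : Set L)
  set x : t → L := ((↑) : t → L) with hxdef
  have halg : Algebra.IsAlgebraic (IntermediateField.adjoin k (Set.range x)) L :=
    ht.isAlgebraic_field
  have : Algebra.EssFiniteType (IntermediateField.adjoin k (Set.range x)) L :=
    Algebra.EssFiniteType.of_comp k _ L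
  have hfin : Module.Finite (IntermediateField.adjoin k (Set.range x)) L :=
    Algebra.finite_of_essFiniteType_of_isAlgebraic
  -- step 1
  have h1 : FL p k (IntermediateField.adjoin k (Set.range x)) := by
    intro κ _ _
    have := isReduced_adjoin_tensor (κ := κ) x ht.1
    exact PPowLoc.of_isReduced p _
  -- step 2
  have h2 : FL p (IntermediateField.adjoin k (Set.range x))
      (separableClosure (IntermediateField.adjoin k (Set.range x)) L) := by
    intro κ _ _
    have := isReduced_tensor_of_isSeparable (F := IntermediateField.adjoin k (Set.range x))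
      (E := separableClosure (IntermediateField.adjoin k (Set.range x)) L) (κ := κ)
    exact PPowLoc.of_isReduced p _
  -- step 3
  have : ExpChar (separableClosure (IntermediateField.adjoin k (Set.range x)) L) p :=
    expChar_of_injective_algebraMap (algebraMap k _).injective p
  have h3 : FL p (separableClosure (IntermediateField.adjoin k (Set.range x)) L) L := by
    intro κ _ _
    exact pPowLoc_tensor_of_isPurelyInseparable p
  have : IsScalarTower k (separableClosure (IntermediateField.adjoin k (Set.range x)) L) L :=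
    IsScalarTower.of_algebraMap_eq (fun _ => rfl)
  exact FL.trans p k _ L (FL.trans p k _ _ h1 h2) h3

end Groth.Agent.H36.PPL
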