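import Mathlib

/-!
Extending an element outside the minimal primes to a system of parameters inside a power of the
maximal ideal.
-/

set_option autoImplicit false
universe u

namespace Groth.Agent.H36

open IsLocalRing

section

variable (R : Type u) [CommRing R] [IsNoetherianRing R] [IsLocalRing R]

theorem exists_partial_sop (d : ℕ) (hd : ringKrullDim R = d) (f : R)
    (hmin : ∀ p ∈ minimalPrimes R, f ∉ p) (k : ℕ) :
    ∀ i : ℕ, i + 1 ≤ d → ∃ g : Fin i → R, (∀ j, g j ∈ maximalIdeal R ^ (k + 1)) ∧
      ∀ q ∈ (Ideal.span (insert f (Set.range g))).minimalPrimes, ((i + 1 : ℕ) : ℕ∞) ≤ q.height := by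
  classical
  have hm : (maximalIdeal R).height = (d : ℕ∞) := by
    have := IsLocalRing.maximalIdeal_height_eq_ringKrullDim (R := R)
    rw [hd] at this
    exact_mod_cast this
  intro i
  induction i with
  | zero =>
    intro _
    refine ⟨Fin.elim0, fun j => j.elim0, ?_⟩
    intro q hq
    have hqp : q.IsPrime := hq.isPrime
    have hfq : f ∈ q := hq.1.2 (Ideal.subset_span (Set.mem_insert _ _))
    rw [Nat.zero_add, Nat.cast_one, Order.one_le_iff_ne_zero]
    intro h0
    exact hmin q (Ideal.height_eq_zero_iff.mp h0) hfq
  | succ i ih =>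
    intro hi
    obtain ⟨g, hg, hq⟩ := ih (by omega)
    set I := Ideal.span (insert f (Set.range g)) with hI
    have hfin : I.minimalPrimes.Finite := Ideal.finite_minimalPrimes_of_isNoetherianRing R I
    -- each minimal prime over `I` differs from the maximal ideal
    have hne : ∀ p ∈ I.minimalPrimes, ¬ (maximalIdeal R ^ (k + 1) ≤ p) := by
      intro p hp hle
      have hpp : p.IsPrime := hp.isPrime
      have hmp : maximalIdeal R ≤ p := (Ideal.IsPrime.pow_le_iff (Nat.succ_ne_zero k)).mp hle
      have hpm : p = maximalIdeal R :=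
        ((maximalIdeal.isMaximal R).eq_of_le hpp.ne_top hmp).symm
      have hcard : p.height ≤ ((insert f (Finset.univ.image g) : Finset R).card : ℕ∞) := by
        apply Ideal.height_le_card_of_mem_minimalPrimes_span_finset
        rw [Finset.coe_insert, Finset.coe_image, Finset.coe_univ, Set.image_univ]
        exact hp
      have hcard2 : (insert f (Finset.univ.image g) : Finset R).card ≤ i + 1 := by
        refine (Finset.card_insert_le _ _).trans ?_
        have := Finset.card_image_le (s := (Finset.univ : Finset (Fin i))) (f := g)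
        simp only [Finset.card_univ, Fintype.card_fin] at this
        omega
      rw [hpm, hm] at hcard
      have : (d : ℕ∞) ≤ ((i + 1 : ℕ) : ℕ∞) := hcard.trans (by exact_mod_cast hcard2)
      have : d ≤ i + 1 := by exact_mod_cast this
      omega
    -- prime avoidance
    have havoid : ¬ ((maximalIdeal R ^ (k + 1) : Ideal R) : Set R) ⊆
        ⋃ p ∈ (hfin.toFinset : Set (Ideal R)), (p : Set R) := by
      intro hsub
      have := (Ideal.subset_union_prime (R := R) (s := hfin.toFinset) (f := fun p => p) ⊤ ⊤
        (fun p hp _ _ => (hfin.mem_toFinset.mp hp).isPrime)).mp hsub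
      obtain ⟨p, hp, hle⟩ := this
      exact hne p (hfin.mem_toFinset.mp hp) hle
    rw [Set.not_subset] at havoid
    obtain ⟨x, hx, hxp⟩ := havoid
    have hxp' : ∀ p ∈ I.minimalPrimes, x ∉ p := by
      intro p hp hxmem
      apply hxp
      simp only [Set.mem_iUnion]
      exact ⟨p, by simpa using hp, hxmem⟩
    refine ⟨Fin.snoc g x, ?_, ?_⟩
    · intro j
      refine Fin.lastCases ?_ (fun j => ?_) j
      · simpa using hx
      · simpa using hg j
    · intro q hqmin
      have hqp : q.IsPrime := hqmin.isPrime
      have hrange : insert f (Set.range (Fin.snoc g x : Fin (i + 1) → R)) =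
          insert x (insert f (Set.range g)) := by
        ext y
        simp only [Set.mem_insert_iff, Set.mem_range]
        constructor
        · rintro (rfl | ⟨j, rfl⟩)
          · exact Or.inr (Or.inl rfl)
          · refine Fin.lastCases ?_ (fun j => ?_) j
            · left; simp
            · right; right; exact ⟨j, by simp⟩
        · rintro (rfl | rfl | ⟨j, rfl⟩)
          · right; exact ⟨Fin.last i, by simp⟩
          · left; rfl
          · right; exact ⟨j.castSucc, by simp⟩
      have hIq : I ≤ q := by
        refine le_trans ?_ hqmin.1.2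
        apply Ideal.span_mono
        rw [hrange]
        exact Set.subset_insert _ _
      have hxq : x ∈ q := by
        apply hqmin.1.2
        apply Ideal.subset_span
        rw [hrange]
        exact Set.mem_insert _ _
      obtain ⟨p, hp, hpq⟩ := Ideal.exists_minimalPrimes_le hIq
      have hpp : p.IsPrime := hp.isPrime
      have hlt : p < q := lt_of_le_of_ne hpq (fun h => hxp' p hp (h ▸ hxq))
      have h1 := Ideal.height_add_one_le_of_lt_of_isPrime hlt
      have h2 := hq p hp
      calc ((i + 1 + 1 : ℕ) : ℕ∞) = ((i + 1 : ℕ) : ℕ∞) + 1 := by push_cast; ring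
        _ ≤ p.height + 1 := by gcongr
        _ ≤ q.height := h1

/-- extension of an element outside all minimal primes to a system of parameters lying in a
given power of the maximal ideal -/
theorem exists_sop_extending (d : ℕ) (hd : ringKrullDim R = d) (f : R)
    (hmin : ∀ p ∈ minimalPrimes R, f ∉ p) (k : ℕ) (h1 : 1 ≤ d) :
    ∃ g : Fin (d - 1) → R, (∀ i, g i ∈ maximalIdeal R ^ (k + 1)) ∧
      maximalIdeal R ≤ (Ideal.span (insert f (Set.range g))).radical := by
  have hm : (maximalIdeal R).height = (d : ℕ∞) := by
    have := IsLocalRing.maximalIdeal_height_eq_ringKrullDim (R := R)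
    rw [hd] at this
    exact_mod_cast this
  obtain ⟨g, hg, hq⟩ := exists_partial_sop R d hd f hmin k (d - 1) (by omega)
  refine ⟨g, hg, ?_⟩
  rw [← Ideal.sInf_minimalPrimes]
  apply le_sInf
  intro q hqmin
  have hqp : q.IsPrime := hqmin.isPrime
  have hqm : q ≤ maximalIdeal R := IsLocalRing.le_maximalIdeal hqp.ne_top
  by_contra hnot
  have hlt : q < maximalIdeal R := lt_of_le_of_ne hqm (fun h => hnot (h ▸ le_rfl))
  have h2 := Ideal.height_add_one_le_of_lt_of_isPrime hlt
  have h3 := hq q hqmin
  rw [hm] at h2
  have : ((d - 1 + 1 : ℕ) : ℕ∞) + 1 ≤ (d : ℕ∞) := le_trans (by gcongr) h2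
  have h4 : d - 1 + 1 + 1 ≤ d := by exact_mod_cast this
  omega

end

end Groth.Agent.H36
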