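import Mathlib
import Groth.Prelude.Def_HopfRep
import Groth.Prelude.Def_SGA3b
import Groth.Agent.H36.HopfDomain
import Groth.Agent.H80.UnitsVal4
import Groth.Agent.H82.FlagBC
import Groth.Agent.H74.GrpLikeBC
import Groth.Agent.H14.GeomBC.SmoothReduced
import Groth.Agent.H15.HopfFib1

/-!
# Morphisms from a smooth connected unipotent group to a group of multiplicative type (helper36)

* `groupLike_eq_one`: a unipotent group has no nontrivial characters.
* `exists_algClosed_isDiagonalizable`: a Hopf algebra of (constant) multiplicative type over a field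
  becomes diagonalizable over some algebraically closed extension.
* `const_of_algClosed`: over an algebraically closed field every morphism of schemes from a
  connected reduced unipotent group to a diagonalizable group is constant (Rosenlicht).
* `main`: the statement over an arbitrary field.
-/

set_option autoImplicit false
universe u

open TensorProduct HopfRep

namespace Groth.Agent.H36.UnipMT

section GroupLike

variable {k : Type u} [Field k] {A : Type u} [CommRing A] [Bialgebra k A]

/-- The one-dimensional comodule of a group-like element. -/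
@[reducible] noncomputable def charComod (g : A) (hg : IsGroupLikeElem k g) : Comod k A k where
  coact := (TensorProduct.mk k k A).flip g
  coassoc := by
    ext
    simp [hg.comul_eq_tmul_self]
  counit_comp := by
    ext
    simp [hg.counit_eq_one]

/-- A unipotent group has no nontrivial characters. -/
theorem groupLike_eq_one (hU : IsUnipotent k A) (g : A) (hg : IsGroupLikeElem k g) : g = 1 := by
  letI : Comod k A k := charComod g hg
  have h := hU k inferInstance inferInstance
  obtain ⟨x, hx, hx0⟩ := (Submodule.ne_bot_iff _).1 h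
  have h1 : (x ⊗ₜ[k] g : k ⊗[k] A) = x ⊗ₜ[k] (1 : A) := hx
  have h2 := congrArg (TensorProduct.lid k A) h1
  simp only [TensorProduct.lid_tmul] at h2
  have h3 : x⁻¹ • (x • g) = x⁻¹ • (x • (1 : A)) := by rw [h2]
  rwa [smul_smul, smul_smul, inv_mul_cancel₀ hx0, one_smul, one_smul] at h3

end GroupLike

section Diag

/-- A Hopf algebra of constant multiplicative type over a field is diagonalizable over some
algebraically closed extension field. -/
theorem exists_algClosed_isDiagonalizable (k : Type u) [Field k] (B : Type u) [CommRing B]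
    [HopfAlgebra k B] (hB : SGA3b.IsMultTypeConst k B) :
    ∃ (Ω : Type u) (_ : Field Ω) (_ : Algebra k Ω), IsAlgClosed Ω ∧
      HopfRep.IsDiagonalizable Ω (Ω ⊗[k] B) := by
  obtain ⟨R', _, _, hff, M, _, ⟨e⟩⟩ := hB
  haveI : Nontrivial R' := by
    by_contra hnt
    rw [not_nontrivial_iff_subsingleton] at hnt
    have := Module.FaithfullyFlat.lTensor_reflects_triviality k R' k
    exact (not_subsingleton k) this
  obtain ⟨𝔪, h𝔪⟩ := Ideal.exists_maximal R'
  letI : Field (R' ⧸ 𝔪) := Ideal.Quotient.field 𝔪
  let Ω := AlgebraicClosure (R' ⧸ 𝔪)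
  let ι : R' →ₐ[k] Ω := (IsScalarTower.toAlgHom k (R' ⧸ 𝔪) Ω).comp (Ideal.Quotient.mkₐ k 𝔪)
  refine ⟨Ω, inferInstance, inferInstance, inferInstance, ?_⟩
  have hspan : Submodule.span R' {g : R' ⊗[k] B | IsGroupLikeElem R' g} = ⊤ := by
    rw [eq_top_iff]
    intro x _
    have hx : e x ∈ Submodule.span R' {a : MonoidAlgebra R' M | IsGroupLikeElem R' a} := by
      rw [MonoidAlgebra.span_isGroupLikeElem]
      exact Submodule.mem_top
    have key : ∀ y ∈ Submodule.span R' {a : MonoidAlgebra R' M | IsGroupLikeElem R' a},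
        e.symm y ∈ Submodule.span R' {g : R' ⊗[k] B | IsGroupLikeElem R' g} := by
      intro y hy
      induction hy using Submodule.span_induction with
      | mem a ha => exact Submodule.subset_span (IsGroupLikeElem.map e.symm ha)
      | zero => rw [map_zero]; exact zero_mem _
      | add a b _ _ ha hb => rw [map_add]; exact add_mem ha hb
      | smul c a _ ha => rw [map_smul]; exact Submodule.smul_mem _ _ ha
    have := key _ hx
    rwa [BialgEquiv.symm_apply_apply] at this
  unfold HopfRep.IsDiagonalizable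
  rw [eq_top_iff]
  suffices hz : ∀ z : Ω ⊗[k] B,
      z ∈ Submodule.span Ω {g : Ω ⊗[k] B | IsGroupLikeElem Ω g} from fun z _ => hz z
  intro z
  induction z with
  | zero => exact zero_mem _
  | add x y hx hy => exact add_mem hx hy
  | tmul c b =>
    have h1 : (c ⊗ₜ[k] b : Ω ⊗[k] B) =
        c • Groth.Agent.H74.GrpLikeBC.theta ι B ((1 : R') ⊗ₜ[k] b) := by
      rw [Groth.Agent.H74.GrpLikeBC.theta_tmul, map_one, TensorProduct.smul_tmul', smul_eq_mul,
        mul_one]
    rw [h1]
    apply Submodule.smul_mem
    apply Groth.Agent.H74.GrpLikeBC.theta_mem_span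
    rw [hspan]
    exact Submodule.mem_top

end Diag

section AlgClosed

/-- Over an algebraically closed field: every morphism of schemes from a connected reduced unipotent
algebraic group to a diagonalizable group is constant. -/
theorem const_of_algClosed (Ω : Type u) [Field Ω] [IsAlgClosed Ω] (A : Type u) [CommRing A]
    [HopfAlgebra Ω A] [Algebra.FiniteType Ω A] [IsReduced A]
    (hconn : ∀ e : A, IsIdempotentElem e → e = 0 ∨ e = 1) (hU : IsUnipotent Ω A)
    (B : Type u) [CommRing B] [HopfAlgebra Ω B] (hB : HopfRep.IsDiagonalizable Ω B)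
    (f : B →ₐ[Ω] A) (b : B) :
    f b = algebraMap Ω A (Coalgebra.counit (R := Ω) (f b)) := by
  classical
  have hdom : IsDomain A := Groth.Agent.H36.HopfDom.isDomain_of_connected Ω hconn
  have hlin : f.toLinearMap =
      (Algebra.linearMap Ω A) ∘ₗ (Coalgebra.counit (R := Ω) (A := A)) ∘ₗ f.toLinearMap := by
    apply LinearMap.ext_on hB
    intro b hb
    have hb' : IsGroupLikeElem Ω b := hb
    change f b = algebraMap Ω A (Coalgebra.counit (R := Ω) (f b))
    set u : A := f b with hu
    have hunit : IsUnit u := hb'.isUnit.map f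
    have hΔunit : IsUnit (Coalgebra.comul (R := Ω) u) := by
      have := hunit.map (Bialgebra.comulAlgHom Ω A)
      rwa [Bialgebra.comulAlgHom_apply] at this
    obtain ⟨g, hg⟩ := hΔunit.exists_right_inv
    obtain ⟨v, w, -, -, hvw⟩ := Groth.Agent.H80.UnitsVal.rosenlicht Ω A A _ g hg
    have h1 : Coalgebra.counit (R := Ω) v • w = u := by
      have := Coalgebra.rTensor_counit_comul (R := Ω) u
      rw [hvw, LinearMap.rTensor_tmul] at this
      have h2 := congrArg (TensorProduct.lid Ω A) this
      simpa using h2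
    have h2 : Coalgebra.counit (R := Ω) w • v = u := by
      have := Coalgebra.lTensor_counit_comul (R := Ω) u
      rw [hvw, LinearMap.lTensor_tmul] at this
      have h2 := congrArg (TensorProduct.rid Ω A) this
      simpa using h2
    set c : Ω := Coalgebra.counit (R := Ω) u with hc
    have h3 : Coalgebra.counit (R := Ω) v * Coalgebra.counit (R := Ω) w = c := by
      rw [hc, ← h1, map_smul, smul_eq_mul]
    have hc0 : c ≠ 0 := by
      have : IsUnit c := by
        have := hunit.map (Bialgebra.counitAlgHom Ω A)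
        rwa [Bialgebra.counitAlgHom_apply] at this
      exact this.ne_zero
    have hΔ : Coalgebra.comul (R := Ω) u = c⁻¹ • (u ⊗ₜ[Ω] u) := by
      rw [hvw]
      calc v ⊗ₜ[Ω] w
          = c⁻¹ • ((Coalgebra.counit (R := Ω) w * Coalgebra.counit (R := Ω) v) • (v ⊗ₜ[Ω] w)) := by
            rw [mul_comm, h3, smul_smul, inv_mul_cancel₀ hc0, one_smul]
        _ = c⁻¹ • ((Coalgebra.counit (R := Ω) w • v) ⊗ₜ[Ω] (Coalgebra.counit (R := Ω) v • w)) := by
            rw [TensorProduct.smul_tmul_smul]
        _ = c⁻¹ • (u ⊗ₜ[Ω] u) := by rw [h1, h2]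
    have hgl : IsGroupLikeElem Ω (c⁻¹ • u) := by
      constructor
      · rw [map_smul, smul_eq_mul, ← hc, inv_mul_cancel₀ hc0]
      · rw [map_smul, hΔ, TensorProduct.smul_tmul_smul, smul_smul]
    have h4 := groupLike_eq_one hU _ hgl
    have h5 : u = c • (1 : A) := by
      rw [← h4, smul_smul, mul_inv_cancel₀ hc0, one_smul]
    rw [h5, Algebra.algebraMap_eq_smul_one]
  exact LinearMap.congr_fun hlin b

end AlgClosed

section Main

/-- Over a field `k`: idempotents of `Ω ⊗ C` are trivial when those of the augmented algebra `C`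
are. -/
theorem idem_trivial_baseChange (k : Type u) [Field k] (Ω : Type u) [Field Ω] [Algebra k Ω]
    (C : Type u) [CommRing C] [Algebra k C] (ε : C →ₐ[k] k)
    (hconn : ∀ e : C, IsIdempotentElem e → e = 0 ∨ e = 1) (e : Ω ⊗[k] C)
    (he : IsIdempotentElem e) : e = 0 ∨ e = 1 := by
  let φ : Ω ⊗[k] C →ₐ[Ω] Ω ⊗[k] k := Algebra.TensorProduct.map (AlgHom.id Ω Ω) ε
  have hφ : ∀ x : Ω ⊗[k] C, ε.toLinearMap.lTensor Ω x = φ x := by
    intro x
    induction x with
    | zero => simp
    | add x y hx hy => simp only [map_add, hx, hy]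
    | tmul a c => simp [φ]
  let ψ : Ω ⊗[k] k ≃ₐ[Ω] Ω := Algebra.TensorProduct.rid k Ω Ω
  have hidem : IsIdempotentElem (ψ (φ e)) := (he.map φ).map ψ
  rcases IsIdempotentElem.iff_eq_zero_or_one.1 hidem with h0 | h1
  · left
    apply Groth.Agent.H15.HF.idem_eq_zero_of_aug hconn ε e he
    rw [hφ]
    exact ψ.injective (by rw [h0, map_zero])
  · right
    have he' : IsIdempotentElem (1 - e) := he.one_sub
    have : 1 - e = 0 := by
      apply Groth.Agent.H15.HF.idem_eq_zero_of_aug hconn ε (1 - e) he'
      rw [hφ]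
      apply ψ.injective
      rw [map_sub, map_sub, map_one, map_one, h1, sub_self, map_zero]
    exact (sub_eq_zero.1 this).symm

/-- **Every morphism of schemes from a smooth connected unipotent algebraic group to a group of
multiplicative type is constant.** -/
theorem main (k : Type u) [Field k] (C B : Type u) [CommRing C] [HopfAlgebra k C]
    [Algebra.FiniteType k C] [Algebra.FormallySmooth k C]
    (hconn : ∀ e : C, IsIdempotentElem e → e = 0 ∨ e = 1)
    (hU : HopfRep.IsUnipotent k C) [CommRing B] [HopfAlgebra k B]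
    (hB : SGA3b.IsMultTypeConst k B) (f : B →ₐ[k] C) (b : B) :
    f b = algebraMap k C (Bialgebra.counitAlgHom k C (f b)) := by
  obtain ⟨Ω, _, _, hΩ, hdiag⟩ := exists_algClosed_isDiagonalizable k B hB
  haveI : Algebra.FinitePresentation k C :=
    Algebra.FinitePresentation.of_finiteType.mp inferInstance
  haveI : Algebra.Smooth k C := ⟨inferInstance, inferInstance⟩
  haveI : Algebra.Smooth Ω (Ω ⊗[k] C) := inferInstance
  haveI : IsReduced (Ω ⊗[k] C) := Groth.Agent.H14.GeomBC.isReduced_of_smooth Ω (Ω ⊗[k] C)
  have hconn' : ∀ e : Ω ⊗[k] C, IsIdempotentElem e → e = 0 ∨ e = 1 :=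
    idem_trivial_baseChange k Ω C (Bialgebra.counitAlgHom k C) hconn
  have hU' : IsUnipotent Ω (Ω ⊗[k] C) := Groth.Agent.H82.FlagBC.unip_baseChange (K := Ω) hU
  let fΩ : Ω ⊗[k] B →ₐ[Ω] Ω ⊗[k] C := Algebra.TensorProduct.map (AlgHom.id Ω Ω) f
  have key := const_of_algClosed Ω (Ω ⊗[k] C) hconn' hU' (Ω ⊗[k] B) hdiag fΩ ((1 : Ω) ⊗ₜ[k] b)
  have h1 : fΩ ((1 : Ω) ⊗ₜ[k] b) = (1 : Ω) ⊗ₜ[k] f b := by simp [fΩ]
  rw [h1, TensorProduct.counit_tmul] at key
  apply Algebra.TensorProduct.includeRight_injective (A := Ω) (algebraMap k Ω).injective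
  change (1 : Ω) ⊗ₜ[k] f b = (1 : Ω) ⊗ₜ[k] algebraMap k C (Bialgebra.counitAlgHom k C (f b))
  rw [key, Algebra.TensorProduct.algebraMap_apply]
  simp only [CommSemiring.counit_apply, Algebra.algebraMap_self, RingHom.id_apply,
    Bialgebra.counitAlgHom_apply]
  rw [Algebra.algebraMap_eq_smul_one (Coalgebra.counit (R := k) (f b)), TensorProduct.tmul_smul,
    TensorProduct.smul_tmul']

end Main

end Groth.Agent.H36.UnipMT
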