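import Mathlib
import Groth.Agent.H36.WildQuotA
import Groth.Agent.H47.PSHom
import Groth.Agent.H44.AdicLemmas

/-!
# Invariants of a finite group acting on a complete local ring with a coefficient field (part B)

The invariant power series subring and finiteness over it.
-/

set_option autoImplicit false
set_option linter.unusedSectionVars false
set_option linter.unusedVariables false
set_option linter.style.haveILetI false

universe u v w

namespace Groth.Agent.H36.WildQuot

open IsLocalRing MvPowerSeries

section Hom

variable (A : Type u) [CommRing A] [IsLocalRing A] [IsNoetherianRing A]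
  [IsAdicComplete (maximalIdeal A) A]
  (k : Type v) [Field k] [Algebra k A]

/-- A power series hom over a coefficient field whose variables go to an `m`-primary family is
finite. -/
theorem finite_of_ps_hom
    (hk : Function.Surjective (IsLocalRing.residue A ∘ algebraMap k A))
    {ι : Type*} [Finite ι] (φ : MvPowerSeries ι k →+* A)
    (hC : ∀ a, φ (C a) = algebraMap k A a) (hX : ∀ i, φ (X i) ∈ maximalIdeal A)
    (hrad : maximalIdeal A ≤ (Ideal.span (Set.range fun i => φ (X i))).radical) :
    φ.Finite := by
  classical
  letI := φ.toAlgebra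
  show Module.Finite (MvPowerSeries ι k) A
  have hmap : (Ideal.span (Set.range (X : ι → MvPowerSeries ι k))).map φ =
      Ideal.span (Set.range fun i => φ (X i)) := by
    rw [Ideal.map_span, ← Set.range_comp]
    rfl
  obtain ⟨N, hN⟩ := Ideal.exists_pow_le_of_le_radical_of_fg hrad (IsNoetherian.noetherian _)
  have hle : (Ideal.span (Set.range (X : ι → MvPowerSeries ι k))).map
      (algebraMap (MvPowerSeries ι k) A) ≤ maximalIdeal A := by
    show (Ideal.span (Set.range (X : ι → MvPowerSeries ι k))).map φ ≤ maximalIdeal A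
    rw [hmap, Ideal.span_le]
    rintro _ ⟨i, rfl⟩
    exact hX i
  haveI : IsHausdorff (Ideal.span (Set.range (X : ι → MvPowerSeries ι k))) A :=
    IsHausdorff.of_map (J := maximalIdeal A) hle
  obtain ⟨n, g, hg⟩ := exists_fin_approx A k hk N
  refine Groth.Agent.H44.finite_of_exists_approx
    (Ideal.span (Set.range (X : ι → MvPowerSeries ι k))) A g (fun y => ?_)
  obtain ⟨a, ha⟩ := hg y
  refine ⟨fun i => C (a i), ?_⟩
  rw [Ideal.smul_top_eq_map]
  show _ ∈ (Ideal.span (Set.range (X : ι → MvPowerSeries ι k))).map φ
  rw [hmap]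
  apply hN
  have : ∑ i, (C (a i) : MvPowerSeries ι k) • g i = ∑ i, algebraMap k A (a i) * g i := by
    refine Finset.sum_congr rfl fun i _ => ?_
    rw [Algebra.smul_def]
    show φ (C (a i)) * g i = _
    rw [hC]
  rw [this]
  exact ha

variable (G : Type w) [Group G] [Finite G] [MulSemiringAction G A]

/-- The invariant power series subring. -/
theorem exists_ps_hom
    (hk : Function.Surjective (IsLocalRing.residue A ∘ algebraMap k A))
    (hGk : ∀ (σ : G) (c : k), σ • algebraMap k A c = algebraMap k A c) :
    ∃ (s : Finset A) (φ : MvPowerSeries s k →+* A),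
      (∀ a, φ (C a) = algebraMap k A a) ∧ (∀ i : s, φ (X i) = i.1) ∧
      (∀ x ∈ s, x ∈ maximalIdeal A) ∧ (∀ (σ : G) (F : MvPowerSeries s k), σ • φ F = φ F) ∧
      maximalIdeal A ≤ (Ideal.span (s : Set A)).radical ∧ φ.Finite := by
  classical
  cases nonempty_fintype G
  obtain ⟨s, hs, hrad⟩ := exists_invariant_params A G
  obtain ⟨φ, hC, hX⟩ := Groth.Agent.H47.PSHom.exists_evalHom (maximalIdeal A) (algebraMap k A)
    (fun i : s => i.1) (fun i => (hs i.1 i.2).1)
  have hI : ⨅ n : ℕ, maximalIdeal A ^ n = ⊥ :=
    Ideal.iInf_pow_eq_bot_of_isLocalRing _ Ideal.IsPrime.ne_top'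
  have hrange : (Set.range fun i : s => φ (X i)) = (s : Set A) := by
    simp only [hX]
    exact Subtype.range_coe
  refine ⟨s, φ, hC, hX, fun x hx => (hs x hx).1, fun σ F => ?_, hrad, ?_⟩
  · have := Groth.Agent.H47.PSHom.ringHom_ext (maximalIdeal A) hI
      ((MulSemiringAction.toRingHom G A σ).comp φ) φ
      (fun a => by
        rw [RingHom.comp_apply, hC]
        exact hGk σ a)
      (fun i => by
        rw [RingHom.comp_apply, hX]
        exact (hs i.1 i.2).2 σ)
      (fun i => by
        rw [RingHom.comp_apply, hX]
        exact smul_mem_maximalIdeal A G σ _ (hs i.1 i.2).1)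
    exact congrArg (fun f => f F) this
  · refine finite_of_ps_hom A k hk φ hC (fun i => ?_) ?_
    · rw [hX]; exact (hs i.1 i.2).1
    · rw [hrange]; exact hrad

end Hom

end Groth.Agent.H36.WildQuot
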