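import Mathlib
import Groth.Agent.H36.WildQuotB
import Groth.Agent.H89.ComplFinite

/-!
# Invariants of a finite group acting on a complete local ring with a coefficient field (part C)

The invariant ring is noetherian, the ring is finite over it, and it is complete.
-/

set_option autoImplicit false
set_option linter.unusedSectionVars false
set_option linter.unusedVariables false
set_option linter.style.haveILetI false

universe u v w

namespace Groth.Agent.H36.WildQuot

open IsLocalRing MvPowerSeries

section Inv

variable (A : Type u) [CommRing A] [IsLocalRing A] [IsNoetherianRing A]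
  [IsAdicComplete (maximalIdeal A) A]
  (k : Type v) [Field k] [Algebra k A]
  (G : Type w) [Group G] [Finite G] [MulSemiringAction G A]

theorem invariants_noetherian_finite_complete
    (hk : Function.Surjective (IsLocalRing.residue A ∘ algebraMap k A))
    (hGk : ∀ (σ : G) (c : k), σ • algebraMap k A c = algebraMap k A c) :
    IsNoetherianRing (FixedPoints.subring A G) ∧ Module.Finite (FixedPoints.subring A G) A ∧
      IsAdicComplete (Ideal.comap (FixedPoints.subring A G).subtype (maximalIdeal A))
        (FixedPoints.subring A G) := by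
  classical
  obtain ⟨s, φ, hC, hX, hsm, hinv, hrad, hfin⟩ := exists_ps_hom A k G hk hGk
  have : Algebra.IsInvariant (FixedPoints.subring A G) A G :=
    ⟨fun a ha => ⟨⟨a, ha⟩, rfl⟩⟩
  haveI : Algebra.IsIntegral (FixedPoints.subring A G) A :=
    Algebra.IsInvariant.isIntegral (FixedPoints.subring A G) A G
  let ψ : MvPowerSeries s k →+* FixedPoints.subring A G :=
    φ.codRestrict (FixedPoints.subring A G) (fun F σ => hinv σ F)
  letI algPA : Algebra (MvPowerSeries s k) A := φ.toAlgebra
  letI algPB : Algebra (MvPowerSeries s k) (FixedPoints.subring A G) := ψ.toAlgebra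
  haveI : IsScalarTower (MvPowerSeries s k) (FixedPoints.subring A G) A :=
    IsScalarTower.of_algebraMap_eq (fun F => rfl)
  haveI : Module.Finite (MvPowerSeries s k) A := hfin
  haveI : IsNoetherian (MvPowerSeries s k) A := isNoetherian_of_isNoetherianRing_of_finite _ A
  haveI hPB : Module.Finite (MvPowerSeries s k) (FixedPoints.subring A G) :=
    Module.Finite.of_injective
      (IsScalarTower.toAlgHom (MvPowerSeries s k) (FixedPoints.subring A G) A).toLinearMap
      Subtype.val_injective
  haveI hBN : IsNoetherianRing (FixedPoints.subring A G) :=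
    isNoetherian_of_tower (MvPowerSeries s k)
      (isNoetherian_of_isNoetherianRing_of_finite _ (FixedPoints.subring A G))
  haveI hAB : Module.Finite (FixedPoints.subring A G) A :=
    Module.Finite.of_restrictScalars_finite (MvPowerSeries s k) (FixedPoints.subring A G) A
  refine ⟨hBN, hAB, ?_⟩
  haveI h1 : IsAdicComplete (Ideal.span (Set.range (X : s → MvPowerSeries s k)))
      (FixedPoints.subring A G) :=
    Groth.Agent.H89.isAdicComplete_of_finite_noeth _ _
  have hJ : IsAdicComplete ((Ideal.span (Set.range (X : s → MvPowerSeries s k))).map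
      (algebraMap (MvPowerSeries s k) (FixedPoints.subring A G))) (FixedPoints.subring A G) :=
    (IsAdicComplete.map_algebraMap_iff _ _).mpr h1
  have hmap : (Ideal.span (Set.range (X : s → MvPowerSeries s k))).map
      (algebraMap (MvPowerSeries s k) (FixedPoints.subring A G)) =
      Ideal.span (Set.range fun i : s => ψ (X i)) := by
    rw [Ideal.map_span, ← Set.range_comp]
    rfl
  rw [hmap] at hJ
  have hψval : ∀ i : s, ((ψ (X i) : FixedPoints.subring A G) : A) = i.1 := fun i => hX i
  have hJn : Ideal.span (Set.range fun i : s => ψ (X i)) ≤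
      Ideal.comap (FixedPoints.subring A G).subtype (maximalIdeal A) := by
    rw [Ideal.span_le]
    rintro _ ⟨i, rfl⟩
    show ((ψ (X i) : FixedPoints.subring A G) : A) ∈ maximalIdeal A
    rw [hψval]
    exact hsm i.1 i.2
  have hnJ : Ideal.comap (FixedPoints.subring A G).subtype (maximalIdeal A) ≤
      (Ideal.span (Set.range fun i : s => ψ (X i))).radical := by
    rw [Ideal.radical_eq_sInf]
    refine le_sInf ?_
    rintro q ⟨hJq, hq⟩
    haveI := hq
    obtain ⟨Q, -, hQ, hQc⟩ := Ideal.exists_ideal_over_prime_of_isIntegral (S := A) q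
      (⊥ : Ideal A) (by
        rw [← RingHom.ker_eq_comap_bot,
          (RingHom.injective_iff_ker_eq_bot _).mp (Subtype.val_injective :
            Function.Injective (algebraMap (FixedPoints.subring A G) A))]
        exact bot_le)
    have hsQ : Ideal.span (s : Set A) ≤ Q := by
      rw [Ideal.span_le]
      intro x hx
      have h2 : ψ (X ⟨x, hx⟩) ∈ q := hJq (Ideal.subset_span ⟨⟨x, hx⟩, rfl⟩)
      rw [← hQc, Ideal.mem_comap] at h2
      have h3 : algebraMap (FixedPoints.subring A G) A (ψ (X ⟨x, hx⟩)) = x := hψval ⟨x, hx⟩
      rwa [h3] at h2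
    have hmQ : maximalIdeal A ≤ Q := by
      refine hrad.trans ?_
      rw [← hQ.radical]
      exact Ideal.radical_mono hsQ
    have hQm : Q = maximalIdeal A := le_antisymm (le_maximalIdeal hQ.ne_top) hmQ
    rw [← hQc, hQm]
    exact le_rfl
  obtain ⟨M, hM⟩ := Ideal.exists_pow_le_of_le_radical_of_fg hnJ (IsNoetherian.noetherian _)
  exact Groth.Agent.H44.isAdicComplete_of_pow_le _ _ hJn M hM

end Inv

end Groth.Agent.H36.WildQuot
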