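import Mathlib
import Groth.Agent.H36.WildQuotC
import Groth.Agent.H54.Dim
import Groth.Agent.H39.FiniteGoingDown

/-!
# Invariants of a finite group acting on a complete local ring with a coefficient field (part D)

Normality of invariant subrings and the flatness consequence of regularity.
-/

set_option autoImplicit false
set_option linter.unusedSectionVars false
set_option linter.unusedVariables false
set_option linter.style.haveILetI false

universe u v w

namespace Groth.Agent.H36.WildQuot

open IsLocalRing

/-- A subring of an integrally closed domain which is "saturated" is integrally closed. -/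
theorem isIntegrallyClosed_of_subring {A : Type*} [CommRing A] [IsDomain A]
    [IsIntegrallyClosed A] (S : Subring A)
    (hS : ∀ (y : A) (a b : S), b ≠ 0 → y * (b : A) = (a : A) → y ∈ S) :
    IsIntegrallyClosed S := by
  rw [isIntegrallyClosed_iff (FractionRing S)]
  intro x hx
  obtain ⟨a, b, hb, rfl⟩ := IsFractionRing.div_surjective (A := S) x
  have hb0 : b ≠ 0 := nonZeroDivisors.ne_zero hb
  have hinj : Function.Injective ((algebraMap A (FractionRing A)).comp S.subtype) :=
    (IsFractionRing.injective A (FractionRing A)).comp Subtype.val_injective
  let φ : FractionRing S →+* FractionRing A := IsFractionRing.lift hinj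
  have hφ : ∀ s : S, φ (algebraMap S (FractionRing S) s) = algebraMap A (FractionRing A) (s : A) :=
    fun s => IsFractionRing.lift_algebraMap hinj s
  have hint : IsIntegral A (φ (algebraMap S (FractionRing S) a / algebraMap S (FractionRing S) b)) := by
    refine hx.map_of_comp_eq S.subtype φ ?_
    ext s
    exact (hφ s).symm
  obtain ⟨y, hy⟩ := IsIntegrallyClosed.isIntegral_iff.mp hint
  have hbA : algebraMap A (FractionRing A) (b : A) ≠ 0 := by
    rw [Ne, map_eq_zero_iff _ (IsFractionRing.injective A (FractionRing A))]
    exact fun h => hb0 (Subtype.ext h)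
  have hyb : y * (b : A) = (a : A) := by
    apply IsFractionRing.injective A (FractionRing A)
    rw [map_mul, hy, map_div₀, hφ, hφ, div_mul_cancel₀ _ hbA]
  have hyS := hS y a b hb0 hyb
  refine ⟨⟨y, hyS⟩, ?_⟩
  have hbK : algebraMap S (FractionRing S) b ≠ 0 := by
    rw [Ne, map_eq_zero_iff _ (IsFractionRing.injective S (FractionRing S))]
    exact hb0
  rw [eq_div_iff hbK, ← map_mul]
  congr 1
  exact Subtype.ext hyb

/-- The ring of invariants of a group acting on an integrally closed domain is integrally
closed. -/
theorem isIntegrallyClosed_fixedPoints (A : Type*) [CommRing A] [IsDomain A]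
    [IsIntegrallyClosed A] (G : Type*) [Group G] [MulSemiringAction G A] :
    IsIntegrallyClosed (FixedPoints.subring A G) := by
  refine isIntegrallyClosed_of_subring _ ?_
  intro y a b hb hyb σ
  have hbA : (b : A) ≠ 0 := fun h => hb (Subtype.ext h)
  have h1 : σ • y * (b : A) = (a : A) := by
    have := congrArg (fun z => σ • z) hyb
    simp only [smul_mul'] at this
    rwa [b.2 σ, a.2 σ] at this
  exact mul_right_cancel₀ hbA (h1.trans hyb.symm)

/-- If the invariant ring of a finite group acting on a regular local ring is regular (and
noetherian), the ring is flat over it. -/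
theorem flat_of_isRegularLocalRing_fixedPoints (A : Type u) [CommRing A] [IsRegularLocalRing A]
    (G : Type w) [Group G] [Finite G] [MulSemiringAction G A]
    [IsRegularLocalRing (FixedPoints.subring A G)] :
    Module.Flat (FixedPoints.subring A G) A := by
  have : Algebra.IsInvariant (FixedPoints.subring A G) A G :=
    ⟨fun a ha => ⟨⟨a, ha⟩, rfl⟩⟩
  haveI : Algebra.IsIntegral (FixedPoints.subring A G) A :=
    Algebra.IsInvariant.isIntegral (FixedPoints.subring A G) A G
  haveI : IsLocalization.AtPrime (FixedPoints.subring A G)
      (maximalIdeal (FixedPoints.subring A G)) :=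
    IsLocalization.of_le_isUnit (fun x hx => by
      rw [Ideal.mem_primeCompl_iff, mem_maximalIdeal, mem_nonunits_iff, not_not] at hx
      exact hx)
  haveI : IsLocalization.AtPrime A (maximalIdeal A) :=
    IsLocalization.of_le_isUnit (fun x hx => by
      rw [Ideal.mem_primeCompl_iff, mem_maximalIdeal, mem_nonunits_iff, not_not] at hx
      exact hx)
  haveI : (maximalIdeal A).LiesOver (maximalIdeal (FixedPoints.subring A G)) := by
    constructor
    have hmax : ((maximalIdeal A).comap (algebraMap (FixedPoints.subring A G) A)).IsMaximal :=
      Ideal.isMaximal_comap_of_isIntegral_of_isMaximal (maximalIdeal A)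
    exact (IsLocalRing.eq_maximalIdeal hmax).symm
  exact Groth.Agent.H39.FiniteGoingDown.flat_of_integral_regular (FixedPoints.subring A G) A
    (FixedPoints.subring A G) A (maximalIdeal (FixedPoints.subring A G)) (maximalIdeal A)
    Subtype.val_injective

end Groth.Agent.H36.WildQuot
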